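import Cfsg.Agent.Lib.Leech.Co3Orbits
import Cfsg.Agent.Lib.Leech.Co2Core

/-! The 4600 minimal vectors at inner product two with a minimal vector. -/

set_option autoImplicit false
set_option maxRecDepth 100000

namespace Cfsg.Agent.Lib.SporOutCo2

open Cfsg Cfsg.Agent.Lib.Leech Golay

/-- The classes of the coordinates. -/
def uCls : List (ℤ × Bool) := [(0, false), (0, true), (4, false), (4, true), (-4, false), (-4, true)]

theorem u_counts : (clsOK (uVec : GolayPt → ℤ) uCls &&
    (wsum (cntP uCls 32 16) (table (uVec : GolayPt → ℤ) uCls) == 4600)) = true := by decide +kernel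

theorem ncard_pts : (dotSet uVec 16).ncard = 4600 := by
  have h := u_counts
  simp only [Bool.and_eq_true, beq_iff_eq] at h
  rw [dotSet, ncard_sub (fun x => sqNorm x = 32 ∧ dotInt (uVec : GolayPt → ℤ) x = _),
    census_dot _ 32 _ (by norm_num) uCls (by decide) h.1]
  exact h.2

end Cfsg.Agent.Lib.SporOutCo2
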