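import Cfsg.Agent.Lib.AutCert.Engine
import Cfsg.Agent.Lib.Leech.Words

/-! Data for the automorphisms of the second Conway group. -/

set_option autoImplicit false
set_option maxRecDepth 100000

namespace Cfsg.Agent.Lib.SporOutCo2

open Cfsg.Agent.Lib.Coset
open Cfsg.Agent.Lib.SporOutHe (WTree Level)
open Cfsg.Agent.Lib.Leech (Op)

/-- Generators. -/
def gens : List (List Op) := [[.sext], [.flip 5279], [.perm 964037449653556822461130747260540144], [.perm 957112472979459421427647456762503877], [.perm 964814718068974595068575295767492640], [.perm 943725521380543010313561605848270901, .flip 277580]]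

/-- The first vector. -/
def start : ℕ := 0x820820820820820920820820820820820824

/-- Steps. -/
def tree0 : List (ℕ × ℕ) := [(0,0),(1,0),(2,0),(0,0),(1,0),(2,0),(0,0),(3,1),(0,0),(1,1),(5,1),(3,3),(2,0),(4,1),(5,2),(1,0),(2,1),(2,3),(0,0),(1,0),(3,1),(5,0),(4,2),(3,0),(5,2),(1,2),(3,0),(5,1),(3,2),(0,0),(2,1),(4,1),(1,0),(2,1),(5,3),(0,0),(1,1),(4,0),(3,2),(0,0),(4,2),(3,3),(0,0),(2,0),(3,1),(0,0),(4,2),(5,1),(0,0),(1,3),(2,0),(0,0),(3,2),(4,1),(1,0),(5,2),(2,2),(0,0),(5,0),(3,2),(4,2),(0,0),(4,0),(1,2),(2,0),(5,2),(5,2),(0,0),(2,0),(1,2),(2,1),(0,0),(4,2),(4,3),(0,0),(2,0),(4,1),(5,1),(1,2),(2,0),(1,0),(3,2),(0,0),(5,2),(2,2),(3,1),(0,0),(1,1),(5,0),(2,2),(5,1),(5,2),(0,0),(1,1),(5,0),(2,2),(1,0),(4,2),(5,3),(0,0),(1,1),(2,0),(3,0),(2,3),(1,0),(3,1),(4,1),(5,1),(1,0),(3,3),(2,0),(4,1),(1,4),(3,0),(1,0),(2,1),(0,0),(5,1),(4,3),(0,0),(2,0),(0,0),(5,2),(3,2),(2,0),(5,2),(0,0),(5,3),(1,0),(2,1),(0,0),(3,1),(5,1),(3,2),(4,1),(0,0),(2,1),(3,4),(0,0),(1,0),(4,0),(5,1),(2,2),(3,0),(3,2),(1,0),(2,1),(4,0),(5,3),(0,0),(1,1),(2,1),(1,3),(2,0),(4,0),(5,1),(3,2),(0,0),(4,2),(0,0),(3,1),(5,1),(5,2),(2,2),(0,0),(2,0),(1,0),(4,2),(1,2),(5,1),(3,0),(4,3),(0,0),(3,0),(5,0),(1,3),(4,0),(3,2),(0,0),(5,2),(0,0),(2,0),(4,1),(2,2),(3,1),(4,4),(0,0),(1,0),(3,0),(5,1),(2,2),(5,0),(4,2),(1,0),(5,1),(1,3),(2,0),(4,1),(0,0),(3,0)]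

/-- Steps. -/
def tree1 : List (ℕ × ℕ) := [(5,3),(0,0),(2,0),(2,2),(4,1),(2,3),(0,0),(1,0),(2,1),(1,0),(5,1),(1,3),(2,0),(0,0),(3,3),(0,0),(3,3),(1,0),(2,1),(5,0),(5,2),(5,2),(0,0),(1,0),(2,0),(3,1),(2,2),(3,1),(4,0),(4,2),(1,0),(2,1),(5,2),(1,0),(1,3),(2,1),(3,0),(4,2),(2,0),(3,0),(3,2),(5,4),(0,0),(1,0),(4,0),(0,0),(5,2),(0,0),(3,3),(0,0),(1,1),(5,1),(5,2),(0,0),(1,1),(4,1),(1,3),(3,0),(0,0),(4,1),(1,0),(4,3),(2,0),(3,1),(5,1),(5,2),(2,2),(0,0),(2,0),(4,1),(5,1),(3,2),(0,0),(2,1),(0,0),(4,2),(5,1),(5,2),(3,2),(4,0),(0,0),(4,3),(0,0),(1,0),(2,0),(5,1),(2,2),(3,1),(4,1),(5,1),(1,0),(2,1),(1,3),(4,0),(2,2),(3,0),(4,1),(5,1),(3,2),(5,1),(2,0),(3,5),(0,0),(1,0),(2,0),(4,0),(4,2),(3,0),(5,1),(1,0),(5,3),(0,0),(2,1),(4,0),(4,2),(3,0),(2,4),(0,0),(3,0),(5,1),(3,2),(1,0),(3,0),(4,2),(2,0),(5,2),(0,0),(5,3),(2,0),(1,0),(3,2),(4,1),(3,3),(0,0),(2,0),(3,0),(5,2),(2,0),(2,3),(0,0),(1,1),(4,0),(3,2),(4,1),(1,0),(4,3),(0,0),(5,0),(5,3),(2,0),(3,1),(0,0),(4,1),(4,2),(3,0),(5,4),(0,0),(2,0),(4,0),(4,2),(0,0),(3,1),(5,2),(1,2),(5,0),(2,2),(3,0),(4,1),(5,0),(4,3),(0,0),(2,1),(3,1),(5,1),(3,0),(1,5),(2,0),(0,0),(4,0),(2,0),(5,2),(4,2),(0,0),(3,1),(5,2),(3,2),(4,0),(4,2),(0,0),(3,0),(0,0),(1,1),(2,1),(4,2),(5,1),(3,2),(0,0),(5,2),(0,0),(3,1)]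

/-- Steps. -/
def tree2 : List (ℕ × ℕ) := [(5,3),(0,0),(1,0),(3,0),(2,2),(0,0),(4,2),(2,0),(1,3),(2,1),(4,0),(3,0),(5,2),(4,2),(0,0),(2,1),(5,1),(2,4),(0,0),(1,0),(3,0),(2,2),(4,0),(3,2),(1,0),(2,1),(5,2),(0,0),(1,3),(4,0),(5,1),(3,2),(0,0),(2,0),(5,0),(3,2),(1,0),(4,2),(2,0),(5,2),(1,0),(1,3),(4,1),(0,0),(2,0),(4,4),(0,0),(3,0),(2,2),(0,0),(1,0),(5,1),(1,2),(5,2),(5,2),(2,0),(3,1),(0,0),(2,0),(2,2),(4,2),(5,0),(4,4),(0,0),(2,0),(0,0),(5,0),(1,2),(4,1),(5,1),(0,0),(3,3),(0,0),(1,1),(2,1),(4,1),(5,2),(0,0),(4,1),(3,0),(3,4),(0,0),(2,1),(5,2),(1,0),(2,1),(3,1),(4,0),(4,2),(2,0),(5,4),(0,0),(1,0),(3,0),(2,2),(0,0),(3,0),(1,2),(3,1),(1,0),(2,1),(5,2),(3,2),(1,0),(5,0),(2,2),(4,1),(5,1),(4,2),(1,0),(2,1),(5,0),(3,2),(2,0),(5,2),(3,0),(5,3),(2,0),(3,1),(1,3),(2,0),(4,0),(3,0),(2,4),(3,0),(0,0),(4,2),(0,0),(3,0),(2,2),(3,0),(3,2),(4,5),(0,0),(2,0),(0,0),(1,0),(2,1),(3,1),(4,1),(5,1),(1,2),(3,0),(4,1),(5,1),(3,2),(0,0),(2,1),(4,1),(1,0),(4,3),(1,0),(3,0),(2,2),(3,1),(5,2),(2,0),(3,3),(0,0),(2,0),(4,1),(2,2),(5,0),(4,2),(5,1),(3,0),(1,0),(5,4),(0,0),(1,0),(2,1),(3,1),(5,1),(1,2),(3,0),(4,1),(2,2),(3,1),(1,0),(5,1),(2,4),(0,0),(3,0),(0,0),(4,0),(5,2),(4,2),(2,0),(5,2),(2,0),(4,1),(1,3),(4,0),(0,0),(5,0),(3,4),(0,0),(1,0),(3,1),(0,0)]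

/-- Steps. -/
def tree3 : List (ℕ × ℕ) := [(4,2),(0,0),(5,2),(1,2),(2,1),(4,0),(4,2),(0,0),(5,1),(5,2),(2,0),(4,3),(0,0),(1,0),(4,0),(3,2),(5,0),(4,2),(5,1),(3,0),(1,3),(3,1),(0,0),(1,1),(5,2),(0,0),(5,3),(0,0),(1,0),(2,0),(2,2),(5,1),(1,2),(2,1),(0,0),(4,2),(0,0),(3,4),(0,0),(1,0),(5,0),(3,2),(2,0),(4,1),(5,1),(4,2),(0,0),(2,1),(5,2),(0,0),(3,1),(0,0),(4,2),(1,3),(2,0),(0,0),(2,3),(0,0),(3,0),(4,1),(3,2),(0,0),(4,0),(4,2),(4,2),(0,0),(1,0),(3,1),(4,1),(1,2),(3,1),(5,0),(5,3),(5,2),(0,0),(1,0),(4,0),(2,2),(3,1),(4,1),(2,0),(5,2),(1,2),(3,0),(5,1),(2,2),(3,1),(0,0),(5,1),(4,2),(5,3),(0,0),(1,0),(2,0),(3,1),(4,1),(5,1),(2,2),(0,0),(4,1),(3,2),(2,0),(4,2),(0,0),(5,2),(1,0),(2,1),(3,1),(1,3),(3,0),(4,0),(4,2),(0,0),(3,1),(5,1),(3,3),(0,0),(5,0),(1,2),(5,0),(2,0),(4,3),(5,0),(5,2),(0,0),(2,1),(4,3),(1,0),(2,1),(3,0),(3,2),(5,0),(3,0),(5,3),(1,0),(3,0),(3,2),(4,1),(5,5),(0,0),(2,0),(0,0),(2,0),(3,0),(4,2),(3,2),(4,1),(4,2),(0,0),(5,0),(2,2),(5,2),(2,2),(0,0),(2,0),(3,0),(2,0),(4,3),(2,0),(0,0),(3,2),(5,2),(3,0),(3,3),(0,0),(3,0),(2,2),(5,1),(0,0),(5,3),(2,0),(0,0),(4,2),(0,0),(3,4),(0,0),(1,0),(3,0),(5,1),(3,0),(2,3),(0,0),(1,1),(3,1),(1,0),(4,2),(3,0),(3,3),(2,0),(3,0),(4,2),(5,2),(1,0),(5,0),(4,2),(1,3),(5,0),(2,0),(4,1),(4,3)]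

/-- Steps. -/
def tree4 : List (ℕ × ℕ) := [(0,0),(1,0),(3,1),(1,0),(1,3),(3,0),(3,2),(5,1),(5,2),(0,0),(1,0),(2,0),(3,2),(1,0),(1,3),(2,0),(2,2),(0,0),(4,2),(2,0),(3,1),(4,4),(0,0),(1,0),(2,0),(2,2),(5,1),(3,0),(4,1),(1,3),(3,0),(5,0),(2,3),(4,0),(0,0),(2,0),(1,2),(3,3),(0,0),(2,0),(0,0),(2,3),(0,0),(3,1),(5,1),(2,6),(0,0),(1,0),(2,0),(0,0),(2,0),(3,1),(4,1),(3,2),(4,0),(4,2),(0,0),(2,1),(5,1),(1,0),(3,1),(5,3),(0,0),(1,1),(2,1),(1,0),(3,2),(2,0),(4,2),(2,0),(3,4),(0,0),(1,0),(5,1),(0,0),(1,1),(3,1),(1,3),(5,0),(4,2),(0,0),(1,1),(5,0),(5,2),(1,0),(3,1),(5,3),(0,0),(3,1),(5,3),(0,0),(1,0),(1,2),(3,0),(2,2),(0,0),(1,1),(3,1),(5,1),(0,0),(3,3),(0,0),(1,1),(5,0),(2,2),(3,0),(5,2),(1,0),(4,3),(2,0),(0,0),(1,1),(5,2),(2,4),(0,0),(1,0),(3,0),(5,1),(2,2),(4,0),(5,0),(3,3),(2,0),(5,0),(4,2),(5,1),(4,0),(5,3),(2,0),(4,0),(1,4),(2,0),(3,0),(4,1),(0,0),(1,1),(5,2),(3,2),(0,0),(4,1),(4,2),(3,0),(5,0),(5,2),(5,2),(1,0),(2,1),(1,0),(3,2),(0,0),(4,2),(3,3),(0,0),(3,0),(1,0),(4,1),(4,2),(5,1),(2,2),(4,1),(0,0),(2,1),(5,1),(3,0),(5,3),(2,0),(3,1),(4,1),(4,3),(3,0),(0,0),(3,0),(1,2),(5,1),(2,0),(5,4),(0,0),(1,0),(4,0),(3,2),(1,0),(1,3),(2,0),(4,1),(2,2),(1,0),(3,0),(3,2),(4,1),(3,2),(1,0),(2,1),(5,1),(2,0),(4,3),(0,0),(2,1),(4,4),(0,0),(2,0)]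

/-- Steps. -/
def tree5 : List (ℕ × ℕ) := [(3,1),(5,0),(4,2),(2,0),(0,0),(5,3),(0,0),(1,1),(2,1),(1,3),(3,0),(0,0),(4,2),(2,0),(1,0),(5,3),(2,0),(4,1),(3,3),(0,0),(4,0),(5,2),(0,0),(4,0),(1,2),(5,3),(0,0),(1,1),(4,0),(2,2),(0,0),(2,0),(4,2),(4,2),(1,0),(5,1),(5,4),(0,0),(1,0),(2,0),(3,1),(4,1),(5,1),(2,0),(4,1),(2,3),(0,0),(4,1),(3,2),(2,0),(4,1),(1,0),(4,3),(1,0),(5,1),(5,2),(0,0),(1,1),(2,1),(3,1),(2,0),(1,4),(2,0),(0,0),(3,1),(3,2),(0,0),(3,0),(4,1),(1,2),(2,1),(4,2),(0,0),(3,1),(5,0),(5,3),(0,0),(3,1),(5,0),(4,2),(3,0),(2,4),(1,0),(4,0),(5,1),(3,2),(5,0),(4,2),(5,1),(0,0),(1,1),(3,1),(3,3),(0,0),(1,1),(2,0),(1,0),(3,2),(4,1),(2,2),(0,0),(5,0),(5,2),(4,2),(0,0),(5,1),(5,2),(1,0),(2,0),(5,1),(4,2),(4,3),(0,0),(2,0),(3,1),(4,1),(3,0),(2,3),(0,0),(1,1),(3,2),(5,1),(2,0),(1,5),(2,0),(4,0),(0,0),(5,1),(0,0),(3,4),(0,0),(1,0),(2,0),(3,2),(1,0),(5,2),(0,0),(1,3),(2,1),(4,1),(0,0),(3,0),(4,0),(5,2),(1,2),(2,0),(2,2),(5,1),(3,0),(5,3),(0,0),(5,0),(2,2),(4,3),(0,0),(1,0),(2,1),(0,0),(2,0),(4,1),(1,2),(2,0),(5,2),(0,0),(5,3),(3,0),(4,1),(1,3),(2,0),(2,2),(0,0),(1,1),(5,1),(3,0),(0,0),(5,4),(0,0),(2,0),(3,1),(1,0),(4,2),(5,1),(2,2),(4,0),(4,2),(5,3),(2,0),(0,0),(2,0),(1,0),(3,2),(4,1),(2,0),(3,3),(0,0),(4,0),(4,2),(3,3),(4,0),(5,1)]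

/-- Steps. -/
def tree6 : List (ℕ × ℕ) := [(4,2),(0,0),(2,0),(5,1),(1,2),(2,0),(2,2),(3,4),(0,0),(1,0),(2,0),(0,0),(3,1),(0,0),(2,1),(3,3),(0,0),(1,1),(2,1),(4,1),(4,2),(2,0),(3,3),(0,0),(4,0),(5,1),(1,2),(2,0),(3,0),(2,3),(1,0),(4,1),(5,0),(4,3),(1,0),(5,2),(0,0),(2,1),(4,3),(5,0),(5,2),(1,0),(2,0),(4,1),(3,2),(2,0),(0,0),(4,2),(4,2),(2,0),(1,4),(2,0),(0,0),(3,1),(4,1),(5,1),(3,2),(0,0),(5,2),(1,0),(2,1),(2,3),(3,0),(0,0),(1,0),(1,2),(4,1),(0,0),(5,2),(0,0),(4,3),(0,0),(4,0),(5,1),(1,2),(2,1),(3,1),(5,1),(0,0),(2,1),(5,3),(0,0),(4,0),(2,2),(1,0),(3,1),(4,1),(0,0),(3,3),(5,0),(4,4),(0,0),(2,0),(0,0),(4,2),(5,1),(0,0),(2,1),(2,3),(0,0),(1,0),(5,1),(1,2),(3,1),(0,0),(2,0),(4,3),(0,0),(5,2),(0,0),(5,3),(0,0),(1,1),(4,0),(2,2),(5,0),(3,2),(1,0),(5,1),(0,0),(5,5),(0,0),(1,0),(3,0),(4,1),(2,2),(5,0),(3,2),(1,0),(4,2),(2,0),(1,0),(5,1),(5,3),(0,0),(3,0),(1,2),(2,1),(3,1),(1,3),(2,0),(0,0),(5,1),(4,2),(0,0),(3,0),(5,2),(2,3),(0,0),(3,0),(4,1),(3,2),(4,1),(5,1),(4,2),(0,0),(2,0),(5,1),(1,2),(3,0),(2,2),(3,0),(3,2),(2,0),(4,5),(0,0),(1,0),(2,0),(1,0),(4,1),(5,1),(3,2),(0,0),(1,1),(4,0),(4,2),(3,0),(5,2),(4,0),(4,3),(3,0),(5,2),(0,0),(2,3),(3,0),(0,0),(4,1),(5,1),(3,3),(0,0),(5,0),(4,2),(1,0),(2,1),(3,1),(5,2),(3,0),(4,1),(4,3),(1,0)]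

/-- Steps. -/
def tree7 : List (ℕ × ℕ) := [(2,0),(3,1),(4,1),(2,2),(0,0),(1,1),(3,1),(3,2),(2,0),(5,2),(0,0),(1,1),(2,1),(4,1),(5,3),(0,0),(1,0),(1,2),(2,1),(3,1),(0,0),(1,1),(5,1),(1,4),(4,0),(0,0),(2,0),(3,1),(5,1),(2,2),(4,0),(5,2),(0,0),(5,3),(0,0),(1,0),(3,1),(4,1),(5,0),(1,3),(2,3),(0,0),(2,0),(0,0),(4,0),(1,2),(4,1),(3,3),(2,0),(4,1),(4,2),(1,0),(3,1),(0,0),(2,1),(5,2),(5,2),(0,0),(1,0),(3,1),(5,1),(1,2),(3,0),(4,2),(0,0),(5,4),(0,0),(1,0),(3,0),(4,2),(1,0),(2,1),(5,1),(5,2),(2,0),(3,1),(4,1),(1,3),(4,0),(5,0),(2,3),(3,0),(4,1),(3,0),(5,2),(4,2),(2,0),(3,0),(3,2),(5,1),(2,0),(3,1),(5,5),(0,0),(1,0),(3,0),(2,0),(4,1),(4,2),(0,0),(2,0),(5,3),(3,0),(3,3),(2,0),(4,1),(0,0),(3,0),(2,2),(0,0),(5,3),(4,0),(0,0),(3,1),(4,4),(0,0),(1,0),(5,1),(1,2),(3,1),(5,2),(2,0),(1,0),(3,2),(0,0),(2,1),(5,1),(1,4),(2,0),(0,0),(3,0),(4,1),(3,0),(3,3),(4,0),(4,2),(0,0),(3,3),(0,0),(2,0),(3,0),(5,2),(4,3),(0,0),(2,0),(3,1),(4,1),(5,1),(1,2),(2,1),(0,0),(4,1),(2,4),(0,0),(3,0),(2,0),(4,1),(1,0),(3,1),(4,3),(3,0),(5,1),(3,0),(5,3),(1,0),(2,1),(3,1),(4,1),(3,3),(0,0),(2,1),(0,0),(4,2),(0,0),(3,1),(5,2),(2,0),(4,3),(0,0),(3,0),(2,2),(3,1),(2,0),(5,2),(0,0),(3,1),(3,4),(2,0),(0,0),(4,1),(0,0),(5,3),(4,0),(4,3),(0,0),(1,0),(3,0),(2,2),(1,0),(5,1)]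

/-- Steps. -/
def tree8 : List (ℕ × ℕ) := [(4,2),(2,0),(1,0),(3,2),(5,2),(0,0),(4,1),(1,3),(2,0),(0,0),(5,1),(4,2),(2,0),(5,2),(0,0),(2,1),(2,3),(1,0),(5,0),(4,2),(5,1),(0,0),(5,3),(1,0),(2,1),(3,0),(4,1),(3,2),(2,0),(3,6),(0,0),(1,0),(3,0),(2,0),(0,0),(4,2),(5,0),(5,2),(2,0),(4,1),(4,3),(1,0),(5,0),(1,0),(2,3),(4,0),(5,1),(3,2),(0,0),(5,1),(5,2),(1,0),(2,1),(3,1),(5,3),(0,0),(1,0),(2,1),(4,1),(1,2),(4,0),(5,1),(2,2),(1,0),(3,2),(2,0),(5,1),(2,4),(0,0),(1,0),(1,2),(4,0),(1,0),(5,0),(2,2),(3,1),(5,1),(5,2),(2,0),(3,1),(3,3),(0,0),(5,0),(2,2),(0,0),(1,0),(1,2),(3,0),(3,2),(4,1),(5,0),(4,3),(2,0),(5,1),(4,3),(0,0),(4,0),(1,2),(3,1),(0,0),(1,1),(2,1),(4,0),(5,3),(3,0),(5,3),(0,0),(1,0),(2,1),(3,1),(2,0),(5,2),(1,2),(2,0),(4,1),(1,0),(2,3),(0,0),(3,1),(3,2),(0,0),(4,0),(1,2),(4,1),(5,1),(4,2),(1,0),(3,0),(4,1),(5,1),(2,2),(5,1),(4,0),(3,5),(0,0),(2,0),(1,0),(3,0),(4,2),(5,1),(3,2),(5,1),(2,0),(3,1),(2,3),(1,0),(2,0),(4,1),(3,0),(5,2),(3,2),(1,0),(5,2),(0,0),(2,1),(4,3),(0,0),(3,0),(5,1),(1,2),(2,0),(2,2),(3,0),(5,2),(5,2),(2,0),(0,0),(1,1),(3,1),(5,1),(3,2),(1,0),(2,1),(4,1),(5,1),(4,2),(2,0),(3,1),(5,4),(0,0),(1,0),(2,1),(0,0),(5,1),(4,2),(5,1),(1,2),(2,0),(5,0),(3,2),(0,0),(3,0),(2,2),(5,1),(5,2),(4,0),(2,3),(0,0),(3,2),(0,0)]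

/-- Steps. -/
def tree9 : List (ℕ × ℕ) := [(1,0),(5,1),(1,2),(3,0),(4,1),(5,0),(2,3),(4,0),(5,1),(5,2),(0,0),(4,3),(2,0),(0,0),(5,0),(5,2),(3,0),(5,3),(1,4),(2,0),(0,0),(2,0),(1,0),(3,1),(4,1),(5,1),(3,2),(0,0),(5,0),(4,2),(4,2),(0,0),(3,1),(5,1),(5,2),(1,0),(3,3),(0,0),(2,1),(0,0),(4,2),(4,2),(0,0),(1,0),(3,1),(4,1),(2,0),(5,2),(1,2),(2,1),(0,0),(4,0),(5,3),(5,2),(0,0),(2,0),(3,2),(0,0),(1,1),(4,2),(0,0),(3,4),(4,0),(0,0),(2,0),(2,2),(5,1),(4,3),(0,0),(1,0),(2,0),(5,1),(2,2),(3,0),(5,1),(3,2),(0,0),(5,0),(2,2),(5,1),(4,2),(2,0),(3,1),(5,2),(0,0),(2,1),(1,3),(3,0),(5,1),(2,2),(1,0),(2,0),(4,1),(3,2),(4,1),(0,0),(1,1),(3,1),(5,1),(3,3),(0,0),(4,0),(2,2),(5,2),(0,0),(2,1),(3,0),(5,4),(0,0),(1,0),(3,0),(5,1),(2,2),(1,0),(3,1),(4,1),(5,1),(3,2),(1,0),(1,3),(2,0),(4,1),(2,2),(0,0),(4,1),(0,0),(5,2),(4,2),(0,0),(2,1),(3,0),(3,2),(2,0),(5,1),(5,2),(2,4),(0,0),(1,0),(4,0),(5,1),(3,2),(4,1),(2,0),(3,1),(0,0),(5,2),(5,2),(0,0),(3,0),(3,2),(0,0),(1,4),(4,0),(0,0),(1,1),(2,1),(5,1),(5,2),(2,0),(3,1),(0,0),(3,4),(0,0),(1,0),(2,0),(2,2),(0,0),(3,1),(5,2),(1,0),(3,1),(1,3),(2,0),(0,0),(4,3),(0,0),(3,0),(1,2),(2,1),(3,1),(4,3),(1,0),(2,0),(0,0),(3,2),(2,2),(0,0),(3,0),(4,2),(0,0),(3,3),(0,0),(2,0),(1,2),(5,2),(0,0),(2,0),(3,1),(5,1),(3,2)]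

/-- Steps. -/
def tree10 : List (ℕ × ℕ) := [(5,3),(0,0),(2,0),(3,1),(1,0),(2,1),(4,2),(1,0),(2,1),(3,1),(2,0),(5,3),(4,0),(3,3),(0,0),(5,0),(1,2),(5,0),(2,2),(4,1),(4,2),(4,3),(0,0),(2,0),(0,0),(1,1),(2,0),(3,2),(5,0),(4,2),(1,0),(2,0),(5,3),(3,2),(0,0),(1,0),(5,1),(0,0),(1,1),(1,3),(2,1),(4,0),(5,1),(4,2),(0,0),(2,1),(5,2),(1,0),(5,3),(0,0),(1,0),(1,2),(2,1),(5,0),(3,2),(0,0),(5,1),(4,2),(3,3),(0,0),(2,1),(1,0),(4,1),(5,1),(5,2),(4,0),(0,0),(5,5),(0,0),(1,0),(2,0),(1,0),(3,0),(3,2),(5,1),(3,2),(1,0),(5,1),(4,2),(0,0),(5,0),(5,2),(5,2),(1,0),(2,1),(4,1),(2,3),(1,0),(2,0),(3,1),(4,1),(5,1),(3,2),(0,0),(4,2),(1,0),(5,0),(5,2),(5,2),(0,0),(2,1),(4,1),(3,3),(0,0),(1,0),(2,1),(4,1),(1,2),(2,0),(5,1),(4,2),(5,0),(5,2),(1,0),(4,0),(2,2),(3,1),(4,1),(4,3),(0,0),(1,0),(1,2),(2,1),(1,0),(3,1),(5,1),(3,2),(0,0),(1,1),(2,1),(5,2),(0,0),(5,0),(5,4),(0,0),(2,1),(1,3),(2,0),(5,0),(4,0),(4,3),(0,0),(2,0),(4,1),(2,2),(0,0),(3,2),(2,0),(5,2),(3,0),(4,1),(2,4),(4,0),(3,0),(2,0),(5,3),(0,0),(2,1),(4,1),(4,3),(0,0),(2,0),(3,0),(4,1),(4,2),(3,0),(5,2),(1,0),(2,3),(3,0),(4,0),(5,2),(0,0),(3,3),(2,0),(3,0),(5,2),(1,0),(5,3),(2,0),(5,0),(3,2),(2,0),(3,0),(5,2),(4,2),(0,0),(4,6),(0,0),(1,0),(2,0),(1,0),(3,0),(5,1),(3,2),(2,0),(0,0),(4,3),(1,0),(2,1)]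

/-- Steps. -/
def tree11 : List (ℕ × ℕ) := [(5,2),(2,0),(3,3),(0,0),(2,1),(3,0),(5,2),(5,2),(1,0),(2,1),(3,1),(5,0),(4,2),(2,3),(0,0),(2,0),(1,0),(3,2),(1,2),(2,0),(3,1),(0,0),(2,1),(4,2),(0,0),(1,1),(5,1),(5,2),(2,0),(3,3),(0,0),(4,0),(2,2),(0,0),(5,1),(4,2),(1,0),(2,1),(3,1),(5,1),(4,3),(0,0),(1,0),(5,1),(1,2),(4,0),(2,2),(3,1),(0,0),(5,1),(5,3),(2,0),(5,0),(3,2),(4,0),(4,2),(3,0),(3,4),(2,0),(0,0),(3,1),(4,0),(5,1),(4,2),(5,1),(5,2),(0,0),(2,0),(3,2),(2,0),(5,1),(4,2),(0,0),(5,4),(0,0),(1,0),(2,0),(2,2),(4,0),(2,0),(1,4),(2,0),(1,0),(3,2),(0,0),(4,1),(4,2),(2,2),(0,0),(2,0),(4,1),(1,2),(5,1),(2,0),(3,3),(0,0),(5,0),(1,2),(4,0),(5,1),(2,2),(4,1),(0,0),(5,0),(2,2),(5,1),(5,2),(2,0),(4,1),(4,3),(1,0),(4,0),(2,2),(3,1),(2,0),(5,2),(1,4),(2,0),(0,0),(1,0),(2,0),(5,1),(2,2),(1,0),(3,1),(5,2),(0,0),(1,1),(1,3),(2,0),(3,1),(2,0),(5,1),(4,2),(0,0),(3,1),(5,2),(0,0),(3,3),(0,0),(4,0),(1,2),(4,0),(2,2),(4,1),(1,0),(5,2),(4,2),(0,0),(3,0),(4,1),(3,0),(5,2),(1,2),(3,0),(2,2),(3,1),(0,0),(3,4),(0,0),(2,1),(3,0),(0,0),(5,3),(1,0),(2,1),(5,3),(0,0),(1,0),(2,0),(4,1),(2,2),(3,0),(4,1),(4,2),(1,0),(3,1),(1,3),(4,0),(3,2),(5,0),(4,2),(0,0),(5,0),(1,2),(5,0),(3,0),(2,3),(3,0),(5,2),(3,0),(2,5),(0,0),(2,0),(0,0),(3,0),(3,2),(4,1),(5,1),(0,0)]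

/-- Steps. -/
def tree12 : List (ℕ × ℕ) := [(4,1),(3,3),(2,0),(3,0),(4,2),(0,0),(5,1),(5,2),(4,0),(4,3),(0,0),(1,0),(2,1),(1,2),(5,2),(0,0),(2,0),(4,0),(3,2),(3,2),(1,0),(4,2),(1,3),(2,0),(5,0),(0,0),(2,1),(4,1),(3,3),(4,0),(0,0),(3,0),(5,3),(5,2),(0,0),(3,1),(3,3),(0,0),(1,0),(2,0),(4,1),(2,2),(5,0),(3,2),(4,0),(4,2),(1,0),(3,1),(1,3),(2,0),(4,1),(0,0),(5,1),(2,3),(0,0),(1,0),(3,1),(5,0),(1,3),(3,0),(3,2),(0,0),(4,2),(0,0),(4,3),(0,0),(1,0),(2,1),(4,1),(5,1),(1,2),(2,1),(0,0),(5,2),(5,2),(1,0),(2,1),(3,1),(4,3),(0,0),(1,0),(2,1),(1,0),(5,1),(0,0),(3,3),(1,0),(2,1),(5,2),(1,2),(3,0),(2,0),(5,2),(2,2),(3,1),(0,0),(2,0),(3,1),(5,1),(1,2),(2,0),(2,2),(1,0),(5,2),(0,0),(5,4),(0,0),(1,0),(2,0),(3,2),(2,0),(4,1),(3,0),(4,3),(3,0),(5,2),(1,2),(3,0),(2,0),(4,2),(2,2),(0,0),(1,0),(1,2),(3,1),(4,1),(5,0),(3,3),(0,0),(2,0),(2,2),(0,0),(5,1),(5,2),(2,0),(3,1),(4,1),(4,3),(0,0),(2,1),(3,4),(0,0),(1,0),(2,0),(3,1),(2,0),(5,2),(1,0),(2,3),(3,0),(5,1),(3,2),(2,0),(3,0),(4,1),(4,2),(0,0),(5,3),(2,0),(0,0),(1,1),(1,4),(2,0),(0,0),(2,0),(3,1),(5,0),(1,3),(4,0),(5,1),(4,2),(1,0),(5,3),(0,0),(1,1),(4,0),(2,2),(3,1),(5,0),(2,4),(0,0),(1,0),(4,0),(2,2),(0,0),(3,2),(1,0),(2,1),(4,1),(5,2),(2,0),(1,3),(3,0),(2,0),(4,2),(0,0),(3,3),(0,0),(2,0),(4,1)]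

/-- Steps. -/
def tree13 : List (ℕ × ℕ) := [(4,2),(0,0),(2,1),(5,1),(5,2),(4,2),(0,0),(3,0),(5,1),(1,2),(3,1),(5,2),(0,0),(2,0),(5,1),(3,2),(5,3),(0,0),(1,0),(5,0),(3,2),(4,1),(2,0),(1,3),(2,0),(3,1),(5,0),(4,2),(5,1),(2,2),(3,0),(0,0),(4,2),(0,0),(3,3),(4,0),(5,1),(0,0),(2,1),(4,3),(1,0),(5,0),(5,5),(0,0),(1,0),(4,0),(1,0),(3,1),(5,2),(3,0),(4,1),(2,3),(0,0),(1,1),(4,0),(3,2),(0,0),(1,1),(5,1),(4,2),(0,0),(1,1),(2,1),(3,1),(5,1),(5,2),(3,2),(0,0),(2,0),(1,2),(2,0),(2,2),(0,0),(1,1),(4,2),(5,1),(0,0),(1,1),(2,1),(4,1),(4,3),(0,0),(2,1),(3,0),(3,2),(1,0),(5,1),(5,2),(1,0),(3,1),(4,1),(5,3),(0,0),(2,0),(1,2),(2,1),(3,0),(3,2),(1,0),(5,1),(4,2),(0,0),(5,1),(1,4),(3,0),(2,0),(0,0),(4,2),(1,0),(5,2),(2,0),(3,0),(4,2),(4,3),(0,0),(2,1),(0,0),(3,4),(0,0),(2,0),(5,1),(4,0),(1,3),(5,0),(2,2),(0,0),(3,1),(4,1),(4,2),(0,0),(2,0),(1,2),(3,1),(5,1),(2,0),(4,1),(5,3),(0,0),(4,1),(4,3),(0,0),(2,0),(3,0),(4,2),(3,0),(5,2),(0,0),(1,3),(4,0),(5,1),(2,2),(3,0),(0,0),(1,1),(2,1),(4,1),(4,2),(5,1),(3,2),(5,0),(3,0),(5,3),(3,0),(0,0),(1,1),(5,6),(0,0),(1,0),(5,0),(2,2),(0,0),(2,0),(0,0),(3,2),(1,0),(4,2),(0,0),(5,1),(5,2),(0,0),(3,0),(3,5),(0,0),(2,0),(4,0),(3,2),(2,0),(4,2),(5,2),(5,2),(2,0),(0,0),(3,2),(0,0),(3,0),(5,2),(1,4),(2,0),(0,0),(4,0)]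

/-- Steps. -/
def tree14 : List (ℕ × ℕ) := [(3,0),(5,2),(3,2),(0,0),(4,2),(0,0),(2,0),(1,2),(5,1),(5,2),(3,2),(0,0),(1,0),(2,1),(0,0),(1,1),(4,2),(1,0),(2,1),(5,2),(4,0),(1,3),(2,1),(4,0),(5,1),(5,3),(4,0),(0,0),(5,0),(2,5),(0,0),(2,0),(0,0),(1,0),(2,1),(5,1),(1,2),(4,1),(0,0),(5,1),(5,2),(1,0),(3,1),(3,3),(0,0),(1,0),(2,1),(5,1),(1,2),(2,1),(4,0),(4,2),(4,2),(0,0),(1,0),(1,2),(2,0),(4,1),(2,2),(0,0),(4,1),(5,2),(2,0),(5,3),(2,0),(5,0),(3,2),(3,3),(0,0),(2,0),(5,0),(2,3),(0,0),(3,0),(1,2),(4,1),(5,1),(0,0),(2,1),(4,1),(5,4),(0,0),(4,0),(2,0),(2,3),(3,0),(4,1),(3,2),(2,0),(4,2),(0,0),(2,0),(5,1),(3,5),(0,0),(1,0),(2,1),(1,0),(3,0),(5,1),(3,2),(2,0),(4,1),(4,2),(0,0),(1,1),(5,2),(2,0),(3,3),(0,0),(2,1),(3,0),(5,1),(4,2),(3,0),(5,2),(2,0),(4,3),(0,0),(1,1),(2,1),(0,0),(5,1),(3,2),(1,0),(5,1),(5,2),(5,2),(0,0),(5,0),(1,2),(3,0),(1,4),(4,0),(3,0),(5,1),(2,3),(0,0),(1,0),(2,0),(2,2),(1,0),(4,1),(5,1),(4,2),(3,0),(5,2),(0,0),(4,1),(1,3),(4,0),(4,2),(0,0),(5,1),(5,2),(0,0),(5,0),(2,2),(4,4),(0,0),(2,0),(1,0),(4,0),(3,2),(2,0),(5,1),(4,2),(0,0),(5,2),(2,0),(3,3),(0,0),(5,0),(2,2),(5,0),(5,2),(5,2),(0,0),(1,0),(2,1),(4,1),(5,1),(1,2),(2,1),(0,0),(3,2),(2,3),(0,0),(2,0),(3,1),(4,1),(0,0),(1,3),(4,0),(3,2),(2,0),(5,1),(4,2),(1,0),(2,1)]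

/-- Steps. -/
def tree15 : List (ℕ × ℕ) := [(3,3),(1,0),(2,1),(3,0),(4,1),(2,0),(5,3),(0,0),(1,0),(1,2),(2,0),(2,2),(4,1),(5,3),(0,0),(3,0),(0,0),(5,1),(4,2),(0,0),(1,1),(2,1),(5,1),(5,2),(4,0),(1,3),(4,0),(3,2),(5,0),(2,0),(4,3),(0,0),(5,0),(2,2),(5,1),(4,0),(1,7),(2,0),(0,0),(2,0),(0,0),(2,0),(3,1),(2,0),(4,1),(4,2),(2,0),(3,1),(5,2),(2,0),(1,3),(4,0),(5,1),(4,2),(2,0),(1,0),(5,2),(0,0),(4,1),(5,3),(0,0),(2,0),(3,1),(2,2),(3,3),(0,0),(1,0),(3,0),(4,1),(3,2),(4,1),(5,1),(4,0),(1,3),(5,1),(0,0),(1,0),(1,2),(3,1),(0,0),(4,1),(4,4),(2,0),(4,0),(2,0),(5,3),(0,0),(4,0),(2,2),(4,0),(3,2),(5,0),(4,2),(5,3),(0,0),(2,0),(3,1),(4,1),(1,0),(3,1),(5,2),(3,0),(2,3),(0,0),(4,0),(3,2),(5,1),(4,0),(4,3),(0,0),(2,1),(5,0),(5,2),(0,0),(3,1),(3,5),(0,0),(2,0),(0,0),(3,1),(4,1),(3,2),(0,0),(1,1),(2,1),(0,0),(5,2),(4,2),(0,0),(1,1),(5,1),(2,3),(0,0),(2,0),(3,1),(1,0),(2,1),(5,3),(5,2),(0,0),(2,0),(5,0),(4,2),(3,0),(5,2),(1,0),(4,5),(2,0),(0,0),(3,0),(0,0),(2,1),(4,1),(5,4),(4,0),(0,0),(5,0),(5,5),(0,0),(3,0),(0,0),(4,0),(4,2),(4,2),(0,0),(5,2),(0,0),(4,1),(0,0),(3,4),(0,0),(3,0),(5,1),(0,0),(4,1),(5,3),(4,2),(0,0),(3,0),(0,0),(2,1),(5,2),(0,0),(3,6),(0,0),(2,0),(0,0),(3,0),(1,0),(4,1),(4,2),(1,0),(3,1),(5,1),(5,2),(3,2),(1,0),(5,1),(5,2),(0,0)]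

/-- Steps. -/
def tree16 : List (ℕ × ℕ) := [(4,1),(3,3),(0,0),(2,0),(3,0),(5,1),(3,2),(5,0),(4,2),(2,0),(5,2),(1,0),(4,1),(1,3),(4,0),(5,1),(2,0),(4,3),(0,0),(2,0),(4,1),(3,2),(5,1),(4,3),(0,0),(1,0),(3,1),(0,0),(4,2),(1,2),(2,0),(3,1),(5,1),(3,0),(2,3),(3,0),(4,1),(5,1),(3,2),(0,0),(2,0),(5,1),(1,2),(5,1),(5,2),(1,0),(3,0),(3,2),(4,1),(5,3),(0,0),(1,0),(4,0),(2,2),(3,0),(3,2),(4,0),(5,1),(4,2),(1,2),(3,0),(2,0),(5,2),(2,2),(3,1),(0,0),(2,0),(3,1),(2,2),(5,0),(4,3),(0,0),(2,0),(1,2),(2,4),(3,0),(0,0),(5,0),(0,0),(4,3),(4,2),(0,0),(2,1),(4,3),(0,0),(4,0),(2,0),(5,3),(0,0),(2,0),(0,0),(3,2),(0,0),(5,5),(0,0),(2,0),(0,0),(4,0),(5,1),(4,2),(3,2),(0,0),(2,0),(5,3),(0,0),(1,1),(2,1),(4,1),(5,0),(2,4),(0,0),(2,0),(4,1),(3,0),(5,6),(3,0),(0,0),(2,0),(0,0),(1,0),(2,1),(3,1),(1,2),(3,1),(0,0),(4,1),(4,2),(2,0),(3,3),(0,0),(2,1),(0,0),(4,2),(4,2),(1,0),(2,1),(4,0),(5,2),(5,2),(0,0),(3,1),(0,0),(4,2),(0,0),(2,1),(3,1),(4,4),(0,0),(2,0),(4,0),(3,2),(4,1),(5,1),(5,3),(0,0),(4,0),(4,2),(0,0),(4,4),(0,0),(2,0),(0,0),(3,1),(0,0),(4,2),(3,2),(0,0),(2,0),(0,0),(4,2),(5,3),(0,0),(2,0),(4,2),(2,0),(2,4),(0,0),(2,0),(4,1),(5,1),(0,0),(4,1),(2,7),(0,0),(2,0),(0,0),(1,0),(2,0),(4,1),(1,0),(5,2),(0,0),(1,1),(4,1),(2,3),(3,0),(5,1),(3,2),(0,0),(1,0)]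

/-- Steps. -/
def tree17 : List (ℕ × ℕ) := [(4,1),(5,1),(1,2),(4,2),(0,0),(3,0),(4,1),(1,2),(3,0),(4,1),(2,2),(0,0),(1,1),(3,1),(4,1),(3,2),(1,0),(5,2),(5,2),(0,0),(1,1),(2,0),(3,1),(4,1),(3,2),(5,0),(1,4),(4,0),(0,0),(1,0),(3,1),(1,2),(2,1),(4,0),(3,2),(3,3),(0,0),(1,1),(5,0),(2,2),(5,1),(2,0),(0,0),(4,4),(0,0),(1,0),(4,1),(1,2),(4,0),(0,0),(5,2),(2,2),(0,0),(4,0),(5,1),(3,2),(0,0),(1,1),(2,1),(4,2),(5,1),(3,0),(3,3),(0,0),(3,0),(2,2),(5,2),(0,0),(4,0),(1,2),(2,1),(4,1),(2,0),(5,4),(0,0),(2,0),(3,0),(3,2),(0,0),(1,1),(4,2),(0,0),(2,1),(5,1),(5,2),(4,0),(1,3),(3,1),(0,0),(2,1),(5,0),(4,3),(3,0),(5,1),(3,4),(0,0),(1,0),(2,0),(3,1),(4,1),(5,0),(5,2),(1,0),(4,1),(2,3),(0,0),(4,0),(1,2),(3,0),(5,0),(5,3),(3,2),(0,0),(4,1),(2,0),(5,2),(0,0),(3,1),(4,1),(4,3),(0,0),(3,1),(5,1),(3,0),(5,3),(0,0),(2,0),(1,2),(2,1),(4,0),(5,1),(3,2),(1,0),(4,2),(5,0),(1,4),(4,0),(2,0),(5,2),(0,0),(3,1),(1,0),(2,1),(4,2),(0,0),(1,1),(3,1),(2,4),(0,0),(1,0),(5,0),(1,3),(3,0),(4,2),(5,1),(0,0),(2,0),(2,2),(4,3),(0,0),(2,0),(0,0),(1,1),(3,2),(4,0),(4,2),(5,1),(4,0),(3,3),(5,1),(0,0),(2,1),(0,0),(3,2),(0,0),(2,1),(5,4),(2,0),(1,0),(3,1),(5,0),(5,2),(0,0),(3,3),(0,0),(4,0),(1,2),(2,0),(2,2),(4,1),(4,2),(0,0),(1,0),(3,1),(4,1),(5,1),(1,2),(3,1),(0,0),(5,2)]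

/-- Steps. -/
def tree18 : List (ℕ × ℕ) := [(0,0),(4,5),(0,0),(2,0),(0,0),(5,0),(4,2),(3,2),(0,0),(5,0),(5,2),(5,2),(0,0),(5,0),(2,2),(4,1),(2,3),(0,0),(1,0),(3,0),(5,1),(2,2),(1,0),(5,1),(3,2),(0,0),(5,1),(4,2),(1,0),(5,2),(2,0),(1,3),(2,0),(4,2),(0,0),(2,1),(1,0),(3,4),(2,0),(0,0),(2,0),(4,1),(3,2),(0,0),(5,3),(0,0),(1,1),(3,1),(4,0),(4,2),(3,0),(5,4),(0,0),(3,0),(0,0),(5,1),(4,2),(5,1),(0,0),(1,1),(4,3),(0,0),(2,1),(3,1),(5,1),(1,0),(5,5),(0,0),(1,0),(3,0),(4,0),(4,2),(1,0),(3,1),(5,2),(3,2),(0,0),(2,1),(3,0),(5,1),(2,0),(4,3),(5,0),(5,2),(2,0),(4,1),(4,3),(0,0),(5,0),(3,2),(1,0),(5,2),(5,2),(0,0),(3,0),(4,1),(1,2),(2,1),(3,0),(4,1),(3,2),(4,0),(4,2),(3,0),(2,0),(5,2),(1,4),(2,0),(3,0),(4,0),(4,2),(4,2),(1,0),(2,1),(3,1),(5,1),(0,0),(2,4),(0,0),(1,0),(4,1),(5,1),(0,0),(1,3),(4,0),(3,2),(0,0),(2,1),(4,1),(5,1),(5,2),(3,2),(0,0),(1,0),(3,1),(1,0),(4,2),(0,0),(5,2),(1,2),(2,0),(3,0),(5,2),(2,2),(4,0),(5,1),(4,2),(3,0),(5,1),(5,2),(4,2),(0,0),(1,0),(4,0),(2,2),(3,1),(0,0),(4,1),(5,1),(3,0),(4,3),(1,2),(2,0),(3,1),(5,1),(2,2),(1,0),(3,1),(5,1),(3,2),(0,0),(5,2),(3,4),(0,0),(2,0),(0,0),(3,0),(4,0),(4,2),(5,0),(3,3),(0,0),(1,1),(5,2),(0,0),(4,1),(3,3),(0,0),(2,0),(5,0),(3,2),(4,0),(5,1),(4,2),(5,1),(0,0),(1,1),(1,3),(4,1),(0,0)]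

/-- Steps. -/
def tree19 : List (ℕ × ℕ) := [(2,0),(5,1),(4,4),(0,0),(3,0),(1,2),(2,0),(0,0),(3,2),(4,1),(5,1),(2,2),(0,0),(2,0),(1,2),(5,1),(3,2),(0,0),(1,1),(2,1),(5,2),(0,0),(1,0),(2,1),(1,2),(2,1),(3,1),(5,3),(0,0),(1,0),(2,1),(3,1),(4,0),(4,2),(5,1),(1,2),(3,0),(3,2),(0,0),(2,1),(4,2),(0,0),(4,0),(2,5),(0,0),(2,0),(1,0),(4,0),(5,2),(2,0),(3,3),(2,0),(4,1),(4,2),(0,0),(5,1),(2,0),(5,3),(2,0),(4,1),(5,0),(3,4),(5,1),(0,0),(3,0),(5,0),(4,2),(0,0),(3,1),(5,5),(0,0),(2,0),(0,0),(2,0),(3,1),(4,1),(5,2),(1,0),(3,3),(1,0),(4,1),(5,0),(4,3),(2,0),(0,0),(4,1),(5,3),(0,0),(4,1),(4,5),(2,0),(0,0),(2,0),(0,0),(4,1),(3,2),(0,0),(3,0),(4,3),(0,0),(1,0),(5,1),(1,2),(2,0),(2,2),(5,0),(3,2),(4,3),(0,0),(2,0),(3,1),(4,1),(5,0),(5,5),(4,0),(0,0),(5,0),(2,2),(0,0),(5,5),(0,0),(2,0),(3,0),(0,0),(4,0),(2,2),(4,2),(1,0),(3,0),(2,2),(1,0),(5,1),(3,4),(0,0),(1,0),(2,1),(3,1),(5,0),(4,2),(2,0),(1,3),(2,0),(4,0),(2,3),(3,0),(0,0),(5,2),(4,2),(1,0),(3,1),(2,0),(5,2),(4,3),(0,0),(1,0),(2,1),(4,1),(1,2),(2,0),(1,0),(5,1),(3,2),(5,1),(2,2),(0,0),(1,1),(5,0),(3,2),(0,0),(4,2),(2,0),(5,2),(3,0),(4,1),(3,3),(0,0),(1,0),(5,1),(1,2),(2,1),(0,0),(5,3),(0,0),(2,1),(3,1),(4,0),(5,4),(0,0),(1,0),(4,0),(2,2),(0,0),(1,1),(3,2),(4,0),(5,2),(3,0),(4,1),(1,3),(3,0)]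

/-- Steps. -/
def tree20 : List (ℕ × ℕ) := [(3,2),(2,0),(4,1),(3,4),(0,0),(2,0),(0,0),(3,0),(3,3),(0,0),(4,2),(5,0),(0,0),(5,3),(0,0),(1,0),(5,1),(1,2),(3,1),(5,0),(5,4),(4,2),(0,0),(2,0),(4,0),(3,2),(2,0),(4,2),(2,0),(3,1),(5,1),(5,2),(0,0),(5,0),(2,4),(0,0),(3,0),(4,1),(5,2),(5,2),(0,0),(2,0),(4,1),(3,6),(0,0),(2,0),(0,0),(2,0),(4,0),(0,0),(5,2),(0,0),(1,1),(3,3),(0,0),(1,0),(1,2),(5,1),(5,2),(0,0),(2,1),(4,0),(5,1),(3,2),(2,0),(4,2),(2,0),(3,4),(0,0),(1,0),(1,2),(3,0),(4,2),(5,1),(0,0),(4,1),(4,3),(2,0),(1,0),(5,1),(1,0),(3,3),(0,0),(4,0),(5,3),(1,0),(4,1),(5,0),(5,4),(0,0),(2,0),(2,2),(1,0),(4,1),(3,4),(0,0),(1,0),(4,0),(5,0),(5,2),(4,0),(5,3),(0,0),(1,0),(2,1),(1,2),(1,3),(3,0),(4,1),(1,0),(5,3),(3,0),(4,0),(4,2),(2,0),(5,0),(5,2),(4,4),(0,0),(1,0),(3,1),(0,0),(4,1),(4,2),(1,2),(2,0),(1,0),(5,2),(3,0),(4,1),(2,3),(0,0),(1,0),(2,1),(1,2),(3,0),(5,2),(0,0),(5,3),(2,0),(1,0),(5,1),(3,2),(1,0),(2,1),(1,0),(4,2),(5,0),(4,3),(3,0),(2,0),(5,5),(0,0),(1,0),(3,0),(4,0),(4,2),(0,0),(5,2),(2,2),(1,0),(2,0),(3,2),(4,1),(5,0),(3,3),(4,0),(1,0),(5,2),(0,0),(1,1),(2,1),(3,1),(5,3),(0,0),(1,1),(2,0),(2,2),(0,0),(3,1),(4,1),(3,2),(0,0),(4,2),(1,3),(2,0),(0,0),(2,0),(3,1),(5,1),(3,2),(4,1),(3,2),(0,0),(5,0),(2,2),(4,1),(5,1),(5,2),(4,0)]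

/-- Steps. -/
def tree21 : List (ℕ × ℕ) := [(2,3),(0,0),(4,0),(3,2),(0,0),(5,2),(1,0),(3,3),(0,0),(1,0),(3,1),(5,1),(0,0),(1,1),(1,3),(2,0),(4,1),(5,0),(2,3),(4,0),(5,1),(4,2),(1,0),(2,1),(3,1),(5,2),(2,0),(0,0),(4,4),(0,0),(1,0),(1,2),(2,0),(3,1),(5,0),(3,3),(0,0),(1,1),(5,1),(5,2),(0,0),(3,1),(2,5),(0,0),(4,0),(0,0),(2,0),(0,0),(2,3),(0,0),(1,1),(3,1),(5,2),(0,0),(2,1),(3,4),(0,0),(4,0),(0,0),(5,1),(0,0),(5,3),(0,0),(3,0),(5,1),(4,4),(5,1),(0,0),(3,0),(5,1),(4,4),(0,0),(2,0),(0,0),(2,0),(3,1),(1,2),(5,2),(0,0),(2,0),(2,2),(2,3),(0,0),(5,3),(0,0),(3,0),(0,0),(5,0),(4,2),(5,1),(5,2),(2,0),(4,1),(2,3),(0,0),(3,0),(3,2),(0,0),(4,5),(0,0),(2,0),(0,0),(2,0),(0,0),(3,2),(5,0),(5,2),(3,2),(1,0),(2,1),(4,1),(4,2),(5,0),(0,0),(5,3),(2,0),(0,0),(4,2),(0,0),(3,4),(0,0),(1,0),(4,0),(2,2),(4,0),(3,2),(4,0),(1,3),(4,1),(0,0),(4,3),(2,0),(0,0),(1,1),(3,1),(4,1),(5,1),(3,2),(5,1),(0,0),(4,0),(5,4),(0,0),(4,1),(5,0),(5,4),(0,0),(4,0),(0,0),(5,1),(5,2),(3,0),(0,0),(5,6),(0,0),(2,0),(0,0),(1,0),(2,1),(0,0),(3,1),(3,2),(5,0),(4,2),(2,0),(5,2),(4,0),(1,3),(3,0),(5,1),(4,2),(2,0),(5,1),(2,0),(5,3),(0,0),(3,0),(4,1),(5,1),(3,4),(0,0),(1,0),(3,1),(0,0),(2,1),(5,2),(1,2),(3,0),(4,1),(4,2),(5,1),(0,0),(4,3),(3,0),(5,0),(5,2),(0,0),(5,0),(5,4),(0,0)]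

/-- Steps. -/
def tree22 : List (ℕ × ℕ) := [(1,0),(4,0),(5,1),(3,2),(5,0),(4,2),(5,1),(1,0),(2,1),(1,3),(4,1),(5,0),(2,4),(0,0),(2,0),(3,1),(0,0),(2,0),(4,2),(0,0),(4,3),(2,0),(5,1),(5,2),(0,0),(1,1),(3,1),(0,0),(4,2),(5,6),(3,0),(0,0),(2,0),(0,0),(2,0),(3,0),(5,1),(4,2),(3,0),(5,2),(4,0),(1,3),(4,1),(1,0),(5,1),(5,2),(0,0),(1,1),(2,1),(1,0),(5,1),(4,2),(5,0),(4,4),(0,0),(5,0),(2,0),(1,3),(3,0),(5,1),(2,0),(4,1),(3,3),(0,0),(1,1),(5,2),(1,0),(4,0),(2,2),(1,0),(3,2),(4,1),(3,0),(5,4),(0,0),(1,0),(2,1),(0,0),(5,1),(4,2),(2,0),(1,3),(4,0),(0,0),(2,1),(3,3),(0,0),(4,2),(0,0),(2,1),(3,1),(5,0),(5,2),(4,4),(0,0),(3,0),(0,0),(3,0),(4,3),(2,0),(5,0),(5,2),(5,2),(0,0),(4,1),(5,4),(0,0),(2,0),(3,0),(4,1),(3,2),(0,0),(5,1),(4,2),(0,0),(1,1),(5,1),(5,2),(0,0),(4,1),(4,3),(0,0),(2,0),(5,1),(4,5),(0,0),(3,0),(0,0),(3,0),(4,1),(5,1),(2,2),(4,1),(2,0),(4,3),(2,0),(0,0),(5,3),(0,0),(4,0),(2,0),(5,2),(2,2),(3,0),(4,2),(2,0),(3,1),(5,1),(2,4),(0,0),(2,0),(4,0),(5,1),(3,2),(1,0),(2,1),(4,1),(5,1),(4,2),(0,0),(2,1),(5,0),(3,2),(5,2),(1,0),(2,1),(5,0),(4,2),(5,3),(0,0),(3,0),(4,1),(5,0),(3,5),(0,0),(2,0),(0,0),(5,1),(0,0),(3,3),(0,0),(4,0),(4,3),(2,2),(0,0),(5,3),(0,0),(2,0),(0,0),(5,1),(2,0),(4,3),(0,0),(5,1),(2,0),(4,1),(4,4),(0,0),(5,1)]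

/-- The spanning tree. -/
def tree : List (ℕ × ℕ) := tree0 ++ tree1 ++ tree2 ++ tree3 ++ tree4 ++ tree5 ++ tree6 ++ tree7 ++ tree8 ++ tree9 ++ tree10 ++ tree11 ++ tree12 ++ tree13 ++ tree14 ++ tree15 ++ tree16 ++ tree17 ++ tree18 ++ tree19 ++ tree20 ++ tree21 ++ tree22

/-- A part of a store. -/
def st0 : Store :=
  (.node (.node (.node (.node (.node (.node (.node (.node (.leaf 0x820820820820820920820820820820820824) (.leaf 0x7e185f85f85f8618e17df86186186186185f)) (.leaf 0x7df85f7df7e185f8df8617e185f8618617e1)) (.node (.leaf 0x85f7df7df7e17df8e17e186186186185f7e1) (.leaf 0x7e185f85d8617e185f8617e17e185f7e1861))) (.node (.node (.leaf 0x7df7e185d8617e185f8618618618617e17df) (.leaf 0x85f7e185f85f7e18df7e17df7e17df7df7e1)) (.node (.leaf 0x82082281e8228208a082082081e8a2822820) (.leaf 0x82081e81e7a08208a282082282282082081e)))) (.node (.node (.node (.node (.leaf 0x7a082081e8208a08a08a08228228a0820820) (.leaf 0x81e82281e8208208a081e8228208a07a0820))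 (.leaf 0x7a07a081e81e82089e82082081e8208208a0)) (.node (.leaf 0x82082281e8208228a08a08228a082081e820) (.leaf 0x82089e81e8208208a28228208a0822820820))) (.node (.node (.leaf 0x8208a081e82081e8a082081e81e81e7a0820) (.leaf 0x7e18617df8617df8df7e18617df86185f7e1)) (.node (.leaf 0x85f8617df85f7e18e18617df7e185f8617df) (.leaf 0x82081e81e82081e8a07a08227a082081e820))))) (.node (.node (.node (.node (.node (.leaf 0x82082079e8208208a08a08a28208207a081e) (.leaf 0x82082081e7a08228a081e8207a08207a081e)) (.leaf 0x8a082081e7a082089e7a08a08a0820820820)) (.node (.leaf 0x7e185f85f7df85f8df85f8617df86185f861) (.leaf 0x7a082081e82081e8a08207a081e82081e822))) (.node (.node (.leaf 0x82082081e7a08208a08208a08228a08a08a0) (.leaf 0x7df85f85d8617e185f7e18617df85f85f7df)) (.node (.leaf 0x85f7e185d8617df8617df7e18618618617e1) (.leaf 0x82282081e81e7a08a08208208228207a0822)))) (.node (.node (.node (.node (.leaf 0x8207a081e8207a289e8a0820820820820822)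 (.leaf 0x85f7e185d7e186185f7e17df86186186185f)) (.leaf 0x8617e185f7df8618df85f7e17e18617df7e1)) (.node (.leaf 0x7e17e185f7df7df8e185f85f85f86186185f) (.leaf 0x8207a081e89e8208a08207a082081e82081e))) (.node (.node (.leaf 0x82082281e7a08a08a08a08208208228a0820) (.leaf 0x8a081e81e8208208a082079e8208228208a0)) (.node (.leaf 0x8a081e79e8208208a082082079e8207a0820) (.leaf 0x81e7a081e8207a08a08208208208a28208a0)))))) (.node (.node (.node (.node (.node (.node (.leaf 0x85f7e17df86185f8df7df86185f85f8617e1) (.leaf 0x8618617df7e17e18df7e18617df7e17e185f)) (.leaf 0x8617df85d7e17e18617df7df7e17e18617df)) (.node (.leaf 0x86185f7dd7e186185f7e17e185f8617e1861) (.leaf 0x82089e81e8208208a28228207a081e820820))) (.node (.node (.leaf 0x82082081e8208a089e82081e8a08208a07a0) (.leaf 0x8a08a079e8208208a07a082082082281e820)) (.node (.leaf 0x7e17e17df8617e18e185f85f7df85f8617e1) (.leaf 0x82082281e7a082089e82082282282082081e)))) (.node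 (.node (.node (.node (.leaf 0x85f85f7df8618618df8617e185f7e17df85f) (.leaf 0x7a082281e81e8208a08a282082082082081e)) (.leaf 0x7e185f85d7df7e18618617df7e17e17df85f)) (.node (.leaf 0x8208a081e8208208a28208a28208a081e820) (.leaf 0x85f86185d7e17df85f7df7df85f8617df861))) (.node (.node (.leaf 0x8a08a089e8208208a07a082082081e81e820) (.leaf 0x82082081e7a08208a08208a081e8a07a08a0)) (.node (.leaf 0x81e82281e8a28208a08208208a08208208a0) (.leaf 0x81e82081e82082089e81e7a082082082089e))))) (.node (.node (.node (.node (.node (.leaf 0x8618617df8618618e17e17df8618617e185f) (.leaf 0x7e17e17df7e17e18e17df7df85f7e17e17df)) (.leaf 0x79e82081e7a08208a081e82081e822820820)) (.node (.leaf 0x89e8a081e8208208a082081e7a0820820822) (.leaf 0x82082089e89e81e8a07a0820822820820820))) (.node (.node (.leaf 0x85f8617dd85f85f85f85f8617df7df7e17e1) (.leaf 0x82082081e8208208a08a082089e81e8207a2)) (.node (.leaf 0x7df7df85d7e185f8618617e17e17df7df861)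 (.leaf 0x7e17e17df8618618df7df8617e18617e17df)))) (.node (.node (.node (.node (.leaf 0x82082081e8208208a08a08208a282282089e) (.leaf 0x82282081e8a07a28a082079e820820820820)) (.leaf 0x85f85f85f85f7e18df8617df85f7e18617e1)) (.node (.leaf 0x85f7e17df85f7e18e17df8617df7df7e17df) (.leaf 0x7e18617df85f8618e17e186185f7e17df7df))) (.node (.node (.leaf 0x7e185f7df85f85f8e17e185f8617df7e1861) (.leaf 0x85f7e17df7e185f8e18617e185f7df85f861)) (.node (.leaf 0x85f85f7df7e18618df7e18617df85f85f861) (.leaf 0x7a082281e81e8208a089e820820820820822))))))) (.node (.node (.node (.node (.node (.node (.node (.leaf 0x85f7e185f7df8618df7df8617df86186185f) (.leaf 0x81e82081e8208208a08207a07a081e89e820)) (.leaf 0x85f7df7dd7df86186185f8617df7e18617df)) (.node (.leaf 0x7e186185f7df7df8df7df7e17e17df85f7e1) (.leaf 0x82282081e81e8a08a08208208228208a0822))) (.node (.node (.leaf 0x89e81e81e8208a089e820820820820822820) (.leaf 0x82082281e8228208a08208208227a2822820))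 (.node (.leaf 0x8617df7df7e18618df7df85f7df7df8617df) (.leaf 0x82282081e8228a08a08208208228208a081e)))) (.node (.node (.node (.node (.leaf 0x7df8617df85f7df8df7df85f7e185f7e17e1) (.leaf 0x85f86185d7df7e18618617e18617e18617df)) (.leaf 0x82082289e8208208a27a08208208a08208a0)) (.node (.leaf 0x85f85f85d7df7df8618617df85f7df85f861) (.leaf 0x8208a289e8228a08a082081e820820820820))) (.node (.node (.leaf 0x8208a081e81e8208a08a08207a08a07a0820) (.leaf 0x7a28a081e8208208a08208227a082082081e)) (.node (.leaf 0x81e81e81e79e8208a08208207a08208208a0) (.leaf 0x8208a081e8a08208a089e81e8208208207a0))))) (.node (.node (.node (.node (.node (.leaf 0x7a082081e82081e8a08207a081e82082281e) (.leaf 0x820820820820820920820824820820820820)) (.leaf 0x81e7a081e8208a08a082082082089e8208a0)) (.node (.leaf 0x7a082081e8208208a081e8208a07a081e7a0) (.leaf 0x8a082081e7a28208a082081e82082089e820))) (.node (.node (.leaf 0x82081e81e7a07a08a07a082082081e8a0820)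 (.leaf 0x81e82081e8a07a28a08207a2820820820820)) (.node (.leaf 0x8617df85d85f7df8617df8617df7e17e17e1) (.leaf 0x82082081e81e8a08a07a07a082082081e7a0)))) (.node (.node (.node (.node (.leaf 0x7a082081e8208228a08207a081e82081e81e) (.leaf 0x7e185f7df7df8618e185f85f85f7e18617e1)) (.leaf 0x8a082081e82082089e8208208208a28a0822)) (.node (.leaf 0x8a081e89e8208208a082082089e8207a0820) (.leaf 0x82082081e8208228a07a27a08207a2820820))) (.node (.node (.leaf 0x7df85f85d7df86185f8618617e17df7e17df) (.leaf 0x7a282089e8228208a08208a08208a0820820)) (.node (.leaf 0x82082081e82082089e7a28208228207a2820) (.leaf 0x7a07a281e8a08228a08208208207a0820820)))))) (.node (.node (.node (.node (.node (.node (.leaf 0x7e17df7dd85f7e186185f85f7e17e185f7e1) (.leaf 0x82082279e8a08208a081e7a0820820822820)) (.leaf 0x8208a081e7a08a08a08208207a282081e820)) (.node (.leaf 0x85f85f7dd85f86185f85f85f7e17e17df85f) (.leaf 0x8a081e81e8228208a079e820820820820822)))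 (.node (.node (.leaf 0x7df7e17df86185f8df8618618617e185f7df) (.leaf 0x7df86185f8617e18df85f7df7e17df861861)) (.node (.leaf 0x86185f7df85f7e18df7e17e17df7df85f7df) (.leaf 0x7e186185d85f8618618617df85f7e185f7e1)))) (.node (.node (.node (.node (.leaf 0x7df8617df8617e18e18618617df7df85f85f) (.leaf 0x82082081e8208208a07a082089e82282089e)) (.leaf 0x7df7e17df7e18618e17e18617df7e18617e1)) (.node (.leaf 0x7df7df85f85f7df8df85f7e17e185f7df861) (.leaf 0x85f86185d8617e185f8617df86185f85f7e1))) (.node (.node (.leaf 0x85f7df7dd7e18618617e17df7df7df861861) (.leaf 0x8618617df7e185f8e185f7df85f85f8617df)) (.node (.leaf 0x82082081e7a08228a08228207a08208a081e) (.leaf 0x85f7e17dd7df85f85f86185f8617e17e17df))))) (.node (.node (.node (.node (.node (.leaf 0x7df7e17dd86186185f7df7e186185f85f7df) (.leaf 0x82281e81e8208208a081e8228208a07a0820)) (.leaf 0x7a082289e8208208a082082079e8208a0820)) (.node (.leaf 0x8207a089e8208228a08208a08a08208208a0)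 (.leaf 0x8208a081e82089e8a28a0820820820820822))) (.node (.node (.leaf 0x7a27a081e8208208a082081e7a082082081e) (.leaf 0x8227a281e8208208a07a08a081e820820820)) (.node (.leaf 0x8618617df7df7e18df85f7df7df7df7e17e1) (.leaf 0x7a082081e82082089e8208208208a27a0822)))) (.node (.node (.node (.node (.leaf 0x8618617dd8617df85f7df86185f7e1861861) (.leaf 0x8208a081e8228208a08a08208a07a08a0820)) (.leaf 0x82082081e8207a08a081e81e820822822822)) (.node (.leaf 0x81e82081e7a07a28a082079e820820820820) (.leaf 0x82082081e82081e8a07a27a082079e820820))) (.node (.node (.leaf 0x8617e17dd7df86185f7df85f7e186185f7df) (.leaf 0x8207a081e8208a28a27a082082082082081e)) (.node (.leaf 0x7df7e17dd7df7e185f85f7e185f7df7e17df) (.leaf 0x8617e185d85f86186186186185f7df7e17df))))))))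

/-- A part of a store. -/
def st1 : Store :=
  (.node (.node (.node (.node (.node (.node (.node (.node (.leaf 0x8618617dd7e17e185f8618618617df7e17e1) (.leaf 0x82081e81e8207a28a08228208228208207a0)) (.leaf 0x82082081e7a08208a08208a081e7a08a08a0)) (.node (.leaf 0x8618617dd85f7df85f8617df85f7df8617df) (.leaf 0x7df7df7df7df8618e186186185f86185f85f))) (.node (.node (.leaf 0x7a082081e8208208a081e8208a08a081e8a0) (.leaf 0x8a082079e8208228a281e81e820820820820)) (.node (.leaf 0x82082281e8208228a08a08227a0820822820) (.leaf 0x82081e81e82282289e8207a08208208a0820)))) (.node (.node (.node (.node (.leaf 0x82082281e7a08a08a07a082082081e8a0820) (.leaf 0x8208a081e8207a28a28a0820820820820822)) (.leaf 0x82082081e8207a08a081e81e82081e82281e)) (.node (.leaf 0x8a07a089e8208208a08a082082081e81e820) (.leaf 0x7df85f7dd8617df8617e185f85f7df86185f))) (.node (.node (.leaf 0x85f86185f85f85f8e17e17df85f7e17df861) (.leaf 0x8617df85f7df8618e185f85f7e17e185f85f))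 (.node (.leaf 0x86185f85d7e17e185f85f86185f85f85f861) (.leaf 0x7a082081e7a082089e8a07a07a0820820820))))) (.node (.node (.node (.node (.node (.leaf 0x82082079e8228208a28208207a082082281e) (.leaf 0x8207a081e8208208a282079e8208a0822820)) (.leaf 0x7a082081e81e8a28a08208207a0822820820)) (.node (.leaf 0x81e81e81e8208208a082281e8207a07a0820) (.leaf 0x82289e81e8208208a07a08a081e820820820))) (.node (.node (.leaf 0x7e185f7df7e17df8e186185f85f85f85f861) (.leaf 0x8207a089e8208228a08207a08a08208207a0)) (.node (.leaf 0x7df7df85d7df8618617e17df85f8617df861) (.leaf 0x82082079e8208a089e8207a081e81e820820)))) (.node (.node (.node (.node (.leaf 0x82082089e82079e8a08208208207a079e820) (.leaf 0x82082281e8207a28a082282081e8208207a0)) (.leaf 0x8a081e81e8208208a08207a282081e8208a0)) (.node (.leaf 0x82281e81e8208208a082281e8208a07a0820) (.leaf 0x81e82081e7a07a28a08208a2820820820820))) (.node (.node (.leaf 0x85f7df85d7df86186185f7df8617df7e185f)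 (.leaf 0x8a082089e8a08a08a08208208208208207a2)) (.node (.leaf 0x82082081e8208208a279e82082282089e820) (.leaf 0x82282081e82082089e81e8a082082082089e)))))) (.node (.node (.node (.node (.node (.node (.leaf 0x8617e17df7e17df8df86185f85f7e18617e1) (.leaf 0x7e185f85d7e17df8617e17e185f85f7df85f)) (.leaf 0x8a07a081e8208a08a08228a08208208a0820)) (.node (.leaf 0x8617df85d8617e186185f85f86185f7e17e1) (.leaf 0x82282079e8208a08a079e8208a0820820820))) (.node (.node (.leaf 0x82082079e8228208a28208208a0820822822) (.leaf 0x8a082079e82082289e81e822820820820820)) (.node (.leaf 0x8228a081e82281e8a0822820820820822820) (.leaf 0x82082081e8a08208a08207a081e7a07a07a0)))) (.node (.node (.node (.node (.leaf 0x7df7df85f7df85f8e185f85f85f7df7df861) (.leaf 0x8208a281e82082089e8228207a081e820820)) (.leaf 0x82082081e8227a08a07a07a08208208228a0)) (.node (.leaf 0x82082081e8208a08a082282282082282281e) (.leaf 0x86186185f8617e18df86185f7e18617e17e1)))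 (.node (.node (.leaf 0x7e17e185f7df85f8e17e18617e186185f7df) (.leaf 0x86185f85f8618618df7e17df7df7df7e1861)) (.node (.leaf 0x7e185f7df85f8618df7e17df85f86185f861) (.leaf 0x82082081c820820820820920820820820820))))) (.node (.node (.node (.node (.node (.leaf 0x82082081e8208208a08a082079e81e8208a2) (.leaf 0x85f7df85f8618618e17e17e185f861861861)) (.leaf 0x8207a081e7a08a08a08208207a2820822820)) (.node (.leaf 0x8a082281e8208208a082089e8208228208a0) (.leaf 0x820720820820820920820820820820820820))) (.node (.node (.leaf 0x7a082081e8207a08a08a08228227a0820820) (.leaf 0x820820820820820920820820820820820920)) (.node (.leaf 0x85f85f85d7df85f85f7e17e18617e17df85f) (.leaf 0x7e17e17df85f85f8e186185f7df7e185f861)))) (.node (.node (.node (.node (.leaf 0x8617e185f85f8618e17e18617e17e17e1861) (.leaf 0x82082079e8207a089e8208a0822822820820)) (.leaf 0x7df85f7df7e17e18e17df85f7df7df7e1861)) (.node (.leaf 0x8a082081e8208a08a08a081e81e7a0820820)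 (.leaf 0x82081e79e8a08208a08227a0820820822820))) (.node (.node (.leaf 0x85f7df85d7e186185f7df8617e17df85f85f) (.leaf 0x86186185d85f85f85f7df85f85f7e17df7df)) (.node (.leaf 0x82082089e8a28228a07a0820822820820820) (.leaf 0x7e17df85f7e185f8e18618618617e1861861))))))) (.node (.node (.node (.node (.node (.node (.node (.leaf 0x7e185f7df85f85f8df7df85f7e17e185f7df) (.leaf 0x82082081e8207a08a28208228a08208a08a0)) (.leaf 0x85f7df7df7df85f8e17e17e17df85f8617df)) (.node (.leaf 0x85f86185d7e18618618618617df7df85f7e1) (.leaf 0x8a082089e82081e89e81e822820820820820))) (.node (.node (.leaf 0x89e81e81e8207a089e82082082082081e820) (.leaf 0x85f8617dd86185f8617df7df85f7df85f7e1)) (.node (.leaf 0x82081e79e8a08208a08228a082082081e820) (.leaf 0x8207a081e82079e8a28a0820820820820822)))) (.node (.node (.node (.node (.leaf 0x7df85f85f7e185f8df86185f7e185f7e1861) (.leaf 0x7e17e185d7e17df8618617e17e186186185f)) (.leaf 0x7df85f85d85f8618617df7e17e185f7df85f))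 (.node (.leaf 0x85f85f7dd7e17df85f7e17df8617e18617e1) (.leaf 0x82082081c82082081c820820820820820820))) (.node (.node (.leaf 0x79e82081e82081e8a07a08208208208a07a0) (.leaf 0x8617e17dd7e186186185f7e18618617e17df)) (.node (.leaf 0x7e185f7dd86185f85f7e17e185f7e185f7df) (.leaf 0x7df7e185d86185f8617df7df7e17df86185f))))) (.node (.node (.node (.node (.node (.leaf 0x81e82081e8a08208a07a08208207a0822822) (.leaf 0x7a079e81e7a08228a08208208207a0820820)) (.leaf 0x7a282281e8208a08a2820820820820822820)) (.node (.leaf 0x82082079e8207a28a08208208208a07a2820) (.leaf 0x82082081e8207a08a282081e7a08208a08a0))) (.node (.node (.leaf 0x7a082081e81e7a28a08208208a0822820820) (.leaf 0x7a08a081e8207a08a08227a08208208a0820)) (.node (.leaf 0x7df86185d85f7df8618617e18618617df861) (.leaf 0x79e7a081e8208208a082081e7a0820820822)))) (.node (.node (.node (.node (.leaf 0x8207a081e82081e8a082082281e81e7a0820) (.leaf 0x8617e17dd7e186185f8617e17e185f85f861))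 (.leaf 0x7e185f85f7df7e18e17e17df85f7df7df7e1)) (.node (.leaf 0x82082089e7a28228a08a0820822820820820) (.leaf 0x8617df7dd7df8618617df7e17e17e17df861))) (.node (.node (.leaf 0x7df86185d7e185f85f7df7e17df7df7df7df) (.leaf 0x86185f7dd85f8618617e17df85f7df7df85f)) (.node (.leaf 0x85f7df7df8617e18e185f86185f85f7df861) (.leaf 0x8617e17dd85f86185f85f7df8617df7df7e1)))))) (.node (.node (.node (.node (.node (.node (.leaf 0x85f8617dd86185f85f7e17df7df7e17e185f) (.leaf 0x82081e89e82082089e7a08208207a08207a0)) (.leaf 0x8a282079e81e8208a08208a08207a0820820)) (.node (.leaf 0x8227a089e8a082089e8208208208207a0820) (.leaf 0x820820820820820920820820820720820820))) (.node (.node (.leaf 0x82082279e8208208a27a08208207a08208a0) (.leaf 0x7e186185f85f7e18e185f7e185f7df8617df)) (.node (.leaf 0x85f7df7df7e17e18df7e17e185f7df7e17e1) (.leaf 0x7a082281e8208208a08207a282081e8208a0)))) (.node (.node (.node (.node (.leaf 0x7df7e17dd7df8618617df7df8617e18617e1)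 (.leaf 0x7a082081e8208208a08228208a07a081e8a0)) (.leaf 0x7e185f7dd7df7df86185f7e17e185f85f861)) (.node (.leaf 0x7e185f85f85f7df8e185f7df8617e185f861) (.leaf 0x82081e79e7a08208a081e7a0820820822820))) (.node (.node (.leaf 0x7df7df85f7e18618e17df8617e18617df861) (.leaf 0x8617df7dd85f86185f8618617e18617e17e1)) (.node (.leaf 0x82082079e8208208a07a07a28208208a0822) (.leaf 0x82082081e81e8a08a07a08a08208208227a0))))) (.node (.node (.node (.node (.node (.leaf 0x7a082081e8208a08a07a082281e8a0820820) (.leaf 0x82282289e82081e8a082082082081e82081e)) (.leaf 0x8208a081e7a08a08a082082079e820822820)) (.node (.leaf 0x7e17e17df86185f8df7e17e185f7e17e1861) (.leaf 0x8a08a079e8208208a08a0820820822822820))) (.node (.node (.leaf 0x82089e81e8208208a08208208208208a28a2) (.leaf 0x7df7e17df7e17e18e185f85f8617e185f861)) (.node (.leaf 0x86185f85d85f7df85f85f7df86185f7df85f) (.leaf 0x82282281e8a28208a08208208a08208207a0)))) (.node (.node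 (.node (.node (.leaf 0x7a281e81e8207a089e82082082082081e820) (.leaf 0x82282081e81e82089e7a081e82081e820820)) (.leaf 0x89e82089e8228208a08207a08207a0820820)) (.node (.leaf 0x81e89e81e8208208a07a07a081e820820820) (.leaf 0x8a282281e8208a08a282082082082081e820))) (.node (.node (.leaf 0x82081e81e8208228a08a08228a0820822820) (.leaf 0x82082081e89e8a08a28228208208a0820820)) (.node (.leaf 0x7e17df85d7e185f8617e18617df7df8617df) (.leaf 0x81e82081e82081e8a28208207a28a0820820))))))))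

/-- A part of a store. -/
def st2 : Store :=
  (.node (.node (.node (.node (.node (.node (.node (.node (.leaf 0x8617df85f85f8618e17df7df86185f7df861) (.leaf 0x7df8617df7df7df8e18617df7e17df7df861)) (.leaf 0x7df7df85f7df7df8df7df8618617e185f85f)) (.node (.leaf 0x85f85f7dd7df7df85f85f8618617df86185f) (.leaf 0x7df85f85f86185f8df7e17df8617e186185f))) (.node (.node (.leaf 0x7a081e89e8208208a08208208a28207a0820) (.leaf 0x82082281e81e8208a08208208228a2822820)) (.node (.leaf 0x7e185f85d7df7df85f86185f7df85f86185f) (.leaf 0x7df85f85f7df8618e17df8617df7df85f7df)))) (.node (.node (.node (.node (.leaf 0x8208a079e8208208a081e8208228a082081e) (.leaf 0x7e186185d8617e186186185f7e17df8617df)) (.leaf 0x8228a081e8208a08a08208208207a28208a0)) (.node (.leaf 0x8a082081e8a082089e7a07a08a0820820820) (.leaf 0x82081e81e8a08208a2820822822820820822))) (.node (.node (.leaf 0x85f85f7df85f7e18df8618617e17df7e1861) (.leaf 0x82082081e8208228a079e7a08208a2820820))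 (.node (.leaf 0x8208a081e7a28208a08207a082081e820822) (.leaf 0x8207a081e8a08208a089e81e8208208208a0))))) (.node (.node (.node (.node (.node (.leaf 0x85f85f7dd86186185f7e17e17e17df7df7e1) (.leaf 0x82082089e81e8208a28208208a0820822822)) (.leaf 0x8a082081e7a08208a27a07a08a0820820820)) (.node (.leaf 0x7e17df7dd7df7e18617df7df86185f7df7df) (.leaf 0x7e17df85d85f7e185f8617e17df7e18617df))) (.node (.node (.leaf 0x82282081e8208208a08208a07a081e89e820) (.leaf 0x85f85f85d7df7df85f85f7df7df7e17e17df)) (.node (.leaf 0x85f86185f85f7e18df85f8617df85f85f7e1) (.leaf 0x82082089e8208208a07a08a28208208a0822)))) (.node (.node (.node (.node (.leaf 0x7e186185f7df7e18df7e186185f85f85f85f) (.leaf 0x8207a081e7a28208a08207a0820822820822)) (.leaf 0x8a082089e8a07a08a082082082082082079e)) (.node (.leaf 0x81e8a081e81e81e8a0822820820820822820) (.leaf 0x7e17e185f7e185f8df8617df8618617e17df))) (.node (.node (.leaf 0x7e17e17df8617e18df86185f85f8617df85f)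 (.leaf 0x82082081e82081e8a079e8a082079e820820)) (.node (.leaf 0x8a282079e81e8208a08207a08208a0820820) (.leaf 0x7df7e185f8617df8e17e17e17e17e185f861)))))) (.node (.node (.node (.node (.node (.node (.leaf 0x7df8617df86185f8df7df7df85f8617df7df) (.leaf 0x8617e185f7df85f8df86186185f7e17df85f)) (.leaf 0x8617df7dd7df85f8617e186185f8617df7df)) (.node (.leaf 0x8617df85d7df7e185f85f8618617e17df7df) (.leaf 0x82082081e8a08228a282082082081e8228a0))) (.node (.node (.leaf 0x7df85f7dd86185f86185f8617e17df85f7df) (.leaf 0x86185f85f7df85f8df7e18617e17df86185f)) (.node (.leaf 0x8208a089e8208208a081e82081e7a0820822) (.leaf 0x7e17e185f85f7e18df7df85f7e186185f861)))) (.node (.node (.node (.node (.leaf 0x85f8617dd7e18618618617df8617e17df861) (.leaf 0x81e82279e8208228a082082082081e820822)) (.leaf 0x7df7df85d7df7df85f85f8617df7df85f7e1)) (.node (.leaf 0x82082079e81e8208a08228208208227a08a0) (.leaf 0x8617df7dd85f7df85f7e17df7e17e17df7df)))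 (.node (.node (.leaf 0x8a082289e8208208a082082089e8208a0820) (.leaf 0x82082079e8207a28a08208208207a08a2820)) (.node (.leaf 0x82082081e81e8228a08208228207a08207a2) (.leaf 0x81e82081e81e82089e8a081e82081e820820))))) (.node (.node (.node (.node (.node (.leaf 0x7df8617df85f7e18e17df7df7df7e185f7e1) (.leaf 0x8a082281e8228208a08a282082082082081e)) (.leaf 0x7a082281e8208208a08208a282081e8207a0)) (.node (.leaf 0x8617e17df7df7df8df7df7e185f7df86185f) (.leaf 0x82082081e8208a08a081e82282081e81e822))) (.node (.node (.leaf 0x82282079e8208208a082082281e82081e8a0) (.leaf 0x8a082081e8208208a08228208a08a08227a0)) (.node (.leaf 0x85f7e17df7e17df8e17df7df7e17df8617e1) (.leaf 0x81e82081e8a08208a08a08208207a082281e)))) (.node (.node (.node (.node (.leaf 0x82282281e8208208a08228228207a08a0820) (.leaf 0x8208a081e7a08208a07a28228208208207a0)) (.leaf 0x82081e79e8208208a27a08208208a08208a0)) (.node (.leaf 0x8a282089e8228208a08207a08208a0820820)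 (.leaf 0x85f7df7dd85f85f8617e18617e17df7e185f))) (.node (.node (.leaf 0x8618617dd85f8618617df8617df8617e185f) (.leaf 0x85f8617df8617e18e17df8617e1861861861)) (.node (.leaf 0x8617e17df85f85f8e17df85f7e185f86185f) (.leaf 0x82082082082082092081c820820820820820))))))) (.node (.node (.node (.node (.node (.node (.node (.leaf 0x8618617df8617df8df85f8617e17df8617df) (.leaf 0x7a082081e8208208a28208208208a27a081e)) (.leaf 0x86185f7df7df85f8df7e17df85f7e17e17df)) (.node (.leaf 0x7e18617dd7e185f8618617df7df7df85f85f) (.leaf 0x7a07a081e8208a08a081e7a08208207a0820))) (.node (.node (.leaf 0x8a281e81e8208a089e82082082082081e820) (.leaf 0x7e17e185d86185f86185f85f7df7df7df7e1)) (.node (.leaf 0x82082281e8a07a08a07a082082081e8a0820) (.leaf 0x7e18617dd85f7e185f7e185f7df7e185f85f)))) (.node (.node (.node (.node (.leaf 0x8208a081e7a08208a079e8228208208208a0) (.leaf 0x7e17e185d7df85f86186186185f85f85f861)) (.leaf 0x82082081e7a08228a282082082082281e7a0))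 (.node (.leaf 0x7a282081e7a08208a081e82081e81e820820) (.leaf 0x7df7df7dd7df7e185f86185f7df8617df7df))) (.node (.node (.leaf 0x82082089e8208208a07a079e8208208a0822) (.leaf 0x86185f85f86185f8e17e185f7e186185f861)) (.node (.leaf 0x81e82081e8208208a08208a08a082279e820) (.leaf 0x8207a281e82082089e81e8208a0822820820))))) (.node (.node (.node (.node (.node (.leaf 0x8208a081e82089e8a27a082082082082081e) (.leaf 0x85f7df85f8617e18df8617df86185f7e185f)) (.leaf 0x7a082089e82081e89e822822820820820820)) (.node (.leaf 0x7e185f85d7e186186186185f85f7df7e1861) (.leaf 0x8a082079e7a07a08a082082082082082079e))) (.node (.node (.leaf 0x7e17df85f8617df8df8617df7df861861861) (.leaf 0x82082081e8227a08a07a08a08208208227a0)) (.node (.leaf 0x8617e17dd8617df85f8617df8618617e1861) (.leaf 0x81e82089e8208208a082082282282081e7a0)))) (.node (.node (.node (.node (.leaf 0x82082081e8208a08a282081e8a08208a08a0) (.leaf 0x8a082281e81e8208a089e82082082082081e))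 (.leaf 0x8208a081e8208228a082081e82281e7a0820)) (.node (.leaf 0x8207a081e82081e8a082082282281e8a0820) (.leaf 0x7e185f7df86185f8e185f7e18617e17e17df))) (.node (.node (.leaf 0x7df7e185f8618618e186185f7e186186185f) (.leaf 0x8208a081e8a08a08a08208207a2820822820)) (.node (.leaf 0x8207a081e8208228a082081e81e8228a0820) (.leaf 0x85f85f7dd7e17e18617e185f85f85f7df7e1)))))) (.node (.node (.node (.node (.node (.node (.leaf 0x85f7e185d85f7df85f85f85f7e18617df7e1) (.leaf 0x7a082081e89e8208a082082282082089e820)) (.leaf 0x8a282081e82081e8a07a08208208207a08a0)) (.node (.leaf 0x8207a079e8208228a08207a07a08208207a0) (.leaf 0x820820820820720920820820820820820820))) (.node (.node (.leaf 0x85f8617dd86186185f7df85f8618617e17e1) (.leaf 0x7df86185f8618618df7e17e185f7df85f7e1)) (.node (.leaf 0x7df7df7dd7df7df85f85f7df8617e17df861) (.leaf 0x85f7df85d85f7df86185f7e17e17e185f85f)))) (.node (.node (.node (.node (.leaf 0x7e17df7df8617df8e185f8617e186185f85f)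 (.leaf 0x7a082081e8207a08a07a082281e7a0820820)) (.leaf 0x82082089e7a08208a08208227a089e820820)) (.node (.leaf 0x7df85f7df8618618df7df7e186185f7e1861) (.leaf 0x82082081e8207a08a082281e82081e822822))) (.node (.node (.leaf 0x85f7df85d85f8618617df85f7e1861861861) (.leaf 0x8617e185f85f85f8df7e17e17df85f85f861)) (.node (.leaf 0x8a082079e8a07a08a08208208208208207a2) (.leaf 0x81e82079e8208a08a08a28207a0820820820))))) (.node (.node (.node (.node (.node (.leaf 0x7df86185d86185f85f85f86185f86185f7e1) (.leaf 0x82281e81e8208208a08228228208a08a0820)) (.leaf 0x7e186185d7df85f8617df7df8617df7df861)) (.node (.leaf 0x82082081e7a08208a08207a081e7a08a07a0) (.leaf 0x82082281e8208a08a08208a08a07a0820822))) (.node (.node (.leaf 0x8617df85d7df85f8617e17df7e185f85f85f) (.leaf 0x8208a281e8208208a28228207a0822820820)) (.node (.leaf 0x85f7df7dd7df7e185f7df85f7e17df7e17e1) (.leaf 0x81e7a079e8a08208a28208208208208a0820)))) (.node (.node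 (.node (.node (.leaf 0x82082079e82079e8a08208208207a07a2820) (.leaf 0x82082081c820820820820820820920820820)) (.leaf 0x82082081e8228208a082279e7a2820820820)) (.node (.leaf 0x79e81e81e8207a089e820820820820822820) (.leaf 0x82282081e8a089e8a08208a2820820820820))) (.node (.node (.leaf 0x82081e89e82082089e7a08208208a08208a0) (.leaf 0x7df7df7df85f85f8e17df86186185f7df7df)) (.node (.leaf 0x7e185f7dd7df8618617df85f7e17df86185f) (.leaf 0x7a08a079e8208208a07a0820820822822820))))))))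

/-- A part of a store. -/
def st3 : Store :=
  (.node (.node (.node (.node (.node (.node (.node (.node (.leaf 0x8617df85f7e17e18df8617df7df7e17df7df) (.leaf 0x82082089e8208a28a08208208208a089e820)) (.leaf 0x86185f7df86185f8df7df7e17df86186185f)) (.node (.leaf 0x85f8617dd7e17e185f7e17e185f7df85f85f) (.leaf 0x7e18617df7e185f8df7df7df7e17df7e185f))) (.node (.node (.leaf 0x82082081e79e8a089e81e8208207a0820820) (.leaf 0x8617df85d7df7df85f8617e17df8617df861)) (.node (.leaf 0x7df85f85d7e185f85f7e185f85f8617e17df) (.leaf 0x82082289e8a08208a081e8a0820820822820)))) (.node (.node (.node (.node (.leaf 0x82082079e82089e8a08208208208a07a2820) (.leaf 0x7e17e185f7e17e18e17df8617e17df86185f)) (.leaf 0x8208a081e8a07a08a082082089e82081e820)) (.node (.leaf 0x82081e81e8a082089e82082282282082081e) (.leaf 0x82082081e8228208a081e8a28a2820820820))) (.node (.node (.leaf 0x7e185f7dd7e17e18617df7df85f7e185f861) (.leaf 0x7e17df85d86185f85f85f7e17df85f85f85f))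 (.node (.leaf 0x7e17e185f8617df8df85f86185f7df85f861) (.leaf 0x7a08a281e8a081e8a08208208207a0820820))))) (.node (.node (.node (.node (.node (.leaf 0x82082079e8a08208a082081e7a08a2820820) (.leaf 0x7a082079e7a08a08a08208208208208208a2)) (.leaf 0x7a082081e8208a08a07a081e8228a0820820)) (.node (.leaf 0x7a081e79e8208208a08208207a28207a0820) (.leaf 0x8a082081e89e8208a082081e8208207a2820))) (.node (.node (.leaf 0x8208a081e79e8208a08207a082081e82081e) (.leaf 0x7a081e81e8208208a08207a28208228208a0)) (.node (.leaf 0x85f7df7df8617df8df85f7e18617e1861861) (.leaf 0x85f85f7df7e17e18df85f85f86185f8617e1)))) (.node (.node (.node (.node (.leaf 0x7e17e17df85f7e18e17e17e17df86186185f) (.leaf 0x7e17e185d85f86185f7e18617e185f86185f)) (.leaf 0x82082081e7a082289e82082082082281e8a0)) (.node (.leaf 0x82082079e8208208a07a07a28208207a081e) (.leaf 0x85f7df85d8617e18617df7df85f85f85f85f))) (.node (.node (.leaf 0x7df86185f7df8618df7df7df7df85f7df861)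 (.leaf 0x85f7e17dd7df85f86185f85f7e17df85f861)) (.node (.leaf 0x8207a081e82089e8a28a082082082082081e) (.leaf 0x82082289e82082089e8a08208208a08208a0)))))) (.node (.node (.node (.node (.node (.node (.leaf 0x85f7e17df8618618df7e17e17e17df86185f) (.leaf 0x7df86185d7df7e18617df7e185f85f85f7e1)) (.leaf 0x7e17e17dd7e185f8617df8617e185f7df85f)) (.node (.leaf 0x86186185d7e185f85f7e18617df86185f85f) (.leaf 0x82082281e8207a28a08228208228208208a0))) (.node (.node (.leaf 0x7df85f7dd8617df85f7df85f7df7e17df7e1) (.leaf 0x7e185f85f85f85f8df7df7e185f7df7df85f)) (.node (.leaf 0x8207a079e8208208a081e82081e8a082081e) (.leaf 0x86186185f85f7e18df7df7e17e185f7e185f)))) (.node (.node (.node (.node (.leaf 0x7df86185f85f85f8e185f7df86185f7e185f) (.leaf 0x7e17df85f7df8618e17e185f7df85f861861)) (.leaf 0x82082089e81e82089e8208208a082082281e)) (.node (.leaf 0x7df85f7df7df8618df7e17df7e17df8617e1) (.leaf 0x8617e185f8618618df8617df8617e185f861)))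 (.node (.node (.leaf 0x7df85f7df85f8618df86185f8618617e17df) (.leaf 0x85f85f85f85f85f8e17df8617df85f7e1861)) (.node (.leaf 0x7e17df7df7e17e18e17e18617df85f7df7df) (.leaf 0x82082081e81e8208a081e7a28a2820820820))))) (.node (.node (.node (.node (.node (.leaf 0x7e17e185f7e18618e186185f85f7df85f7df) (.leaf 0x82282281e8208208a081e81e8207a08a0820)) (.leaf 0x7a082081e8208228a08207a082282082281e)) (.node (.leaf 0x8a282081e8208228a08a08208208207a08a0) (.leaf 0x82082081c820820820820820820820920820))) (.node (.node (.leaf 0x81e82079e8208208a082082281e8208228a0) (.leaf 0x81e82081e81e8208a28a081e820822820820)) (.node (.leaf 0x8618617df7e17df8e17e17e17e185f85f85f) (.leaf 0x7e17e185d85f8618617df8618618617df7e1)))) (.node (.node (.node (.node (.leaf 0x86186185f7e185f8e185f8617e18617e185f) (.leaf 0x8207a081e7a28208a08208a082081e820822)) (.leaf 0x8208a081e8208228a082081e81e81e8a0820)) (.node (.leaf 0x82282081e7a07a28a08207a2820820820820)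 (.leaf 0x82081e81e81e81e8a28207a08208207a0820))) (.node (.node (.leaf 0x86186185d7df86186185f85f7e17e17e17e1) (.leaf 0x82082081e8228a08a08a08a08208208227a0)) (.node (.leaf 0x82282081e82081e89e82082089e8a0820820) (.leaf 0x7df7df7dd86185f8617e17df7df85f7df7df))))))) (.node (.node (.node (.node (.node (.node (.node (.leaf 0x7e18617dd7df85f8617df8617df7e185f7e1) (.leaf 0x81e81e89e82081e8a082082082081e82081e)) (.leaf 0x85f7df85f86185f8df7e18618617df7df861)) (.node (.leaf 0x7e17df85f86185f8df7df7e186186185f7e1) (.leaf 0x8a082081e79e8208a082081e8208208a2820))) (.node (.node (.leaf 0x8227a081e8208a08a08208208208a28208a0) (.leaf 0x8207a279e81e8a08a0820822820820820820)) (.node (.leaf 0x82082079e8207a28a08208208208a089e820) (.leaf 0x8a082081e8a08208a28a07a08a0820820820)))) (.node (.node (.node (.node (.leaf 0x8208a081e8208208a282089e8208a0822820) (.leaf 0x85f7e185f85f7df8e17e185f7df8618617e1)) (.leaf 0x81e82081e7a08208a08a08208208a082281e))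 (.node (.leaf 0x8617df85f7e17e18e185f7df85f7df861861) (.leaf 0x82079e79e8227a08a082081e820820820820))) (.node (.node (.leaf 0x7a082081e79e8208a08208228208208a2820) (.leaf 0x82082079e81e8208a081e82082081e7a08a0)) (.node (.leaf 0x7a282081e8a08208a0822820822822820820) (.leaf 0x82081e81e8207a28a081e82081e8208207a0))))) (.node (.node (.node (.node (.node (.leaf 0x7a07a281e8a081e8a08208208208a0820820) (.leaf 0x7e186185f7e185f8e17e18617df7df7df861)) (.leaf 0x7a082081e8a08208a28a07a07a0820820820)) (.node (.leaf 0x82082081e7a081e8a081e8208a08208a0822) (.leaf 0x7df7df7df85f7df8e186185f7df85f7e185f))) (.node (.node (.leaf 0x8618617dd85f86185f7e186185f85f85f7e1) (.leaf 0x8207a089e8208208a08228208228a0820822)) (.node (.leaf 0x7e17df85d7e18618617df7e186185f861861) (.leaf 0x82082081e7a08208a08207a081e7a07a08a0)))) (.node (.node (.node (.node (.leaf 0x8617e185d7e17df85f7e17e185f7e17e17df) (.leaf 0x8208a081e82079e8a27a0820820820820822))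 (.leaf 0x7df8617df85f7e18df7e17df85f7df7e185f)) (.node (.leaf 0x82082081e82081e8a07a28a08207a2820820) (.leaf 0x7df7df7df8617e18e17e18618617e17e185f))) (.node (.node (.leaf 0x7e17df7df85f8618df85f8618617e17df861) (.leaf 0x82082079e79e81e8a07a0820822820820820)) (.node (.leaf 0x7df7e185f7e185f8e17df85f7df85f7e17df) (.leaf 0x82289e81e8208208a08a07a081e820820820)))))) (.node (.node (.node (.node (.node (.node (.leaf 0x7e17e185d7e185f8617df7df85f86185f7df) (.leaf 0x82081e81e8208228a07a08228a082081e820)) (.leaf 0x82282079e8208a08a089e8207a0820820820)) (.node (.leaf 0x8227a081e8228228a081e82082082081e820) (.leaf 0x85f7df85f7e17e18df7e185f7e17e1861861))) (.node (.node (.leaf 0x7e18617dd7e186185f86185f7e18617e185f) (.leaf 0x7e17df85d8617e185f7df85f7df7df861861)) (.node (.leaf 0x86186185f7e18618df85f7e17df7df85f85f) (.leaf 0x7df8617dd7e17e185f85f7e1861861861861)))) (.node (.node (.node (.node (.leaf 0x81e81e81e8208208a082281e8208a08a0820)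 (.leaf 0x7a282081e7a08208a081e820822822820820)) (.leaf 0x82082081e8228228a08208228207a082079e)) (.node (.leaf 0x7e17e185f7df8618df7e17e17df7df7e17df) (.leaf 0x82082081e8207a08a082281e82082282281e))) (.node (.node (.leaf 0x7df8617dd86185f8618617df8618618617df) (.leaf 0x82082089e8208208a07a07a28208208a081e)) (.node (.leaf 0x8617df7dd86185f85f7e185f85f7df7e17e1) (.leaf 0x82282081e82082089e81e7a082082082079e))))) (.node (.node (.node (.node (.node (.leaf 0x7df7e17df85f8618df7e185f7df85f85f7df) (.leaf 0x82082081e81e81e8a08208228208a082089e)) (.leaf 0x81e82081e82082089e8228a082082082089e)) (.node (.leaf 0x7e17e17dd7e185f85f7e18618618618617e1) (.leaf 0x7df85f7dd85f7df85f8617e17df7df7df85f))) (.node (.node (.leaf 0x7e18617dd85f7e18617df85f85f7df7e17e1) (.leaf 0x81e82281e8208208a082281e8208a07a0820)) (.node (.leaf 0x82082089e81e82089e8208207a0820822822) (.leaf 0x85f7df7df8618618e17e185f7e185f7e17e1)))) (.node (.node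 (.node (.leaf 0x7e185f85f7e17df8df85f7e186185f86185f) (.leaf 0x8a082081e8207a08a08a082281e7a0820820)) (.node (.leaf 0x82082089e8208208a08a07a28208208a0822) (.leaf 0x82089e89e81e7a08a0820822820820820820))) (.node (.node (.leaf 0x85f7df7dd86186185f85f85f7df85f85f7e1) (.leaf 0x8207a289e81e8a08a082081e820820820820)) (.node (.leaf 0x7df7df85d7df85f8617df85f7e17e17df7df) (.leaf 0x7a082081e8a28208a082081e82082089e820))))))))

/-- A part of a store. -/
def st4 : Store :=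
  (.node (.node (.node (.node (.node (.node (.node (.node (.leaf 0x8617e17df8617e18e17e185f7e17e185f7df) (.leaf 0x85f85f85d7e186186185f7df85f8618617e1)) (.leaf 0x85f7df85f7e185f8df8617e17e186185f85f)) (.node (.leaf 0x85f85f7dd7e186185f86186186186185f7df) (.leaf 0x7df85f7df7e17df8e17e17df86185f7e17df))) (.node (.node (.leaf 0x7e185f7dd8617df8618617df8617df7df7e1) (.leaf 0x7df7e185d7df85f8617e17e186185f7e17df)) (.node (.leaf 0x7a082081e8227a28a08208208a081e820820) (.leaf 0x82282081e8228208a27a081e82081e820820)))) (.node (.node (.node (.node (.leaf 0x82082079e82089e8a08208208207a08a2820) (.leaf 0x8208a081e8207a289e8a082082082082081e)) (.leaf 0x79e8a081e8208208a08208227a0820820822)) (.node (.leaf 0x82282081e8208208a08208a08a081e79e820) (.leaf 0x7df7e17df85f7df8df8617e17df7df8617e1))) (.node (.node (.leaf 0x7e17e17dd7e17e185f8617df8617e185f7df) (.leaf 0x7df85f85d8617df85f7df7e18617df85f861)) (.node (.leaf 0x8617df7df7df7df8e17df85f85f85f7e17e1)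 (.leaf 0x820820820820820920820820820824820820))))) (.node (.node (.node (.node (.node (.leaf 0x82082281e7a08a08a07a08208208227a0820) (.leaf 0x8617e17dd85f7df8617e18617e186185f861)) (.leaf 0x8a082081e82081e8a08207a082282081e822)) (.node (.leaf 0x85f85f85f8618618df86185f7e17df85f7df) (.leaf 0x85f8617df8617df8df7df7e17df7df7df861))) (.node (.node (.leaf 0x82081e81e8208a08a08208a07a07a0820822) (.leaf 0x85f8617dd85f7e185f7df7df7df85f7df7df)) (.node (.leaf 0x85f85f85f8617df8e17df7e18618617df85f) (.leaf 0x8a08a081e8207a08a081e7a08208208a0820)))) (.node (.node (.node (.node (.leaf 0x8207a081e81e8208a08a08207a08a08a0820) (.leaf 0x8617e17df7e17e18e18617df86185f7df7e1)) (.leaf 0x82082081e8207a08a082282282081e81e822)) (.node (.leaf 0x85f8617dd85f86186185f7e17e186185f7e1) (.leaf 0x82082281e7a07a08a07a082082081e7a0820))) (.node (.node (.leaf 0x7e17df85d85f8618617e17df7e17df7e17e1) (.leaf 0x7df7e17df85f7df8e185f7e185f7e17df85f))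 (.node (.leaf 0x8a082081e82081e8a08208a0822820822822) (.leaf 0x8a08a081e81e82089e8208208228208207a0)))))) (.node (.node (.node (.node (.node (.node (.leaf 0x82082281e8a08a08a07a08208208228a0820) (.leaf 0x85f8617df7e17e18e185f7e18617df7e185f)) (.leaf 0x7df7e17dd85f7df8617df7e17e17df7df7e1)) (.node (.leaf 0x8618617df7df7df8df86185f86185f7e185f) (.leaf 0x8208a281e8208208a28228208a081e820820))) (.node (.node (.leaf 0x8a08a081e82282089e8208208228208208a0) (.leaf 0x8a082079e82081e8a281e822820820820820)) (.node (.leaf 0x85f85f85d7e17e185f7df7e186185f7e17df) (.leaf 0x82082281e8207a08a08207a07a07a082081e)))) (.node (.node (.node (.node (.leaf 0x7df8617df7e18618df8617df86185f85f85f) (.leaf 0x7df85f7df8617e18df8617df7df85f7df7e1)) (.leaf 0x7e186185d85f7e185f7e17e18617df7df7df)) (.node (.leaf 0x8228a079e7a08208a28208208208207a0820) (.leaf 0x86185f7df7e18618e185f7e186186185f861))) (.node (.node (.leaf 0x7e186185f8617e18df7df85f7df7df7df7df)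 (.leaf 0x81e8a081e82281e8a082282082082081e820)) (.node (.leaf 0x82082081e8208228a07a27a082089e820820) (.leaf 0x820820820820820920824820820820820820))))) (.node (.node (.node (.node (.node (.leaf 0x81e82281e8208208a082281e8207a08a0820) (.leaf 0x8207a081e8228208a08a08207a07a08a0820)) (.leaf 0x7df86185f8618618e17df7e17df7e17e185f)) (.node (.leaf 0x89e7a081e8208208a08208227a0820820822) (.leaf 0x85f7df7df8617e18df8618617df8618617df))) (.node (.node (.leaf 0x8617df85f7e185f8e17df86185f85f85f85f) (.leaf 0x82282081e82082089e8227a08208208207a2)) (.node (.leaf 0x85f85f85f7e17e18df85f7e17df8617e1861) (.leaf 0x7df7e17dd7e186185f85f8617e17e17df7e1)))) (.node (.node (.node (.node (.leaf 0x8617df85d85f7e185f7df7e17e185f85f7e1) (.leaf 0x8a08a081e8207a08a08228a08208208a0820)) (.leaf 0x82081e89e8208208a28a08208207a08207a0)) (.node (.leaf 0x7df7df7dd7e17e185f7df7e17df85f7df861) (.leaf 0x85f8617dd8617e186185f86185f85f8617df)))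 (.node (.node (.leaf 0x8617df7dd85f7e18617e185f7df85f8617df) (.leaf 0x8a07a281e7a081e8a08208208208a0820820)) (.node (.leaf 0x7e17df7df86185f8e17e185f85f8618617df) (.leaf 0x8228a281e8208208a07a07a081e820820820))))))) (.node (.node (.node (.node (.node (.node (.node (.leaf 0x8228a081e82281e8a081e82082082081e820) (.leaf 0x82082081e8a08228a08228208a08207a0822)) (.leaf 0x7e185f7dd85f85f86186185f7df7e17e17df)) (.node (.leaf 0x7df7e185f7df7df8df7e17df7e185f86185f) (.leaf 0x82081e81e82089e8a082282081e8208208a0))) (.node (.node (.leaf 0x8a082281e8208208a08208a282081e8208a0) (.leaf 0x7df7e17dd7e17e18617df85f7df7df85f7df)) (.node (.leaf 0x7df7e185d8617df8618617e185f7df85f7df) (.leaf 0x8617e185f8617e18df7df7e17df7e18617e1)))) (.node (.node (.node (.node (.leaf 0x7df8617dd7df86185f85f8617df85f85f85f) (.leaf 0x8207a289e81e7a08a0820822820820820820)) (.leaf 0x82082081e89e7a08a28228208207a0820820)) (.node (.leaf 0x82282289e8208228a082082082081e820822)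 (.leaf 0x79e82081e7a08208a082282081e81e820820))) (.node (.node (.leaf 0x7df85f85d7df7e185f7df85f85f7df7df85f) (.leaf 0x8617e185f7e18618df7e185f7e185f7df85f)) (.node (.leaf 0x89e82081e8a08208a0822820822822820820) (.leaf 0x7e17e185d85f85f8617e17e17df7e17df85f))))) (.node (.node (.node (.node (.node (.leaf 0x82082079e81e8208a081e8208208227a07a0) (.leaf 0x82081e81e8207a08a08207a07a07a0820822)) (.leaf 0x8a08a081e8228208a28208208228208207a0)) (.node (.leaf 0x7e17e185d7df86185f8617e18617e17e1861) (.leaf 0x8a082081e8208208a282082082079e7a0822))) (.node (.node (.leaf 0x7df7e185f85f7e18df85f7df7df8617e17df) (.leaf 0x8a082081e8207a08a07a082281e8a0820820)) (.node (.leaf 0x8a27a081e8208208a082081e7a0820820822) (.leaf 0x82082081e7a08208a08208a081e7a07a07a0)))) (.node (.node (.node (.node (.leaf 0x82282081e8208208a08208a07a081e7a2820) (.leaf 0x82082081e81e8208a081e79e7a2820820820)) (.leaf 0x85f85f85d85f7e185f7e17df7e17df86185f))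 (.node (.leaf 0x7e185f7df8617df8df7df7df85f7df8617e1) (.leaf 0x82082081e8207a08a082282282082281e81e))) (.node (.node (.leaf 0x7e17e185f86185f8df7e185f7e17df8617e1) (.leaf 0x7df85f7dd85f85f85f7df7df8617df7e17df)) (.node (.leaf 0x82082289e7a08208a081e8a082082081e820) (.leaf 0x82082081c820920820820820820820820820)))))) (.node (.node (.node (.node (.node (.node (.leaf 0x82082281e8228208a082082081e7a281e820) (.leaf 0x82081e81e8208228a07a08227a0820822820)) (.leaf 0x8a082081e82289e8a08208207a081e820820)) (.node (.leaf 0x8207a081e81e8208a07a08207a08a07a0820) (.leaf 0x82082289e8a08208a08227a0820820822820))) (.node (.node (.leaf 0x81e82279e82081e8a082082082081e82081e) (.leaf 0x7df86185f8617df8df86185f85f85f8617df)) (.node (.leaf 0x85f7e17df7df7e18df8617e17df85f7df85f) (.leaf 0x7e17df85d85f85f85f7e185f7df86185f7e1)))) (.node (.node (.node (.node (.leaf 0x7df7df85d86185f85f7df8617e185f7e17e1) (.leaf 0x81e82081e82082089e81e7a08208208207a2))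 (.leaf 0x82282081e81e82089e8a082282081e820820)) (.node (.leaf 0x7df7e185f7df85f8df85f7e185f85f85f7df) (.leaf 0x82082081e8207a08a081e81e82082281e81e))) (.node (.node (.leaf 0x85f7e17dd7df7df85f7df8617df7e17df85f) (.leaf 0x7e17df7dd8617df85f7e18617df8617e185f)) (.node (.leaf 0x8208a081e8228208a08a08207a08a08a0820) (.leaf 0x8617e17dd7df85f85f7e17df85f7e185f861))))) (.node (.node (.node (.node (.node (.leaf 0x7e18617dd8617df86185f8617e18617e17e1) (.leaf 0x7df85f7df85f7df8e17df7e17e17df86185f)) (.leaf 0x7df85f7dd7df85f85f85f85f7e18618617e1)) (.node (.leaf 0x82082079e81e8208a082282082081e7a07a0) (.leaf 0x82082081e8208a08a082282282082281e822))) (.node (.node (.leaf 0x82089e81e8208208a082082082082079e8a2) (.leaf 0x82082081e81e8208a082289e7a2820820820)) (.node (.leaf 0x8617e17dd85f7e185f7e17e17df7df7e1861) (.leaf 0x7a082081e82082089e8208208207a27a081e)))) (.node (.node (.node (.node (.leaf 0x82082079e8208208a08a079e8208207a081e)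 (.leaf 0x82282281e8208208a082281e8208a08a0820)) (.leaf 0x7a082081e82279e8a08208208a0822820820)) (.node (.leaf 0x86186185f85f8618e185f7df7df861861861) (.leaf 0x81e82081e8a089e8a08207a2820820820820))) (.node (.node (.leaf 0x85f86185d7df85f8617e185f86186185f7e1) (.leaf 0x7e17e17df85f85f8df85f85f85f7df7e17df)) (.node (.leaf 0x8208a081e82082089e82089e8207a0822820) (.leaf 0x7a082079e82081e89e81e822820820820820))))))))

/-- A part of a store. -/
def st5 : Store :=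
  (.node (.node (.node (.node (.node (.node (.node (.node (.leaf 0x85f7df85f85f7df8e17df7e185f7df85f7e1) (.leaf 0x7a07a081e82282089e82082081e8208207a0)) (.leaf 0x8a081e79e8208208a08208208a28207a0820)) (.node (.leaf 0x7df7df7df7e17e18df85f7e18618617df7df) (.leaf 0x82089e89e8227a08a082081e820820820820))) (.node (.node (.leaf 0x79e7a081e8208208a08208228a0820820822) (.leaf 0x82082281e8228208a082082082279e81e820)) (.node (.leaf 0x7e17e185d85f7e185f85f85f85f85f85f7df) (.leaf 0x8207a081e8208a28a28a0820820820820822)))) (.node (.node (.node (.node (.leaf 0x82082081e7a28a089e81e8208208a0820820) (.leaf 0x82082081e79e7a08a28228208208a0820820)) (.leaf 0x82082081e8a27a08a281e8208207a0820820)) (.node (.leaf 0x85f85f7df8617e18e17e17df8617df85f861) (.leaf 0x8228a281e8208208a07a08a0822820820820))) (.node (.node (.leaf 0x86185f7df7e18618df8617e17e185f7e17df) (.leaf 0x7e185f7dd85f86185f8617df7e185f85f7df)) (.node (.leaf 0x86185f7dd85f7df86186186185f85f7e1861)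 (.leaf 0x8207a081e89e8208a08208a082082282081e))))) (.node (.node (.node (.node (.node (.leaf 0x8208a081e89e8208a08207a082081e820822) (.leaf 0x82079e81e8208208a082082082082089e8a2)) (.leaf 0x7a082281e8208208a082089e82081e8208a0)) (.node (.leaf 0x82082081e8208208a27a282081e8207a2820) (.leaf 0x8617df7dd7e186186186185f7e17df7df7df))) (.node (.node (.leaf 0x86185f85f85f85f8df8617e18618617e1861) (.leaf 0x82282089e8207a08a07a28207a0820820820)) (.node (.leaf 0x8617df7df8617e18df7e17e17e18617df861) (.leaf 0x82081e81e8208a08a08207a07a07a082081e)))) (.node (.node (.node (.node (.leaf 0x7e17df85f7e18618df8617e185f85f7df861) (.leaf 0x81e82081e8208208a28227a08208208207a2)) (.leaf 0x85f85f85d7df7e186185f85f7e185f85f7df)) (.node (.leaf 0x8617e185f7e17e18df85f86185f85f7e17df) (.leaf 0x85f8617dd7e17e18617df7e17df7e17e17e1))) (.node (.node (.leaf 0x7df7df7df7e18618df7e17df7df8617e185f) (.leaf 0x8a082081e8a08208a28a08a07a0820820820))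 (.node (.leaf 0x82082081e8208208a289e82081e8207a2820) (.leaf 0x7df7e17dd8617e185f8617df7df85f86185f)))))) (.node (.node (.node (.node (.node (.node (.leaf 0x7e186185d7e17df8617df85f7df7e17e185f) (.leaf 0x7df7df7dd8617df85f8617e17e186185f7e1)) (.leaf 0x8a082281e8208208a082079e82081e8208a0)) (.node (.leaf 0x8618617df8617e18df8617e185f85f861861) (.leaf 0x8208a289e81e8a08a0820822820820820820))) (.node (.node (.leaf 0x82082079e8a08208a082081e7a079e820820) (.leaf 0x7e17e185f7df7e18e18617df7e17e18617e1)) (.node (.leaf 0x82081e81e82081e8a08a08227a0820822820) (.leaf 0x85f85f85f8617e18e17e18617df7e17df7e1)))) (.node (.node (.node (.node (.leaf 0x7e17df7df85f7e18df7e185f7df7e17e17e1) (.leaf 0x85f86185d7df7df85f86186185f85f7df7df)) (.leaf 0x81e82081e8208228a282082079e8a0820820)) (.node (.leaf 0x82082081e79e8a089e8228208208a0820820) (.leaf 0x85f7df85d7df7e185f7df7e185f7e1861861))) (.node (.node (.leaf 0x7e185f7df7e17df8df85f85f7df8617e17df)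 (.leaf 0x7e17df7dd7df86185f85f7e185f86185f7e1)) (.node (.leaf 0x85f7df85d7e17e185f86185f85f7df8617df) (.leaf 0x7e185f7df7df8618df86185f7df7df7df85f))))) (.node (.node (.node (.node (.node (.leaf 0x82082081e8208208a28a282081e8208a2820) (.leaf 0x82082081e8a081e8a081e8208a08207a0822)) (.leaf 0x7a082081e8208228a08208a081e82081e822)) (.node (.leaf 0x8a28a081e8208208a08208228a082082081e) (.leaf 0x820820820820820920820820820820720820))) (.node (.node (.leaf 0x7a082081e8207a08a08a081e81e7a0820820) (.leaf 0x8207a081e8a08208a07a28228208208207a0)) (.node (.leaf 0x85f85f7df8617df8e17df85f7df85f85f7df) (.leaf 0x81e8a081e8207a08a08208208207a28208a0)))) (.node (.node (.node (.node (.leaf 0x8617df85f8618618df85f8617e185f861861) (.leaf 0x82082281e7a082089e82081e822820820822)) (.leaf 0x85f7e185d7df7df85f7df7df8617df85f7df)) (.node (.leaf 0x7a082079e8a07a08a08208208208208208a2) (.leaf 0x86185f85f85f8618df85f8617df7e17e17df)))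 (.node (.node (.leaf 0x85f8617df7df85f8e18617e18618617df7df) (.leaf 0x82282079e8207a08a079e8207a0820820820)) (.node (.leaf 0x82082081e8207a08a282081e8a08208a07a0) (.leaf 0x8208a079e82081e8a08208a08a08208207a0))))))) (.node (.node (.node (.node (.node (.node (.node (.leaf 0x8617df7dd7e185f85f8617df7df8618617df) (.leaf 0x7a082079e7a07a08a08208208208208207a2)) (.leaf 0x8a08a081e8208a08a08227a08208208a0820)) (.node (.leaf 0x7e186185f85f85f8e17df85f85f85f85f7e1) (.leaf 0x8a081e81e81e8208a08a282082082082081e))) (.node (.node (.leaf 0x8a082289e8208208a08208208a28207a0820) (.leaf 0x82082279e7a08208a081e8a0820820822820)) (.node (.leaf 0x82082089e8207a28a08208208208a079e820) (.leaf 0x82082081e79e7a089e8228208207a0820820)))) (.node (.node (.node (.node (.leaf 0x7e186185f7df8618df85f85f7e185f8617df) (.leaf 0x7e186185d85f7e18617df7e17e17e1861861)) (.leaf 0x82082089e79e8228a08a082081e820820820)) (.node (.leaf 0x85f8617dd85f7df85f7e185f8617df7df861)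 (.leaf 0x82082281e8a08208a282082281e820820822))) (.node (.node (.leaf 0x7a082081e82081e8a08207a082282081e81e) (.leaf 0x82082081e7a081e8a081e8208a08207a081e)) (.node (.leaf 0x89e82081e8a08208a082282081e81e820820) (.leaf 0x81e79e81e8208208a08a07a081e820820820))))) (.node (.node (.node (.node (.node (.leaf 0x7a07a079e8208208a08a0820820822822820) (.leaf 0x7df86185f7e185f8df85f7e18617e17df861)) (.leaf 0x81e82081e8a08a28a08208a2820820820820)) (.node (.leaf 0x85f86185d7e17df8617e17df7df85f8617df) (.leaf 0x7e185f7df7e18618e17e17e185f7df86185f))) (.node (.node (.leaf 0x86185f7dd86185f8618617e17e18617df85f) (.leaf 0x81e82089e8208208a082081e81e8208228a0)) (.node (.leaf 0x7df85f85d85f7df86185f85f7e17df7e1861) (.leaf 0x82082081e7a08208a08207a08228a08a07a0)))) (.node (.node (.node (.node (.leaf 0x85f8617df7e18618df7df7df85f7e1861861) (.leaf 0x82082081e82081e8a08a27a082089e820820)) (.leaf 0x7df7df7dd7df7e186185f85f85f85f861861))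 (.node (.leaf 0x81e7a081e8207a08a08208208207a28207a0) (.leaf 0x7e18617df85f85f8df7e17e186185f8617df))) (.node (.node (.leaf 0x85f85f85d7df8618617e186185f85f86185f) (.leaf 0x82082081e7a081e89e82082082081e81e8a0)) (.node (.leaf 0x8207a081e82081e8a082081e82281e7a0820) (.leaf 0x8207a289e8227a08a082081e820820820820)))))) (.node (.node (.node (.node (.node (.node (.leaf 0x82082079e81e8208a081e8208208228a08a0) (.leaf 0x8617df7dd8617e186185f7e17df861861861)) (.leaf 0x8a082081e81e89e8a08208207a0822820820)) (.node (.leaf 0x81e82081e7a08208a07a08208207a081e822) (.leaf 0x85f7e185f7df85f8e17df7e17e17df7df85f))) (.node (.node (.leaf 0x85f7e185f8618618e17df85f7df7df85f861) (.leaf 0x7df7e185d85f7e185f7df7df86185f7e1861)) (.node (.leaf 0x7e17df85d7df7df85f7df7e17e17df7e185f) (.leaf 0x7df7e185d8617e186185f8617e185f85f861)))) (.node (.node (.node (.node (.leaf 0x7e185f85d7e186185f85f85f7df7e185f7df) (.leaf 0x79e82081e7a08208a081e82082281e820820))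 (.leaf 0x82082081e8207a08a0822822820822822822)) (.node (.leaf 0x85f85f85d8617df85f8617e185f86186185f) (.leaf 0x82082081e8207a08a081e81e82081e81e822))) (.node (.node (.leaf 0x7df85f85d86186185f85f85f86185f86185f) (.leaf 0x8617df7dd7e186185f85f85f8617e1861861)) (.node (.leaf 0x8a081e79e8208208a082082089e8208a0820) (.leaf 0x82282081e8a079e8a08207a2820820820820))))) (.node (.node (.node (.node (.node (.leaf 0x81e82081e8228a08a082082081e8208a081e) (.leaf 0x7e185f7dd7e18618618617e17e17e18617e1)) (.leaf 0x8208a081e7a08a08a082082089e82081e820)) (.node (.leaf 0x7a082081e82289e8a08208208a081e820820) (.leaf 0x82082081c82082082081c820820820820820))) (.node (.node (.leaf 0x7df85f7dd86185f85f8618618617e17e1861) (.leaf 0x82082081e8a081e8a28208208208228228a0)) (.node (.leaf 0x8208a081e82082089e8207a28207a0822820) (.leaf 0x81e81e79e82081e8a082082082082282081e)))) (.node (.node (.node (.node (.leaf 0x7df85f85f8617df8df85f7e17df7e185f7df)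 (.leaf 0x89e82081e7a08208a082282081e822820820)) (.leaf 0x8228a081e81e8228a081e82082082081e820)) (.node (.leaf 0x81e82081e7a079e8a08207a2820820820820) (.leaf 0x82082279e8a08208a08227a082082081e820))) (.node (.node (.leaf 0x81e81e81e89e8208a08208207a08208207a0) (.leaf 0x8207a081e8208a289e8a082082082082081e)) (.node (.leaf 0x85f86185f85f8618e17df85f7e18617df7df) (.leaf 0x7e18617df8618618df8617df7df7e18617df))))))))

/-- A part of a store. -/
def st6 : Store :=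
  (.node (.node (.node (.node (.node (.node (.node (.node (.leaf 0x8617e17df86185f8df85f7e186185f7df85f) (.leaf 0x7a089e81e7a081e8a08208208207a0820820)) (.leaf 0x8a082081e82082089e82082082089e8a081e)) (.node (.leaf 0x7e18617df8618618e185f7df85f7df7df861) (.leaf 0x82082081e8208a08a081e82282081e82281e))) (.node (.node (.leaf 0x7a282081e8208228a07a08208208208a07a0) (.leaf 0x82081e81e82281e8a28208a08208207a0820)) (.node (.leaf 0x85f7df85f7e17df8e17e17df7df85f7df861) (.leaf 0x7df7df7dd7e186185f8617df86185f7e17e1)))) (.node (.node (.node (.node (.leaf 0x85f7e185d85f85f85f7e186185f8617e1861) (.leaf 0x7e186185d7df7df8618617e17df7df7e17e1)) (.leaf 0x82082081e8208a08a282081e8a08207a07a0)) (.node (.leaf 0x82282081e7a08208a07a08208208a082281e) (.leaf 0x7df7e17dd85f7df85f7e17e18617e186185f))) (.node (.node (.leaf 0x7df7df7dd8617df86185f7e186185f7e185f) (.leaf 0x8a082081e89e8208a082082282082079e820)) (.node (.leaf 0x85f7df7dd85f7e18618617df7e185f7df861)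 (.leaf 0x8207a081e7a08208a079e8228208208207a0))))) (.node (.node (.node (.node (.node (.leaf 0x82082081e8a081e89e82082082081e8228a0) (.leaf 0x82082089e7a08208a082081e7a079e820820)) (.leaf 0x82082081e81e8228a082081e8208a082089e)) (.node (.leaf 0x7df8617dd7df7df85f7df7df7df7df861861) (.leaf 0x7e185f7dd85f7df8617df8618617e17df85f))) (.node (.node (.leaf 0x7df7e185f85f7df8df86185f8617e17e1861) (.leaf 0x7e18617df7df7df8e17e185f7df7df8617df)) (.node (.leaf 0x85f7e185f7e18618df8617df7df85f8617e1) (.leaf 0x82082081e81e7a08a07a08a08208208228a0)))) (.node (.node (.node (.node (.leaf 0x82082081e7a08228a081e8207a08208a0822) (.leaf 0x82082089e8207a089e8207a0822822820820)) (.leaf 0x8a082081e7a082089e8a07a08a0820820820)) (.node (.leaf 0x86185f85d7e186185f7e185f7e185f8617e1) (.leaf 0x85f85f85d7e17e18617e17e17e186185f861))) (.node (.node (.leaf 0x7e18617df7e17e18df85f8617e185f7df861) (.leaf 0x81e82081e8208208a281e7a08208208208a2))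 (.node (.leaf 0x8a082079e7a07a08a08208208208208208a2) (.leaf 0x8227a081e8207a08a08208208208a28207a0)))))) (.node (.node (.node (.node (.node (.node (.leaf 0x8207a079e8208208a081e82081e7a0820822) (.leaf 0x7df86185d7e18618617df8617e18618617df)) (.leaf 0x85f85f7df7df85f8df86185f8617e185f861)) (.node (.leaf 0x8617df85d8617e185f86185f7e186185f85f) (.leaf 0x820820820820820920720820820820820820))) (.node (.node (.leaf 0x82082281e82081e8a08a08227a082081e820) (.leaf 0x8a08a079e8208208a08a082082081e81e820)) (.node (.leaf 0x82082089e8208208a07a07a28208207a0822) (.leaf 0x8618617df85f7e18e17e185f7df85f7df861)))) (.node (.node (.node (.node (.leaf 0x8617e17dd7e185f8618618617df7e17e1861) (.leaf 0x7df7e17dd7e185f85f8617e185f8617df85f)) (.leaf 0x81e82089e8207a08a08a28207a0820820820)) (.node (.leaf 0x85f85f7dd85f7e185f7e186185f7e17e17df) (.leaf 0x86186185f8617e18e185f85f86185f85f85f))) (.node (.node (.leaf 0x82082281e8a082089e82081e81e820820822)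 (.leaf 0x7df8617dd7e185f8617e185f7e17df7e17e1)) (.node (.leaf 0x8208a081e81e8208a08a08208a07a07a0820) (.leaf 0x8208a279e8227a08a082081e820820820820))))) (.node (.node (.node (.node (.node (.leaf 0x79e82081e82081e8a08a08208208207a07a0) (.leaf 0x82079e81e8208208a08208208208207a28a2)) (.leaf 0x82082089e8208a089e8208a081e81e820820)) (.node (.leaf 0x8a07a081e81e8208a28208208228208207a0) (.leaf 0x82082082082082092082081c820820820820))) (.node (.node (.leaf 0x81e82079e8207a08a07a28207a0820820820) (.leaf 0x7e185f85d8618618617e17df7df86186185f)) (.node (.leaf 0x7e18617dd7df7df85f85f85f7e17df7df7df) (.leaf 0x7e185f7df8617e18e17df85f8618617df7e1)))) (.node (.node (.node (.node (.leaf 0x8228a089e8a082089e8208208208208a0820) (.leaf 0x8207a081e8a08208a08a281e8208208207a0)) (.leaf 0x7e17e17df7df7df8df8617e186186185f861)) (.node (.leaf 0x89e7a081e8208208a08208228a082082081e) (.leaf 0x85f7df7dd7e185f8617df85f86185f8617df)))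 (.node (.node (.leaf 0x85f7df7dd7e17df85f85f86185f8617e17e1) (.leaf 0x7df7df7dd7e185f85f85f85f7df7df7e185f)) (.node (.leaf 0x81e82081e8a079e8a082079e820820820820) (.leaf 0x820820820820820920820820820920820820))))))) (.node (.node (.node (.node (.node (.node (.node (.leaf 0x8617e17dd86185f85f7df7e17df8617df7e1) (.leaf 0x82082081e7a08208a08207a081e8a07a07a0)) (.leaf 0x8617df7dd85f85f8618617e17df7df85f7e1)) (.node (.leaf 0x7e186185d7df85f85f7e17df7e17e18617df) (.leaf 0x820820820720820920820820820820820820))) (.node (.node (.leaf 0x82282081e8a08a28a08207a2820820820820) (.leaf 0x8207a081e7a28208a08208a082082282081e)) (.node (.leaf 0x8617df7df8618618e18617df7df85f85f85f) (.leaf 0x86186185f8617df8e18617df7df7df85f7e1)))) (.node (.node (.node (.node (.leaf 0x8207a089e8208208a081e82081e7a082081e) (.leaf 0x82081e81e8207a08a08208a08a08a082081e)) (.leaf 0x81e82289e8208228a082082082081e82081e)) (.node (.leaf 0x8617df7dd7e17df8617e17e17e185f7e17e1)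 (.leaf 0x7df7e17dd7df85f8617e185f7df86186185f))) (.node (.node (.leaf 0x7df86185f86185f8e17e18618618617e17e1) (.leaf 0x82081e81e7a08a08a07a08208208228a0820)) (.node (.leaf 0x8207a081e7a08208a08a281e8208208208a0) (.leaf 0x82081e81e7a08208a282082281e820820822))))) (.node (.node (.node (.node (.node (.leaf 0x81e82081e8a08208a07a08208207a081e81e) (.leaf 0x8208a281e82082089e81e8208a081e820820)) (.leaf 0x7a082089e8a08a08a08208208208208208a2)) (.node (.leaf 0x86186185d7e17e185f8617df7df7e1861861) (.leaf 0x82282081e8208208a08208a08a081e8a2820))) (.node (.node (.leaf 0x7a082089e8208228a281e81e820820820820) (.leaf 0x81e82089e8207a08a079e8207a0820820820)) (.node (.leaf 0x7df86185f85f7df8e17e17e17df85f7df7df) (.leaf 0x81e82089e8208208a082081e8228208227a0)))) (.node (.node (.node (.node (.leaf 0x82082079e82079e8a08208208207a089e820) (.leaf 0x8a081e81e81e8208a079e82082082082081e)) (.leaf 0x82082079e7a08208a08208227a08a2820820))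 (.node (.leaf 0x82082081e8208228a07a28a08208a2820820) (.leaf 0x7df8617df85f85f8df86186185f85f7df861))) (.node (.node (.leaf 0x7df7df7df85f85f8df7e18617e1861861861) (.leaf 0x82082081e8208a089e8208228a08207a07a0)) (.node (.leaf 0x85f7e185f86185f8e17e17df86185f85f7df) (.leaf 0x82081e81e8208a08a08208a08a07a082081e)))))) (.node (.node (.node (.node (.node (.node (.leaf 0x7e186185f8617df8e17df7df7e18618617df) (.leaf 0x82082079e79e81e8a08a082081e820820820)) (.leaf 0x8a282081e82081e8a08a08208208208a08a0)) (.node (.leaf 0x8a082081e82082089e82082082089e7a0822) (.leaf 0x7e17e17dd7df86185f86185f7df7df8617e1))) (.node (.node (.leaf 0x7df7e185f85f85f8e17e186185f7df86185f) (.leaf 0x7df7df85d7df7e186185f7e17e18617e17e1)) (.node (.leaf 0x7e185f85d85f7df8617df7df7df7df85f7df) (.leaf 0x7e18617dd85f7df85f7df7df86186185f7e1)))) (.node (.node (.node (.node (.leaf 0x7df7df85d86185f8617e186186186185f85f) (.leaf 0x7a082081e8a082089e7a08a08a0820820820))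 (.leaf 0x86185f85f85f7df8df7df7df7df8617df7e1)) (.node (.leaf 0x85f85f85d7e17df8617df86185f7e185f7df) (.leaf 0x82082081e82081e8a079e7a082089e820820))) (.node (.node (.leaf 0x7e185f85f8618618e18617df86185f8617e1) (.leaf 0x85f7e185f7e17df8e17df86185f7e17e1861)) (.node (.leaf 0x82082081e7a08228a08228208a08207a081e) (.leaf 0x82082081e8228a08a08a07a082082081e7a0))))) (.node (.node (.node (.node (.node (.leaf 0x7a282081e82081e8a08a08208208208a07a0) (.leaf 0x82082089e82282089e8208208a082081e81e)) (.leaf 0x82282081e8208208a28228a08208208207a2)) (.node (.leaf 0x8207a081e82081e8a082081e81e8227a0820) (.leaf 0x82282081e8228a08a08208208228207a0822))) (.node (.node (.leaf 0x82082081e81e81e8a08208228207a08208a2) (.leaf 0x720820820820820920820820820820820820)) (.node (.leaf 0x86185f85d7e185f8617e17df7df7e17df7e1) (.leaf 0x7a082081e82082089e82082082079e7a0822)))) (.node (.node (.node (.node (.leaf 0x7df85f85f85f7e18e17e17df7e18617e1861)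 (.leaf 0x8207a081e7a08208a079e81e8208208208a0)) (.leaf 0x81e8a079e8a082089e8208208208208a0820)) (.node (.leaf 0x86185f85f8617df8df8618617df85f7df85f) (.leaf 0x82082081e8228a08a07a08a08208208228a0))) (.node (.node (.leaf 0x8207a089e8208208a081e8208228a082081e) (.leaf 0x82082081e8208a08a081e81e82081e822822)) (.node (.leaf 0x7e17df7dd7df85f85f8618617e17e185f85f) (.leaf 0x82282081e8208208a08208a07a082279e820))))))))

/-- A part of a store. -/
def st7 : Store :=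
  (.node (.node (.node (.node (.node (.node (.node (.node (.leaf 0x8617df7dd7e17df85f7df7e186186185f85f) (.leaf 0x82082089e8208a28a08208208207a08a2820)) (.leaf 0x86185f7df85f7df8e17e18617e18617e17df)) (.node (.leaf 0x86185f7dd7e17df85f86185f85f7e17df85f) (.leaf 0x7df85f7df7df85f8df7df85f85f85f86185f))) (.node (.node (.leaf 0x82081e81e7a08a08a07a082082081e7a0820) (.leaf 0x8618617dd85f7df86185f7df7df7e17df861)) (.node (.leaf 0x85f7e17df7df8618df7df7df86185f7e17df) (.leaf 0x82082281e8208a08a08208a08a08a082081e)))) (.node (.node (.node (.node (.leaf 0x7df7e17df7e185f8e17df7e186186186185f) (.leaf 0x82082289e7a08208a08227a082082081e820)) (.leaf 0x82082081e8a082289e8208208208228228a0)) (.node (.leaf 0x7df7e185d7df86185f7e186185f7e185f7df) (.leaf 0x82082081e81e8208a081e89e79e820820820))) (.node (.node (.leaf 0x81e81e81e8208208a081e8228207a07a0820) (.leaf 0x85f7e185f7e185f8df85f85f8617df86185f)) (.node (.leaf 0x82082081e8208208a27a282082282079e820)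 (.leaf 0x7a082079e8a07a08a082082082082082079e))))) (.node (.node (.node (.node (.node (.leaf 0x82082081e8a08208a08208a081e7a07a08a0) (.leaf 0x82082079e8a08208a08208228a079e820820)) (.leaf 0x82082089e89e8228a07a082081e820820820)) (.node (.leaf 0x7df85f7df8617df8df85f85f8617df7df85f) (.leaf 0x82082089e8208208a07a089e8208207a0822))) (.node (.node (.leaf 0x7df85f85f7df7e18e186185f8617df86185f) (.leaf 0x81e82081e82082289e8208207a28a0820820)) (.node (.leaf 0x8617e185f85f7e18e185f85f85f7e17df7e1) (.leaf 0x82081e81e8208a08a08207a08a07a0820822)))) (.node (.node (.node (.node (.leaf 0x79e7a081e8208208a08208227a082082081e) (.leaf 0x81e7a281e8208208a07a08a0822820820820)) (.leaf 0x81e82081e81e8208a28a082282081e820820)) (.node (.leaf 0x86185f85f7df7df8df85f85f85f7df85f7df) (.leaf 0x7e18617df85f7df8e18617df85f8617e17e1))) (.node (.node (.leaf 0x7df7e17dd8617df86186185f7e17e17df85f) (.leaf 0x81e82081e7a079e8a082089e820820820820))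 (.node (.leaf 0x81e82081e8208208a08207a08a08227a2820) (.leaf 0x7df7e185f7df7e18e17e185f7df7e17df85f)))))) (.node (.node (.node (.node (.node (.node (.leaf 0x7e17e185d8617df85f7df8617e17e185f7df) (.leaf 0x7a082081e82081e8a08208a082282081e822)) (.leaf 0x8a082081e8208208a08228208a07a081e7a0)) (.node (.leaf 0x85f7df7dd7e17e186185f7e18617df85f7e1) (.leaf 0x82082081e8228208a08228a289e820820820))) (.node (.node (.leaf 0x82082079e8a08208a082081e8a07a2820820) (.leaf 0x7e17e185f8617e18df8617e17e185f85f7df)) (.node (.leaf 0x8208a079e8208208a081e82081e8a0820822) (.leaf 0x85f85f85f86185f8e18617df7df8617e17df)))) (.node (.node (.node (.node (.leaf 0x7df7df85d85f85f85f8617df7e18617e185f) (.leaf 0x8207a081e7a08208a089e8228208208208a0)) (.leaf 0x81e82081e8a08208a08a08208208a081e81e)) (.node (.leaf 0x7df85f85f85f7df8df7e185f7df7df85f861) (.leaf 0x82082281e82079e8a081e82081e8208207a0))) (.node (.node (.leaf 0x7df7df85d86186185f7e17e185f7df7e185f)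 (.leaf 0x7e186185d86185f85f7df7e18618617e185f)) (.node (.leaf 0x7e17df7df7df8618e17e17e18618617e17e1) (.leaf 0x8a07a081e81e82089e82082081e8208207a0))))) (.node (.node (.node (.node (.node (.leaf 0x82082079e8208208a07a079e8208208a081e) (.leaf 0x82082281e81e8228a28208a08208208a0820)) (.leaf 0x7a282281e8207a089e820820820820822820)) (.node (.leaf 0x8208a089e8208228a08208a08a08208207a0) (.leaf 0x82282281e8208208a08228228208a07a0820))) (.node (.node (.leaf 0x7a082081e8208208a08228207a07a081e7a0) (.leaf 0x7e185f85f86185f8df86185f85f7e17df7e1)) (.node (.leaf 0x8618617df7df7e18e18617df85f7e185f85f) (.leaf 0x7a082089e8a08a08a082082082082082079e)))) (.node (.node (.node (.node (.leaf 0x85f86185f7e18618e17e18618617e185f85f) (.leaf 0x82282081e81e8208a28a081e82081e820820)) (.leaf 0x8207a081e82082089e8207a28207a081e820)) (.node (.leaf 0x7e185f85f7e17e18df8618617df7df8617e1) (.leaf 0x82082081e82081e8a079e7a08207a2820820)))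 (.node (.node (.leaf 0x85f7df85d7df85f85f85f85f85f86185f85f) (.leaf 0x79e82081e8208228a08a08208208207a08a0)) (.node (.leaf 0x7a082081e89e8208a08208228208207a2820) (.leaf 0x85f8617dd7df7e185f85f85f85f7e185f7e1))))))) (.node (.node (.node (.node (.node (.node (.node (.leaf 0x85f7e17df7e17e18e17e185f85f85f86185f) (.leaf 0x85f86185f7df85f8df85f85f85f8617e17e1)) (.leaf 0x85f7df7df85f7df8e17df85f7e17e17df861)) (.node (.leaf 0x85f85f7dd7e185f8618617e185f7df7e17df) (.leaf 0x82082082082082092082082082081c820820))) (.node (.node (.leaf 0x7df7e17df7df7df8e17df8617df85f85f861) (.leaf 0x8617df7df86185f8e185f85f8617df85f7e1)) (.node (.leaf 0x86185f85d85f7e186185f85f85f7e186185f) (.leaf 0x7e17e185f7e17e18df7e18618617e17df7e1)))) (.node (.node (.node (.node (.leaf 0x7e17e185d7df7df8617df85f7e185f8617e1) (.leaf 0x7a08a081e8207a08a08228a08208207a0820)) (.leaf 0x7a08a089e8208208a07a082082081e822820)) (.node (.leaf 0x8208a081e82081e8a08208228228228a0820)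 (.leaf 0x8617df7df7e17e18e185f8617e17e17e17e1))) (.node (.node (.leaf 0x82082081e8207a089e8208228a08208a07a0) (.leaf 0x82081e79e82082089e7a08208207a08208a0)) (.node (.leaf 0x7e18617dd8618618617df7df7e17e17df7df) (.leaf 0x82282089e8208a08a08a28207a0820820820))))) (.node (.node (.node (.node (.node (.leaf 0x85f7e185d86186185f86185f7e17df7e1861) (.leaf 0x82082081c82082082082082082082081c820)) (.leaf 0x79e82081e8a08208a082282082281e820820)) (.node (.leaf 0x8a082081e8208208a08228207a07a081e8a0) (.leaf 0x82281e79e8208228a082082082081e820822))) (.node (.node (.leaf 0x86185f7dd86186186185f86185f7e17df7e1) (.leaf 0x81e82089e8208208a082081e81e82081e7a0)) (.node (.leaf 0x7e186185d7df86185f7df85f85f861861861) (.leaf 0x7a07a081e8207a08a081e7a08208208a0820)))) (.node (.node (.node (.node (.leaf 0x86185f85d86186185f8617df8617e17e17df) (.leaf 0x86186185d8617e185f7e185f85f85f7e185f)) (.leaf 0x82082281e8208228a07a08228a0820822820))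 (.node (.leaf 0x85f85f85f7df7df8df7df7df8617df7e1861) (.leaf 0x7df7df7dd8617e185f85f86185f7e185f85f))) (.node (.node (.leaf 0x7e18617df7df7e18df7e17df7e18617df7df) (.leaf 0x82081e81e7a082089e82081e82282082081e)) (.node (.leaf 0x82082081e8208a08a081e81e82082281e822) (.leaf 0x82082081e8228208a081e8a279e820820820)))))) (.node (.node (.node (.node (.node (.node (.leaf 0x8207a281e8208208a082082082082079e8a2) (.leaf 0x81e7a081e81e81e8a081e820820820822820)) (.leaf 0x8227a081e82281e8a081e820820820822820)) (.node (.leaf 0x7a08a079e8208208a08a082082081e822820) (.leaf 0x8a082089e82081e8a281e81e820820820820))) (.node (.node (.leaf 0x8207a081e8208228a082081e8228227a0820) (.leaf 0x7e186185f86185f8df85f7e17df85f7e17e1)) (.node (.leaf 0x8617df7dd7df7e185f85f7df7df7df85f85f) (.leaf 0x82082081e8227a08a07a08a082082081e8a0)))) (.node (.node (.node (.node (.leaf 0x82282281e7a28208a08208208a08208208a0) (.leaf 0x8617e185d7e186185f86185f85f8617df7e1))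 (.leaf 0x82282079e8208208a082081e8228208227a0)) (.node (.leaf 0x7df7df85f8618618e185f7e18617df85f85f) (.leaf 0x82082081e7a27a089e81e8208207a0820820))) (.node (.node (.leaf 0x82082281e82081e8a08a081e7a0820822820) (.leaf 0x82281e81e7a28208a08208208a08208207a0)) (.node (.leaf 0x8617e17df7e185f8df7df8617e17e185f861) (.leaf 0x82282081e8208208a281e7a08208208207a2))))) (.node (.node (.node (.node (.node (.leaf 0x82082089e8228208a08228208208228a07a0) (.leaf 0x82082081e82281e8a08208228208a082079e)) (.leaf 0x7a07a081e82282089e8208208228208208a0)) (.node (.leaf 0x82081e81e82081e8a08a081e8a0820822820) (.leaf 0x8227a081e8228228a0822820820820822820))) (.node (.node (.leaf 0x82082081e7a081e8a08228207a08208a0822) (.leaf 0x7df85f7df7df7df8e185f8618618617e1861)) (.node (.leaf 0x86186185d7df7df8617df7e17e18617df7df) (.leaf 0x81e81e79e82081e8a082082082081e820822)))) (.node (.node (.node (.leaf 0x85f85f85d85f7df85f7df85f85f85f8617e1)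 (.leaf 0x8a08a081e8207a08a08227a08208207a0820)) (.node (.leaf 0x7df7e17dd7e17e185f7e185f85f7e17e1861) (.leaf 0x82082081e82281e8a082081e8207a08208a2))) (.node (.node (.leaf 0x7df7df85f85f85f8df7e17df85f85f7e17e1) (.leaf 0x85f85f85f7df85f8df8617e17df7df7df7e1)) (.node (.leaf 0x7e17df85d7df86185f85f85f7e185f7df861) (.leaf 0x82082281e81e8208a082082081e79e81e820))))))))

/-- A part of a store. -/
def st8 : Store :=
  (.node (.node (.node (.node (.node (.node (.node (.node (.leaf 0x82079e81e8208208a082082082082079e7a2) (.leaf 0x7df85f85f85f85f8df85f8618617df8617e1)) (.leaf 0x85f7df7df7df7df8e185f7df86185f85f85f)) (.node (.leaf 0x85f85f7dd7e186186185f8617e185f7e1861) (.leaf 0x82081e89e7a08208a08228a082082081e820))) (.node (.node (.leaf 0x7df7e185f85f8618e17df7e17e185f8617e1) (.leaf 0x82282081e7a08208a08a08208207a082281e)) (.node (.leaf 0x82082089e8207a28a08208208208a08a2820) (.leaf 0x85f85f7df7df7df8df7df8617df7e18617e1))))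 (.node (.node (.node (.node (.leaf 0x82082079e8208a28a08208208208a079e820) (.leaf 0x82082091c820820820820820820820820820)) (.leaf 0x8208a081e7a08208a079e81e8208208207a0)) (.node (.leaf 0x89e82081e8208228a07a08208208208a07a0) (.leaf 0x8207a281e82082089e81e8207a081e820820))) (.node (.node (.leaf 0x82082089e8208208a08a079e8208207a0822) (.leaf 0x7e185f7df7df7e18df7df8618617df7e17df)) (.node (.leaf 0x7e17df7df85f7e18e17df85f85f7df85f85f) (.leaf 0x82082081e8208a08a28208227a08207a07a0))))) (.node (.node (.node (.node (.node (.leaf 0x82082281e81e81e8a28208a08208207a0820) (.leaf 0x82081e79e8208208a28a08208208a08207a0)) (.leaf 0x8227a081e8208a08a08208208207a28207a0)) (.node (.leaf 0x81e81e81e8208208a081e81e8207a08a0820) (.leaf 0x8a081e81e8228208a089e82082082082081e))) (.node (.node (.leaf 0x81e82081e81e8a08a08208208228207a0822) (.leaf 0x7df85f85d86185f85f8617df7df7df8617e1)) (.node (.leaf 0x85f86185d85f7df8617df7e185f7df7e185f)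 (.leaf 0x82282081e8227a08a08208208228207a081e)))) (.node (.node (.node (.node (.leaf 0x82089e81e8208208a082082082082089e7a2) (.leaf 0x82082281e7a082089e82081e81e82082081e)) (.leaf 0x8208a081e82082089e82079e8208a0822820)) (.node (.leaf 0x85f8617dd85f86185f8617e186185f7e185f) (.leaf 0x8207a081e89e8208a08207a0820822820822))) (.node (.node (.leaf 0x8617e17dd7df7e186185f8617df85f7df7e1) (.leaf 0x81e7a081e8208a08a08208208207a28208a0)) (.node (.leaf 0x89e82079e81e8208a08207a08207a0820820) (.leaf 0x82082081e8208208a07a082089e8228207a2)))))) (.node (.node (.node (.node (.node (.node (.leaf 0x7e17e185d86185f85f86185f85f7e186185f) (.leaf 0x85f85f85f7e17df8e185f8617e17df85f861)) (.leaf 0x7e17df7dd7e17df85f8617e185f7df861861)) (.node (.leaf 0x8617df7dd7df86185f7e17e18617df8617df) (.leaf 0x82082081c720820820820820820820820820))) (.node (.node (.leaf 0x82282081e8208208a281e8a08208208208a2) (.leaf 0x8a082079e82081e8a282281e820820820820))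 (.node (.leaf 0x8617e17dd7e17e18617e17df7df8617df85f) (.leaf 0x82081e81e82282289e8208a08208207a0820)))) (.node (.node (.node (.node (.leaf 0x7e17e17df7e185f8e185f86185f8617df7e1) (.leaf 0x7df7e185d7e18618618617df7df7e17e17df)) (.leaf 0x7e186185d7e17e185f7df7df7e185f85f85f)) (.node (.leaf 0x7df7df7dd7df85f85f7e17e17df7e17e17e1) (.leaf 0x8617e185d7e17e18617e186186185f85f7df))) (.node (.node (.leaf 0x81e81e89e8208228a082082082082282081e) (.leaf 0x82082079e8208208a08a07a28208207a0822)) (.node (.leaf 0x7e17e17df7df7e18e186186185f7df7e1861) (.leaf 0x7a07a081e81e8208a282082081e8208207a0))))) (.node (.node (.node (.node (.node (.leaf 0x8617e185d86185f85f7df85f86185f85f861) (.leaf 0x7a082279e8208208a082082089e8208a0820)) (.leaf 0x7df7e17dd85f86185f86185f86186185f861)) (.node (.leaf 0x89e8a081e8208208a082081e8a082082081e) (.leaf 0x85f85f7df8618618e185f7e17df7df8617e1))) (.node (.node (.leaf 0x8617df85f85f85f8e17e185f7df7df7df7df)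 (.leaf 0x82082081e8208208a08a082079e82282089e)) (.node (.leaf 0x85f7df85f8617e18e185f7df7e186185f7e1) (.leaf 0x7df8617df8618618df7e185f7e17e17df861)))) (.node (.node (.node (.node (.leaf 0x86185f85f7df7e18e185f7df8618617e17df) (.leaf 0x81e82081e8227a08a08208208228207a0822)) (.leaf 0x85f85f85f7e17e18e18617e185f85f85f7df)) (.node (.leaf 0x7e17df7dd85f7df85f85f7df7df85f7e17e1) (.leaf 0x7df8617df7e185f8e186185f85f7e17e185f))) (.node (.node (.leaf 0x7e185f7df7e185f8df7e18618618617df85f) (.leaf 0x8a07a079e8208208a08a082082082281e820)) (.node (.leaf 0x82081e79e8a08208a081e8a0820820822820) (.leaf 0x7df7e185f85f8618df7e17e18618617df85f))))))) (.node (.node (.node (.node (.node (.node (.node (.leaf 0x85f7df85f85f8618e185f85f85f85f8617df) (.leaf 0x81e82081e82081e89e82082079e8a0820820)) (.leaf 0x7e18617dd86186185f7e17df8617df861861)) (.node (.leaf 0x7e186185f7df7df8e17e17e18617e17e185f) (.leaf 0x82282081e7a079e8a08208a2820820820820)))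 (.node (.node (.leaf 0x8a082081e7a08208a28a08a08a0820820820) (.leaf 0x82282081e81e8208a28a0822820822820820)) (.node (.leaf 0x85f7e185d7e17e185f85f7e17df86185f7df) (.leaf 0x85f7e185f8617df8df8617e185f8617df7e1)))) (.node (.node (.node (.node (.leaf 0x7df86185d7df85f86185f85f85f7df8617df) (.leaf 0x8617e185f7df7e18e17df7df7df85f85f7df)) (.leaf 0x7df85f7dd7df7df85f7e186185f86185f861)) (.node (.leaf 0x8a082089e82081e8a2822822820820820820) (.leaf 0x7df85f7dd7df86185f8617df85f7e186185f))) (.node (.node (.leaf 0x7df85f85d7df85f85f85f7e185f85f7e1861) (.leaf 0x8617e17df7df8618df85f85f85f85f85f861)) (.node (.leaf 0x8a081e81e8208208a082079e82081e8207a0) (.leaf 0x7df8617dd85f86185f7df7e185f7e17df861))))) (.node (.node (.node (.node (.node (.leaf 0x8a08a089e8208208a07a0820820822822820) (.leaf 0x82089e79e81e7a08a082081e820820820820)) (.leaf 0x8207a081e7a08a08a082082089e820822820)) (.node (.leaf 0x82082089e8208208a08a079e8208208a081e)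 (.leaf 0x82082081e8207a08a28208227a08207a08a0))) (.node (.node (.leaf 0x7a07a089e8208208a08a082082081e822820) (.leaf 0x82081e81e8a07a08a08a082082081e8a0820)) (.node (.leaf 0x86186185f85f7df8df7e186185f7df7e17e1) (.leaf 0x82082081e81e8a08a08a07a08208208227a0)))) (.node (.node (.node (.node (.leaf 0x82082081e82082089e79e82081e8207a2820) (.leaf 0x82082081e81e8208a082279e8a2820820820)) (.leaf 0x86185f85d7df7e185f7e17df85f86185f7df)) (.node (.leaf 0x82082081e8208208a07a08208a28228208a2) (.leaf 0x82081e89e8a08208a08227a082082081e820))) (.node (.node (.leaf 0x7df7df85d7e185f85f85f7e18617e18617df) (.leaf 0x7e185f7dd7df85f85f7df7df7df8617df85f)) (.node (.leaf 0x81e82081e8208228a282082089e7a0820820) (.leaf 0x7a08a089e8208208a08a0820820822822820)))))) (.node (.node (.node (.node (.node (.node (.leaf 0x7df86185d8617df8617df85f86185f7df7df) (.leaf 0x7e185f85f7df7df8e17df85f7e185f7df85f)) (.leaf 0x8a082081e82081e8a08208a081e82081e822))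 (.node (.leaf 0x8617e185f86185f8e186185f85f85f7e1861) (.leaf 0x82082081c820720820820820820820820820))) (.node (.node (.leaf 0x82082079e7a08208a082081e7a07a2820820) (.leaf 0x7df86185f8617e18e18617df8617e17df7df)) (.node (.leaf 0x85f8617df7df7df8df7e17df85f85f85f7e1) (.leaf 0x85f7e185f85f8618e18617e17df7e185f7df)))) (.node (.node (.node (.node (.leaf 0x7df8617dd85f8618617e17e17df7df8617df) (.leaf 0x81e81e81e7a28208a08208208a08208208a0)) (.leaf 0x82082089e7a08208a082081e8a089e820820)) (.node (.leaf 0x7df85f7dd7e17df8618617df7df8617e1861) (.leaf 0x8618617df85f8618df8618617e186185f85f))) (.node (.node (.leaf 0x85f7df85d85f85f8617e17df85f7e18617df) (.leaf 0x8617e185f85f7df8e18617df7e18617df85f)) (.node (.leaf 0x8208a281e8208208a082082082082079e89e) (.leaf 0x8618617df7e18618e186185f7e17df861861))))) (.node (.node (.node (.node (.node (.leaf 0x7df7e17dd8617df85f85f85f8617df8617e1) (.leaf 0x7e185f7df7df7df8df7e17e17df85f7e1861))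 (.leaf 0x81e8a081e8208a08a082082082089e8207a0)) (.node (.leaf 0x8208a079e8208228a08208a08a08208208a0) (.leaf 0x85f7df7dd85f86185f7e17e17df86185f85f))) (.node (.node (.leaf 0x7a282081e8208228a08a08208208207a07a0) (.leaf 0x82081e81e8208a28a081e8208228208207a0)) (.node (.leaf 0x85f86185f85f7df8df8617e18617df85f85f) (.leaf 0x7a079e81e8a08228a08208208208a0820820)))) (.node (.node (.node (.node (.leaf 0x8a082081e8208208a28208208208a27a0822) (.leaf 0x82082079e8208208a07a08a28208207a0822)) (.leaf 0x82082081e8a08228a081e8208a08208a0822)) (.node (.leaf 0x8207a081e7a07a08a082082079e820822820) (.leaf 0x82082081e8208208a279e82081e82079e820))) (.node (.node (.leaf 0x8617df7df85f85f8df7df7e17e17df7e17e1) (.leaf 0x7e17df85f7e185f8df85f8617e17df7df7df)) (.node (.leaf 0x82082081e8a08228a081e8208a08207a081e) (.leaf 0x86186185d7e18618617e17e17e17df7e185f))))))))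

/-- A part of a store. -/
def st9 : Store :=
  (.node (.node (.node (.node (.node (.node (.node (.node (.leaf 0x8617df85f85f7df8df8618617e17e185f7e1) (.leaf 0x82082081e81e8208a08228a279e820820820)) (.leaf 0x8208a081e82082089e8207a28208a081e820)) (.node (.leaf 0x85f7df7dd7e17df8618618617df85f85f85f) (.leaf 0x82082281e8208a28a081e82081e8208207a0))) (.node (.node (.leaf 0x7a082081e8208208a081e8207a08a08228a0) (.leaf 0x8a082079e82081e89e81e81e820820820820)) (.node (.leaf 0x7e17e185d7df86186185f7e17e17df85f7df) (.leaf 0x8207a279e81e7a08a082081e820820820820)))) (.node (.node (.node (.node (.leaf 0x82081e81e7a08a08a08a082082081e8a0820) (.leaf 0x8208a081e8207a289e7a0820820820820822)) (.leaf 0x8207a081e7a07a08a08208207a282081e820)) (.node (.leaf 0x8a07a281e7a08228a08208208207a0820820) (.leaf 0x82082081e8a28a089e8228208208a0820820))) (.node (.node (.leaf 0x8617e185f7e17df8e185f7e18617e185f7df) (.leaf 0x85f7df85f7df8618df7e17df85f7df85f85f))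 (.node (.leaf 0x8617df85f7df7e18df7df8617df7df7df861) (.leaf 0x82081e81e8a08208a282081e82282082081e))))) (.node (.node (.node (.node (.node (.leaf 0x81e82081e82282089e7a081e82081e820820) (.leaf 0x82082081e8207a08a081e82282082281e822)) (.leaf 0x81e82081e8a08a28a082079e820820820820)) (.node (.leaf 0x82082081e82082089e79e82081e82089e820) (.leaf 0x8a082281e81e8208a07a282082082082081e))) (.node (.node (.leaf 0x86185f85f85f8618e186186185f7df85f861) (.leaf 0x82082281e8207a28a081e82081e8208208a0)) (.node (.leaf 0x8617df85f8617df8df7df7df7e17df85f85f) (.leaf 0x7a082081e81e89e8a08208207a081e820820)))) (.node (.node (.node (.node (.leaf 0x7e185f85f85f7e18e186185f7df86185f7df) (.leaf 0x7e186185d85f86185f85f7df7df7df7e185f)) (.leaf 0x82082081e8a08228a282082082081e81e7a0)) (.node (.leaf 0x85f7e185f85f8618df85f7e185f7df7e1861) (.leaf 0x8208a081e82079e8a28a082082082082081e))) (.node (.node (.leaf 0x7e17df7df7e18618e185f85f86185f7e185f)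 (.leaf 0x8a082081e8228a28a08208208a081e820820)) (.node (.leaf 0x82082081e82082089e7a282082282089e820) (.leaf 0x82282081e7a089e8a082089e820820820820)))))) (.node (.node (.node (.node (.node (.node (.leaf 0x8618617df8618618df7df7df7e185f85f7e1) (.leaf 0x7df85f7dd8617e18617df7df7e185f8617e1)) (.leaf 0x85f7df7df7e185f8df86185f85f85f7df7df)) (.node (.leaf 0x86185f85f7e17e18df7df8617e186185f7df) (.leaf 0x82081c81c820820820820820820820820820))) (.node (.node (.leaf 0x7e17e17dd7e186185f7df7e17df7e186185f) (.leaf 0x82282081e82082289e82082089e7a0820820)) (.node (.leaf 0x81e8a081e81e8228a081e820820820822820) (.leaf 0x7a07a081e8207a08a081e8a08208207a0820)))) (.node (.node (.node (.node (.leaf 0x7e17e185d85f85f85f7df7e185f7df8617e1) (.leaf 0x85f85f85d7e186185f8617df7df85f7df85f)) (.leaf 0x7a082081e8208208a08228208a08a08228a0)) (.node (.leaf 0x82082081e8208a08a082281e82082281e81e) (.leaf 0x85f7e185f8617e18e18618618617df8617e1)))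 (.node (.node (.leaf 0x7df7df7df85f8618e17e17e17df7df7df861) (.leaf 0x85f85f85f85f8618e17e17e18617df7e17df)) (.node (.leaf 0x8617e185d7df7df86186185f7df7e185f7df) (.leaf 0x81e89e81e8208208a08a08a081e820820820))))) (.node (.node (.node (.node (.node (.leaf 0x81e82281e89e8208a08208208a08208207a0) (.leaf 0x7df8617dd7df85f86185f7e17e17e17e185f)) (.leaf 0x79e82089e81e8208a08208a08208a0820820)) (.node (.leaf 0x8a28a081e8208208a082081e8a0820820822) (.leaf 0x8a079e81e8a081e8a08208208208a0820820))) (.node (.node (.leaf 0x81e82079e8207a08a089e8207a0820820820) (.leaf 0x820820820820820920820820720820820820)) (.node (.leaf 0x85f7e17df85f7df8df7df7e17e186185f7df) (.leaf 0x7e17e17df85f7df8e17df8618617e18617e1)))) (.node (.node (.node (.node (.leaf 0x7df7df7df7df7df8df7df7df7df7df7df7df) (.leaf 0x82089e81e82082089e8228207a0822820820)) (.leaf 0x7df85f7df7e17e18df7e185f85f7e185f7df)) (.node (.leaf 0x7a282079e8228208a08207a08208a0820820)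 (.leaf 0x81e82289e82081e8a082082082082282081e))) (.node (.node (.leaf 0x85f8617df7df7e18df7df85f7e17df85f85f) (.leaf 0x8207a079e82081e8a08207a08a08208207a0)) (.node (.leaf 0x81e82081e8208208a08207a08a082289e820) (.leaf 0x7df7df85d7df86185f7df7df7df85f8617df))))))) (.node (.node (.node (.node (.node (.node (.node (.leaf 0x85f8617df86185f8df8617df8617df7e17e1) (.leaf 0x82082081e8207a089e82081e8a08208a08a0)) (.leaf 0x7e185f85d85f85f8618617e18617df86185f)) (.node (.leaf 0x85f86185d85f86185f86185f7df8618617df) (.leaf 0x8a081e81e81e8208a089e820820820820822))) (.node (.node (.leaf 0x8a082081e8208228a08208a082282081e822) (.leaf 0x82082281e82281e8a28208a08208208a0820)) (.node (.leaf 0x82089e79e8228a08a082081e820820820820) (.leaf 0x82082081e8207a08a082281e82081e81e81e)))) (.node (.node (.node (.node (.leaf 0x7e17e17df7e18618df85f7e18617df8617e1) (.leaf 0x7e186185d7e17df85f7e185f85f7df85f7e1)) (.leaf 0x81e82289e8208228a0820820820822820822))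 (.node (.leaf 0x86185f7dd85f7df85f85f8617df86185f7df) (.leaf 0x8208a081e8a08208a08a281e8208208208a0))) (.node (.node (.leaf 0x82082081e8a08208a08208a08228a08a07a0) (.leaf 0x86186185f7df85f8df7df7df86186185f85f)) (.node (.leaf 0x82082081e82081e8a089e8a08207a2820820) (.leaf 0x820824820820820920820820820820820820))))) (.node (.node (.node (.node (.node (.leaf 0x82082081e82281e8a082081e8207a082079e) (.leaf 0x7e17e185f85f7e18e17e185f86185f7e17df)) (.leaf 0x7a282281e8208a089e82082082082081e820)) (.node (.leaf 0x7e17e185f7df7df8df86185f7df85f7df7e1) (.leaf 0x82281e79e8208228a082082082082282081e))) (.node (.node (.leaf 0x7a082089e82082289e82281e820820820820) (.leaf 0x82082089e7a281e8a07a0820822820820820)) (.node (.leaf 0x7e17e17dd7df7e18617e18617e17e17e17df) (.leaf 0x81e82081e81e7a08a08208208228208a0822)))) (.node (.node (.node (.node (.leaf 0x85f7e17df7df7df8e18618617e17e186185f) (.leaf 0x85f8617dd7e185f85f86185f85f85f861861))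 (.leaf 0x7df85f85f7e17e18df7e17e17e17df7df85f)) (.node (.leaf 0x81e82081e8208208a281e7a082082082079e) (.leaf 0x7e17df7dd85f85f8617df7e17e18618617df))) (.node (.node (.leaf 0x85f85f85d86186185f7e185f85f7e185f861) (.leaf 0x81e81e79e8208228a0820820820822820822)) (.node (.leaf 0x7e186185d85f85f85f86185f86185f7e17e1) (.leaf 0x82082281e8208a08a08207a08a07a082081e)))))) (.node (.node (.node (.node (.node (.node (.leaf 0x82082081e8a081e8a081e8208a08208a081e) (.leaf 0x86185f85f85f7e18e17df85f7e17df8617e1)) (.leaf 0x89e81e81e8208a08a282082082082081e820)) (.node (.leaf 0x82082081e7a081e8a08228208a08208a081e) (.leaf 0x8a07a089e8208208a07a082082082281e820))) (.node (.node (.leaf 0x8a07a281e8a08228a08208208208a0820820) (.leaf 0x7e186185f85f7e18df8617e17df7e17df861)) (.node (.leaf 0x7e185f7dd7df7e186186186185f7df85f7df) (.leaf 0x7df86185d8617df85f7e185f7e1861861861)))) (.node (.node (.node (.node (.leaf 0x7df86185d85f86185f7df85f7e17df85f7e1)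 (.leaf 0x7a082081e7a08208a27a08a08a0820820820)) (.leaf 0x7e18617dd7e17e185f7df86185f8617df7df)) (.node (.leaf 0x7e18617df8617e18df7df7e18617e185f85f) (.leaf 0x82282279e8208228a082082082081e82081e))) (.node (.node (.leaf 0x7df7df85f7e18618df7e186186185f8617df) (.leaf 0x7df7e17dd85f85f8618617df85f7df7e1861)) (.node (.leaf 0x82081e81e82281e8a28207a08208208a0820) (.leaf 0x82082079e8207a08a28207a0822822820820))))) (.node (.node (.node (.node (.node (.leaf 0x82082079e8208208a08a089e8208208a081e) (.leaf 0x82282081e7a08208a08a08208208a081e81e)) (.leaf 0x85f86185d86185f85f7e18618617df8617df)) (.node (.leaf 0x8227a079e8a08208a28208208208207a0820) (.leaf 0x8a082081e8a28208a082081e8208208a2820))) (.node (.node (.leaf 0x7e185f85d7df85f8617e18617e18617e1861) (.leaf 0x85f86185d8617df85f85f85f7df7df85f85f)) (.node (.leaf 0x8617df85d7e17e185f7e17df8617df7df861) (.leaf 0x82082081e8a08208a08207a081e8a08a07a0)))) (.node (.node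 (.node (.node (.leaf 0x7e185f85f8617e18e17df7e17df85f85f861) (.leaf 0x8a082081e7a08208a28a07a07a0820820820)) (.leaf 0x89e82281e8207a089e820820820820822820)) (.node (.leaf 0x82081e81e8207a08a08207a07a08a082081e) (.leaf 0x82082081e82081e8a08a27a08207a2820820))) (.node (.node (.leaf 0x7e185f85f7e18618e17e185f7e17e17e17df) (.leaf 0x7df7e17df85f85f8e17e17df7e17e17e17df)) (.node (.leaf 0x7df7df85d7df85f85f7e185f8617df861861) (.leaf 0x7a07a079e8208208a08a082082081e81e820))))))))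

/-- A part of a store. -/
def st10 : Store :=
  (.node (.node (.node (.node (.node (.node (.node (.node (.leaf 0x8617df85f85f8618df7e17df7e18618617df) (.leaf 0x85f7df85d8618618618617e17e185f8617df)) (.leaf 0x86186185f7df8618df7e185f7df7e185f7e1)) (.node (.leaf 0x85f8617dd7df86185f7e18617e17e1861861) (.leaf 0x82089e89e81e8a08a082081e820820820820))) (.node (.node (.leaf 0x7a082081e8208208a081e8208a07a08228a0) (.leaf 0x82082289e8a08208a081e7a082082081e820)) (.node (.leaf 0x7e185f85d7df86185f7e17e17df7df85f861) (.leaf 0x7df7df85f7df85f8df86185f7df7e18617df)))) (.node (.node (.node (.node (.leaf 0x8208a081e8228208a07a08207a07a08a0820) (.leaf 0x7df85f85d85f7e18618617df85f85f7e17df)) (.leaf 0x81e82081e8208208a08208a07a081e8a2820)) (.node (.leaf 0x8a07a081e8208a08a081e7a08208208a0820) (.leaf 0x8a082081e8a082089e8a08a08a0820820820))) (.node (.node (.leaf 0x85f7df7df7e18618e18617df8617e18617df) (.leaf 0x82089e81e8208208a082082082082079e79e))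 (.node (.leaf 0x8208a081e79e8208a08208a082081e820822) (.leaf 0x82282281e89e8208a08208207a08208207a0))))) (.node (.node (.node (.node (.node (.leaf 0x82082081e8a081e8a081e8207a08207a081e) (.leaf 0x82082089e7a08208a08208228a08a2820820)) (.leaf 0x8a082279e8208208a082082089e8207a0820)) (.node (.leaf 0x85f85f85f7df8618e18618617e18618617e1) (.leaf 0x85f7df7df8617df8e18617e17e17df7df7df))) (.node (.node (.leaf 0x82082081e8207a08a282081e8a08207a08a0) (.leaf 0x85f7e17dd7e17df85f8617df7df7df7df7e1)) (.node (.leaf 0x7e17e185d8617e185f7e17e185f86185f861) (.leaf 0x8207a081e8228208a08a08208a08a08a0820)))) (.node (.node (.node (.node (.leaf 0x7df85f85f7e18618e18617df7df7e185f861) (.leaf 0x8207a081e8a28208a08207a082081e820822)) (.leaf 0x8a082089e7a07a08a082082082082082089e)) (.node (.leaf 0x85f85f85d85f85f86185f8618618617e17df) (.leaf 0x8207a081e82082089e82079e8207a0822820))) (.node (.node (.leaf 0x8617df85d85f86186185f7df7df8617df7df)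 (.leaf 0x82082079e7a281e8a08a0820822820820820)) (.node (.leaf 0x8a082081e82081e8a08207a082282082281e) (.leaf 0x7df8617dd85f7df85f85f85f85f8617e185f)))))) (.node (.node (.node (.node (.node (.node (.leaf 0x85f7e17df8617df8e185f85f8618617e17df) (.leaf 0x7a08a081e81e8208a282082081e8208208a0)) (.leaf 0x8618617df7df85f8e17e186185f861861861)) (.node (.leaf 0x8617e185d7e185f85f85f7df7e17e17df85f) (.leaf 0x82082281e7a08208a282082281e82082081e))) (.node (.node (.leaf 0x7a082081e82082089e8208208207a28a0822) (.leaf 0x8a082081e79e8208a08208228208207a2820)) (.node (.leaf 0x7df85f7dd7e17e186185f85f8617e17e17df) (.leaf 0x8618617df85f7e18df7df85f85f8618617df)))) (.node (.node (.node (.node (.leaf 0x86186185d86185f86185f7e17df7e18617df) (.leaf 0x81e82279e8208228a082082082082282081e)) (.leaf 0x8208a089e8208228a08207a08a08208208a0)) (.node (.leaf 0x8a082081e82082089e82082082079e8a0822) (.leaf 0x86185f7df7df7df8df85f7e17e17e17df85f)))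 (.node (.node (.leaf 0x82082281e8228208a082082081e89e81e820) (.leaf 0x8208a079e8208208a082282081e8a082081e)) (.node (.leaf 0x82082089e81e8208a28208208a082081e81e) (.leaf 0x82082481c820820820820820820820820820))))) (.node (.node (.node (.node (.node (.leaf 0x7e17e17dd8618618618618617df86185f7df) (.leaf 0x8208a281e8208208a082082082082079e7a2)) (.leaf 0x81e82281e7a28208a08208208a08208207a0)) (.node (.leaf 0x8617e17dd7df7df8618617e18617df7df85f) (.leaf 0x82082079e81e82089e8208207a082081e822))) (.node (.node (.leaf 0x82282079e8208208a082081e81e8208228a0) (.leaf 0x7a082081e8208208a08228207a08a081e8a0)) (.node (.leaf 0x8618617df85f7df8e17df7df8617df7df7df) (.leaf 0x82082081e8a08228a08228207a08207a081e)))) (.node (.node (.node (.node (.leaf 0x7df85f85d7e186185f7df7df7e17e17e1861) (.leaf 0x8207a281e82082089e8228207a0822820820)) (.leaf 0x8207a081e8208208a28207a28208a081e820)) (.node (.leaf 0x89e82081e82081e8a08a08208208207a08a0)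 (.leaf 0x85f7e17dd85f85f8617df7df8618617df85f))) (.node (.node (.leaf 0x7e18617df7df85f8e185f8618617df85f85f) (.leaf 0x7e186185d8617e185f85f85f8617e17df861)) (.node (.leaf 0x8207a081e82089e89e7a082082082082081e) (.leaf 0x8207a081e8a08208a079e8228208208208a0))))))) (.node (.node (.node (.node (.node (.node (.node (.leaf 0x85f8617df86185f8e185f7df7e17e185f85f) (.leaf 0x85f7e17df7e18618e185f8617e185f85f7df)) (.leaf 0x85f85f7df7df7df8e17e186185f7df7df85f)) (.node (.leaf 0x85f86185d85f7e18617e18617e185f7e17e1) (.leaf 0x8617e17df7df85f8df8617df7e17df85f7df))) (.node (.node (.leaf 0x8a082081e8208a08a07a08228228a0820820) (.leaf 0x7df7e17df8617df8e17e185f85f7df7df7e1)) (.node (.leaf 0x82081e81e8228208a082082081e7a2822820) (.leaf 0x7e17df85d7e17df86185f85f8617df85f85f)))) (.node (.node (.node (.node (.leaf 0x8a082081e82081e8a08207a081e82081e81e) (.leaf 0x82081e89e8a08208a081e7a0820820822820)) (.leaf 0x81e8a089e8a08208a28208208208208a0820))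 (.node (.leaf 0x85f85f7dd85f7df8617e17e186185f85f7df) (.leaf 0x7df7df85d8617e185f85f7df7e17df7df7df))) (.node (.node (.leaf 0x7e185f7df8618618df85f86185f85f85f7df) (.leaf 0x85f7e185f85f85f8e185f86186186185f861)) (.node (.leaf 0x7a07a081e8228208a28208208228208207a0) (.leaf 0x7a082081e8a08208a27a08a07a0820820820))))) (.node (.node (.node (.node (.node (.leaf 0x82082081e8a08208a08207a08227a08a07a0) (.leaf 0x820920820820820920820820820820820820)) (.leaf 0x7a08a079e8208208a08a082082082281e820)) (.node (.leaf 0x82082281e7a07a08a08a082082081e8a0820) (.leaf 0x8227a081e8207a08a082082082079e8207a0))) (.node (.node (.leaf 0x7df86185d7df7e185f7e17e17df8617e185f) (.leaf 0x82082089e8207a089e8208a082281e820820)) (.node (.leaf 0x7e17df85d85f7df85f85f861861861861861) (.leaf 0x8208a089e8208228a08208a07a08208208a0)))) (.node (.node (.node (.node (.leaf 0x82082081e8208a089e8208228a08208a08a0) (.leaf 0x82279e81e8208208a08a07a0822820820820))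 (.leaf 0x8a082081e8208208a282082082089e8a0822)) (.node (.leaf 0x8208a081e82082089e82089e8208a081e820) (.leaf 0x7e18617df7e185f8e17e17df8617e185f7e1))) (.node (.node (.leaf 0x7df85f7df85f8618e185f85f7e185f85f861) (.leaf 0x81e82081e8208208a28228a08208208208a2)) (.node (.leaf 0x8207a081e82081e8a082081e8228228a0820) (.leaf 0x85f7e17dd7e186185f7e18617df85f7e17df)))))) (.node (.node (.node (.node (.node (.node (.leaf 0x85f7e185d7e18618617df7df7e185f7df7e1) (.leaf 0x82282081e7a08a28a08208a2820820820820)) (.leaf 0x8a27a081e8208208a082081e8a082082081e)) (.node (.leaf 0x82082081e7a081e8a081e8207a08207a0822) (.leaf 0x8228a281e8208208a08a08a081e820820820))) (.node (.node (.leaf 0x8618617dd86185f85f86185f7e17e185f7e1) (.leaf 0x85f7e185d7df7e18617df85f85f8617e17df)) (.node (.leaf 0x85f85f7df85f7df8e18617e17df86185f861) (.leaf 0x85f7e185f7e17e18e17e17e17e18617e17df)))) (.node (.node (.node (.node (.leaf 0x7e17df7df8618618e17df7df7e17e1861861)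 (.leaf 0x81e82081e8228208a28a0822820822820820)) (.leaf 0x82281e89e82081e8a082082082081e820822)) (.node (.leaf 0x7df7df7df8617df8df7e17e185f85f85f85f) (.leaf 0x82081e81e8a07a08a07a082082081e7a0820))) (.node (.node (.leaf 0x7e185f85f8618618df85f7df7e18617df85f) (.leaf 0x7df7df7df7df85f8e185f7e17e17e185f7e1)) (.node (.leaf 0x82282081e8a08208a07a08208207a082281e) (.leaf 0x7df85f7dd7e18618617e18617df7e17df85f))))) (.node (.node (.node (.node (.node (.leaf 0x7df86185f85f8618e186185f7df7df7e17e1) (.leaf 0x86185f85d85f86185f7df8618617df7e1861)) (.leaf 0x8208a081e8a08a08a082082089e820822820)) (.node (.leaf 0x86185f85d85f8618617e18617e17e185f7df) (.leaf 0x82082281e8208a08a08208a07a07a082081e))) (.node (.node (.leaf 0x82082081e8a081e8a08228208a08207a081e) (.leaf 0x81e8a281e8208208a08a08a0822820820820)) (.node (.leaf 0x7e17df7df8617e18df85f7e17df7df7e185f) (.leaf 0x82082081e8228228a082081e8208a082079e)))) (.node (.node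 (.node (.node (.leaf 0x81e7a081e81e81e8a082282082082081e820) (.leaf 0x820820820820820920820820920820820820)) (.leaf 0x8208a081e82081e8a082081e81e8228a0820)) (.node (.leaf 0x7a081e81e8208208a08207a282081e8207a0) (.leaf 0x81e82079e8208a08a079e8207a0820820820))) (.node (.node (.leaf 0x82081e81e82081e8a07a08228a0820822820) (.leaf 0x86186185d7df85f85f85f7df7df85f85f7e1)) (.node (.leaf 0x7e185f7dd7df86185f7e185f8617e17df7e1) (.leaf 0x81e82081e82081e8a28208208a27a0820820))))))))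

/-- A part of a store. -/
def st11 : Store :=
  (.node (.node (.node (.node (.node (.node (.node (.node (.leaf 0x8617df85f85f7df8e185f8618617df7e185f) (.leaf 0x81e82081e81e7a08a082082081e8208a081e)) (.leaf 0x85f85f7df8617df8df7e185f85f8617e1861)) (.node (.leaf 0x8617df85d8617df8618617df7df7df7e185f) (.leaf 0x7e17df7df7df85f8df7e186185f7df85f7e1))) (.node (.node (.leaf 0x82082081e8208a08a081e81e82081e81e81e) (.leaf 0x85f8617dd8617df85f85f7e18617e17df7df)) (.node (.leaf 0x7df7df85f86185f8e18618617df85f85f7e1) (.leaf 0x7df8617df8617df8df8617e17e18617e185f)))) (.node (.node (.node (.node (.leaf 0x8207a079e8208208a08228208228a082081e) (.leaf 0x7df86185f7e17e18df7df85f8618617e185f)) (.leaf 0x82082081e8228228a08208228207a08208a2)) (.node (.leaf 0x7e185f7df8617df8e17e17df7df7e17df85f) (.leaf 0x820820820820820920820820824820820820))) (.node (.node (.leaf 0x85f7df7df7df7e18e186185f7df7df85f7e1) (.leaf 0x8617df7dd8618618617e17df86186185f7e1))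 (.node (.leaf 0x86185f85f7e17df8df7e17e185f7e185f861) (.leaf 0x81e7a281e8208208a08a08a081e820820820))))) (.node (.node (.node (.node (.node (.leaf 0x82082079e8228208a08228208208228a08a0) (.leaf 0x82082079e82282089e8208208a082081e822)) (.leaf 0x82082089e8208a08a28207a081e81e820820)) (.node (.leaf 0x7e185f85f85f85f8e17e17e17df7e18617e1) (.leaf 0x82082089e82089e8a08208208207a07a2820))) (.node (.node (.leaf 0x7e185f85f7df8618df8617e18617e185f7df) (.leaf 0x82282089e8208208a082081e81e8208227a0)) (.node (.leaf 0x85f8617df85f7df8e185f85f85f7df861861) (.leaf 0x85f7df7df85f85f8df85f8617df7df85f85f)))) (.node (.node (.node (.node (.leaf 0x79e82081e8208228a07a08208208207a07a0) (.leaf 0x82082082082082092082082081c820820820)) (.leaf 0x7a082081e8a08208a27a07a08a0820820820)) (.node (.leaf 0x8a081e89e8208208a082082079e8208a0820) (.leaf 0x86186185d85f7df85f8618617e17e17e185f))) (.node (.node (.leaf 0x7df7df7df85f7df8df85f85f85f86185f7e1)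 (.leaf 0x82082089e8208a089e8208a0822822820820)) (.node (.leaf 0x82082079e8a28228a08a0820822820820820) (.leaf 0x7e18617dd8617e185f85f7e17df7df85f7e1)))))) (.node (.node (.node (.node (.node (.node (.leaf 0x8617df85f86185f8e185f7e17df7e17df861) (.leaf 0x82082079e8a28228a07a082081e820820820)) (.leaf 0x8a282081e82081e8a07a08208208208a07a0)) (.node (.leaf 0x85f85f7dd8617df85f86185f7e185f7e17df) (.leaf 0x7df86185d7e17e185f85f85f7df85f7e17e1))) (.node (.node (.leaf 0x7df7e17dd85f85f85f85f7df7df7e185f7df) (.leaf 0x8617e17dd7df7df85f85f7e17e17e18617e1)) (.node (.leaf 0x8208a081e8a08208a079e8228208208207a0) (.leaf 0x8617e185f7e17df8df8617e17e17df7e1861)))) (.node (.node (.node (.node (.leaf 0x7e17df85f85f85f8e185f85f7e18617e17e1) (.leaf 0x8208a081e7a08208a089e81e8208208208a0)) (.leaf 0x82082081e8228228a082081e8207a082089e)) (.node (.leaf 0x7df7df7df7df8618df85f8617df85f7e17e1) (.leaf 0x8617e185d7e17e185f7df8617e18617e1861)))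 (.node (.node (.leaf 0x7e186185f85f85f8df7e185f7df8617e185f) (.leaf 0x85f85f85f85f85f8df7e186185f86185f7df)) (.node (.leaf 0x85f85f7dd7df8618617e17df7e18617e17df) (.leaf 0x82282081e8208208a28227a082082082079e))))) (.node (.node (.node (.node (.node (.leaf 0x8207a281e8208208a08208208208208a28a2) (.leaf 0x85f7e17dd7e185f8617e17e17e17e185f7df)) (.leaf 0x79e82089e8228208a08207a08208a0820820)) (.node (.leaf 0x82282089e8208208a08208228228208227a0) (.leaf 0x8208a081e8228208a08a08208a08a07a0820))) (.node (.node (.leaf 0x82082081e8208208a07a082079e82282079e) (.leaf 0x7a082081e8a082089e7a07a07a0820820820)) (.node (.leaf 0x86186185d85f7e185f85f7e185f8617e17e1) (.leaf 0x85f86185f8618618df85f7e18618618617df)))) (.node (.node (.node (.node (.leaf 0x86186185f7e185f8df86186186185f85f7e1) (.leaf 0x82079e81e82082089e8228208a0822820820)) (.leaf 0x8617e17df85f7e18e185f7e17e17df85f861)) (.node (.leaf 0x8208a081e7a07a08a082082089e820822820)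 (.leaf 0x82081e81e81e81e89e8207a08208208a0820))) (.node (.node (.leaf 0x8617df85d7df86185f7e185f7df7e17e185f) (.leaf 0x81e82081e82081e89e82082089e7a0820820)) (.node (.leaf 0x82082081e8208208a07a082079e8228208a2) (.leaf 0x85f86185d86185f8617df8617e17e17df861))))))) (.node (.node (.node (.node (.node (.node (.node (.leaf 0x8617df7dd85f85f85f85f7e185f7e17e185f) (.leaf 0x85f85f85f85f7df8df85f85f7e186186185f)) (.leaf 0x8617df7df7e18618e17e185f85f7e17df861)) (.node (.leaf 0x8618617dd7df86186185f7e185f7df861861) (.leaf 0x8a082081e79e8208a082081e82082079e820))) (.node (.node (.leaf 0x7e17e17df7df85f8e17e17df85f85f7df85f) (.leaf 0x86185f7dd7e185f8617e18618617df85f861)) (.node (.leaf 0x8208a089e8208208a082282081e7a082081e) (.leaf 0x8a282081e8a08208a082282081e822820820)))) (.node (.node (.node (.node (.leaf 0x7e18617dd7df86185f7df7e17e185f7e17e1) (.leaf 0x82082281e8207a08a08207a08a08a082081e)) (.leaf 0x82082281e8a082089e82082281e82082081e))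 (.node (.leaf 0x7df7e17df8617e18e17df7df7e185f7df85f) (.leaf 0x8617e185f8617df8df7e186186186186185f))) (.node (.node (.leaf 0x7a082081e8208208a282082082079e7a081e) (.leaf 0x81e82081e8208208a08208a08a08228a2820)) (.node (.leaf 0x82082279e8a08208a081e8a082082081e820) (.leaf 0x7e17df85f85f8618e18617df85f7e17e185f))))) (.node (.node (.node (.node (.node (.leaf 0x81e82281e8208208a081e81e8207a07a0820) (.leaf 0x820820920820820920820820820820820820)) (.leaf 0x7df7e185d86186185f7df85f7df8617df85f)) (.node (.leaf 0x8a082081e8208208a08228207a08a081e7a0) (.leaf 0x7df7df85d7e17df85f7e17df7df7e185f85f))) (.node (.node (.leaf 0x8618617dd85f85f8617e17e18617e17e17e1) (.leaf 0x8208a081e8228208a07a08207a08a07a0820)) (.node (.leaf 0x7e17df7df7e17e18df7df86185f861861861) (.leaf 0x82082081e7a08208a08207a08227a07a07a0)))) (.node (.node (.node (.node (.leaf 0x8207a081e82081e8a082082281e8228a0820) (.leaf 0x82082281e8207a08a08207a08a07a0820822))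 (.leaf 0x82281e89e8208228a0820820820822820822)) (.node (.leaf 0x8a081e89e8208208a08208207a28207a0820) (.leaf 0x7e18617df85f7e18e185f85f7e17e17e185f))) (.node (.node (.leaf 0x7df7df7df7e17df8e185f86185f7df8617df) (.leaf 0x82282081e7a08208a07a08208207a0822822)) (.node (.leaf 0x8207a081e82082089e82089e8208a0822820) (.leaf 0x82082281e82079e8a08228208228208207a0)))))) (.node (.node (.node (.node (.node (.node (.leaf 0x7df8617df85f8618e18617e18617e1861861) (.leaf 0x82082081e8a08208a08207a08228a08a08a0)) (.leaf 0x8a082081e8208a08a07a081e8227a0820820)) (.node (.leaf 0x82081e81e81e8208a082082081e89e81e820) (.leaf 0x7e17df7dd7e17e185f85f8617e185f8617df))) (.node (.node (.leaf 0x8207a081e82082089e8208a28208a081e820) (.leaf 0x7df7df85f7e17e18df85f85f7df85f85f85f)) (.node (.leaf 0x85f86185f7df8618e185f7df8617df85f7e1) (.leaf 0x85f86185f7df7e18df7df7e185f7e17df7df)))) (.node (.node (.node (.node (.leaf 0x82282081e82082089e8228a08208208208a2)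 (.leaf 0x82082281e7a08208a282081e81e820820822)) (.leaf 0x7df7e17df7e18618df7df86185f7df7df85f)) (.node (.leaf 0x7df86185f7df7df8df85f8617df7df7e185f) (.leaf 0x7df7e185f7e17e18e185f7e17df7df7df7e1))) (.node (.node (.leaf 0x85f7e185d86185f85f85f7df85f85f7e17df) (.leaf 0x82082081e8208208a07a08208a282282079e)) (.node (.leaf 0x85f8617df7e185f8df7e185f7e18618617df) (.leaf 0x8208a081e8a07a08a08208208a2820822820))))) (.node (.node (.node (.node (.node (.leaf 0x7a082081e82081e8a08208a081e82081e81e) (.leaf 0x82082081c820820820820820820820720820)) (.leaf 0x81e82081e8208208a281e8a082082082089e)) (.node (.leaf 0x85f86185f86185f8e185f86185f7df7df7df) (.leaf 0x7df7df7dd7e17e18617e17e185f8618617df))) (.node (.node (.leaf 0x85f85f85f86185f8df85f7df85f85f85f861) (.leaf 0x82082089e8208208a08a089e8208207a081e)) (.node (.leaf 0x82082079e81e8208a28208208a082081e822) (.leaf 0x85f8617df85f85f8e17e18617e17df85f7e1)))) (.node (.node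 (.node (.leaf 0x7e18617df8617e18e17e17e17e17df7e17e1) (.leaf 0x8a082281e8208208a082079e8208228207a0)) (.node (.leaf 0x7e17e17dd7e17e186185f7df7e17df7e1861) (.leaf 0x82282081e8a08208a07a08208208a081e81e))) (.node (.node (.leaf 0x85f7e17dd85f85f85f7e17df7e185f8617e1) (.leaf 0x85f85f85f7df7e18e17df85f85f86185f861)) (.node (.leaf 0x7e17e17dd7df85f85f85f7df86185f86185f) (.leaf 0x89e82081e8208228a08a08208208207a07a0))))))))

/-- A part of a store. -/
def st12 : Store :=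
  (.node (.node (.node (.node (.node (.node (.node (.node (.leaf 0x8617df85f7e17df8df85f85f8618617df861) (.leaf 0x85f7df85d86186185f85f7e18618617df861)) (.leaf 0x86186185d7df86185f86185f8617df85f85f)) (.node (.leaf 0x86186185d7e185f8617df86185f85f7e17e1) (.leaf 0x82081e81e8228208a08208208228a2822820))) (.node (.node (.leaf 0x7df86185d8617e185f7df7df85f7e18617df) (.leaf 0x7df86185d7df7df85f7df8618617e17e17e1)) (.node (.leaf 0x81e8a081e8207a08a082082082089e8208a0) (.leaf 0x8208a081e79e8208a08208a082082282081e)))) (.node (.node (.node (.node (.leaf 0x8207a079e8208208a08228208227a0820822) (.leaf 0x7df85f85d7e17e186185f7e17df7df86185f)) (.leaf 0x82082081e8208a089e8208227a08208a07a0)) (.node (.leaf 0x82082081e8208a089e82081e8a08207a08a0) (.leaf 0x82282081e8228208a27a0822820822820820))) (.node (.node (.leaf 0x8617e185f85f7e18df86185f7df7df86185f) (.leaf 0x81e81e81e8208208a08228228208a07a0820)) (.node (.leaf 0x86186185d8617df85f7df7df7e17df7e17e1)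 (.leaf 0x8207a081e8a08208a079e81e8208208207a0))))) (.node (.node (.node (.node (.node (.leaf 0x82082079e8208a28a08208208207a07a2820) (.leaf 0x82082089e81e8208a08228208208227a07a0)) (.leaf 0x8a082079e8a07a08a082082082082082089e)) (.node (.leaf 0x7e17df7dd7df7df85f7df85f85f7e18617df) (.leaf 0x7e18617dd7df7df86186185f8617e1861861))) (.node (.node (.leaf 0x82082081e7a08208a08208a08227a08a07a0) (.leaf 0x7e18617dd85f8618618618617e17df7df861)) (.node (.leaf 0x82081e81e82079e8a08228208228208208a0) (.leaf 0x82082081e81e7a08a07a08a082082081e7a0)))) (.node (.node (.node (.node (.leaf 0x7e186185f7df7e18e17df8617df8617e17e1) (.leaf 0x82082281e81e8208a082082081e8a281e820)) (.leaf 0x8a082081e81e7a28a08208208a081e820820)) (.node (.leaf 0x86185f7dd86186185f8618617df7df86185f) (.leaf 0x82082079e8208a089e8207a0822822820820))) (.node (.node (.leaf 0x82082281e8207a08a08208a08a07a082081e) (.leaf 0x82082081e8208208a27a28208228208a2820))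 (.node (.leaf 0x82082081e7a081e8a28208208208228227a0) (.leaf 0x8a081e81e8208208a08208a282081e8207a0)))))) (.node (.node (.node (.node (.node (.node (.leaf 0x7e17e17dd85f85f8617e185f8617df85f7df) (.leaf 0x85f85f85f7e18618df7e17df8618617df7e1)) (.leaf 0x7df8617dd7df7df8617e17df85f7e17df7df)) (.node (.leaf 0x82082289e82082089e7a08208207a08208a0) (.leaf 0x82082081e8208208a07a082089e81e8208a2))) (.node (.node (.leaf 0x82082079e8228208a08228208208227a07a0) (.leaf 0x8a089e81e7a081e8a08208208208a0820820)) (.node (.leaf 0x82281e81e7a28208a08208207a08208208a0) (.leaf 0x85f86185d8617e186185f7df7e18617e185f)))) (.node (.node (.node (.node (.leaf 0x85f7e185d7e185f8617e185f85f7df7df85f) (.leaf 0x7a082081e8208208a282082082089e7a0822)) (.leaf 0x7e185f85d8617df85f85f86185f7df7e17df)) (.node (.leaf 0x85f7df7dd85f7df85f86185f7df7e1861861) (.leaf 0x86186185f86185f8e17df7e18617df861861))) (.node (.node (.leaf 0x81e82081e7a08208a08a08208207a0822822)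 (.leaf 0x82082281e7a07a08a07a08208208228a0820)) (.node (.leaf 0x82089e81e8208208a08208208208207a289e) (.leaf 0x8207a081e7a08208a07a281e8208208207a0))))) (.node (.node (.node (.node (.node (.leaf 0x8207a081e8228208a08a08207a08a07a0820) (.leaf 0x82082081c820820820820820820720820820)) (.leaf 0x7a082081e82289e8a08208207a0822820820)) (.node (.leaf 0x8a082279e8208208a082082079e8208a0820) (.leaf 0x82082281e82081e8a08a08228a0820822820))) (.node (.node (.leaf 0x82282079e8207a08a07a28208a0820820820) (.leaf 0x7a082089e8208228a2822822820820820820)) (.node (.leaf 0x8617df7df7e17df8e18617e185f8617e185f) (.leaf 0x82082081e8a28a08a281e8208208a0820820)))) (.node (.node (.node (.node (.leaf 0x82082079e79e8228a08a0820822820820820) (.leaf 0x8208a281e8208208a281e8207a081e820820)) (.leaf 0x82082281e8208228a07a081e8a082081e820)) (.node (.leaf 0x8a081e89e8208208a08208208a28208a0820) (.leaf 0x85f8617df85f85f8df7df8618617e17e185f)))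 (.node (.node (.leaf 0x86185f85d85f85f8617df7e185f86185f861) (.leaf 0x8207a079e82081e8a08207a07a08208208a0)) (.node (.leaf 0x7a082081e8208a08a07a08228227a0820820) (.leaf 0x82082081e8228208a081e7a289e820820820))))))) (.node (.node (.node (.node (.node (.node (.node (.leaf 0x85f7e17dd85f7df85f85f7e185f85f85f861) (.leaf 0x82082089e8228208a08228208208227a08a0)) (.leaf 0x7e17df7dd85f85f85f7e17e186185f7df861)) (.node (.leaf 0x85f86185d7e185f85f8617e17e18617e17e1) (.leaf 0x82282081e81e8a08a082082081e8207a0822))) (.node (.node (.leaf 0x8a282081e7a08208a081e82082281e820820) (.leaf 0x7df7e185d86185f85f7e17df8617e17df7e1)) (.node (.leaf 0x8a082081e8227a28a08208207a081e820820) (.leaf 0x85f7e17df8617e18e18617df7df7e17e1861)))) (.node (.node (.node (.node (.leaf 0x82082079e8208208a07a089e8208208a0822) (.leaf 0x82082089e7a281e8a08a082081e820820820)) (.leaf 0x82082089e8a08208a08208228a07a2820820)) (.node (.leaf 0x8a082089e8208228a281e822820820820820)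 (.leaf 0x82082289e8a08208a08228a082082081e820))) (.node (.node (.leaf 0x82082081e7a08228a08228208a08208a0822) (.leaf 0x82081e81e82081e8a07a081e8a082081e820)) (.node (.leaf 0x81e82081e8208208a08208a07a081e79e820) (.leaf 0x82082081e8208208a07a08208a281e82089e))))) (.node (.node (.node (.node (.node (.leaf 0x82082081e89e8a08a281e8208207a0820820) (.leaf 0x82081e81e8207a08a08207a08a07a082081e)) (.leaf 0x7a082081e8228a28a08208207a081e820820)) (.node (.leaf 0x7e17e185d86186185f85f7df7e18618617e1) (.leaf 0x8227a089e8a08208a28208208208208a0820))) (.node (.node (.leaf 0x7df7e185f7e17e18df8617e185f7e186185f) (.leaf 0x7df7e185d7e17e18617df7e18617e17df85f)) (.node (.leaf 0x85f7df7df85f8618df8617e186185f85f7e1) (.leaf 0x82079e79e81e8a08a082081e820820820820)))) (.node (.node (.node (.node (.leaf 0x82082081e8a08208a08208a08227a08a08a0) (.leaf 0x8a081e81e8228208a07a282082082082081e)) (.leaf 0x8617df85f85f7e18e18617e17df85f7e17e1))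 (.node (.leaf 0x82281e81e8a28208a08208207a08208207a0) (.leaf 0x8207a081e8a07a08a082082089e820822820))) (.node (.node (.leaf 0x7df7e185f8618618df85f85f86185f7df7e1) (.leaf 0x85f7df85f85f85f8e18617df7e17df861861)) (.node (.leaf 0x82082081e8208208a289e82081e82089e820) (.leaf 0x8208a081e82089e89e8a082082082082081e)))))) (.node (.node (.node (.node (.node (.node (.leaf 0x85f7e185d7e17df85f8618618617e185f861) (.leaf 0x82081e89e82082089e8a08208208a08207a0)) (.leaf 0x7a082089e8a07a08a082082082082082089e)) (.node (.leaf 0x82082081e81e8228a082081e8207a082079e) (.leaf 0x7df7e185d7e17df85f7df86185f85f86185f))) (.node (.node (.leaf 0x85f7e17dd86185f85f85f8617e186186185f) (.leaf 0x7df86185f8617df8e185f85f7df8617df861)) (.node (.leaf 0x7e17df7dd7df7df8617e185f7df7df7df861) (.leaf 0x7df7df85d85f85f86185f7df86185f85f7e1)))) (.node (.node (.node (.node (.leaf 0x7e185f7df85f7df8df86186185f7e186185f) (.leaf 0x81e82081e82282089e8a082282081e820820))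 (.leaf 0x8617e185f7df7e18df7e17df85f8617e1861)) (.node (.leaf 0x85f7df85d7df85f86186185f7df85f7e17e1) (.leaf 0x82082089e8228208a082282082081e8a08a0))) (.node (.node (.leaf 0x85f7df7dd7df85f85f85f7e17e185f7df7df) (.leaf 0x8617e185f85f85f8e17df7e185f8617e17df)) (.node (.leaf 0x82282281e8208208a082281e8207a07a0820) (.leaf 0x81e82079e8208a08a089e8208a0820820820))))) (.node (.node (.node (.node (.node (.leaf 0x7df8617dd86186186185f85f7df7e1861861) (.leaf 0x7df7df7df7df7df8e17e17df85f7e1861861)) (.leaf 0x7e18617dd7df85f85f7e186185f7df7e185f)) (.node (.leaf 0x81e8a079e7a082089e8208208208207a0820) (.leaf 0x7df7e17dd86185f85f7e18617df7df85f861))) (.node (.node (.leaf 0x86185f7dd8617e185f7df85f8617df85f7df) (.leaf 0x82082081c820820820820820820820820720)) (.node (.leaf 0x85f7df7dd7df7e18617e185f8617e185f85f) (.leaf 0x82082089e8a08208a082081e7a07a2820820)))) (.node (.node (.node (.node (.leaf 0x82082281e81e81e89e8207a08208207a0820)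 (.leaf 0x7df7e185d7e186185f85f7df85f7df85f861)) (.leaf 0x8208a081e8a07a08a08208207a282081e820)) (.node (.leaf 0x7df7e185f7e17df8e186186186185f7df85f) (.leaf 0x82282279e82081e8a082082082082282081e))) (.node (.node (.leaf 0x7e185f85f7e18618df7df85f8617df85f861) (.leaf 0x7df7df7df7e185f8df7df85f8617e17e17e1)) (.node (.leaf 0x8208a081e81e8208a07a08208a08a07a0820) (.leaf 0x82082079e8a08208a08208227a089e820820))))))))

/-- A part of a store. -/
def st13 : Store :=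
  (.node (.node (.node (.node (.node (.node (.node (.node (.leaf 0x8617df7dd7df7df85f86185f86185f85f7e1) (.leaf 0x7a082081e79e8208a082081e82082089e820)) (.leaf 0x85f85f7df7e185f8e17e17e17e17e17e1861)) (.node (.leaf 0x8618617dd7e17df85f85f7e17df85f7e185f) (.leaf 0x82081e81e8208a08a08207a08a08a082081e))) (.node (.node (.leaf 0x8a082089e8a08a08a082082082082082089e) (.leaf 0x85f7e17dd8617e185f7df7df7e17e185f861)) (.node (.leaf 0x7df7df85d7e17e185f7df85f86186185f7e1) (.leaf 0x7df7e17dd7df86185f7e17df7e17df7df85f)))) (.node (.node (.node (.node (.leaf 0x82082281e82281e8a28207a08208207a0820) (.leaf 0x81e7a081e8207a08a082082082079e8208a0)) (.leaf 0x8208a081e8a07a08a082082079e820822820)) (.node (.leaf 0x7e185f7dd7df7e185f85f8617df7e17e1861) (.leaf 0x82082081e81e8208a08228a28a2820820820))) (.node (.node (.leaf 0x85f86185f7df7df8df7e18617e18617df861) (.leaf 0x85f7df85f7df85f8e17e185f8618617e185f)) (.node (.leaf 0x85f8617dd7e17df85f7df8617e185f85f7e1)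 (.leaf 0x820820820820820924820820820820820820))))) (.node (.node (.node (.node (.node (.leaf 0x82082081e8a081e89e82082082082281e8a0) (.leaf 0x82082089e82089e8a08208208208a08a2820)) (.leaf 0x7a281e81e8208a089e820820820820822820)) (.node (.leaf 0x8208a081e8208228a08208228228227a0820) (.leaf 0x8a08a281e7a081e8a08208208207a0820820))) (.node (.node (.leaf 0x86185f7df7df7e18df86186185f8617df7e1) (.leaf 0x7a082081e8207a08a07a08228228a0820820)) (.node (.leaf 0x7e17df7df7e17df8e17df7e18617df7df861) (.leaf 0x86185f7df85f8618df85f7df8617df86185f)))) (.node (.node (.node (.node (.leaf 0x7df7df85d85f7e185f7e18617e17e17df861) (.leaf 0x82082081e81e8208a082289e89e820820820)) (.leaf 0x82082081e7a08228a282082082081e81e8a0)) (.node (.leaf 0x8207a281e8208208a082082082082089e89e) (.leaf 0x85f7df85d8617e185f7e17df7df8617e17e1))) (.node (.node (.leaf 0x7df7df85d85f86186186185f7df7df85f85f) (.leaf 0x82282081e82282089e7a081e820822820820))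 (.node (.leaf 0x82082081e8208228a079e8a08207a2820820) (.leaf 0x7e17e17dd8617df8617e17df7df7e18617e1)))))) (.node (.node (.node (.node (.node (.node (.leaf 0x85f7e17df8618618e17df7e18617e17df7e1) (.leaf 0x7df7df85d85f7df8617e17e17df85f861861)) (.leaf 0x7e17df7dd7df85f86185f8618617df7e17e1)) (.node (.leaf 0x86186185d7df7e18617e186185f7e17df861) (.leaf 0x82082081c820820820820720820820820820))) (.node (.node (.leaf 0x82082081e8a28a089e81e8208207a0820820) (.leaf 0x7e17df85f7e17df8df7e185f85f7df7e185f)) (.node (.leaf 0x7a282081e8208228a08a08208208208a08a0) (.leaf 0x8617df85f86185f8df8617e185f7df8617df)))) (.node (.node (.node (.node (.leaf 0x7e186185f85f8618df7df7df8617e17e17e1) (.leaf 0x85f7e185d7df85f85f8617e17df7df86185f)) (.leaf 0x7a082081e8208208a08228208a08a081e7a0)) (.node (.leaf 0x7e185f85f7e185f8e17df7df85f8617e1861) (.leaf 0x8617e185f7df8618e18617e186185f86185f))) (.node (.node (.leaf 0x7df85f7df7e18618df85f8617e17e186185f)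 (.leaf 0x8617e17df7df7e18df7e18617e185f8617e1)) (.node (.leaf 0x7e18617dd7e17e18617e18617df85f861861) (.leaf 0x81e82089e8208a08a07a28207a0820820820))))) (.node (.node (.node (.node (.node (.leaf 0x7df7e17dd7df7df85f8618617e185f7e1861) (.leaf 0x82082079e8228208a081e8208208227a08a0)) (.leaf 0x7a08a081e8208a08a08227a08208207a0820)) (.node (.leaf 0x8a08a081e81e8208a28208208228208208a0) (.leaf 0x82082081e81e81e8a082081e8208a082079e))) (.node (.node (.leaf 0x79e82281e8207a089e82082082082081e820) (.leaf 0x82089e81e8208208a281e8207a0822820820)) (.node (.leaf 0x7e17e185d85f7df86185f7df8617e17e17df) (.leaf 0x7a081e81e8228208a07a2820820820820822)))) (.node (.node (.node (.node (.leaf 0x8617df85d86186185f7df86185f8618617df) (.leaf 0x82282081e82282089e8a081e82081e820820)) (.leaf 0x82082081e8207a08a081e82282081e822822)) (.node (.leaf 0x82082081e81e7a08a08a07a082082081e7a0) (.leaf 0x82081e81e7a082089e82081e81e820820822)))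 (.node (.node (.leaf 0x85f7df85d7e18618617e18618617e17e17e1) (.leaf 0x8a282281e8207a089e82082082082081e820)) (.node (.leaf 0x82082081e8207a089e8208227a08208a08a0) (.leaf 0x7e18617df86185f8df85f85f861861861861))))))) (.node (.node (.node (.node (.node (.node (.node (.leaf 0x8617e17df8618618df8618617df7df7df7e1) (.leaf 0x82082081e8208208a08a082079e81e82079e)) (.leaf 0x85f7df7dd7df86185f86186185f7df7df861)) (.node (.leaf 0x7df7e185f7e185f8df7e185f85f86185f861) (.leaf 0x8617e17dd7e17df8617df85f8617e17df7e1))) (.node (.node (.leaf 0x8a082079e8a08a08a08208208208208208a2) (.leaf 0x85f7df85d86185f86185f86185f7df861861)) (.node (.leaf 0x82082089e82079e8a08208208207a08a2820) (.leaf 0x82082279e7a08208a081e7a082082081e820)))) (.node (.node (.node (.node (.leaf 0x7df8617dd7e186185f7e17df7df86185f7e1) (.leaf 0x7df86185d7e17e186186185f85f86185f85f)) (.leaf 0x85f7e185d85f7e185f8617df85f7e17df85f)) (.node (.leaf 0x7e17df85f7df7df8df85f7e185f7e17e17e1)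 (.leaf 0x8208a081e8a28208a08207a0820822820822))) (.node (.node (.leaf 0x82082081e81e8228a08208228208a082079e) (.leaf 0x8a082081e8208208a081e8207a07a08228a0)) (.node (.leaf 0x8a082081e8a08208a27a07a07a0820820820) (.leaf 0x8227a281e8208208a08a08a0822820820820))))) (.node (.node (.node (.node (.node (.leaf 0x7df7e185f86185f8e185f7df85f7e18617e1) (.leaf 0x81e81e79e8208228a082082082081e82081e)) (.leaf 0x7a082081e8a082089e8a08a07a0820820820)) (.node (.leaf 0x81e7a081e8228228a081e820820820822820) (.leaf 0x7df85f85f86185f8e17df7df7e17df7df7e1))) (.node (.node (.leaf 0x8618617dd7e185f8617df7df7e1861861861) (.leaf 0x82082281e82282289e8208a08208208a0820)) (.node (.leaf 0x7a082281e8228208a079e820820820820822) (.leaf 0x82282081e81e7a08a082082081e8207a081e)))) (.node (.node (.node (.node (.leaf 0x86185f7df8617df8df8617df86186185f7df) (.leaf 0x81e82289e82081e8a082082082081e820822)) (.leaf 0x7df85f85f7df7df8df8617df85f8617df85f))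 (.node (.leaf 0x82082081e82082089e8a28208228208a2820) (.leaf 0x7df8617dd7e17df86185f86185f7df7df861))) (.node (.node (.leaf 0x85f8617df85f7df8df86185f7df7e17df7df) (.leaf 0x82281e79e82081e8a082082082081e82081e)) (.node (.leaf 0x8617e17df7e18618df7e17e185f86185f7df) (.leaf 0x82082081c820820820820820824820820820)))))) (.node (.node (.node (.node (.node (.node (.leaf 0x82082081e8a08208a08207a08227a07a08a0) (.leaf 0x8617df7dd8617e185f8617e185f85f7df7df)) (.leaf 0x8a07a081e8207a08a08228a08208207a0820)) (.node (.leaf 0x8a082081e8208a08a08a08228227a0820820) (.leaf 0x85f85f85f7e185f8df7df85f7df7e17df85f))) (.node (.node (.leaf 0x85f7df85f85f8618df86185f7df8617df861) (.leaf 0x7df7e185d85f7e18617e17df7e186185f7df)) (.node (.leaf 0x7df85f85d7df7df8617df7df86186186185f) (.leaf 0x7e18617dd85f85f85f8617e17df861861861)))) (.node (.node (.node (.node (.leaf 0x7df8617df7e18618e185f7df7e18617e17e1) (.leaf 0x7a081e81e8208208a08208a28208228207a0))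 (.leaf 0x8208a081e8208228a082082281e8228a0820)) (.node (.leaf 0x86186185d85f7e18618617e17df85f85f85f) (.leaf 0x82082089e82282089e8208207a082081e822))) (.node (.node (.leaf 0x7e17df85d86186185f8618618617df85f7e1) (.leaf 0x8207a081e81e8208a08a08208a08a07a0820)) (.node (.leaf 0x86185f7df7e185f8e18618617df7e185f7df) (.leaf 0x82082081e8228208a08227a28a2820820820))))) (.node (.node (.node (.node (.node (.leaf 0x7e17e17dd7df85f8618617df7e18617df7e1) (.leaf 0x82089e81e8208208a082082082082089e89e)) (.leaf 0x82082081e7a28a089e8228208207a0820820)) (.node (.leaf 0x8a082081e8208208a081e8207a07a081e7a0) (.leaf 0x8208a081e8a08208a089e8228208208208a0))) (.node (.node (.leaf 0x7df85f85d7df86186185f8618617e185f861) (.leaf 0x7df7e185d7e185f86185f85f8618617e1861)) (.node (.leaf 0x8208a081e8208208a282079e8208a081e820) (.leaf 0x85f85f7df86185f8e186186186185f86185f)))) (.node (.node (.node (.node (.leaf 0x85f7df85d85f7e186186186185f86185f7e1)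 (.leaf 0x82279e81e8208208a07a07a081e820820820)) (.leaf 0x8a082089e7a07a08a08208208208208207a2)) (.node (.leaf 0x82082079e8207a08a28207a081e81e820820) (.leaf 0x8208a081e8207a28a27a082082082082081e))) (.node (.node (.leaf 0x7e17e185f85f8618e185f8617df85f7df85f) (.leaf 0x7df7e185f86185f8df8617df7df7df7df85f)) (.node (.leaf 0x7e18617dd7df7e186185f7df7df8618617df) (.leaf 0x81e82081e82082289e8208208a27a0820820))))))))

/-- A part of a store. -/
def st14 : Store :=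
  (.node (.node (.node (.node (.node (.node (.node (.node (.leaf 0x8618617df86185f8df7e185f85f7df85f85f) (.leaf 0x7a081e81e81e8208a08a2820820820820822)) (.leaf 0x82082079e8228208a081e8208208228a07a0)) (.node (.leaf 0x85f8617dd7df7df86185f7df86185f7e17e1) (.leaf 0x82081e81e8208a08a08207a07a08a0820822))) (.node (.node (.leaf 0x81e82081e8a08208a08a08208208a0822822) (.leaf 0x8617e17df7e185f8e17e18618617df7e17df)) (.node (.leaf 0x81e8a081e8228228a0822820820820822820) (.leaf 0x82081e81e7a08a08a08a08208208227a0820)))) (.node (.node (.node (.node (.leaf 0x86185f85d86186186185f7df7e17df85f861) (.leaf 0x7df85f7df85f7e18e17e186185f85f8617e1)) (.leaf 0x82082089e82282089e8208207a082082281e)) (.node (.leaf 0x7df85f85f7df85f8e17e17e186185f85f861) (.leaf 0x7df7e17dd7e17df8617e17df86185f85f861))) (.node (.node (.leaf 0x8617df85d7e17df85f7df85f7df85f7df7df) (.leaf 0x8207a081e81e8208a07a08208a07a07a0820)) (.node (.leaf 0x7e18617df7e17df8df8617e185f7df7df7df)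 (.leaf 0x81e82081e81e8208a27a081e82081e820820))))) (.node (.node (.node (.node (.node (.leaf 0x82082081e7a081e8a282082082082281e8a0) (.leaf 0x82082089e7a08208a082081e8a07a2820820)) (.leaf 0x7a082089e7a08a08a082082082082082089e)) (.node (.leaf 0x7e17df7dd86185f86186185f7e185f861861) (.leaf 0x8a081e81e8228208a08a2820820820820822))) (.node (.node (.leaf 0x81e82081e7a08208a07a08208208a0822822) (.leaf 0x8618617df8617df8e18618618617e17df861)) (.node (.leaf 0x7e185f85d7df7df86185f85f85f8617df7e1) (.leaf 0x81e82081e7a089e8a082079e820820820820)))) (.node (.node (.node (.node (.leaf 0x82082089e8208208a07a079e8208207a081e) (.leaf 0x82082081c820820820920820820820820820)) (.leaf 0x8a281e81e8207a089e820820820820822820)) (.node (.leaf 0x86185f85d7e18618617df85f8618617df85f) (.leaf 0x8208a081e7a07a08a08208208a282081e820))) (.node (.node (.leaf 0x85f7df85d7df86185f8617df7e17e185f7e1) (.leaf 0x82282281e8208208a081e8228208a08a0820))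 (.node (.leaf 0x8228a081e8207a08a082082082079e8208a0) (.leaf 0x82082081e81e8208a081e89e8a2820820820)))))) (.node (.node (.node (.node (.node (.node (.leaf 0x7a082081e82081e8a08208a082282082281e) (.leaf 0x7e185f85d7e17df85f7df7e17df8618617e1)) (.leaf 0x7e17df7dd7e185f85f7df7df7e17df85f7e1)) (.node (.leaf 0x7df8617dd85f7df86186185f7df85f85f7e1) (.leaf 0x82081e81e82089e8a081e8208228208208a0))) (.node (.node (.leaf 0x81e82081e8208208a08208a07a082289e820) (.leaf 0x8a282081e8a08208a081e82081e81e820820)) (.node (.leaf 0x8208a079e8208208a08228208228a0820822) (.leaf 0x82082081e8227a08a08a08a082082081e7a0)))) (.node (.node (.node (.node (.leaf 0x7df7df85f85f8618df7df85f7e17df7e185f) (.leaf 0x82092081c820820820820820820820820820)) (.leaf 0x81e82089e8208208a082082281e8208227a0)) (.node (.leaf 0x7e17df7df8617e18e18617e185f7e185f7e1) (.leaf 0x7df7df85d85f7df85f7df7e185f8617df7df))) (.node (.node (.leaf 0x8207a081e81e8208a07a08208a08a08a0820)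 (.leaf 0x82281e81e8208208a081e81e8207a07a0820)) (.node (.leaf 0x85f85f85d85f8618618617e17df7e17e1861) (.leaf 0x82082081c820820820820820820820820824))))) (.node (.node (.node (.node (.node (.leaf 0x82082081e82082089e89e82081e82079e820) (.leaf 0x7e17e17df7e17df8df7df85f86185f85f7df)) (.leaf 0x82082081e81e8a08a08a08a082082081e7a0)) (.node (.leaf 0x8a07a081e8228208a28208208228208208a0) (.leaf 0x82081e81e8208a08a08208a07a08a082081e))) (.node (.node (.leaf 0x82082081e8228208a081e89e89e820820820) (.leaf 0x82079e81e8208208a082082082082079e89e)) (.node (.leaf 0x86185f85d7df7df8617e185f8617df7e17df) (.leaf 0x85f85f7dd8617df86185f85f86186185f861)))) (.node (.node (.node (.node (.leaf 0x82082089e8a281e8a07a082081e820820820) (.leaf 0x82082281e8a08208a282081e81e82082081e)) (.leaf 0x7df7e17df7df7e18df7df7e17e17e17e1861)) (.node (.leaf 0x89e82089e81e8208a08208a08207a0820820) (.leaf 0x86185f7dd85f85f8617df85f7e185f7df7e1)))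 (.node (.node (.leaf 0x85f7e17dd7e185f85f7df7e18617df7e1861) (.leaf 0x85f86185f86185f8df8618617df7e1861861)) (.node (.leaf 0x82082081e8227a08a07a07a082082081e7a0) (.leaf 0x7a07a079e8208208a07a082082081e822820))))))) (.node (.node (.node (.node (.node (.node (.node (.leaf 0x7df8617df7e17df8e17df8617e17e17df7df) (.leaf 0x82082089e81e8208a082282082081e8a07a0)) (.leaf 0x8617df85f7e185f8df7e18617df8617e17e1)) (.node (.leaf 0x85f86185d85f7e185f7df86186186185f85f) (.leaf 0x8a07a089e8208208a07a082082081e822820))) (.node (.node (.leaf 0x8a282089e8228208a08208a08207a0820820) (.leaf 0x82082281e82281e89e8208a08208207a0820)) (.node (.leaf 0x82081e81e8a08208a282082281e82082081e) (.leaf 0x7e186185d85f7df8617e186185f8618617df)))) (.node (.node (.node (.node (.leaf 0x81e81e81e8208208a081e81e8208a07a0820) (.leaf 0x7df85f85d7e17df86186186186185f8617e1)) (.leaf 0x7df86185d7df86185f85f7df8618617df7df)) (.node (.leaf 0x86185f7dd7df7df8617e17e17df7e186185f)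 (.leaf 0x81e82081e8228a08a08208208228208a0822))) (.node (.node (.leaf 0x7df7df7df8618618e185f85f7df7e17df7df) (.leaf 0x8617df85d7e185f86185f8617e186185f7e1)) (.node (.leaf 0x85f85f85d86185f85f7df7df7e186185f7df) (.leaf 0x8208a081e79e8208a08207a0820822820822))))) (.node (.node (.node (.node (.node (.leaf 0x81e82081e8228a08a08208208228207a081e) (.leaf 0x82082281e7a08208a2820822822820820822)) (.leaf 0x79e82081e8a08208a081e82081e81e820820)) (.node (.leaf 0x82082089e8207a28a08208208207a089e820) (.leaf 0x82282081e8208208a08207a08a081e7a2820))) (.node (.node (.leaf 0x7a07a281e7a08228a08208208208a0820820) (.leaf 0x7a082081e8207a08a08a082281e8a0820820)) (.node (.leaf 0x7e17e185f7e17df8e17e17e185f85f8617e1) (.leaf 0x8207a089e8208228a08208a07a08208207a0)))) (.node (.node (.node (.node (.leaf 0x82082081e82081e8a089e7a08208a2820820) (.leaf 0x8208a279e81e7a08a0820822820820820820)) (.leaf 0x82082079e81e82089e8208208a0820822822))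 (.node (.leaf 0x85f7e17df85f85f8df8617df85f86186185f) (.leaf 0x85f85f7dd7df85f8617df85f85f7e17e1861))) (.node (.node (.leaf 0x7df8617df7df8618df7df86186186185f7e1) (.leaf 0x81e82081e8208208a08208a08a081e7a2820)) (.node (.leaf 0x8617df7df8618618df85f7df85f8617e17e1) (.leaf 0x82082281e8208a08a08207a07a07a0820822)))))) (.node (.node (.node (.node (.node (.node (.leaf 0x85f7e17dd86186186185f7e17df7df7df85f) (.leaf 0x82082081e8208228a08a27a082079e820820)) (.leaf 0x8a082279e8208208a08208208a28208a0820)) (.node (.leaf 0x8a082081e8208208a28208208207a28a0822) (.leaf 0x8a082281e8228208a07a2820820820820822))) (.node (.node (.leaf 0x82082279e82082089e7a08208207a08207a0) (.leaf 0x7df86185f7df7e18df8617e186185f7e17e1)) (.node (.leaf 0x85f7df7df7e17e18e17df7e17df7e185f85f) (.leaf 0x7a08a081e82282089e82082081e8208208a0)))) (.node (.node (.node (.node (.leaf 0x7e17df7dd7e18618617df85f7df8617e17e1) (.leaf 0x7a282081e8a08208a081e82082281e820820))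 (.leaf 0x82281e89e82081e8a082082082082282081e)) (.node (.leaf 0x7e17df85f85f7df8df7df8617df85f8617df) (.leaf 0x82082081e82081e8a07a27a08208a2820820))) (.node (.node (.leaf 0x7df86185f7df85f8df7e185f8617df7df7df) (.leaf 0x7e18617dd8617df85f86186186185f85f85f)) (.node (.leaf 0x82082081e7a081e89e82082082081e8227a0) (.leaf 0x81e82081e8a07a28a082089e820820820820))))) (.node (.node (.node (.node (.node (.leaf 0x79e82079e8228208a08208a08208a0820820) (.leaf 0x82082089e8228208a28208207a0820822822)) (.leaf 0x82082081e8208208a08a08208a28228207a2)) (.node (.leaf 0x82082079e8228208a081e82082081e8a08a0) (.leaf 0x82082081c82081c820820820820820820820))) (.node (.node (.leaf 0x82282081e8208208a08207a08a082279e820) (.leaf 0x8207a081e8228208a07a08207a08a08a0820)) (.node (.leaf 0x8617e185d7df86185f7df7e185f85f7df85f) (.leaf 0x82082081e8208208a08a08207a28228208a2)))) (.node (.node (.node (.node (.leaf 0x7df7df85f7e17df8df8617df8617df85f7e1)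 (.leaf 0x82082081e8208208a08a08207a281e82089e)) (.leaf 0x8a082081e8208228a08207a081e82082281e)) (.node (.leaf 0x8617df85d7e17df8617e185f85f861861861) (.leaf 0x8208a081e8a08a08a08208208a282081e820))) (.node (.node (.leaf 0x82081e81e8208228a08a08227a082081e820) (.leaf 0x82082081e8208a08a081e81e82082282281e)) (.node (.leaf 0x7df7df7dd7df86185f7df8618618617e185f) (.leaf 0x7a082089e82081e89e81e81e820820820820))))))))

/-- A part of a store. -/
def st15 : Store :=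
  (.node (.node (.node (.node (.node (.node (.node (.node (.leaf 0x82081e81e7a08208a282081e822820820822) (.leaf 0x7a082081e82082089e82082082089e7a081e)) (.leaf 0x8617df85d8617df85f85f7df85f7e185f7e1)) (.node (.leaf 0x8617df7dd7e17e18617df86185f7df7e185f) (.leaf 0x85f7df85d7df7df85f7e18617e18618617df))) (.node (.node (.leaf 0x8a082081e81e8a28a08208207a081e820820) (.leaf 0x7e17e17df7df7e18df85f8617df7e185f7df)) (.node (.leaf 0x8617df85f7df85f8df85f7df7df85f7e185f) (.leaf 0x7df86185f7e185f8e18617e17e17df8617df)))) (.node (.node (.node (.node (.leaf 0x7df7e185d85f85f85f85f8618617df7df85f) (.leaf 0x8617e185d7df7e186185f7df86186185f861)) (.leaf 0x82282289e82081e8a0820820820822820822)) (.node (.leaf 0x85f85f7df7e18618e17df86185f8617e17df) (.leaf 0x81e79e81e8208208a07a08a081e820820820))) (.node (.node (.leaf 0x7a282081e82081e8a07a08208208208a08a0) (.leaf 0x89e7a081e8208208a082081e7a082082081e)) (.node (.leaf 0x82281e81e79e8208a08208207a08208207a0)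 (.leaf 0x82082081c820820820820820820824820820))))) (.node (.node (.node (.node (.node (.leaf 0x7e185f7dd7e17df85f7df85f86185f7e1861) (.leaf 0x86185f85d85f7df8618617df7e18618617e1)) (.leaf 0x7a082081e8208a08a08a081e8227a0820820)) (.node (.leaf 0x7df7df85d85f86185f85f85f85f7e17e17e1) (.leaf 0x8a082081e89e8208a082081e82082089e820))) (.node (.node (.leaf 0x82081e81e81e8228a28207a08208208a0820) (.leaf 0x82282089e8207a08a089e8207a0820820820)) (.node (.leaf 0x8618617dd8617e185f7e17e17e18618617df) (.leaf 0x82282081e8a079e8a082089e820820820820)))) (.node (.node (.node (.node (.leaf 0x79e82089e81e8208a08207a08207a0820820) (.leaf 0x82082081e8228208a081e89e7a2820820820)) (.leaf 0x82082089e8208a089e8207a081e822820820)) (.node (.leaf 0x85f7df85f7df7e18e18617e18617e17df861) (.leaf 0x7e17df85f7df7e18e185f86186185f85f7e1))) (.node (.node (.leaf 0x7df85f85d8617df8617e17e17e17e17e17df) (.leaf 0x8a082081e8208228a08208a081e820822822))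 (.node (.leaf 0x8207a081e8208228a082081e82281e8a0820) (.leaf 0x7df7df85f7e17df8e185f7df7e17e17e185f)))))) (.node (.node (.node (.node (.node (.node (.leaf 0x7e17e185d8617df8617e18618617df7e1861) (.leaf 0x89e82079e8228208a08208a08207a0820820)) (.leaf 0x81e82081e7a089e8a08208a2820820820820)) (.node (.leaf 0x85f85f7dd85f86186186185f8617df8617e1) (.leaf 0x8a082281e81e8208a079e820820820820822))) (.node (.node (.leaf 0x82082081e7a081e8a282082082081e81e7a0) (.leaf 0x7e17e185f8617e18e185f7e18618617e1861)) (.node (.leaf 0x82281e81e8208208a081e8228207a08a0820) (.leaf 0x85f8617df85f8618df7e17e17df8617e17e1)))) (.node (.node (.node (.node (.leaf 0x7df86185d85f85f8617df7df7df8617e17e1) (.leaf 0x82082081e8208208a07a082079e81e8207a2)) (.leaf 0x8207a281e8208208a08208208208207a289e)) (.node (.leaf 0x7df85f85f85f7df8e17df85f85f7e17e17df) (.leaf 0x85f7e17dd7e17e186186185f7e18618617e1))) (.node (.node (.leaf 0x85f7df7dd7e186185f7df7df85f7e17df7df)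 (.leaf 0x85f7df85f8617df8df85f85f7df7df7e17e1)) (.node (.leaf 0x7e17df85f86185f8e17e17e17e185f7e185f) (.leaf 0x8617e17dd85f85f85f86185f7df85f7df85f))))) (.node (.node (.node (.node (.node (.leaf 0x7a082279e8208208a08208207a28208a0820) (.leaf 0x8208a089e8208208a08228208228a082081e)) (.leaf 0x7a082081e8227a28a08208207a0822820820)) (.node (.leaf 0x82282081e82082289e8208208a28a0820820) (.leaf 0x82082071c820820820820820820820820820))) (.node (.node (.leaf 0x7a082081e8208208a08228208a07a08227a0) (.leaf 0x81c820820820820920820820820820820820)) (.node (.leaf 0x85f7df85d85f7e185f85f8617df85f7e185f) (.leaf 0x7a082081e89e8208a082081e8208208a2820)))) (.node (.node (.node (.node (.leaf 0x7e18617dd7e185f85f85f7df85f7e17e17e1) (.leaf 0x82082081c820820820820820820820824820)) (.leaf 0x8208a081e8208228a082081e81e8227a0820)) (.node (.leaf 0x82082081e81e7a08a07a07a082082081e8a0) (.leaf 0x8a282081e8a08208a082282082281e820820)))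 (.node (.node (.leaf 0x8617df85d85f85f85f85f85f7e17df8617df) (.leaf 0x82082082081c820920820820820820820820)) (.node (.leaf 0x8207a081e8208228a082082282281e7a0820) (.leaf 0x8617df85d86185f85f7e17e17e17e1861861))))))) (.node (.node (.node (.node (.node (.node (.node (.leaf 0x8207a079e82081e8a08208a07a08208207a0) (.leaf 0x7df7df85f7df7df8e17e18617e17df7e17e1)) (.leaf 0x7e185f7dd8617df85f85f7df7e17e186185f)) (.node (.leaf 0x8617e17dd7df7e185f86186185f86186185f) (.leaf 0x8207a081e7a08208a07a28228208208208a0))) (.node (.node (.leaf 0x8227a081e8208a08a082082082089e8207a0) (.leaf 0x8618617dd7df85f85f85f8618618617df861)) (.node (.leaf 0x85f86185d7e17e185f7e185f7e17e17df7df) (.leaf 0x85f7e185d85f8618617e17e18617df85f861)))) (.node (.node (.node (.node (.leaf 0x7e17df7dd85f8618617e186185f7e1861861) (.leaf 0x7a08a281e7a08228a08208208207a0820820)) (.leaf 0x7a089e81e7a08228a08208208208a0820820)) (.node (.leaf 0x7e185f7dd86185f8617df7e17df7df7e1861)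 (.leaf 0x85f86185f8617df8e17e185f7e17df7e185f))) (.node (.node (.leaf 0x82082081e81e8228a08208228208a08208a2) (.leaf 0x8a082081e8208228a08207a0822820822822)) (.node (.leaf 0x82082081e82082089e89e82081e8208a2820) (.leaf 0x8a082081e8208a08a07a081e81e8a0820820))))) (.node (.node (.node (.node (.node (.leaf 0x7e18617df7e18618e17df85f7df86185f85f) (.leaf 0x81e82281e8208208a08228228207a07a0820)) (.leaf 0x7a282081e7a08208a082282081e822820820)) (.node (.leaf 0x85f85f7dd7df7df8618618617e17e17df7e1) (.leaf 0x82082281e82081e8a07a081e8a0820822820))) (.node (.node (.leaf 0x86185f85d8617df85f7e18618618617df7e1) (.leaf 0x7a082081e8208208a08228207a08a08227a0)) (.node (.leaf 0x7e185f85d85f7e18617e185f86185f85f861) (.leaf 0x7a079e81e8a081e8a08208208207a0820820)))) (.node (.node (.node (.node (.leaf 0x82082081e8208228a079e7a082079e820820) (.leaf 0x8617e17df7df7e18e17df8618618617df85f)) (.leaf 0x82082089e79e8228a07a0820822820820820))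 (.node (.leaf 0x85f7df85f7df7df8e185f8617df8617df7df) (.leaf 0x7e17df7dd86186186185f7df85f7df8617df))) (.node (.node (.leaf 0x7df7df7dd85f8618618617e18617e17df7df) (.leaf 0x82082079e8208208a07a089e8208207a081e)) (.node (.leaf 0x82082081e82081e8a07a28a082089e820820) (.leaf 0x8207a081e8a08a08a082082079e820822820)))))) (.node (.node (.node (.node (.node (.node (.leaf 0x8a082289e8208208a08208207a28208a0820) (.leaf 0x82082089e81e8208a081e82082081e7a07a0)) (.leaf 0x8a082079e7a08a08a082082082082082089e)) (.node (.leaf 0x8208a081e82081e8a082081e82281e8a0820) (.leaf 0x82282081e82081e89e8208207a28a0820820))) (.node (.node (.leaf 0x81e82081e7a08208a07a08208208a081e81e) (.leaf 0x7df85f85f85f8618df8617e17df85f86185f)) (.node (.leaf 0x8617df7df7df7e18e17e17df7e17df7e185f) (.leaf 0x8207a081e8a08a08a082082089e82081e820)))) (.node (.node (.node (.node (.leaf 0x82082081e8208228a089e7a082089e820820) (.leaf 0x81e82281e79e8208a08208208a08208208a0))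 (.leaf 0x81e7a089e7a08208a28208208208208a0820)) (.node (.leaf 0x7df7df85f8618618df8617e17e17e17e17e1) (.leaf 0x8a282281e8207a08a2820820820820822820))) (.node (.node (.leaf 0x86186185d8617e18617df85f7df86185f7e1) (.leaf 0x82281e81e89e8208a08208208a08208207a0)) (.node (.leaf 0x8617df7df85f8618df7e186185f85f7e185f) (.leaf 0x82282081e82082089e8227a082082082089e))))) (.node (.node (.node (.node (.node (.leaf 0x7df85f7dd85f86185f7e185f7df85f7e1861) (.leaf 0x8207a089e82081e8a08208a08a08208207a0)) (.leaf 0x82082081e8208208a08a08207a281e8207a2)) (.node (.leaf 0x82082289e8208208a28a08208207a08208a0) (.leaf 0x82082281e8208228a08a081e8a0820822820))) (.node (.node (.leaf 0x8a28a081e8208208a08208227a0820820822) (.leaf 0x7e18617df8617df8e17df86185f85f7e185f)) (.node (.leaf 0x85f7df7dd7e17e185f8617e17e17e17e185f) (.leaf 0x82081e79e8208208a27a08208207a08207a0)))) (.node (.node (.node (.leaf 0x7df7df85f85f7e18df86186185f7df7df7df)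 (.leaf 0x8227a081e81e8228a082282082082081e820)) (.node (.leaf 0x82082281e8a07a08a08a08208208228a0820) (.leaf 0x8a07a089e8208208a08a0820820822822820))) (.node (.node (.leaf 0x85f7df85d7e185f8617df7e17df8617e185f) (.leaf 0x8617df85f7df85f8e18617df85f86185f7e1)) (.node (.leaf 0x7e17e185d7e186185f7df85f8617df7e17df) (.leaf 0x82081e81e82281e89e8207a08208207a0820))))))))

/-- A part of a store. -/
def st16 : Store :=
  (.node (.node (.node (.node (.node (.node (.node (.node (.leaf 0x82079e81e8208208a08208208208208a289e) (.leaf 0x7e185f85f85f8618df7e18617e185f7df7e1)) (.leaf 0x85f7df85f7e185f8e185f7e186185f7e17e1)) (.node (.leaf 0x85f7df85d7e185f85f7e17e185f85f85f7e1) (.leaf 0x7df86185d85f7e185f86186185f7df861861))) (.node (.node (.leaf 0x7e17df85f7e18618e185f7e17df8618617df) (.leaf 0x8207a089e8208208a081e8208227a0820822)) (.node (.leaf 0x7e17e17dd7e17df85f85f85f7df86185f861) (.leaf 0x85f85f7df7df7e18e17df7e17e185f7df7e1))))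 (.node (.node (.node (.node (.leaf 0x82082079e8208208a08a089e8208207a0822) (.leaf 0x7df7e17dd7df7df86185f86186186185f7df)) (.leaf 0x82282281e7a28208a08208207a08208207a0)) (.node (.leaf 0x82082081e7a08208a08208a08227a07a08a0) (.leaf 0x8207a281e8208208a28228208a0822820820))) (.node (.node (.leaf 0x86185f85d86185f86186185f85f85f85f7df) (.leaf 0x7e185f7df7df7e18e17e18617e17e185f861)) (.node (.leaf 0x8617e185d85f7df8617e17df85f85f7df7e1) (.leaf 0x82082079e81e8208a28208207a082081e81e))))) (.node (.node (.node (.node (.node (.leaf 0x82082079e8208208a08a08a28208208a0822) (.leaf 0x81e7a089e7a082089e8208208208207a0820)) (.leaf 0x8227a081e8208a08a082082082079e8208a0)) (.node (.leaf 0x8228a079e7a082089e8208208208208a0820) (.leaf 0x82082081e8a08228a08228208a08208a081e))) (.node (.node (.leaf 0x82082089e8228208a081e82082081e7a08a0) (.leaf 0x7df85f85d8617e18617df86185f8617e1861)) (.node (.leaf 0x85f85f7dd7df7e186185f7e185f8617df85f)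 (.leaf 0x82282081e81e7a08a08208208228208a081e)))) (.node (.node (.node (.node (.leaf 0x82082081e8208208a28a282081e82079e820) (.leaf 0x8617df85d85f86185f8617df85f85f861861)) (.leaf 0x82082089e8a08208a082081e7a089e820820)) (.node (.leaf 0x7df7e17df85f7e18df85f86186185f86185f) (.leaf 0x7e17e185f85f85f8e18617e18617df7df7e1))) (.node (.node (.leaf 0x85f7e17dd7df8618618617df85f85f85f7df) (.leaf 0x82282081e8208208a281e8a082082082079e)) (.node (.leaf 0x89e82081e82081e8a07a08208208207a07a0) (.leaf 0x7df7e185f7e17df8df85f8617e18618617e1)))))) (.node (.node (.node (.node (.node (.node (.leaf 0x85f7df7df7e185f8e185f85f7df861861861) (.leaf 0x8618617df7e17e18e17df86185f7df85f7e1)) (.leaf 0x7e17df7dd7e17df86185f7e17df7e17df7df)) (.node (.leaf 0x8618617df7df8618df7e17e18617df7df861) (.leaf 0x8208a081e8a08208a079e81e8208208208a0))) (.node (.node (.leaf 0x8207a081e8a08a08a08208208a2820822820) (.leaf 0x8a089e81e8a081e8a08208208207a0820820))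 (.node (.leaf 0x85f7df85d85f7df85f8617e18617df7e17e1) (.leaf 0x8208a081e7a28208a08208a082081e82081e)))) (.node (.node (.node (.node (.leaf 0x7e17e17df7e185f8df8618617df85f86185f) (.leaf 0x7df7e185d85f86185f8617e17df85f7df7e1)) (.leaf 0x7e185f85d7df7e185f85f7df8617df8617e1)) (.node (.leaf 0x7df85f7dd7df7df8617df8617df85f7e17df) (.leaf 0x86186185d7e17df86186185f7e185f7df861))) (.node (.node (.leaf 0x82082089e81e8208a28208207a082082281e) (.leaf 0x82082079e8208208a08a07a28208208a081e)) (.node (.leaf 0x8207a081e8208228a082082281e81e8a0820) (.leaf 0x81e82081e82082089e8227a082082082079e))))) (.node (.node (.node (.node (.node (.leaf 0x8617e185d86185f8617e185f7e18617e17df) (.leaf 0x8208a081e8228208a08a08207a07a07a0820)) (.leaf 0x79e82281e8208a089e820820820820822820)) (.node (.leaf 0x85f85f85d7e185f86186185f7e17e186185f) (.leaf 0x82081e79e8208208a28a08208207a08208a0))) (.node (.node (.leaf 0x8617df85f85f85f8df7df85f85f7e1861861)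 (.leaf 0x82082081e8208208a08a082089e81e82089e)) (.node (.leaf 0x7df7df85d85f7e18617df8618617df8617df) (.leaf 0x7df7e17df86185f8e185f8617e17df7e1861)))) (.node (.node (.node (.node (.leaf 0x82081e89e7a08208a081e7a082082081e820) (.leaf 0x82282081e8227a08a082082081e8207a0822)) (.leaf 0x85f86185f8617e18df7e17df7df86185f85f)) (.node (.leaf 0x7e17df85d8617df85f7e17df86185f8617df) (.leaf 0x7e17df7dd85f86185f7df8617df7df7df7df))) (.node (.node (.leaf 0x82081e81e8a08a08a07a082082081e8a0820) (.leaf 0x85f7e17df7e185f8df85f7e17df7e17e17df)) (.node (.leaf 0x8208a081e82089e89e7a0820820820820822) (.leaf 0x7df7e185d85f86186185f7e185f86186185f))))))) (.node (.node (.node (.node (.node (.node (.node (.leaf 0x85f7e185f7df8618e17e186185f85f7df7e1) (.leaf 0x82082081e8207a089e82081e7a08208a07a0)) (.leaf 0x7e17df7df8618618df7e17df8617df7df7df)) (.node (.leaf 0x8617df85d85f7e18617e17e18618617e185f) (.leaf 0x82081e81e8208a08a08208a08a08a0820822)))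 (.node (.node (.leaf 0x82282081e7a08a28a082079e820820820820) (.leaf 0x82082281e8a08208a282082282282082081e)) (.node (.leaf 0x82082281e7a07a08a08a08208208227a0820) (.leaf 0x8207a081e82079e89e8a082082082082081e)))) (.node (.node (.node (.node (.leaf 0x7df8617df7e185f8df85f85f7df7df85f7e1) (.leaf 0x86186185d7e17e186185f7df85f7df7df7df)) (.leaf 0x8208a081e82082089e8208a28208a0822820)) (.node (.leaf 0x8a08a089e8208208a08a082082082281e820) (.leaf 0x8208a081e8208a289e8a0820820820820822))) (.node (.node (.leaf 0x7df85f85d7df85f8618617e17df86185f7df) (.leaf 0x85f7e185f7e185f8e186185f7e17e17df7e1)) (.node (.leaf 0x81e81e81e79e8208a08208208a08208207a0) (.leaf 0x7df85f85d86185f86185f7df85f7e17df85f))))) (.node (.node (.node (.node (.node (.leaf 0x82082081e8228228a082081e8208a08208a2) (.leaf 0x82079e79e81e7a08a0820822820820820820)) (.leaf 0x81e7a081e8208a08a08208208208a28207a0)) (.node (.leaf 0x79e82079e81e8208a08208a08207a0820820)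 (.leaf 0x82282081e8208208a08207a07a08227a2820))) (.node (.node (.leaf 0x82081e79e7a08208a08227a082082081e820) (.leaf 0x82082081e89e7a089e8228208208a0820820)) (.node (.leaf 0x85f85f85d85f7e18617df7df8617e17df7e1) (.leaf 0x82081e81e82089e8a081e82081e8208207a0)))) (.node (.node (.node (.node (.leaf 0x79e82079e81e8208a08207a08208a0820820) (.leaf 0x82081e81e8208a28a08228208228208208a0)) (.leaf 0x8228a089e7a082089e8208208208207a0820)) (.node (.leaf 0x82082081e82082089e79e8208228208a2820) (.leaf 0x82282081e82082289e8208207a27a0820820))) (.node (.node (.leaf 0x7e186185d7df8618617e185f7df85f7df7df) (.leaf 0x8228a081e8208a08a08208208208a28207a0)) (.node (.leaf 0x82082081e8208228a089e8a082079e820820) (.leaf 0x7a08a281e8a08228a08208208208a0820820)))))) (.node (.node (.node (.node (.node (.node (.leaf 0x7e17df7dd85f7e185f86185f8617df7e185f) (.leaf 0x82081e89e8208208a27a08208208a08207a0)) (.leaf 0x8a082081e82081e8a08208a081e82082281e))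 (.node (.leaf 0x86186185d85f85f8617e185f7df7df861861) (.leaf 0x86185f7df7e17df8e17df85f8617e186185f))) (.node (.node (.leaf 0x7a082081e8208208a28208208207a28a081e) (.leaf 0x7df7df85d8617e18618617df8617e1861861)) (.node (.leaf 0x85f85f7df7e17df8df8617df7df7df86185f) (.leaf 0x7df86185d86186185f8617e17e17e185f85f)))) (.node (.node (.node (.node (.leaf 0x7df8617dd85f7e185f8617df7e17e17e17e1) (.leaf 0x81e81e81e7a28208a08208207a08208207a0)) (.leaf 0x81e82079e8208208a082081e8228208228a0)) (.node (.leaf 0x7e17df85f7e17e18df7df7df7e185f7e17e1) (.leaf 0x8617e185d8618618617df7df85f7e17e1861))) (.node (.node (.leaf 0x85f7df85d85f85f85f7df7df7df7df7df861) (.leaf 0x7e18617dd8617e18618617e185f7e17e185f)) (.node (.leaf 0x82082079e8208208a07a079e8208207a0822) (.leaf 0x8618617dd7e186185f7df85f7df7df7df861))))) (.node (.node (.node (.node (.node (.leaf 0x7e17df85d7df85f86185f7df7df7e1861861) (.leaf 0x7e185f7df7df7df8e17df7e185f86185f7df))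 (.leaf 0x7e17e185d85f7e186186185f7df8617e1861)) (.node (.leaf 0x8208a089e82081e8a08208a08a08208208a0) (.leaf 0x85f85f7dd85f85f86185f7df7df85f86185f))) (.node (.node (.leaf 0x79e8a081e8208208a08208228a082082081e) (.leaf 0x82082081e8228208a081e79e8a2820820820)) (.node (.leaf 0x85f86185f7e17df8df85f7df7e185f7df7df) (.leaf 0x7a082081e7a28208a082082282082089e820)))) (.node (.node (.node (.node (.leaf 0x82082081e7a081e8a081e8207a08208a081e) (.leaf 0x85f85f7dd8617e185f85f7df85f7df7e1861)) (.leaf 0x82082089e8228208a081e8208208228a08a0)) (.node (.leaf 0x82082089e8207a089e8207a081e81e820820) (.leaf 0x8208a081e82079e89e7a082082082082081e))) (.node (.node (.leaf 0x8617df7df7e185f8e17df7df7e18617df7df) (.leaf 0x7e17e17df7df8618e17df85f7e17df7df7e1)) (.node (.leaf 0x8207a081e8208228a08208228228228a0820) (.leaf 0x85f7e185d7df8618618618617e18617df85f))))))))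

/-- A part of a store. -/
def st17 : Store :=
  (.node (.node (.node (.node (.node (.node (.node (.node (.leaf 0x86186185d85f7df86185f8618617df85f7e1) (.leaf 0x82082081e81e7a08a08a08a08208208227a0)) (.leaf 0x8208a081e82081e8a082082281e81e8a0820)) (.node (.leaf 0x8618617dd7df7e18617e17df7e17df85f7e1) (.leaf 0x82082081e8228a08a07a07a08208208227a0))) (.node (.node (.leaf 0x7a27a081e8208208a082081e8a0820820822) (.leaf 0x8a079e81e7a081e8a08208208207a0820820)) (.node (.leaf 0x82082281e81e8228a28207a08208207a0820) (.leaf 0x7e185f7df7e17e18df8617df8617e17e1861)))) (.node (.node (.node (.node (.leaf 0x8617e17dd7df8618617e185f86185f7e1861) (.leaf 0x82082081e8208228a08a27a08208a2820820)) (.leaf 0x82082081e79e7a089e81e8208208a0820820)) (.node (.leaf 0x85f7e185f7df7df8e18617df85f7df7e17df) (.leaf 0x8208a081e7a28208a08208a0820822820822))) (.node (.node (.leaf 0x85f86185f85f85f8df7df7df7df7df8617df) (.leaf 0x85f7df85f7df8618e17df7df7df7e17e17e1))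 (.node (.leaf 0x86186185f7df7df8e185f7e185f85f7df861) (.leaf 0x7a082281e8208208a082079e82081e8207a0))))) (.node (.node (.node (.node (.node (.leaf 0x81e82081e8228208a27a081e820822820820) (.leaf 0x7e17e185f7e185f8e185f7df7e185f85f861)) (.leaf 0x7a082081e7a08208a28a08a07a0820820820)) (.node (.leaf 0x82082081e82082089e7a282081e82079e820) (.leaf 0x81e89e81e8208208a07a08a0822820820820))) (.node (.node (.leaf 0x82081e81e81e8208a082082081e79e822820) (.leaf 0x81e82089e8207a08a089e8208a0820820820)) (.node (.leaf 0x8617df85f8617df8e17e17df8617e17e17e1) (.leaf 0x8207a081e7a08a08a082082079e82081e820)))) (.node (.node (.node (.node (.leaf 0x7a081e89e8208208a082082079e8207a0820) (.leaf 0x7e17e185d7e17e185f8618617df7df7df85f)) (.leaf 0x82082089e7a08208a08208227a07a2820820)) (.node (.leaf 0x8207a081e81e8208a08a08208a07a08a0820) (.leaf 0x82082089e8207a08a28208a081e81e820820))) (.node (.node (.leaf 0x8617e17df7df8618e186185f7df8617e17df)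 (.leaf 0x8a082081e8228a28a08208207a0822820820)) (.node (.leaf 0x82082081e8208208a279e8208228207a2820) (.leaf 0x8207a081e7a08a08a08208208a282081e820)))))) (.node (.node (.node (.node (.node (.node (.leaf 0x8617e17df7e17df8e185f85f7df7df7df85f) (.leaf 0x7df85f7dd7df7e18617e17e18617df7e1861)) (.leaf 0x85f7e17df7df85f8e17df85f85f7e185f7df)) (.node (.leaf 0x7df86185f7e17df8e17df7df85f7df85f85f) (.leaf 0x82082081e81e8a08a07a08a082082081e8a0))) (.node (.node (.leaf 0x82282279e8208228a0820820820822820822) (.leaf 0x8a082079e8208228a2822822820820820820)) (.node (.leaf 0x81e8a081e81e8228a082282082082081e820) (.leaf 0x7a07a081e8207a08a08228a08208208a0820)))) (.node (.node (.node (.node (.leaf 0x7df7df7dd7e186186185f7df7e186185f85f) (.leaf 0x8208a081e7a08208a08a281e8208208207a0)) (.leaf 0x81e82089e8208208a082082281e82081e8a0)) (.node (.leaf 0x8208a081e8208208a282089e8207a081e820) (.leaf 0x85f86185f8618618e18617e17e185f7df861)))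 (.node (.node (.leaf 0x7e17df7df85f8618e18618617e17df8617df) (.leaf 0x85f85f85f85f8618df7df7e17e17e185f861)) (.node (.leaf 0x85f86185d7df8618617df7df7df7e185f85f) (.leaf 0x81e8a281e8208208a07a08a081e820820820))))) (.node (.node (.node (.node (.node (.leaf 0x81e82281e89e8208a08208207a08208208a0) (.leaf 0x7df7e17df85f85f8df7df7df8617df85f861)) (.leaf 0x82082081e81e8208a081e8a27a2820820820)) (.node (.leaf 0x82282281e8a28208a08208207a08208208a0) (.leaf 0x82082082082081c920820820820820820820))) (.node (.node (.leaf 0x7a282281e8207a08a282082082082081e820) (.leaf 0x82082081c820820820820820820820820920)) (.node (.leaf 0x85f7e17df85f7df8e17e17e186185f7e1861) (.leaf 0x7df85f85d85f85f85f7df8617df7e186185f)))) (.node (.node (.node (.node (.leaf 0x8617df85f8618618e18618618618617df7df) (.leaf 0x82081e81e8a08208a282081e81e820820822)) (.leaf 0x7e17df7df85f85f8df8617e17df8617df7df)) (.node (.leaf 0x8a082089e7a08a08a082082082082082079e)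 (.leaf 0x82082079e89e8228a08a082081e820820820))) (.node (.node (.leaf 0x85f8617df7df7e18e17e185f8617e17e17e1) (.leaf 0x8617df85d86185f8617df7e18617df7df7df)) (.node (.leaf 0x82082081e82082089e89e8208228207a2820) (.leaf 0x7e186185f7df8618e186185f8618617df861))))))) (.node (.node (.node (.node (.node (.node (.node (.leaf 0x82081e81e8a08a08a07a08208208227a0820) (.leaf 0x82082081e8207a08a282081e7a08207a07a0)) (.leaf 0x7e17df85d7df85f85f8617df85f7df7df7df)) (.node (.leaf 0x85f8617dd7df7e186186185f7df7df7e185f) (.leaf 0x8a082089e82082289e81e81e820820820820))) (.node (.node (.leaf 0x8a07a081e8207a08a081e7a08208207a0820) (.leaf 0x7e17e185f8617df8e18618617df7e17e17df)) (.node (.leaf 0x7df85f7df86185f8df7e18617df7df7e17df) (.leaf 0x8207a279e8227a08a0820822820820820820)))) (.node (.node (.node (.node (.leaf 0x7e18617df7e18618df7e185f85f85f7e17e1) (.leaf 0x7e17e185d7e17df85f85f7e186185f7df7e1)) (.leaf 0x7df8617df7e17e18df7df7e17df85f8617df))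 (.node (.leaf 0x85f85f7dd7e17df8617df7df7e17df7df85f) (.leaf 0x8208a281e82082089e8228208a0822820820))) (.node (.node (.leaf 0x79e82081e82081e8a07a08208208207a08a0) (.leaf 0x8617e185d85f85f86185f7e17e185f7e1861)) (.node (.leaf 0x8207a081e8208208a28208a28207a081e820) (.leaf 0x8207a081e8a28208a08208a0820822820822))))) (.node (.node (.node (.node (.node (.leaf 0x82082081e8a08228a081e8207a08207a0822) (.leaf 0x7a07a089e8208208a07a082082081e81e820)) (.leaf 0x7e17e17dd85f8618617df7df7df85f85f861)) (.node (.leaf 0x8207a089e8208208a082282081e8a082081e) (.leaf 0x81e82081e82081e8a282082089e8a0820820))) (.node (.node (.leaf 0x81e82081e8208228a28208208a28a0820820) (.leaf 0x8a082081e8207a08a07a081e8228a0820820)) (.node (.leaf 0x7e17df85d85f7df8618618617e185f7df7df) (.leaf 0x8208a089e82081e8a08208a07a08208207a0)))) (.node (.node (.node (.node (.leaf 0x8617e17df85f7df8e186186185f85f85f7df) (.leaf 0x8618617dd85f7e185f85f85f7e185f861861))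 (.leaf 0x7e185f85f7df7e18df7df7df7df7e186185f)) (.node (.leaf 0x82082081e8208208a289e82082282079e820) (.leaf 0x7e18617df85f85f8e17df7e17e18617df861))) (.node (.node (.leaf 0x85f85f85d8618618617df85f7df7df7e17df) (.leaf 0x82082079e81e8208a28208207a0820822822)) (.node (.leaf 0x7e186185d85f85f86185f85f7e186185f85f) (.leaf 0x8617e17df85f8618df7df7df7df7e17df85f)))))) (.node (.node (.node (.node (.node (.node (.leaf 0x8207a081e8228208a07a08208a07a08a0820) (.leaf 0x86185f85f85f7e18df7e185f8617e17df85f)) (.leaf 0x8a082081e8208a08a07a082281e7a0820820)) (.node (.leaf 0x7e17e185f85f7df8df7e17df85f7e185f7df) (.leaf 0x8a079e81e8a08228a08208208207a0820820))) (.node (.node (.leaf 0x7a07a281e7a081e8a08208208207a0820820) (.leaf 0x7e17df85d85f7e186185f7e185f7df7df861)) (.node (.leaf 0x8617df7df7e17e18df8618618617df85f85f) (.leaf 0x7e185f7dd8617e186185f85f7df85f7df85f)))) (.node (.node (.node (.node (.leaf 0x7df8617df85f8618df85f7e17e17df7df7df)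 (.leaf 0x82082081e8a08228a282082082082281e8a0)) (.leaf 0x7e18617dd7e17df8617df7e18617df8617df)) (.node (.leaf 0x7e185f85f85f7df8df8617df7e17df7e17df) (.leaf 0x82082089e79e81e8a08a0820822820820820))) (.node (.node (.leaf 0x7df7df7df7df7e18e17df85f7e18618617df) (.leaf 0x7df8617df7df85f8df7e17e17df7e185f85f)) (.node (.leaf 0x82282079e8208208a08208228228208228a0) (.leaf 0x82082081e8228208a081e7a27a2820820820))))) (.node (.node (.node (.node (.node (.leaf 0x7a082079e8a08a08a08208208208208207a2) (.leaf 0x8207a081e8208208a28208a28208a0822820)) (.leaf 0x86185f7dd7df86186186185f7df86185f861)) (.node (.leaf 0x7e17e17df86185f8e17df7e17df7df85f7df) (.leaf 0x8a082081e8a28208a082082282082089e820))) (.node (.node (.leaf 0x8208a081e81e8208a07a08207a08a08a0820) (.leaf 0x7e17e17df85f8618e185f7df86186185f7df)) (.node (.leaf 0x8618617dd7df7e185f7df7df8617e17e185f) (.leaf 0x81e82081e8208208a08207a08a081e79e820)))) (.node (.node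 (.node (.node (.leaf 0x7a081e81e8208208a082079e82081e8208a0) (.leaf 0x82282089e8208a08a07a28208a0820820820)) (.leaf 0x8a082081e8207a08a08a081e81e8a0820820)) (.node (.leaf 0x82082081e81e7a08a07a07a08208208227a0) (.leaf 0x82082079e7a281e8a07a082081e820820820))) (.node (.node (.leaf 0x82082289e8208208a27a08208207a08207a0) (.leaf 0x8207a081e8a08a08a08208207a282081e820)) (.node (.leaf 0x85f7df7df7e18618df85f7df7e17df7df861) (.leaf 0x81e82081e82081e89e8208208a28a0820820))))))))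

/-- A part of a store. -/
def st18 : Store :=
  (.node (.node (.node (.node (.node (.node (.node (.node (.leaf 0x7e17df85f7df85f8e17df7df8617df8617df) (.leaf 0x7e18617df85f7df8df85f7df7df85f85f85f)) (.leaf 0x7e185f85d8617e186185f7e186186185f7df)) (.node (.leaf 0x86186185d7e186185f7df7e18617e185f7e1) (.leaf 0x8207a081e89e8208a08208a082081e820822))) (.node (.node (.leaf 0x7a282081e8208228a07a08208208207a08a0) (.leaf 0x82081e81e8228228a28208a08208208a0820)) (.node (.leaf 0x7df8617dd7df7e185f7e185f86185f8617df) (.leaf 0x7df85f85f7df8618df7e186185f7e17e1861)))) (.node (.node (.node (.node (.leaf 0x8208a079e8208208a081e82081e7a082081e) (.leaf 0x7e186185d8617df85f8617df7df8617df7df)) (.leaf 0x82082081e8208a08a282081e7a08208a07a0)) (.node (.leaf 0x82282081e81e8a08a08208208228207a081e) (.leaf 0x8208a081e89e8208a08208a0820822820822))) (.node (.node (.leaf 0x85f85f7df85f7e18e185f8618617e185f7df) (.leaf 0x82082081e82082089e8a282082282079e820))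 (.node (.leaf 0x8208a081e7a28208a08207a082082282081e) (.leaf 0x82082081e8208208a08a08207a282282079e))))) (.node (.node (.node (.node (.node (.leaf 0x8228a081e81e81e8a082282082082081e820) (.leaf 0x82082081e8228228a08208228208a082089e)) (.leaf 0x8227a081e8207a08a08208208207a28208a0)) (.node (.leaf 0x86186185f8618618e17e18617df85f8617df) (.leaf 0x8617e17df7df7df8e17e17e17df7e17df7e1))) (.node (.node (.leaf 0x82082089e8228208a081e82082081e8a07a0) (.leaf 0x85f7df85d7df7e18617e17e17df7df7df7df)) (.node (.leaf 0x85f86185f85f7e18e186186185f8617e185f) (.leaf 0x8208a089e8208208a081e8208227a082081e)))) (.node (.node (.node (.node (.leaf 0x7df85f85f8617e18e185f8617e185f7e17df) (.leaf 0x8617e17df7e17e18df85f7df7e186186185f)) (.leaf 0x89e81e81e8207a08a2820820820820822820)) (.node (.leaf 0x81e8a081e81e81e8a081e82082082081e820) (.leaf 0x7df86185f85f7e18e17df8618617df7df861))) (.node (.node (.leaf 0x85f7df85d7e17e186185f85f7df7e17df861)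 (.leaf 0x8a082081e8a08208a27a08a08a0820820820)) (.node (.leaf 0x82282081e7a089e8a08207a2820820820820) (.leaf 0x7df7e185f8617df8df7df7e18617df7e17df)))))) (.node (.node (.node (.node (.node (.node (.leaf 0x7df7df7dd8618618617df85f8617df7df861) (.leaf 0x7e185f85d85f86186185f8617df85f8617e1)) (.leaf 0x8617df7dd7df85f85f7df8617df85f861861)) (.node (.leaf 0x8617df85d7df7e18618618617e17df861861) (.leaf 0x82082281e7a082089e82082281e820820822))) (.node (.node (.leaf 0x7df8617dd85f85f85f7e18617e18617df7df) (.leaf 0x8a082081e79e8208a082082282082089e820)) (.node (.leaf 0x81e8a081e8228228a081e82082082081e820) (.leaf 0x85f86185d8617df86186185f85f7e17e17e1)))) (.node (.node (.node (.node (.leaf 0x86186185d86185f85f8617e185f7df7df861) (.leaf 0x7df7e17dd7e18618618618618617df86185f)) (.leaf 0x7e185f85d7df8618617df7e185f7e17e17df)) (.node (.leaf 0x82082079e7a08208a08208228a07a2820820) (.leaf 0x8617df7dd85f7e185f7df85f85f8617df861)))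 (.node (.node (.leaf 0x8617e185d7df7df85f85f85f85f7df7e1861) (.leaf 0x82082089e82079e8a08208208208a089e820)) (.node (.leaf 0x82082089e8228208a28208207a082081e81e) (.leaf 0x7a082081e7a08208a27a07a07a0820820820))))) (.node (.node (.node (.node (.node (.leaf 0x7a082279e8208208a082082079e8207a0820) (.leaf 0x82082081c82082082082082082082082081c)) (.leaf 0x7df7e17dd85f7e18617e186185f85f7df85f)) (.node (.leaf 0x86185f7df7e17e18df7df7df85f85f7df85f) (.leaf 0x82082081e7a28a08a281e8208207a0820820))) (.node (.node (.leaf 0x82282079e8208208a082082281e8208227a0) (.leaf 0x89e8a081e8208208a08208228a0820820822)) (.node (.leaf 0x85f7e17df7e17df8df7e17df8617e17df85f) (.leaf 0x81e82081e8a08208a08a08208207a081e822)))) (.node (.node (.node (.node (.leaf 0x8208a081e8208228a082081e8228228a0820) (.leaf 0x82082081e8208208a07a08208a281e8207a2)) (.leaf 0x7e185f7df7e185f8e17df8617e185f8617e1)) (.node (.leaf 0x8a282081e8208228a07a08208208207a07a0)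 (.leaf 0x8617df7dd86185f8617df85f7df7e185f85f))) (.node (.node (.leaf 0x7e17e17df7df8618df7e185f8617e186185f) (.leaf 0x7df7df7dd7e17df8617df8617e17e1861861)) (.node (.leaf 0x8617df7df7df85f8df85f8618618618617df) (.leaf 0x82079e81e8208208a281e8208a0822820820))))))) (.node (.node (.node (.node (.node (.node (.node (.leaf 0x8617e17dd85f7e18617df7e185f7e185f7df) (.leaf 0x81e7a079e7a08208a28208208208207a0820)) (.leaf 0x85f85f7df85f85f8df7e17df7e185f7df85f)) (.node (.leaf 0x85f8617dd8617e185f8618617df8617df861) (.leaf 0x8a07a081e8208a08a08227a08208207a0820))) (.node (.node (.leaf 0x8a081e81e8208208a082089e82081e8208a0) (.leaf 0x8207a081e8a28208a08208a082081e82081e)) (.node (.leaf 0x82081e81e7a07a08a08a08208208228a0820) (.leaf 0x85f86185f8617e18e17df7df85f85f7e17e1)))) (.node (.node (.node (.node (.leaf 0x82081e81e8208228a08a081e8a082081e820) (.leaf 0x82079e89e8227a08a0820822820820820820)) (.leaf 0x81e8a089e8a082089e8208208208207a0820))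 (.node (.leaf 0x8208a081e82081e8a082082282281e7a0820) (.leaf 0x7df86185f7e18618df8618617df8617df7df))) (.node (.node (.leaf 0x7a081e79e8208208a082082089e8207a0820) (.leaf 0x86185f7df8618618df7e18618617e18617e1)) (.node (.leaf 0x81e7a081e8208a08a082082082079e8207a0) (.leaf 0x81e82081e82282089e8a081e820822820820))))) (.node (.node (.node (.node (.node (.leaf 0x82082079e81e8208a082282082081e8a08a0) (.leaf 0x86185f7dd7df7e18617df8618618618617e1)) (.leaf 0x7a082089e82081e8a281e822820820820820)) (.node (.leaf 0x7df86185d7e186185f7e186186185f7df861) (.leaf 0x8a082081e81e79e8a08208207a081e820820))) (.node (.node (.leaf 0x7df7e17df8617e18df7e17df8618618617e1) (.leaf 0x81e82089e8207a08a07a28208a0820820820)) (.node (.leaf 0x8618617dd8617e18617df7e186185f7df861) (.leaf 0x81e82089e8208208a08208228228208228a0)))) (.node (.node (.node (.node (.leaf 0x82082081e8208a089e82081e7a08207a07a0) (.leaf 0x820820820820820920820720820820820820))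 (.leaf 0x7df85f85d7e18618617e17df8617df85f7df)) (.node (.leaf 0x8227a079e7a08208a28208208208208a0820) (.leaf 0x7e185f7df86185f8df8617e17e17df85f861))) (.node (.node (.leaf 0x85f8617dd7e185f86185f85f7df8617df7df) (.leaf 0x7df85f7dd85f85f8617e17df7e17e185f861)) (.node (.leaf 0x7e17e185f7e18618df85f85f7df7e17e1861) (.leaf 0x82082279e7a08208a08228a082082081e820)))))) (.node (.node (.node (.node (.node (.node (.leaf 0x85f7e185d85f7df86186185f86185f86185f) (.leaf 0x82082079e79e8228a07a082081e820820820)) (.leaf 0x8a082081e8208208a081e8208a07a081e8a0)) (.node (.leaf 0x7e17e17df7e18618e18617e17e17e17df85f) (.leaf 0x82082081c82082082082082081c820820820))) (.node (.node (.leaf 0x7e186185f8618618e185f8617e17e185f7e1) (.leaf 0x7df7e185d7e17df8617e18617df8617df7e1)) (.node (.leaf 0x85f85f7df85f7df8df85f7e185f85f7e17df) (.leaf 0x7e17df7df85f7df8df7df7df8618617e185f)))) (.node (.node (.node (.node (.leaf 0x7df7df7df8617df8e17df7e17df8617e17e1)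 (.leaf 0x79e81e81e8207a08a282082082082081e820)) (.leaf 0x81e8a089e7a082089e8208208208208a0820)) (.node (.leaf 0x7e17df7df8617df8df86186186185f7e17e1) (.leaf 0x82082081e89e7a089e81e8208207a0820820))) (.node (.node (.leaf 0x85f7df85d85f86185f7e185f86185f7df7df) (.leaf 0x85f7df7df85f8618e185f7e17e18617e185f)) (.node (.leaf 0x82082081e82281e8a08208228207a08207a2) (.leaf 0x8208a079e8208228a08208a07a08208207a0))))) (.node (.node (.node (.node (.node (.leaf 0x7df86185f85f8618df85f85f85f7e185f85f) (.leaf 0x8208a081e81e8208a07a08208a07a08a0820)) (.leaf 0x81e8a081e8208a08a08208208208a28208a0)) (.node (.leaf 0x8208a081e81e8208a07a08207a07a07a0820) (.leaf 0x85f7e17dd85f86185f7df85f85f7df86185f))) (.node (.node (.leaf 0x8617e17dd85f7df85f7df86186185f7e17df) (.leaf 0x81c82081c820820820820820820820820820)) (.node (.leaf 0x86185f7dd7df85f86185f7df8617e185f7df) (.leaf 0x7a082081e7a28208a082081e82082079e820)))) (.node (.node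 (.node (.node (.leaf 0x8207a079e8208208a082282081e7a082081e) (.leaf 0x7a08a281e7a081e8a08208208208a0820820)) (.leaf 0x81e82081e8a079e8a08208a2820820820820)) (.node (.leaf 0x7df85f85f8617e18df86186186186185f861) (.leaf 0x82082079e8208a08a28208a0822822820820))) (.node (.node (.leaf 0x82081e81e82081e8a08a08228a082081e820) (.leaf 0x85f8617dd7e186185f85f7df7e17df8617df)) (.node (.leaf 0x8208a081e8208a28a27a0820820820820822) (.leaf 0x7a08a079e8208208a07a082082081e81e820))))))))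

/-- A part of a store. -/
def st19 : Store :=
  (.node (.node (.node (.node (.node (.node (.node (.node (.leaf 0x7e17df7dd85f7df8618617df85f86185f85f) (.leaf 0x82082089e8208208a08a08a28208207a0822)) (.leaf 0x8617df7df8617df8e17e18617df7df861861)) (.node (.leaf 0x85f7e17dd7df7e185f7e17e18618617df7e1) (.leaf 0x7df7df7df7df7e18df7e185f86185f7df861))) (.node (.node (.leaf 0x82082081e79e8a08a28228208207a0820820) (.leaf 0x86186185f7df7df8df8617e17df8618617df)) (.node (.leaf 0x7df85f85d85f85f8617e186185f7df7df7e1) (.leaf 0x7df7e185d85f7df8617df85f85f7e185f861)))) (.node (.node (.node (.node (.leaf 0x82082079e82089e8a08208208208a089e820) (.leaf 0x7e17e185f85f85f8df85f7e17e17e186185f)) (.leaf 0x82082089e8228208a28208208a082081e822)) (.node (.leaf 0x7df85f7df85f7df8df7e17e18617e17df7e1) (.leaf 0x8a082281e8228208a089e820820820820822))) (.node (.node (.leaf 0x7e185f7dd7e17e185f7e17df7df7df7e17df) (.leaf 0x8617df7dd86186185f7df7df7e185f7e185f))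 (.node (.leaf 0x7e17e185f8618618df7df7df85f85f86185f) (.leaf 0x7a082281e8228208a07a282082082082081e))))) (.node (.node (.node (.node (.node (.leaf 0x82082081e8a081e8a08228208a08208a0822) (.leaf 0x82082079e82282089e8208208a082082281e)) (.leaf 0x81e82081e7a08a28a08207a2820820820820)) (.node (.leaf 0x7df85f7df8618618e17e17e17e186185f7df) (.leaf 0x82082089e82089e8a08208208207a089e820))) (.node (.node (.leaf 0x82081e81e81e82289e8207a08208207a0820) (.leaf 0x7a08a081e8207a08a081e8a08208208a0820)) (.node (.leaf 0x86185f7df8617df8e185f7df7e185f7e1861) (.leaf 0x85f7df7df85f85f8e186186185f7e17e17e1)))) (.node (.node (.node (.node (.leaf 0x7a081e89e8208208a082082089e8208a0820) (.leaf 0x7a081e81e8228208a089e820820820820822)) (.leaf 0x81e82081e81e82089e8a0822820822820820)) (.node (.leaf 0x82282079e8208208a082082282282081e7a0) (.leaf 0x85f86185d85f7df85f7e17e17df7e185f7e1))) (.node (.node (.leaf 0x7df86185d7df8618618617df7e185f861861)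 (.leaf 0x82282081e8a08a28a082089e820820820820)) (.node (.leaf 0x85f7e17df85f85f8e185f7df7df85f7df7e1) (.leaf 0x7df7e185d7df7df86185f7df7df85f7df85f)))))) (.node (.node (.node (.node (.node (.node (.leaf 0x7e17e17dd7df86186185f85f85f7e17df85f) (.leaf 0x81e81e89e82081e8a0820820820822820822)) (.leaf 0x8a081e79e8208208a08208207a28208a0820)) (.node (.leaf 0x8618617dd7df7df85f7e185f7df8617e17e1) (.leaf 0x7df7e185d7e17e185f7e17e17e17df8617e1))) (.node (.node (.leaf 0x82082281e8a08a08a08a08208208227a0820) (.leaf 0x85f7e17dd7df7e18617df7e17e185f86185f)) (.node (.leaf 0x81e7a081e82281e8a0822820820820822820) (.leaf 0x86186185f85f7e18e17e17e186186185f7e1)))) (.node (.node (.node (.node (.leaf 0x7df86185f85f85f8df8617df7e186185f7e1) (.leaf 0x7df7df85f7df8618df85f7df861861861861)) (.leaf 0x82082089e81e82089e8208208a082081e822)) (.node (.leaf 0x7df85f7df7df8618e17df7df8617e17df85f) (.leaf 0x8617e185f8618618e185f7df7e17df7e17df)))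 (.node (.node (.leaf 0x79e81e81e8208a089e82082082082081e820) (.leaf 0x82081e81e81e81e8a28208a08208208a0820)) (.node (.leaf 0x86185f85d85f85f85f7e17e17df85f7e17df) (.leaf 0x8207a081e7a07a08a08208208a2820822820))))) (.node (.node (.node (.node (.node (.leaf 0x8207a281e8208208a082082082082079e79e) (.leaf 0x8a082279e8208208a08208207a28207a0820)) (.leaf 0x81e7a081e8228228a082282082082081e820)) (.node (.leaf 0x82282089e8208208a082082282282081e8a0) (.leaf 0x8208a281e8208208a08208208208207a28a2))) (.node (.node (.leaf 0x81e82081e82081e8a282082079e7a0820820) (.leaf 0x81e82089e8208a08a089e8207a0820820820)) (.node (.leaf 0x7e186185d7df7df85f85f7e185f7e185f85f) (.leaf 0x7e17df85d86186186185f8617e17e17e185f)))) (.node (.node (.node (.node (.leaf 0x85f7df7dd7df7df8617df7df7df86185f7e1) (.leaf 0x82082082082082091c820820820820820820)) (.leaf 0x8207a081e8208208a28207a28207a0822820)) (.node (.leaf 0x82082089e8207a08a28207a082281e820820)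 (.leaf 0x86185f85f85f85f8e185f7e17e185f85f7df))) (.node (.node (.leaf 0x8617df85d7df8618617df85f85f7df85f7e1) (.leaf 0x82082081e8228a08a07a08a082082081e7a0)) (.node (.leaf 0x81e82079e8208208a08208228228208227a0) (.leaf 0x7e18617df86185f8e186185f7e185f7df7df))))))) (.node (.node (.node (.node (.node (.node (.node (.leaf 0x8618617df85f85f8df85f7e185f7e185f7e1) (.leaf 0x85f85f85f85f7df8e186185f86185f7df7e1)) (.leaf 0x85f7df85f86185f8e17df8617e17e18617df)) (.node (.leaf 0x7df7df85f8617df8e17df85f86185f861861) (.leaf 0x8a082089e7a08a08a08208208208208208a2))) (.node (.node (.leaf 0x7e17e17df7df85f8df7df7df7df8618617e1) (.leaf 0x8a08a079e8208208a07a082082081e822820)) (.node (.leaf 0x82082079e82079e8a08208208208a08a2820) (.leaf 0x8a082281e8208208a08207a28208228208a0)))) (.node (.node (.node (.node (.leaf 0x7df85f7dd7e186185f7df86185f7df8617e1) (.leaf 0x85f7df7df7df7e18df85f85f85f7e17e185f)) (.leaf 0x82082281e8228208a082082081e79e822820))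 (.node (.leaf 0x7e17df85f7df7df8e18617e17df7df85f85f) (.leaf 0x8207a081e82079e89e7a0820820820820822))) (.node (.node (.leaf 0x7a082081e8208208a282082082089e8a081e) (.leaf 0x82082081e8208a08a28208228a08208a07a0)) (.node (.leaf 0x82082081e82081e8a08a28a082079e820820) (.leaf 0x7e185f85f7e17e18e185f86185f7e17df85f))))) (.node (.node (.node (.node (.node (.leaf 0x7a082079e8208228a281e822820820820820) (.leaf 0x82082089e79e81e8a07a082081e820820820)) (.leaf 0x7a082281e8208208a082089e8208228207a0)) (.node (.leaf 0x8a082081e8208208a081e8208a08a08228a0) (.leaf 0x7df7df7df85f7e18df8617df7e17e185f85f))) (.node (.node (.leaf 0x86185f85f7df85f8e17df8618617e17df7e1) (.leaf 0x8208a089e8208208a081e8208228a0820822)) (.node (.leaf 0x7e18617df7df7e18e17df7df86185f861861) (.leaf 0x8a07a081e8207a08a08227a08208208a0820)))) (.node (.node (.node (.node (.leaf 0x8617e185d7e17df8617df7e17df7df85f861) (.leaf 0x86185f85d8617df8617df8617e185f86185f))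 (.leaf 0x85f85f7dd7df7e185f8617e17df85f8617e1)) (.node (.leaf 0x8a082081e8a082089e7a08a07a0820820820) (.leaf 0x7df7df7df8617e18df7df8617e17df85f7e1))) (.node (.node (.leaf 0x7df7df7df85f8618df7df7e185f7e18617df) (.leaf 0x82282081e7a08208a07a08208207a081e81e)) (.node (.leaf 0x7df7e185f85f85f8df7df8617df7e17df7e1) (.leaf 0x82082081e81e8208a08227a289e820820820)))))) (.node (.node (.node (.node (.node (.node (.leaf 0x7df7df7dd85f86185f85f7e17e17df861861) (.leaf 0x82082089e81e8208a081e8208208227a08a0)) (.leaf 0x8a082081e82081e8a08208a082282081e81e)) (.node (.leaf 0x81e82081e7a08208a07a08208207a082281e) (.leaf 0x85f7df85f85f85f8df85f7df8617e17df7df))) (.node (.node (.leaf 0x8207a081e82082089e82089e8207a081e820) (.leaf 0x7df7df85f7e17e18e186185f85f8617e17e1)) (.node (.leaf 0x86186185f7e18618e18617e185f7e17e17e1) (.leaf 0x7e186185d8617df86185f7df85f85f861861)))) (.node (.node (.node (.node (.leaf 0x82082081e82082089e7a282081e8208a2820)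 (.leaf 0x7a07a081e81e8208a28208208228208208a0)) (.leaf 0x8207a079e8208228a08208a08a08208207a0)) (.node (.leaf 0x7df7df85f7df8618e18617df7e185f7df7df) (.leaf 0x8207a081e8207a28a28a082082082082081e))) (.node (.node (.leaf 0x7e17e17dd8617e185f7e185f7e185f7df7e1) (.leaf 0x82082081e82082089e79e82082282079e820)) (.node (.leaf 0x85f8617df7e185f8e17df85f86185f7df861) (.leaf 0x8a08a081e81e82089e82082081e8208208a0))))) (.node (.node (.node (.node (.node (.leaf 0x82082081e8a08208a08208a081e8a07a07a0) (.leaf 0x8207a089e82081e8a08207a08a08208208a0)) (.leaf 0x7a07a081e8228208a282082081e8208208a0)) (.node (.leaf 0x7e18617dd7e186186185f85f86185f85f7e1) (.leaf 0x7df8617dd8617df8617df7e17df86185f85f))) (.node (.node (.leaf 0x7e17df85d7df86186186185f8618618617df) (.leaf 0x7a082289e8208208a08208207a28207a0820)) (.node (.leaf 0x8208a081e8208228a082082281e81e7a0820) (.leaf 0x85f7e17df85f8618df85f85f7e17e18617e1)))) (.node (.node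 (.node (.leaf 0x85f7df85d7df7df8617df86186185f7df861) (.leaf 0x89e82281e8207a08a282082082082081e820)) (.node (.leaf 0x82082281e8228228a28207a08208208a0820) (.leaf 0x82081e81e81e8208a08208208227a2822820))) (.node (.node (.leaf 0x85f7e185d7e185f85f7df85f7df7e18617e1) (.leaf 0x82081e89e7a08208a081e8a0820820822820)) (.node (.leaf 0x7e17df7dd7e186185f7e185f85f85f85f85f) (.leaf 0x81e82081e7a08208a08a08208207a081e81e))))))))

/-- A part of a store. -/
def st20 : Store :=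
  (.node (.node (.node (.node (.node (.node (.node (.node (.leaf 0x8617e17df8617e18df7df85f8617df7e1861) (.leaf 0x8617e185d7df8618617e17e17df8618617e1)) (.leaf 0x8617e17df7e18618e17df7e17df85f7e1861)) (.node (.leaf 0x8618617dd7df85f8618618617e185f8617df) (.leaf 0x7df85f7df7e17df8df7df7df7e186185f861))) (.node (.node (.leaf 0x7df85f85d85f7e185f85f7df7df86185f861) (.leaf 0x7e17df7dd7df8618618617e17df85f7e185f)) (.node (.leaf 0x7a082081e8a082089e8a07a08a0820820820) (.leaf 0x82282081e81e8208a27a082282081e820820)))) (.node (.node (.node (.node (.leaf 0x82082079e82089e8a08208208207a079e820) (.leaf 0x7df85f85d7e17e185f8617e185f7e17df7e1)) (.leaf 0x7a082281e8208208a08207a28208228207a0)) (.node (.leaf 0x82282081e8208208a08208a07a08228a2820) (.leaf 0x82282081e8228208a28a081e820822820820))) (.node (.node (.leaf 0x8207a089e8208208a082282081e7a0820822) (.leaf 0x7e186185d85f7df85f7df8617df85f7df861)) (.node (.leaf 0x86186185d8617df8617e17df8617e185f85f)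 (.leaf 0x82079e81e82082089e81e8207a0822820820))))) (.node (.node (.node (.node (.node (.leaf 0x82082281e82281e89e8207a08208208a0820) (.leaf 0x82082089e81e82089e8208207a082081e81e)) (.leaf 0x8228a081e81e81e8a081e820820820822820)) (.node (.leaf 0x86186185f8618618df7df86185f8617df861) (.leaf 0x8617e17df8617df8df7e17df7df85f7e17df))) (.node (.node (.leaf 0x7a08a081e8208a08a081e7a08208208a0820) (.leaf 0x7e186185d7e185f8618618618617e17df7df)) (.node (.leaf 0x82081e81e82079e8a081e8208228208207a0) (.leaf 0x86185f85d7e17df86185f7e18617e17e1861)))) (.node (.node (.node (.node (.leaf 0x7df7e185f7df85f8e18617e17df8617e1861) (.leaf 0x8207a081e79e8208a08207a082081e820822)) (.leaf 0x82082089e7a08208a08208228a079e820820)) (.node (.leaf 0x86186185d7df85f8618617df85f8617e185f) (.leaf 0x82082079e8207a08a28208a082281e820820))) (.node (.node (.leaf 0x85f7e185d8617e185f7df86185f7df7df7e1) (.leaf 0x8208a081e8a08208a07a281e8208208207a0))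 (.node (.leaf 0x8a082081e8208208a081e8207a08a081e8a0) (.leaf 0x89e82081e7a08208a082282082281e820820)))))) (.node (.node (.node (.node (.node (.node (.leaf 0x82081e81e8a08a08a08a08208208228a0820) (.leaf 0x7e17e17dd7df7e185f7df8618617df85f861)) (.leaf 0x7df7df7dd85f7e18617df7df7df7e17e185f)) (.node (.leaf 0x8617e185d85f7e185f7e185f8617e18617e1) (.leaf 0x8208a081e7a08208a08a28228208208208a0))) (.node (.node (.leaf 0x82082079e82282089e8208207a082081e81e) (.leaf 0x82282081e8a08208a08a08208207a0822822)) (.node (.leaf 0x86185f7df7e17e18e17e17df7df8618617e1) (.leaf 0x8617e185d8617e18618617e17e17e17df7e1)))) (.node (.node (.node (.node (.leaf 0x7e186185f7df85f8df8617df85f7df861861) (.leaf 0x7a082081e7a28208a08208228208207a2820)) (.leaf 0x7df86185d7e17df85f8617df8617df7e185f)) (.node (.leaf 0x86185f7dd7e18618617df7e17df85f85f7df) (.leaf 0x86185f85d8617e185f7df7e17df7e17df85f))) (.node (.node (.leaf 0x81e81e89e8208228a082082082081e820822)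 (.leaf 0x82082281e81e81e8a28207a08208208a0820)) (.node (.leaf 0x7a282081e7a08208a082282082281e820820) (.leaf 0x82079e81e82082089e8228207a081e820820))))) (.node (.node (.node (.node (.node (.leaf 0x82082081e82082089e8a282081e82089e820) (.leaf 0x82082081e82281e8a082081e8208a08207a2)) (.leaf 0x79e82281e8208a08a282082082082081e820)) (.node (.leaf 0x89e82081e82081e8a08a08208208208a07a0) (.leaf 0x82082281e82081e8a07a08228a082081e820))) (.node (.node (.leaf 0x8208a079e82081e8a08207a08a08208208a0) (.leaf 0x82282081e8208208a08207a07a081e8a2820)) (.node (.leaf 0x85f86185f7df7e18e17e17e17df7df861861) (.leaf 0x7a082079e82081e8a281e81e820820820820)))) (.node (.node (.node (.node (.leaf 0x82081e89e7a08208a08227a0820820822820) (.leaf 0x82082081c820820824820820820820820820)) (.leaf 0x82082281e8208228a07a08227a082081e820)) (.node (.leaf 0x7df7df7dd85f7e185f7e17df85f7df85f7e1) (.leaf 0x85f7df7dd85f85f85f7df8618617e185f7e1)))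 (.node (.node (.leaf 0x85f85f7dd8618618617df7e18617e186185f) (.leaf 0x8a082079e82082289e82281e820820820820)) (.node (.leaf 0x82082079e89e8228a07a0820822820820820) (.leaf 0x82082281e82079e8a082282081e8208208a0))))))) (.node (.node (.node (.node (.node (.node (.node (.leaf 0x86185f7dd8617df85f7e17df7df85f85f861) (.leaf 0x82082081e8a08228a081e8207a08208a081e)) (.leaf 0x7df8617dd7e185f85f7df85f8617e185f85f)) (.node (.leaf 0x7e17df7df7df7e18df8617df85f85f8617df) (.leaf 0x82282081e81e8a08a082082081e8208a081e))) (.node (.node (.leaf 0x8a282081e7a08208a0822820822822820820) (.leaf 0x82082281e8a082089e82081e82282082081e)) (.node (.leaf 0x82082081e7a27a08a28228208207a0820820) (.leaf 0x7e17e185d7df7df85f7e185f8618617df85f)))) (.node (.node (.node (.node (.leaf 0x8207a079e8208208a081e8208228a0820822) (.leaf 0x82082089e7a28228a07a082081e820820820)) (.leaf 0x82081e81e8a07a08a08a08208208227a0820)) (.node (.leaf 0x8a082089e82082289e822822820820820820)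 (.leaf 0x82082081e8208a08a082282282081e822822))) (.node (.node (.leaf 0x8208a081e81e8208a08a08208a08a08a0820) (.leaf 0x86185f85f86185f8df7df85f86185f7e17df)) (.node (.leaf 0x7a282081e8a08208a081e82081e822820820) (.leaf 0x82082081e8208208a07a08207a28228207a2))))) (.node (.node (.node (.node (.node (.leaf 0x82082081e8208a08a081e82282082281e81e) (.leaf 0x86185f85f8617e18e18617e17e17e186185f)) (.leaf 0x82082081e8208a089e82081e7a08208a08a0)) (.node (.leaf 0x7e17e185d8618618618617df86185f7df85f) (.leaf 0x8a082081e8208208a282082082079e8a081e))) (.node (.node (.leaf 0x7df7df85f8617e18e17e17df7df7df8617df) (.leaf 0x82082281e8207a28a081e8208228208207a0)) (.node (.leaf 0x8617e185f7e185f8df7df7df85f7df7df7e1) (.leaf 0x7a07a081e8208a08a08227a08208208a0820)))) (.node (.node (.node (.node (.leaf 0x82082081e8208a089e8208227a08207a08a0) (.leaf 0x82082081e81e8208a081e7a279e820820820)) (.leaf 0x8617df85d7df7df86185f7e185f85f8617df))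 (.node (.leaf 0x7e17e17df85f7e18df7df7e185f85f7df7e1) (.leaf 0x8208a081e8208208a282079e8207a0822820))) (.node (.node (.leaf 0x7df86185f86185f8df7df8617e185f85f85f) (.leaf 0x7df7df7dd7df85f8617df7e185f7df85f85f)) (.node (.leaf 0x82082079e7a28228a07a0820822820820820) (.leaf 0x8208a279e81e8a08a082081e820820820820)))))) (.node (.node (.node (.node (.node (.node (.leaf 0x8617e17dd8617e186186185f85f7df85f861) (.leaf 0x82082089e81e8208a081e8208208228a07a0)) (.leaf 0x7a282089e8228208a08207a08207a0820820)) (.node (.leaf 0x82079e81e8208208a08208208208207a279e) (.leaf 0x82082281e8207a08a08208a08a08a0820822))) (.node (.node (.leaf 0x85f7e17dd86185f86186186186185f7df7e1) (.leaf 0x7df7df85d8617df85f86185f85f85f7df861)) (.node (.leaf 0x7e17e185d7df7e18617e17df85f7df86185f) (.leaf 0x7df7df7dd86186185f7e185f7e17e18617df)))) (.node (.node (.node (.node (.leaf 0x7df8617df85f7df8e17e185f86186185f85f) (.leaf 0x7a08a081e81e8208a28208208228208207a0))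 (.leaf 0x8227a089e7a082089e8208208208208a0820)) (.node (.leaf 0x7df7e185f7df7e18df7df85f85f7df8617e1) (.leaf 0x82082089e8228208a081e8208208227a07a0))) (.node (.node (.leaf 0x8617e17dd7df85f8617df7df7df7df7e17df) (.leaf 0x7df7df7dd85f7df8617e185f8618617e17e1)) (.node (.leaf 0x82082081e8228228a08208228208a08207a2) (.leaf 0x82082281e82089e8a081e82081e8208208a0))))) (.node (.node (.node (.node (.node (.leaf 0x7df8617dd8617e18617e18618617e185f7e1) (.leaf 0x7df85f7df85f7e18df7df8617df8617df85f)) (.leaf 0x7e18617dd86185f85f7df85f7df85f8617df)) (.node (.leaf 0x82082081e8208a08a082282282081e81e81e) (.leaf 0x82082279e8a08208a08228a0820820822820))) (.node (.node (.leaf 0x8208a081e8228208a07a08208a07a07a0820) (.leaf 0x72082081c820820820820820820820820820)) (.node (.leaf 0x8617df85d85f7df85f7e186185f7df85f85f) (.leaf 0x82082081e8a082289e82082082082281e7a0)))) (.node (.node (.node (.node (.leaf 0x82082079e8208208a08a079e8208208a0822)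 (.leaf 0x7e17e185d7e185f85f7e17df7df85f7e1861)) (.leaf 0x82082089e8207a08a28208a0822822820820)) (.node (.leaf 0x81e7a081e8207a08a082082082089e8207a0) (.leaf 0x82082079e8208a08a28207a081e822820820))) (.node (.node (.leaf 0x86185f7dd7df86185f85f85f85f85f7e17df) (.leaf 0x7df7df7df7e185f8e17e185f7e17df85f85f)) (.node (.leaf 0x82082081e8208228a07a28a082079e820820) (.leaf 0x82082079e8a08208a08208228a08a2820820))))))))

/-- A part of a store. -/
def st21 : Store :=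
  (.node (.node (.node (.node (.node (.node (.node (.node (.leaf 0x86185f85f7e17df8e17df7e17df7df7e17df) (.leaf 0x82082081e8228208a082279e89e820820820)) (.leaf 0x85f85f7df7e185f8df7df7e18617df85f7df)) (.node (.leaf 0x7df7df85f8617e18df7df7df85f7e17df861) (.leaf 0x81e82081e81e8a08a082082081e8208a0822))) (.node (.node (.leaf 0x82082081e81e81e8a082081e8207a08207a2) (.leaf 0x85f7e17dd8617e18617e17df8617df7e17df)) (.node (.leaf 0x7df7df85d7e17e18617e185f7e185f7e185f) (.leaf 0x7df7e17df7df8618e185f7df7df7df86185f)))) (.node (.node (.node (.node (.leaf 0x82082281e7a08a08a08a082082081e7a0820) (.leaf 0x8207a081e7a07a08a082082089e82081e820)) (.leaf 0x8208a081e8a28208a08207a082081e82081e)) (.node (.leaf 0x85f85f7df8617e18df7df7df7e17e17e17df) (.leaf 0x82289e81e8208208a08a08a0822820820820))) (.node (.node (.leaf 0x86186185f7df85f8e17e17df7e185f7e17e1) (.leaf 0x8617df85f7df8618df86185f8617df7e17e1)) (.node (.leaf 0x85f8617dd7e17df8617e18618618617e185f)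 (.leaf 0x8207a081e8a28208a08207a082082282081e))))) (.node (.node (.node (.node (.node (.leaf 0x82082081e8a081e89e8208208208228227a0) (.leaf 0x82082081e81e81e8a082081e8208a08208a2)) (.leaf 0x7df7e185d8618618617e185f85f85f8617e1)) (.node (.leaf 0x82082081e8208208a28a28208228207a2820) (.leaf 0x85f85f85d7e185f85f85f85f8617df7df7e1))) (.node (.node (.leaf 0x82081e81e7a082089e82082281e82082081e) (.leaf 0x82282089e8207a08a079e8208a0820820820)) (.node (.leaf 0x7e17df7df7e17df8df7e17e17e17e18617df) (.leaf 0x86185f7df85f8618e18617df7e17e17df7e1)))) (.node (.node (.node (.node (.leaf 0x7df86185f85f7e18df7e18617e17e18617df) (.leaf 0x7a08a081e81e82089e82082081e8208207a0)) (.leaf 0x7a082081e82082089e82082082089e8a0822)) (.node (.leaf 0x7e18617dd7df8618617e17e186186185f85f) (.leaf 0x85f7e17dd85f7df8618617e17df8617e17df))) (.node (.node (.leaf 0x7e185f7df85f7df8e185f8617df7df7df7e1) (.leaf 0x8a082281e8208208a08208a28208228207a0))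 (.node (.leaf 0x8207a081e82081e8a08208228228227a0820) (.leaf 0x7df7e17dd8617e186185f7df85f8617df7e1)))))) (.node (.node (.node (.node (.node (.node (.leaf 0x8617e17df85f7df8df85f8617df8617e1861) (.leaf 0x7df7e17dd85f7e185f7df8617df8618617e1)) (.leaf 0x82282281e79e8208a08208207a08208208a0)) (.node (.leaf 0x85f86185f7e17df8e18617df861861861861) (.leaf 0x82082281e8208a08a08207a08a08a0820822))) (.node (.node (.leaf 0x82082081e8a28a08a28228208207a0820820) (.leaf 0x7e17e185f7df7e18df85f7df8617df7df85f)) (.node (.leaf 0x7a082081e8208228a08207a081e820822822) (.leaf 0x85f85f85f8617e18df7df86185f7df86185f)))) (.node (.node (.node (.node (.leaf 0x7e17df85f8618618e17df86185f7df7e17e1) (.leaf 0x7e18617df7df8618e18617e17df85f85f7e1)) (.leaf 0x82082081e8208208a08a082079e8228207a2)) (.node (.leaf 0x82281e81e8208208a081e81e8208a08a0820) (.leaf 0x86186185f7df7e18e18618617e17df7df7df))) (.node (.node (.leaf 0x7df85f7df85f85f8df85f7df7df7e17e1861)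 (.leaf 0x8617df85f7e17df8e186185f7e185f8617df)) (.node (.leaf 0x85f86185f7e17e18df86185f85f7df7df861) (.leaf 0x7df7df7df7df85f8df8617e18617df7e185f))))) (.node (.node (.node (.node (.node (.leaf 0x81e82281e8208208a08228228208a08a0820) (.leaf 0x82082081e8a081e8a08228207a08208a081e)) (.leaf 0x7a082081e8208a08a08a082281e7a0820820)) (.node (.leaf 0x86185f7dd7df7df85f7df7e185f7df7df7e1) (.leaf 0x82079e81e8208208a082082082082089e79e))) (.node (.node (.leaf 0x82082089e8a28228a08a082081e820820820) (.leaf 0x7e17e17df85f7df8df7e18617e17df7df85f)) (.node (.leaf 0x85f7df7df86185f8df7e17df7df7e185f7e1) (.leaf 0x85f85f85d8617e18618618618617df7df85f)))) (.node (.node (.node (.node (.leaf 0x86186185f85f85f8e186185f8617e18617df) (.leaf 0x82082281e7a08208a282081e82282082081e)) (.leaf 0x8207a081e82082089e8207a28208a0822820)) (.node (.leaf 0x82082089e8208208a08a07a28208207a081e) (.leaf 0x82081e81e7a08208a282081e81e82082081e)))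 (.node (.node (.leaf 0x85f8617df7df85f8df85f7e17e185f861861) (.leaf 0x8a082081e8207a08a08a081e8227a0820820)) (.node (.leaf 0x82082081e8207a089e82081e7a08207a08a0) (.leaf 0x85f85f7dd86185f8617e18617df8618617e1))))))) (.node (.node (.node (.node (.node (.node (.node (.leaf 0x85f8617df8617e18df7e186186185f7df7df) (.leaf 0x81e82081e82082289e82082079e7a0820820)) (.leaf 0x8618617dd7e185f85f7e17df86185f7df7df)) (.node (.leaf 0x7e17df85d85f85f8617df85f85f85f7e185f) (.leaf 0x8a082281e8228208a079e82082082082081e))) (.node (.node (.leaf 0x8a282079e8228208a08208a08208a0820820) (.leaf 0x85f7e17dd7e18618617df86185f86185f861)) (.node (.leaf 0x7a082089e7a07a08a082082082082082079e) (.leaf 0x82082081e79e7a08a281e8208207a0820820)))) (.node (.node (.node (.node (.leaf 0x7df8617dd7e18618617df7df85f85f7e185f) (.leaf 0x85f8617df85f7e18df85f7df8618617df861)) (.leaf 0x82082289e82082089e8a08208207a08207a0)) (.node (.leaf 0x7e17e17df8617df8df85f7df7e17e17df7e1)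 (.leaf 0x7e17e17dd85f7df86185f8617df7df86185f))) (.node (.node (.leaf 0x7a082079e7a07a08a082082082082082089e) (.leaf 0x8a082081e8208208a081e8208a08a081e7a0)) (.node (.leaf 0x8a07a081e8228208a282082081e8208207a0) (.leaf 0x81e7a281e8208208a07a07a081e820820820))))) (.node (.node (.node (.node (.node (.leaf 0x7df7e17df8618618df85f7e17df86185f861) (.leaf 0x7a07a089e8208208a07a0820820822822820)) (.leaf 0x82082089e8208a08a28208a081e822820820)) (.node (.leaf 0x8207a089e8208208a081e82081e8a0820822) (.leaf 0x7e18617df7df8618df85f7e185f8617e185f))) (.node (.node (.leaf 0x86185f7dd86185f85f85f7e186185f8617e1) (.leaf 0x82082089e8208208a08a089e8208208a0822)) (.node (.leaf 0x7e17e17dd8617e18617df85f86186186185f) (.leaf 0x7a08a081e8207a08a081e7a08208207a0820)))) (.node (.node (.node (.node (.leaf 0x85f8617df7e18618e17e17df7df7df7df7df) (.leaf 0x82082079e7a28228a08a082081e820820820)) (.leaf 0x7df86185f7e18618e185f86185f85f861861))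 (.node (.leaf 0x7a07a081e81e82089e8208208228208207a0) (.leaf 0x7df8617df7e17df8df7e18618617df861861))) (.node (.node (.leaf 0x85f7df85d86185f85f8618617df7e17df7df) (.leaf 0x82082079e7a08208a08208227a079e820820)) (.node (.leaf 0x8227a079e7a082089e8208208208207a0820) (.leaf 0x820820820820920920820820820820820820)))))) (.node (.node (.node (.node (.node (.node (.leaf 0x82082081e8208a08a081e822820822822822) (.leaf 0x7e18617df7e17df8e185f7e17df7e1861861)) (.leaf 0x8a08a081e8208a08a081e7a08208207a0820)) (.node (.leaf 0x8a082081e8208228a08208a082282082281e) (.leaf 0x85f7e185f7df85f8df7e17e18617e18617e1))) (.node (.node (.leaf 0x85f7e185f8618618df7e185f85f7e17e17df) (.leaf 0x7a082289e8208208a08208208a28208a0820)) (.node (.leaf 0x7e17df7dd8617e18617e17e17e17df85f85f) (.leaf 0x7df85f7dd8618618618617e185f85f85f861)))) (.node (.node (.node (.node (.leaf 0x7df7e185d7e185f85f86185f7e185f85f7df) (.leaf 0x7a081e81e8208208a08208a282081e8208a0))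 (.leaf 0x82082081e8207a08a081e82282081e81e81e)) (.node (.leaf 0x86185f85d8617e18617e17e185f7df8617e1) (.leaf 0x82082089e8228208a28208208a082082281e))) (.node (.node (.leaf 0x7df85f85d86186186186185f7e18617df7e1) (.leaf 0x82281e81e8208208a082281e8207a08a0820)) (.node (.leaf 0x86185f7df7e185f8df85f86185f7df7e1861) (.leaf 0x82082079e8207a08a28208a081e822820820))))) (.node (.node (.node (.node (.node (.leaf 0x82082281e8208a08a08207a07a08a082081e) (.leaf 0x7df8617dd7df86186186186185f8617e17e1)) (.leaf 0x82082081e8208a08a082281e82081e81e822)) (.node (.leaf 0x8a082081e8208208a28208208207a27a081e) (.leaf 0x8208a281e8208208a281e8208a0822820820))) (.node (.node (.leaf 0x7e18617dd86185f8617e185f85f8617df861) (.leaf 0x81e82281e8208208a081e81e8208a08a0820)) (.node (.leaf 0x8208a081e8208208a28207a28207a081e820) (.leaf 0x85f85f7df86185f8df85f8617e18617df7e1)))) (.node (.node (.node (.node (.leaf 0x7df8617df7e17e18e17e17e185f8617df861)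 (.leaf 0x824820820820820920820820820820820820)) (.leaf 0x89e82089e81e8208a08207a08208a0820820)) (.node (.leaf 0x8a082081e8207a08a08a08228228a0820820) (.leaf 0x7e17e17dd86185f85f8617e17e17df7e17df))) (.node (.node (.leaf 0x7df7e185f7df8618e185f8618617e17e17df) (.leaf 0x7df7e17df7df8618df8617df85f7e17df7e1)) (.node (.leaf 0x7e186185d7e186186185f7e17df8617df861) (.leaf 0x81e82081e8208228a28208207a27a0820820))))))))

/-- A part of a store. -/
def st22 : Store :=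
  (.node (.node (.node (.node (.node (.node (.node (.node (.leaf 0x8617e17df7df85f8e185f7df8617e17e1861) (.leaf 0x7a081e81e81e8208a089e82082082082081e)) (.leaf 0x82082079e8228208a082282082081e7a08a0)) (.node (.leaf 0x85f86185d7e185f86185f7e186185f85f85f) (.leaf 0x82082081e79e8a08a281e8208208a0820820))) (.node (.node (.leaf 0x79e82081e82081e8a08a08208208208a08a0) (.leaf 0x8a07a079e8208208a07a082082081e81e820)) (.node (.leaf 0x8208a089e8208208a081e82081e8a082081e) (.leaf 0x82081e81e81e82289e8208a08208208a0820)))) (.node (.node (.node (.node (.leaf 0x85f7df7dd86186186186185f85f8617e185f) (.leaf 0x7df8617dd7e17e18618617e17e185f7df7df)) (.leaf 0x82082081e81e8228a082081e8208a08207a2)) (.node (.leaf 0x82081e81e81e8208a082082082289e822820) (.leaf 0x82082281e8228208a082082082289e822820))) (.node (.node (.leaf 0x86186185f7e17df8e17e185f85f8617df7df) (.leaf 0x82282081e8208208a08207a08a08228a2820)) (.node (.leaf 0x85f7e17dd7df7df8617e186185f7df8617e1)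 (.leaf 0x81e82081e81e82089e7a081e820822820820))))) (.node (.node (.node (.node (.node (.leaf 0x82082081e8a082289e82082082081e81e8a0) (.leaf 0x8a082089e8208228a282281e820820820820)) (.leaf 0x7a082089e7a08a08a08208208208208207a2)) (.node (.leaf 0x7e185f7dd86186185f7df8617e186185f861) (.leaf 0x7df85f7dd85f7e185f85f86186185f7df7e1))) (.node (.node (.leaf 0x82082289e82082089e7a08208208a08207a0) (.leaf 0x85f7df7dd8617df85f7df7e17df7df8617df)) (.node (.leaf 0x7e186185d7e17e18617e17df8618617e17e1) (.leaf 0x82081e81e8207a28a081e8208228208208a0)))) (.node (.node (.node (.node (.leaf 0x82082081e7a08228a28208208208228228a0) (.leaf 0x8208a081e89e8208a08208a082081e82081e)) (.leaf 0x8a282081e7a08208a082282081e81e820820)) (.node (.leaf 0x8208a081e7a08208a07a281e8208208208a0) (.leaf 0x85f86185d7df7df86185f8617df861861861))) (.node (.node (.leaf 0x8617e185d86186185f7e17df7df7df85f7df) (.leaf 0x7a08a081e81e82089e8208208228208208a0))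 (.node (.leaf 0x8a082081e82279e8a08208208a081e820820) (.leaf 0x7e17e185f7e17df8df7df7e17df8617df85f)))))) (.node (.node (.node (.node (.node (.node (.leaf 0x82082281e82081e8a07a081e7a082081e820) (.leaf 0x7df7df85d7e186185f8618617df861861861)) (.leaf 0x85f7df7df7df8618df7e18617e17e17df7df)) (.node (.leaf 0x7df86185f7e17df8df7e17df7df7e17e17e1) (.leaf 0x82279e81e8208208a07a08a0822820820820))) (.node (.node (.leaf 0x82082081e8a08208a08208a081e7a08a07a0) (.leaf 0x82282081e82081e8a282082089e7a0820820)) (.node (.leaf 0x82081e81e8228228a28207a08208207a0820) (.leaf 0x81e82081e8227a08a082082081e8207a081e)))) (.node (.node (.node (.node (.leaf 0x7df7df85f85f8618e17e185f8617e185f7e1) (.leaf 0x82082079e82282089e8208207a0820822822)) (.leaf 0x7a082081e8207a08a07a081e81e8a0820820)) (.node (.leaf 0x85f85f85d85f7df8617e185f7df8617df85f) (.leaf 0x7df7df85d7e17df8617df7df85f7df7e17e1))) (.node (.node (.leaf 0x82082289e7a08208a08228a0820820822820)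 (.leaf 0x85f85f85f7e185f8e17e185f85f7df8617e1)) (.node (.leaf 0x85f85f85d85f86185f85f7e185f7df85f7df) (.leaf 0x82082281e8207a08a08208a07a07a0820822))))) (.node (.node (.node (.node (.node (.leaf 0x79e82079e8228208a08207a08207a0820820) (.leaf 0x8207a081e8228208a07a08208a08a07a0820)) (.leaf 0x82082081e7a28a08a28228208208a0820820)) (.node (.leaf 0x89e82081e7a08208a081e820822822820820) (.leaf 0x82079e89e8228a08a082081e820820820820))) (.node (.node (.leaf 0x82082081e8228208a08228a27a2820820820) (.leaf 0x7a28a081e8208208a082081e8a082082081e)) (.node (.leaf 0x85f7df7df85f7e18df7df7df7df85f861861) (.leaf 0x7e185f85f8617df8df7df8617e17e17e1861)))) (.node (.node (.node (.node (.leaf 0x82082081e82081e8a08a28a08208a2820820) (.leaf 0x81e82081e8228208a28a081e82081e820820)) (.leaf 0x7e17e17df8617df8e18617df8617df86185f)) (.node (.leaf 0x8a282081e8208228a08a08208208208a07a0) (.leaf 0x85f7df7dd7e185f85f7e185f7e18617df861)))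 (.node (.node (.leaf 0x7e18617df7df85f8df8618617e17e17e17e1) (.leaf 0x85f8617df8618618df85f85f7df85f7e185f)) (.node (.leaf 0x82082079e8207a089e8207a081e822820820) (.leaf 0x7a079e81e7a081e8a08208208208a0820820))))))) (.node (.node (.node (.node (.node (.node (.node (.leaf 0x85f7df7dd8617e18617df8617e18617df7df) (.leaf 0x82082081e7a08208a08207a081e8a08a08a0)) (.leaf 0x8617df7df7df7df8df7e185f7df86185f85f)) (.node (.leaf 0x7df85f85d7e17df85f85f8617e18617df85f) (.leaf 0x8a079e81e7a08228a08208208208a0820820))) (.node (.node (.leaf 0x82082089e8208a08a28207a0822822820820) (.leaf 0x8207a281e8208208a281e8207a0822820820)) (.node (.leaf 0x81e82081e8a08208a07a08208208a081e822) (.leaf 0x86186185f8617df8df85f7df85f7e17e185f)))) (.node (.node (.node (.node (.leaf 0x81e7a081e81e8228a081e82082082081e820) (.leaf 0x7df85f85f7e17df8df7df86185f85f7df7e1)) (.leaf 0x7df7e185d7df7e186186185f8617df7df7e1)) (.node (.leaf 0x85f85f7dd85f7e18617df8617df7df85f861)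 (.leaf 0x7df7df7dd85f85f85f86186185f85f8617df))) (.node (.node (.leaf 0x7df7df7df8618618df86185f85f7df861861) (.leaf 0x85f7df7df7df8618e17df8618617df861861)) (.node (.leaf 0x8208a081e82081e8a082081e8228227a0820) (.leaf 0x86185f7df7df7e18e185f8617df85f86185f))))) (.node (.node (.node (.node (.node (.leaf 0x82082081e8a08208a08208a08227a07a07a0) (.leaf 0x8207a281e82082089e8228208a081e820820)) (.leaf 0x7a082081e8a08208a28a08a08a0820820820)) (.node (.leaf 0x82082081e7a27a089e8228208208a0820820) (.leaf 0x82282081e8208208a08207a07a082289e820))) (.node (.node (.leaf 0x81e82081e8a08208a07a08208208a082281e) (.leaf 0x8208a089e82081e8a08207a08a08208207a0)) (.node (.leaf 0x7df85f7df8617e18e185f7df85f86186185f) (.leaf 0x81e82089e8208208a082081e82282081e8a0)))) (.node (.node (.node (.node (.leaf 0x82082081e8208208a27a282081e82089e820) (.leaf 0x82082081c820820820820824820820820820)) (.leaf 0x82082081e7a081e8a282082082081e8228a0))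 (.node (.leaf 0x8207a081e82089e89e8a0820820820820822) (.leaf 0x7df86185d7e185f8617e17e185f7e1861861))) (.node (.node (.leaf 0x7df7e17df7df85f8e186185f86185f8617e1) (.leaf 0x82082081e8208a08a282081e7a08207a08a0)) (.node (.leaf 0x8617df7df7df8618df8617e17df7e1861861) (.leaf 0x85f85f7df85f8618df7df85f85f7df7df7e1)))))) (.node (.node (.node (.node (.node (.node (.leaf 0x7e186185f8617df8df7e17df86185f7df861) (.leaf 0x8a082081e8208a08a08a082281e8a0820820)) (.leaf 0x8a082081e82081e8a08207a081e820822822)) (.node (.leaf 0x8a082081e7a28208a082081e8208207a2820) (.leaf 0x81e82089e8208a08a08a28208a0820820820))) (.node (.node (.leaf 0x81e82279e82081e8a0820820820822820822) (.leaf 0x7e17e185d8617e18617df7e17df85f7e17df)) (.node (.leaf 0x85f8617df7df7df8e17df7df7df8617e185f) (.leaf 0x7e185f7dd8617e185f86185f85f8618617e1)))) (.node (.node (.node (.node (.leaf 0x7df7df85f86185f8df85f86185f8617e185f) (.leaf 0x7a081e81e8208208a082089e8208228208a0))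 (.leaf 0x85f85f7df7df7e18df7e17e186186186185f)) (.node (.leaf 0x7e17df85f85f7df8e17e186185f8617df861) (.leaf 0x82282081e82081e8a28208208a28a0820820))) (.node (.node (.leaf 0x7e17df85f8617e18e186185f7e17df7df861) (.leaf 0x85f7e185f7e17df8df7e18617df7df85f7df)) (.node (.leaf 0x82082081e7a082289e82082082081e81e7a0) (.leaf 0x82082081e8228a08a08a07a08208208228a0))))) (.node (.node (.node (.node (.node (.leaf 0x79e82081e8208228a07a08208208208a08a0) (.leaf 0x82082081e8207a089e82081e8a08207a07a0)) (.leaf 0x82082081e8208208a07a082079e81e82089e)) (.node (.leaf 0x81e7a079e7a082089e8208208208208a0820) (.leaf 0x8a08a081e8208a08a081e8a08208208a0820))) (.node (.node (.leaf 0x8a082081e89e8208a08208228208208a2820) (.leaf 0x82079e81e8208208a08208208208208a27a2)) (.node (.leaf 0x85f85f7dd7df86185f7df7df86185f85f861) (.leaf 0x81e82081e8208208a08207a07a08228a2820)))) (.node (.node (.node (.node (.leaf 0x7df85f85f85f7e18df7df7df86185f85f7df)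 (.leaf 0x8617e185f7e18618e17df85f8618618617e1)) (.leaf 0x82282081e7a08208a08a08208207a081e822)) (.node (.leaf 0x86185f85f8617df8e185f86185f8618617e1) (.leaf 0x82082281e8208a28a081e8208228208208a0))) (.node (.node (.leaf 0x7df7e185f7df7df8e17df7df8618617df7e1) (.leaf 0x8208a081e8208a28a28a082082082082081e)) (.node (.leaf 0x85f7df7df86185f8e17df7df85f7df7e185f) (.leaf 0x7a082079e82082289e81e81e820820820820))))))))

/-- A part of a store. -/
def st23 : Store :=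
  (.node (.node (.node (.node (.node (.node (.node (.node (.leaf 0x85f85f85f7e18618e17df7df7e185f86185f) (.leaf 0x7a082081e79e8208a082081e8208207a2820)) (.leaf 0x86185f7df85f7df8df7df86186185f85f861)) (.node (.leaf 0x8617df7dd7e17e185f7e18617df7e185f7e1) (.leaf 0x85f85f85d7df85f8617df7e17e17df8617e1))) (.node (.node (.leaf 0x82082079e8208a08a28207a082281e820820) (.leaf 0x8618617dd8617df8617e18617df7df7df7df)) (.node (.leaf 0x85f7e17df7df8618e17e17df7e186185f861) (.leaf 0x7df7e17dd7df85f85f7df85f85f85f7df7e1)))) (.node (.node (.node (.node (.leaf 0x7e17df7df85f85f8e185f7e185f85f861861) (.leaf 0x8617e185d7df7e185f8617df7e185f7e17df)) (.leaf 0x82082089e8a08208a08208227a08a2820820)) (.node (.leaf 0x82081e79e7a08208a081e8a082082081e820) (.leaf 0x820820820820820920820920820820820820))) (.node (.node (.leaf 0x7a081e79e8208208a08208208a28208a0820) (.leaf 0x89e7a081e8208208a082081e8a0820820822)) (.node (.leaf 0x82082081e8208208a07a08207a281e82079e)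 (.leaf 0x7a082081e8a28208a082081e8208207a2820))))) (.node (.node (.node (.node (.node (.leaf 0x8208a081e8228208a07a08208a08a08a0820) (.leaf 0x8208a089e82081e8a08207a07a08208208a0)) (.leaf 0x7a082081e8208228a08208a082282081e81e)) (.node (.leaf 0x7df8617df85f85f8e185f8617df8618617df) (.leaf 0x82082089e82089e8a08208208208a079e820))) (.node (.node (.leaf 0x7e185f85f7df85f8e186186185f85f7e17df) (.leaf 0x79e82081e7a08208a0822820822822820820)) (.node (.leaf 0x85f7e185f8617e18df85f8617e17e17df85f) (.leaf 0x82082081e8228a08a07a07a082082081e8a0)))) (.node (.node (.node (.node (.leaf 0x79e82081e8208228a08a08208208208a07a0) (.leaf 0x82082281e82089e8a081e8208228208207a0)) (.leaf 0x82282081e81e82089e8a081e820822820820)) (.node (.leaf 0x86185f85f7df8618e17e17e17df8617df85f) (.leaf 0x7e185f85f7df7df8df7e185f8618618617e1))) (.node (.node (.leaf 0x7e17df7df85f7df8e17e17df7e185f85f7e1) (.leaf 0x7a082081e82279e8a08208207a081e820820))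 (.node (.leaf 0x82082081e8207a08a28208228a08207a07a0) (.leaf 0x7e186185f7df85f8e185f7df7df7e17df7df)))))) (.node (.node (.node (.node (.node (.node (.leaf 0x82082281e8a07a08a07a08208208227a0820) (.leaf 0x7a082079e8a08a08a082082082082082089e)) (.leaf 0x89e82079e81e8208a08208a08208a0820820)) (.node (.leaf 0x85f7df7dd85f7e185f85f7df8618618617df) (.leaf 0x82082079e8207a089e8208a081e81e820820))) (.node (.node (.leaf 0x82082081e7a081e89e82082082082281e7a0) (.leaf 0x7a07a081e8207a08a08227a08208207a0820)) (.node (.leaf 0x81e8a081e82281e8a081e820820820822820) (.leaf 0x82081e81e82081e8a08a081e7a082081e820)))) (.node (.node (.node (.node (.leaf 0x7df85f7dd86186185f85f7e17df8617e17df) (.leaf 0x82082081e8208208a07a082089e81e82079e)) (.leaf 0x82282081e8a08208a08a08208207a081e81e)) (.node (.leaf 0x82081e89e8a08208a08228a0820820822820) (.leaf 0x8617e185d8617df85f8618617df85f8617e1))) (.node (.node (.leaf 0x7df7df85d8617df86185f85f7df8618617df)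 (.leaf 0x85f7df85f8617df8e186185f85f7e185f85f)) (.node (.leaf 0x7e17df7df7df8618df7df7e17e185f85f85f) (.leaf 0x82082281e82089e8a082282081e8208207a0))))) (.node (.node (.node (.node (.node (.leaf 0x8207a281e8208208a08208208208208a279e) (.leaf 0x7df7e185d7df8618617df8617df7df7e1861)) (.leaf 0x7a082089e8a07a08a08208208208208207a2)) (.node (.leaf 0x82282089e8208208a082081e8228208228a0) (.leaf 0x7e17e17dd7df7df85f7e17e17df85f85f7df))) (.node (.node (.leaf 0x79e8a081e8208208a082081e7a082082081e) (.leaf 0x7df85f85f8618618e17e185f85f85f7df85f)) (.node (.leaf 0x8617df85d7e186185f85f7e17df7df7e17e1) (.leaf 0x79e82089e8228208a08208a08207a0820820)))) (.node (.node (.node (.node (.leaf 0x8618617dd86186185f85f7df85f86185f85f) (.leaf 0x8a082081e7a082089e7a07a07a0820820820)) (.leaf 0x82082081e8207a08a081e82282082282281e)) (.node (.leaf 0x7df86185f7e17e18e17e185f7e185f85f7e1) (.leaf 0x8a282081e8a08208a081e820822822820820)))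 (.node (.node (.leaf 0x8617df85d7df85f85f7df7df8618617e17e1) (.leaf 0x82082082082082092082082082082082081c)) (.node (.leaf 0x7a089e81e8a08228a08208208207a0820820) (.leaf 0x85f86185d85f86186185f85f85f85f7df861))))))) (.node (.node (.node (.node (.node (.node (.node (.leaf 0x85f7e17df86185f8e17e18617df8617df85f) (.leaf 0x85f7df85f85f7e18e17e18617e185f85f85f)) (.leaf 0x8617df7df8617df8df7df86185f7e17df7df)) (.node (.leaf 0x8617e17df85f8618e17e17df85f7df8617e1) (.leaf 0x82079e81e8208208a28228208a081e820820))) (.node (.node (.leaf 0x85f86185d85f85f8618617df7e17df7df7df) (.leaf 0x86185f7dd85f85f85f7e185f86186186185f)) (.node (.leaf 0x8617df85d7e18618618617e185f7e185f85f) (.leaf 0x82082281e81e8208a082082082279e822820)))) (.node (.node (.node (.node (.leaf 0x7e18617df85f8618df7df8617df7df861861) (.leaf 0x82082081c820824820820820820820820820)) (.leaf 0x7a08a089e8208208a07a082082082281e820)) (.node (.leaf 0x8228a079e8a08208a28208208208208a0820)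 (.leaf 0x85f86185f8617df8df7df85f8617e185f7e1))) (.node (.node (.leaf 0x82282081e82082289e82082079e8a0820820) (.leaf 0x82082081e7a08208a08207a08227a08a08a0)) (.node (.leaf 0x82082079e8a281e8a07a0820822820820820) (.leaf 0x82282089e8208a08a089e8208a0820820820))))) (.node (.node (.node (.node (.node (.leaf 0x86186185d86186185f85f8617e185f7df7df) (.leaf 0x8208a281e8208208a08208208208207a279e)) (.leaf 0x79e82081e8a08208a081e820822822820820)) (.node (.leaf 0x89e8a081e8208208a08208227a082082081e) (.leaf 0x82081e79e82082089e8a08208208a08208a0))) (.node (.node (.leaf 0x86185f7dd8617e18617e185f7e17e17e1861) (.leaf 0x8207a089e82081e8a08207a07a08208207a0)) (.node (.leaf 0x85f85f85f7df8618df85f86186185f7df85f) (.leaf 0x820820820920820920820820820820820820)))) (.node (.node (.node (.node (.leaf 0x86186185d85f86185f7e17df7e18617df861) (.leaf 0x85f85f85d7df7e185f86185f8618617e1861)) (.leaf 0x8a089e81e8a08228a08208208208a0820820))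 (.node (.leaf 0x8617df85f7df7df8df7e17e186185f7df7df) (.leaf 0x7df8617df8617e18df85f86185f7e17e17e1))) (.node (.node (.leaf 0x7e185f7df85f8618e17df7df7df85f7e17df) (.leaf 0x82081e81e81e81e89e8208a08208207a0820)) (.node (.leaf 0x82082081e82081e8a079e8a08208a2820820) (.leaf 0x81e82081e8208208a281e8a08208208207a2)))))) (.node (.node (.node (.node (.node (.node (.leaf 0x8207a081e8228208a08a08208a07a07a0820) (.leaf 0x82081e81e8208228a08a081e7a0820822820)) (.leaf 0x8617e17df8617df8e17df7df85f86185f861)) (.node (.leaf 0x7a082079e82082289e822822820820820820) (.leaf 0x8a082089e82081e89e82281e820820820820))) (.node (.node (.leaf 0x7df7e185f7e18618df7df7df7e17e185f7df) (.leaf 0x7df85f85f85f8618e185f7e185f8617df7e1)) (.node (.leaf 0x85f7df7dd7df7df85f7e17df85f85f7e185f) (.leaf 0x82282081e8a089e8a082079e820820820820)))) (.node (.node (.node (.node (.leaf 0x8a08a081e8228208a282082081e8208208a0) (.leaf 0x85f7e185d7df86185f85f86186185f8617e1))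 (.leaf 0x82082089e7a08208a082081e7a08a2820820)) (.node (.leaf 0x7df7df7df85f7e18e185f7df8617df7e17e1) (.leaf 0x8a082081e8227a28a08208208a0822820820))) (.node (.node (.leaf 0x85f7e185d86185f8618617df7df86185f861) (.leaf 0x82281e81e89e8208a08208207a08208208a0)) (.node (.leaf 0x7e186185d7e185f85f85f8617e17df861861) (.leaf 0x82282081e8208208a281e7a082082082089e))))) (.node (.node (.node (.node (.node (.leaf 0x7a08a081e8208a08a08228a08208208a0820) (.leaf 0x82082079e82079e8a08208208208a079e820)) (.leaf 0x82082081e8228208a082289e79e820820820)) (.node (.leaf 0x82282279e82081e8a082082082081e820822) (.leaf 0x7e17e17df7e17e18df7e17df7df7df85f861))) (.node (.node (.leaf 0x8a082081e8208208a08228207a08a08228a0) (.leaf 0x7df85f7df7df7df8df8618617e185f85f7df)) (.node (.leaf 0x8617e185f85f7df8df85f7df86185f8617e1) (.leaf 0x82081e79e82082089e7a08208208a08207a0)))) (.node (.node (.node (.leaf 0x7df7df85f85f7e18e185f8617df7e1861861)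 (.leaf 0x86185f85d7e17df85f8617e17e17df85f7df)) (.node (.leaf 0x7e18617dd85f85f86185f7e185f85f7df7df) (.leaf 0x8208a079e82081e8a08208a07a08208208a0))) (.node (.node (.leaf 0x7e17df85f85f8618df85f7df7df7df85f7e1) (.leaf 0x85f7df85f7df7e18df85f7e17e17df8617df)) (.node (.leaf 0x7df86185f7df8618e17e17df85f8618617df) (.leaf 0x82082281e81e8208a082082081e7a2822820))))))))

/-- A part of a store. -/
def st24 : Store :=
  (.node (.node (.node (.node (.node (.node (.node (.node (.leaf 0x8207a081e8228208a07a08207a07a07a0820) (.leaf 0x7df85f7dd7e185f8617df7e18618617df7e1)) (.leaf 0x85f7df7df7df7df8df8617df7e18617e17e1)) (.node (.leaf 0x81e8a079e7a08208a28208208208208a0820) (.leaf 0x82081e81e8228208a082082082289e81e820))) (.node (.node (.leaf 0x7df85f7dd8617e185f7e17df8618617df85f) (.leaf 0x82082281e81e8208a082082082289e81e820)) (.node (.leaf 0x7a082089e7a07a08a08208208208208208a2) (.leaf 0x82081e81e7a082089e820822822820820822))))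 (.node (.node (.node (.node (.leaf 0x7a082079e7a08a08a082082082082082079e) (.leaf 0x8208a289e81e7a08a082081e820820820820)) (.leaf 0x7a08a081e8228208a282082081e8208207a0)) (.node (.leaf 0x8a082081e8208208a081e8207a08a08227a0) (.leaf 0x8207a081e8a08208a08a28228208208208a0))) (.node (.node (.leaf 0x82082281e82282289e8207a08208207a0820) (.leaf 0x7e185f85f8617df8e17e18618617df85f7df)) (.node (.leaf 0x8617df7df7df7e18df7df7df8617e185f7e1) (.leaf 0x81e8a081e8208a08a08208208207a28207a0))))) (.node (.node (.node (.node (.node (.leaf 0x85f7e185d85f85f8617df8617df85f85f7df) (.leaf 0x82082281e82081e8a07a08227a0820822820)) (.leaf 0x8a282079e8228208a08207a08207a0820820)) (.node (.leaf 0x85f85f85f8618618e185f85f8617e17e1861) (.leaf 0x85f85f7df7e17df8e185f7df85f7e17df7e1))) (.node (.node (.leaf 0x82282081e8228a08a082082081e8207a081e) (.leaf 0x7df86185d85f7df85f85f7e17e185f8617df)) (.node (.leaf 0x7e17df85f85f7e18df7e17e18617df861861)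 (.leaf 0x82082081e7a08208a08207a08228a07a08a0)))) (.node (.node (.node (.node (.leaf 0x82082081e81e81e8a08208228208a08207a2) (.leaf 0x8207a081e7a28208a08207a082081e82081e)) (.leaf 0x7e185f85d7e185f85f8617df86186185f861)) (.node (.leaf 0x7df8617dd7df85f85f8617e18617df85f7e1) (.leaf 0x8207a081e79e8208a08207a082082282081e))) (.node (.node (.leaf 0x7e186185f85f8618e17e17df7e17df85f85f) (.leaf 0x8207a081e8a08208a089e8228208208207a0)) (.node (.leaf 0x89e82081e82081e8a07a08208208208a08a0) (.leaf 0x81e81e81e8a28208a08208207a08208208a0)))))) (.node (.node (.node (.node (.node (.node (.leaf 0x7e17e17dd85f85f85f7df85f7e17e17e1861) (.leaf 0x8618617df85f85f8e18617e17df7df7e185f)) (.leaf 0x7e18617dd7df7e185f8617df85f85f7df861)) (.node (.leaf 0x8618617df7df8618e17df7e17e17e18617df) (.leaf 0x82082081c82082082082082082081c820820))) (.node (.node (.leaf 0x82282081e82082089e8228a082082082079e) (.leaf 0x82282081e82081e89e82082079e7a0820820))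 (.node (.leaf 0x8617e17dd7e17e185f7df7df85f85f8617e1) (.leaf 0x82081e81e8a08a08a08a082082081e7a0820)))) (.node (.node (.node (.node (.leaf 0x7df7e17df85f8618e17df85f85f8617e1861) (.leaf 0x7a081e81e8228208a08a282082082082081e)) (.leaf 0x7e17df85d7df7e185f7e186185f85f7e17e1)) (.node (.leaf 0x82082089e82282089e8208208a0820822822) (.leaf 0x8617df7df85f7e18e186185f861861861861))) (.node (.node (.leaf 0x7df85f85f7df7e18df85f85f7e17e17df7e1) (.leaf 0x8208a079e8208208a082282081e7a0820822)) (.node (.leaf 0x8207a081e8208228a082082281e8227a0820) (.leaf 0x8208a081e7a07a08a082082079e82081e820))))) (.node (.node (.node (.node (.node (.leaf 0x8617e185f86185f8df85f85f7df86185f7df) (.leaf 0x8207a281e8208208a082082082082089e7a2)) (.leaf 0x7df7e17dd85f86186185f85f7e185f7e17df)) (.node (.leaf 0x8a08a081e82282089e82082081e8208207a0) (.leaf 0x85f86185f7e185f8e17df7e17df86185f7e1))) (.node (.node (.leaf 0x85f7df7df8618618df7df85f86186185f85f)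 (.leaf 0x81e82281e7a28208a08208207a08208208a0)) (.node (.leaf 0x7e185f85d7e17e185f7e18618617e186185f) (.leaf 0x7df8617df8618618e17df85f8617df8617df)))) (.node (.node (.node (.node (.leaf 0x86185f85f7df7e18df8617df7e185f85f861) (.leaf 0x82082081e8a08208a08207a081e8a07a08a0)) (.leaf 0x7e185f7dd85f7e18617e17e17df8617df7e1)) (.node (.leaf 0x7df7e17dd7e17df85f7df7df7e18617e17df) (.leaf 0x85f7e17dd86186185f8617e185f7e18617e1))) (.node (.node (.leaf 0x85f85f7dd7e185f85f85f7e17df7e185f861) (.leaf 0x8a07a281e8a081e8a08208208207a0820820)) (.node (.leaf 0x7df85f7df86185f8e17df86185f7e185f861) (.leaf 0x82482081c820820820820820820820820820))))))) (.node (.node (.node (.node (.node (.node (.node (.leaf 0x86185f7dd8617df8617df7df85f8617e17df) (.leaf 0x7a082081e82082089e82082082079e8a081e)) (.leaf 0x7e185f7dd85f85f85f85f85f85f7df85f861)) (.node (.leaf 0x7e185f7df7e17e18e185f7df7e17df85f7df) (.leaf 0x82082081e81e8a08a08a07a082082081e8a0)))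 (.node (.node (.leaf 0x89e82081e7a08208a081e82081e81e820820) (.leaf 0x82082281e8228228a28208a08208207a0820)) (.node (.leaf 0x82082281e8a07a08a08a082082081e7a0820) (.leaf 0x85f7e185f8617df8e185f7e17df85f86185f)))) (.node (.node (.node (.node (.leaf 0x7df86185d7df85f85f86185f7df7e17df861) (.leaf 0x82082289e7a08208a081e7a0820820822820)) (.leaf 0x82082089e8a08208a08208227a079e820820)) (.node (.leaf 0x8a08a281e7a08228a08208208208a0820820) (.leaf 0x82082081e8208228a08a28a082089e820820))) (.node (.node (.leaf 0x7df85f85d7df7e18617e185f7df7e18617e1) (.leaf 0x8617df7df7e185f8df7e17df86185f861861)) (.node (.leaf 0x81e82081e82081e89e8208207a27a0820820) (.leaf 0x7e17df85d8617e18617e185f85f7e17df7df))))) (.node (.node (.node (.node (.node (.leaf 0x8208a081e82081e8a082082281e8227a0820) (.leaf 0x82089e89e8228a08a0820822820820820820)) (.leaf 0x82282081e82082089e81e8a08208208207a2)) (.node (.leaf 0x82082281e81e82289e8207a08208208a0820)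 (.leaf 0x8a082081e82082089e8208208208a27a081e))) (.node (.node (.leaf 0x7df7e185f85f7e18e18617df85f85f85f861) (.leaf 0x82282089e8207a08a08a28208a0820820820)) (.node (.leaf 0x8617e185f7e185f8e17e17df7df7e186185f) (.leaf 0x81e82081e81e8a08a082082081e8207a081e)))) (.node (.node (.node (.node (.leaf 0x82282081e8208208a08208a08a082289e820) (.leaf 0x82082089e8208a089e8207a082281e820820)) (.leaf 0x86185f85d7df7e18617df7df7df85f7e1861)) (.node (.leaf 0x82281e81e8a28208a08208208a08208208a0) (.leaf 0x82081e81e81e8208a082082081e8a2822820))) (.node (.node (.leaf 0x7e17df7df7e18618df86185f7e186185f7e1) (.leaf 0x7e185f7dd7df85f8617e17df85f85f8617e1)) (.node (.leaf 0x82082081e8208228a08a28a08207a2820820) (.leaf 0x7a082081e8a28208a08208228208208a2820)))))) (.node (.node (.node (.node (.node (.node (.leaf 0x8617e17dd8617e185f85f85f7df7e17e17df) (.leaf 0x85f7df85d7e17df85f85f7df7e185f861861)) (.leaf 0x8a082079e7a08a08a08208208208208207a2))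 (.node (.leaf 0x85f7e17df7e18618df8618618618617e1861) (.leaf 0x8208a289e8227a08a0820822820820820820))) (.node (.node (.leaf 0x82082081e8a081e89e82082082081e81e7a0) (.leaf 0x7df8617dd7df7e18617df85f7e18617df861)) (.node (.leaf 0x8617df85d7e185f85f86186186185f7e185f) (.leaf 0x7e17e17dd85f86185f7e17df85f8617e17df)))) (.node (.node (.node (.node (.leaf 0x7df8617dd7e17df85f8618617df7e18617df) (.leaf 0x7a081e81e8208208a082089e82081e8207a0)) (.leaf 0x82082081e7a082289e82082082081e8228a0)) (.node (.leaf 0x7df7e17dd7df7e18618617e17df7e185f861) (.leaf 0x8207a081e82079e8a27a082082082082081e))) (.node (.node (.leaf 0x85f7df7dd85f7df86185f85f85f7df7df7df) (.leaf 0x86186185f7e17e18e17df7df7e17e17df861)) (.node (.leaf 0x8208a281e8208208a08208208208208a27a2) (.leaf 0x85f7df7dd86185f85f8617df8617df85f85f))))) (.node (.node (.node (.node (.node (.leaf 0x7e17df85d86185f8618617e185f8617e17e1) (.leaf 0x7df85f7df7df7e18df85f7e185f7df85f861))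 (.leaf 0x7df85f7dd7df85f86186185f86185f7df85f)) (.node (.leaf 0x82082081e7a081e8a08228207a08207a081e) (.leaf 0x7e17df85f7df85f8df7e17df7e17e17df861))) (.node (.node (.leaf 0x82089e81e8208208a08208208208208a279e) (.leaf 0x82282089e8208a08a079e8207a0820820820)) (.node (.leaf 0x86186185f7e17e18df7e17df8617df8617df) (.leaf 0x81e82081e8208208a08207a07a082279e820)))) (.node (.node (.node (.node (.leaf 0x82082079e81e8208a081e82082081e8a07a0) (.leaf 0x82082079e8208208a07a08a28208208a081e)) (.leaf 0x82082081e8a27a089e81e8208208a0820820)) (.node (.leaf 0x8617e185f7e17e18e18618617df86185f861) (.leaf 0x82082079e89e81e8a08a0820822820820820))) (.node (.node (.leaf 0x85f86185d7df85f85f7df85f7e185f7e185f) (.leaf 0x7df7e17df7df85f8df85f85f7e18617df85f)) (.node (.leaf 0x8227a089e7a08208a28208208208207a0820) (.leaf 0x86185f85d7df8618618617e186185f7df7e1))))))))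

/-- A part of a store. -/
def st25 : Store :=
  (.node (.node (.node (.node (.node (.node (.node (.node (.leaf 0x85f7df85f85f7df8df7e17e17df7e17e185f) (.leaf 0x81e82081e8208208a28228a082082082079e)) (.leaf 0x7e185f7dd7df7df85f8617e18618617e17df)) (.node (.leaf 0x7e17e185f85f7df8e17df7df7df7df7e1861) (.leaf 0x82081e81e8207a08a08208a07a08a0820822))) (.node (.node (.leaf 0x7a27a081e8208208a08208227a0820820822) (.leaf 0x82282081e82081e8a28208207a27a0820820)) (.node (.leaf 0x7df7e185d7df7e185f85f85f7e17e186185f) (.leaf 0x8207a289e8228a08a0820822820820820820)))) (.node (.node (.node (.node (.leaf 0x85f85f7df7df8618e18617df85f85f7e1861) (.leaf 0x82082081e8207a08a082282282081e82281e)) (.leaf 0x82082081e8a27a089e8228208207a0820820)) (.node (.leaf 0x82081e81e8228208a082082082279e822820) (.leaf 0x82082081c820820820720820820820820820))) (.node (.node (.leaf 0x85f7e185f85f7e18e17df7df8617e186185f) (.leaf 0x85f7df85f8618618df7df7e17df85f7df7df))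 (.node (.leaf 0x8617df85f7df7e18e17e186185f7e18617df) (.leaf 0x82282081e81e82089e7a0822820822820820))))) (.node (.node (.node (.node (.node (.leaf 0x82081e81e8a082089e82082281e820820822) (.leaf 0x820820820820820920820820820820824820)) (.leaf 0x7a082081e7a082089e8a08a08a0820820820)) (.node (.leaf 0x82282081e8208208a08208a08a08227a2820) (.leaf 0x8617e185d7df85f85f7e18617e17df7df7e1))) (.node (.node (.leaf 0x86185f85f7e18618df86185f85f86186185f) (.leaf 0x7e17e185d7e17e186185f86185f7e18617e1)) (.node (.leaf 0x8617df7dd7df7df86185f85f7e18617e185f) (.leaf 0x82082081e8227a08a08a07a08208208227a0)))) (.node (.node (.node (.node (.leaf 0x7e185f85f85f7e18df85f85f85f85f7e1861) (.leaf 0x82082081e8228208a08227a279e820820820)) (.leaf 0x81e8a089e7a08208a28208208208207a0820)) (.node (.leaf 0x85f7e185f7e18618e185f7df85f8617df85f) (.leaf 0x85f85f85d8617df86185f7e17df85f7df7e1))) (.node (.node (.leaf 0x7df7df7df7e18618e17df7df85f85f85f7e1)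 (.leaf 0x8a282281e8208a089e820820820820822820)) (.node (.leaf 0x82082081e82081e8a089e8a082089e820820) (.leaf 0x7a082281e8228208a08a2820820820820822)))))) (.node (.node (.node (.node (.node (.node (.leaf 0x7e17df7dd7e185f8617e17df8617e17e185f) (.leaf 0x7a08a081e8228208a28208208228208208a0)) (.leaf 0x8617e185d7e185f8618617df8617df8617e1)) (.node (.leaf 0x8618617df8617e18e185f7e17df8617df7df) (.leaf 0x82082081c81c820820820820820820820820))) (.node (.node (.leaf 0x85f7e17df85f8618e186185f8617df7df85f) (.leaf 0x8207a089e8208228a08207a07a08208208a0)) (.node (.leaf 0x7a082081e8208228a08207a082282081e822) (.leaf 0x82081e81e8207a08a08208a07a07a082081e)))) (.node (.node (.node (.node (.leaf 0x7e17df85f8618618df7e18617df7e185f85f) (.leaf 0x85f86185d7df86185f7e17df85f7df7e17e1)) (.leaf 0x7a28a081e8208208a08208228a0820820822)) (.node (.leaf 0x82082081e8208a08a082281e82081e82281e) (.leaf 0x86186185f7df7e18df85f8618617e1861861)))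 (.node (.node (.leaf 0x7df7df85f7e185f8e17e17e185f7e17df7df) (.leaf 0x85f85f85f7e17df8df8618618617e17e17df)) (.node (.leaf 0x7e17e17df85f8618df8617df7e185f7e1861) (.leaf 0x82081e81e8208a28a082282081e8208207a0))))) (.node (.node (.node (.node (.node (.leaf 0x7a082281e8208208a082079e8208228208a0) (.leaf 0x85f7e185d7e17df86185f8617e17df7e17df)) (.leaf 0x7a082081e8208228a08208a081e82082281e)) (.node (.leaf 0x8a28a081e8208208a082081e7a082082081e) (.leaf 0x820820720820820920820820820820820820))) (.node (.node (.leaf 0x7a082081e8207a08a07a081e8227a0820820) (.leaf 0x82079e81e8208208a28228207a0822820820)) (.node (.leaf 0x8617df7df85f7df8e185f7df7df7e18617df) (.leaf 0x85f85f85d8617e185f85f8617e17e18617e1)))) (.node (.node (.node (.node (.leaf 0x7df7df7dd7df7df8618617df7e17df8617df) (.leaf 0x82082081e8a081e8a282082082081e8227a0)) (.leaf 0x7df85f7df85f85f8e18617df85f7df85f7df)) (.node (.leaf 0x7a082081e82081e8a08207a0822820822822)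 (.leaf 0x82081e81e81e8208a082082081e7a281e820))) (.node (.node (.leaf 0x85f7df7df7e17df8df7df8617e185f7e185f) (.leaf 0x82282079e8208208a082081e81e82081e7a0)) (.node (.leaf 0x82082081e8a08208a08207a081e7a08a08a0) (.leaf 0x85f85f7dd86185f85f7df86185f85f7df85f))))))) (.node (.node (.node (.node (.node (.node (.node (.leaf 0x8618617df7e185f8df8617df7df8617df861) (.leaf 0x81e8a081e8207a08a082082082079e8207a0)) (.leaf 0x86185f7dd7df85f85f8617df7e17df7e1861)) (.node (.leaf 0x7e17e185f8618618e17e17df7df8617df7e1) (.leaf 0x85f85f85f7df85f8e185f7e185f7e186185f))) (.node (.node (.leaf 0x8228a081e8228228a081e820820820822820) (.leaf 0x82082281e8a08a08a07a082082081e7a0820)) (.node (.leaf 0x82082089e8207a28a08208208207a07a2820) (.leaf 0x82082089e8228208a082282082081e7a07a0)))) (.node (.node (.node (.node (.leaf 0x7df7e185f7df8618df8618617e17df85f861) (.leaf 0x85f86185f7df7df8e17df86186185f8617df)) (.leaf 0x82082289e8208208a28a08208208a08207a0))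 (.node (.leaf 0x85f8617dd85f7df8617df85f7e17e18617df) (.leaf 0x82282081e8228208a28a082282081e820820))) (.node (.node (.leaf 0x7a282079e81e8208a08207a08207a0820820) (.leaf 0x85f7e17dd85f7e186185f8618617e17e1861)) (.node (.leaf 0x89e82081e8a08208a081e82081e822820820) (.leaf 0x820820820820820920920820820820820820))))) (.node (.node (.node (.node (.node (.leaf 0x8a082081e8a28208a082081e82082079e820) (.leaf 0x7e17df85f7df7e18df8618617e18617e185f)) (.leaf 0x89e82281e8208a089e82082082082081e820)) (.node (.leaf 0x7df7e17df7e17e18df86185f7e17df7e17df) (.leaf 0x7e185f7df7e18618df7df7e17df7e17df7e1))) (.node (.node (.leaf 0x8208a079e82081e8a08207a07a08208207a0) (.leaf 0x8a07a081e8207a08a081e8a08208208a0820)) (.node (.leaf 0x7df85f85d85f7df85f86185f8617e185f7df) (.leaf 0x82282081e8227a08a082082081e8208a081e)))) (.node (.node (.node (.node (.leaf 0x7e17e17dd8617df85f7df7df85f7df7df85f) (.leaf 0x86186185f7df8618e17df85f85f7df7e185f))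 (.leaf 0x7df85f85f7e17e18e17df7e18617e18617e1)) (.node (.leaf 0x81e82081e82082089e8227a08208208208a2) (.leaf 0x7df85f7dd85f8618617df85f85f86185f7df))) (.node (.node (.leaf 0x85f85f85d7df86185f7df8617df8617df7e1) (.leaf 0x82082079e7a08208a082081e8a079e820820)) (.node (.leaf 0x7e17e185d7e18618617e185f7e17e185f861) (.leaf 0x82082281e8207a08a08208a07a08a082081e)))))) (.node (.node (.node (.node (.node (.node (.leaf 0x82082081e8a081e8a08228207a08207a0822) (.leaf 0x86185f85f7e185f8e18617df8617df7df85f)) (.leaf 0x8a081e81e8208208a082089e8208228207a0)) (.node (.leaf 0x82082079e8228208a081e82082081e7a07a0) (.leaf 0x8617e185f7df7df8df7df85f7e17e17e17df))) (.node (.node (.leaf 0x8207a081e8208208a282089e8207a0822820) (.leaf 0x7df85f85f7e17df8e17e18617df86186185f)) (.node (.leaf 0x7e17df85d7df7df8617e17e18617e185f7e1) (.leaf 0x7e186185d86185f8617e17e17e185f85f7e1)))) (.node (.node (.node (.node (.leaf 0x7df86185d85f8618617e185f8617e17e185f)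 (.leaf 0x7a082081e7a082089e7a08a07a0820820820)) (.leaf 0x7e17df7dd7df7e185f7e17df7e1861861861)) (.node (.leaf 0x7e17df85f7e17e18e17e17df86186185f85f) (.leaf 0x7e17e17dd7e18618617e17e185f7df7df7e1))) (.node (.node (.leaf 0x7df7df85d7e186186185f86185f85f7df7df) (.leaf 0x8617df7dd85f86186185f86186185f85f85f)) (.node (.leaf 0x82081e81e8a07a08a07a08208208228a0820) (.leaf 0x82082079e8207a089e8207a082281e820820))))) (.node (.node (.node (.node (.node (.leaf 0x81e82081e8228a08a082082081e8207a0822) (.leaf 0x8208a079e8208228a08207a07a08208208a0)) (.leaf 0x85f7df7dd7df85f8618617e1861861861861)) (.node (.leaf 0x82082079e8a08208a082081e8a089e820820) (.leaf 0x82072081c820820820820820820820820820))) (.node (.node (.leaf 0x7e185f7dd8618618617e186186185f7e17df) (.leaf 0x82082081e8a081e8a081e8207a08208a0822)) (.node (.leaf 0x86185f7dd85f7e185f8617e18617e185f861) (.leaf 0x82082081e8207a08a28208227a08208a07a0)))) (.node (.node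 (.node (.node (.leaf 0x7df85f85f8617df8e18617e185f7df7e1861) (.leaf 0x8a082281e8208208a08207a282081e8207a0)) (.leaf 0x8228a081e81e8228a0822820820820822820)) (.node (.leaf 0x82081e81e8207a08a08207a08a08a0820822) (.leaf 0x8a082081e8a082089e8a07a07a0820820820))) (.node (.node (.leaf 0x7df85f85f85f85f8e18618617e17e17df85f) (.leaf 0x81e82081e8a089e8a082089e820820820820)) (.node (.leaf 0x85f86185f85f8618df7e185f86185f861861) (.leaf 0x7df7e17df8618618e18617e185f85f7e17df))))))))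

/-- A part of a store. -/
def st26 : Store :=
  (.node (.node (.node (.node (.node (.node (.node (.node (.leaf 0x86185f85d7df86185f85f7e17e186186185f) (.leaf 0x7a081e81e81e8208a07a282082082082081e)) (.leaf 0x82082081e7a081e8a08228208a08207a0822)) (.node (.leaf 0x85f8617dd7df8618617df8618617df7df7df) (.leaf 0x8208a081e8208a289e7a082082082082081e))) (.node (.node (.leaf 0x7a27a081e8208208a08208228a082082081e) (.leaf 0x82081e81e82281e89e8208a08208208a0820)) (.node (.leaf 0x7df7df85d7df7e185f8617e186185f85f85f) (.leaf 0x7df85f85f7df85f8df7df7e17e18617e17df)))) (.node (.node (.node (.node (.leaf 0x82082281e81e81e89e8208a08208208a0820) (.leaf 0x7df7df85f7df7e18df7e17e17df86185f7e1)) (.leaf 0x82082081e7a08208a08208a081e8a08a07a0)) (.node (.leaf 0x82282081e7a08208a07a08208208a081e822) (.leaf 0x82082281e8a082089e820822822820820822))) (.node (.node (.leaf 0x7e17df7dd8617e185f7df7e18617e17e17e1) (.leaf 0x82082081e81e81e8a08208228207a082079e))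 (.node (.leaf 0x86185f7dd7e17e185f85f7df7e18617df7e1) (.leaf 0x82079e81e8208208a281e8207a081e820820))))) (.node (.node (.node (.node (.node (.leaf 0x82082081e8a081e8a282082082082281e7a0) (.leaf 0x82082089e8a08208a08208228a089e820820)) (.leaf 0x8617e17dd7e185f85f85f86185f7df85f7df)) (.node (.leaf 0x86186185d861861861861861861861861861) (.leaf 0x7e185f7dd85f7df85f7e18617e17df8617e1))) (.node (.node (.leaf 0x81e7a089e8a082089e8208208208208a0820) (.leaf 0x85f7e17dd7e17df86185f7df85f7e186185f)) (.node (.leaf 0x85f86185f7e17e18e185f85f7df7e18617df) (.leaf 0x7df7e17df7e17df8df85f7df85f85f7e1861)))) (.node (.node (.node (.node (.leaf 0x7df86185d85f85f85f7e17df85f85f85f85f) (.leaf 0x82082081e89e7a08a281e8208208a0820820)) (.leaf 0x8227a081e8207a08a082082082089e8208a0)) (.node (.leaf 0x8618617dd7e18618617e185f85f7e18617df) (.leaf 0x8208a081e7a07a08a08208207a2820822820))) (.node (.node (.leaf 0x7e18617df7e17e18e18618618618618617df)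 (.leaf 0x82082081e8208208a289e8208228208a2820)) (.node (.leaf 0x8a082081e8207a08a07a08228227a0820820) (.leaf 0x8207a081e8a07a08a08208208a282081e820)))))) (.node (.node (.node (.node (.node (.node (.leaf 0x81e7a081e82281e8a081e82082082081e820) (.leaf 0x7e185f85d85f86185f86186185f8617df85f)) (.leaf 0x85f85f7df7df85f8e185f85f7e17df7e17df)) (.node (.leaf 0x85f7df85d8617df85f7df85f8617e17e185f) (.leaf 0x82081c820820820920820820820820820820))) (.node (.node (.leaf 0x82082279e8208208a28a08208207a08207a0) (.leaf 0x8a082079e82081e89e822822820820820820)) (.node (.leaf 0x7a082081e8208228a08208a0822820822822) (.leaf 0x7e17df85d7e185f85f7df86185f7e17df861)))) (.node (.node (.node (.node (.leaf 0x8618617dd85f7e186186185f8618617df7df) (.leaf 0x82082279e82082089e8a08208208a08207a0)) (.leaf 0x82282089e8208208a082082281e8208228a0)) (.node (.leaf 0x8208a081e82082089e8208a28207a081e820) (.leaf 0x86186185f86185f8df7e17e17e17e17df7df)))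 (.node (.node (.leaf 0x7e17e17dd7e17df86186185f85f85f7e17df) (.leaf 0x7e185f7dd7e185f85f8618617df85f7df7e1)) (.node (.leaf 0x8207a079e8208228a08207a08a08208208a0) (.leaf 0x82082081c824820820820820820820820820))))) (.node (.node (.node (.node (.node (.leaf 0x7df7e185d85f85f8618618617e17e18617e1) (.leaf 0x820820820820820920820820820820920820)) (.leaf 0x81e82081e7a08a28a082089e820820820820)) (.node (.leaf 0x8a27a081e8208208a08208227a082082081e) (.leaf 0x82082082082082092082082082082081c820))) (.node (.node (.leaf 0x8a082081e8208208a08228208a07a08228a0) (.leaf 0x7a28a081e8208208a082081e7a0820820822)) (.node (.leaf 0x85f7e17df7e17e18df7df85f7df8617df7e1) (.leaf 0x7a081e81e8228208a079e82082082082081e)))) (.node (.node (.node (.node (.leaf 0x7e185f85d86186185f7df7df85f85f7df7e1) (.leaf 0x8207a281e8208208a281e8208a081e820820)) (.leaf 0x7e17e17df7df7df8e185f7e17e185f7e17df)) (.node (.leaf 0x8a082081e8208208a081e8208a07a08227a0)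 (.leaf 0x8617df7df86185f8df86185f7e17e17e185f))) (.node (.node (.leaf 0x85f7df7dd85f8618617df7e185f85f7e17e1) (.leaf 0x85f8617df8618618e186185f85f86185f7e1)) (.node (.leaf 0x82082089e8a281e8a08a0820822820820820) (.leaf 0x82282081e81e8208a27a081e820822820820))))))) (.node (.node (.node (.node (.node (.node (.node (.leaf 0x85f7df7dd86185f86185f7df7e17e17e17e1) (.leaf 0x81e82081e8208208a08207a07a081e7a2820)) (.leaf 0x8617df7df7df8618e185f7e185f7df7df7df)) (.node (.leaf 0x7df86185d7df7df8617e18617e17df85f85f) (.leaf 0x8a08a081e8207a08a081e8a08208207a0820))) (.node (.node (.leaf 0x8a081e81e8208208a08208a28208228208a0) (.leaf 0x8207a081e79e8208a08208a0820822820822)) (.node (.leaf 0x86185f7df8617e18df85f85f7df7e185f861) (.leaf 0x7e186185d7df7e185f8618617e186185f7e1)))) (.node (.node (.node (.node (.leaf 0x8208a079e8208208a081e8208227a0820822) (.leaf 0x82081e81e81e8208a08208208228a281e820)) (.leaf 0x82082079e7a08208a082081e8a08a2820820))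 (.node (.leaf 0x85f85f7dd85f7df85f7df7e17e18617e1861) (.leaf 0x82082281e8208a08a08208a07a08a0820822))) (.node (.node (.leaf 0x7e185f7df8618618e18618617df8617e1861) (.leaf 0x86185f7df7df8618df7df85f7e18617e1861)) (.node (.leaf 0x8207a081e7a08208a089e81e8208208207a0) (.leaf 0x81e82081e8228208a27a082282081e820820))))) (.node (.node (.node (.node (.node (.leaf 0x81e82081e8227a08a08208208228208a081e) (.leaf 0x82082081c820820820820820920820820820)) (.leaf 0x7a082081e8228a28a08208208a0822820820)) (.node (.leaf 0x85f7e185d7e17e18618617e185f85f7e1861) (.leaf 0x8a082081e7a28208a08208228208208a2820))) (.node (.node (.leaf 0x7a07a089e8208208a08a082082082281e820) (.leaf 0x82282081e7a07a28a082089e820820820820)) (.node (.leaf 0x7df86185f85f7df8df7df7e185f861861861) (.leaf 0x82282081e8208228a282082079e7a0820820)))) (.node (.node (.node (.node (.leaf 0x8a082081e8a28208a08208228208207a2820) (.leaf 0x8227a281e8208208a07a07a0822820820820))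 (.leaf 0x82082079e7a08208a08208228a089e820820)) (.node (.leaf 0x82082081e8208228a079e8a082089e820820) (.leaf 0x7e185f7df8617e18df7e185f7e185f86185f))) (.node (.node (.leaf 0x79e81e81e8208a08a2820820820820822820) (.leaf 0x82082079e81e82089e8208208a082081e81e)) (.node (.leaf 0x85f7e185f86185f8df7df7df7e18617e1861) (.leaf 0x82079e79e8228a08a0820822820820820820)))))) (.node (.node (.node (.node (.node (.node (.leaf 0x85f7df85d8617df8617e185f7e17df85f7e1) (.leaf 0x8208a081e7a08a08a08208208a2820822820)) (.leaf 0x8a07a081e81e82089e8208208228208208a0)) (.node (.leaf 0x8a082081e8208208a28208208208a28a081e) (.leaf 0x82082281e8208a28a082282081e8208208a0))) (.node (.node (.leaf 0x7e186185f7e185f8df7df86185f7e18617df) (.leaf 0x7df86185f7df7e18e185f7e17e186185f85f)) (.node (.leaf 0x7e185f85d85f7df85f7e17df85f7e17e1861) (.leaf 0x85f7e185f7e17e18df7df7e186185f85f861)))) (.node (.node (.node (.node (.leaf 0x7df7e185d8617df85f85f7e17df7e17e1861)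 (.leaf 0x82082081e8a08228a28208208208228227a0)) (.leaf 0x86185f85f85f7df8e17e17df85f85f86185f)) (.node (.leaf 0x7e18617df85f7e18df86185f8617df85f7e1) (.leaf 0x8207a081e8208208a282079e8207a081e820))) (.node (.node (.leaf 0x7a081e81e8208208a082079e8208228207a0) (.leaf 0x7e17df85d85f86185f7df7df8617e185f85f)) (.node (.leaf 0x8207a079e82081e8a08208a08a08208208a0) (.leaf 0x7a082081e8208a08a07a081e81e7a0820820))))) (.node (.node (.node (.node (.node (.leaf 0x7a082279e8208208a08208208a28207a0820) (.leaf 0x82082081e81e8228a082081e8207a08208a2)) (.leaf 0x8208a081e8a08a08a082082079e82081e820)) (.node (.leaf 0x8207a081e82081e8a082081e81e81e8a0820) (.leaf 0x82082081e8228a08a08a08a082082081e8a0))) (.node (.node (.leaf 0x82282281e8208208a081e8228207a07a0820) (.leaf 0x82082281e8208a28a08228208228208207a0)) (.node (.leaf 0x86185f85d7e185f85f7df7df85f7df86185f) (.leaf 0x7a082081e7a28208a082081e8208208a2820)))) (.node (.node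 (.node (.node (.leaf 0x7a081e89e8208208a08208207a28208a0820) (.leaf 0x82079e81e82082089e81e8208a081e820820)) (.leaf 0x86185f85d86185f85f85f85f7df8617e1861)) (.node (.leaf 0x82081e81e82079e8a082282081e8208207a0) (.leaf 0x82082079e8208a089e8208a082281e820820))) (.node (.node (.leaf 0x8227a081e81e8228a081e820820820822820) (.leaf 0x8207a081e8208a289e7a0820820820820822)) (.node (.leaf 0x7e185f85d86185f85f7e185f7e17df7df85f) (.leaf 0x89e82081e8a08208a081e82082281e820820))))))))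

/-- A part of a store. -/
def st27 : Store :=
  (.node (.node (.node (.node (.node (.node (.node (.node (.leaf 0x8617df85f7e18618df7df7e18617e17e185f) (.leaf 0x8208a089e8208208a08228208227a0820822)) (.leaf 0x86185f85d7df85f85f86186185f7e18617e1)) (.node (.leaf 0x86185f7dd7e17df86185f85f7df7df8617e1) (.leaf 0x7e17df7df7df85f8e17df8617df7e17e185f))) (.node (.node (.leaf 0x8207a081e79e8208a08208a082081e82081e) (.leaf 0x85f8617dd8617df8618617e17e17df861861)) (.node (.leaf 0x7df85f85f8618618df7df85f7df8618617e1) (.leaf 0x82082281e8228208a08208208228a281e820)))) (.node (.node (.node (.node (.leaf 0x7df7e17df7e185f8df7e17e17e185f7df7e1) (.leaf 0x85f7e17dd7e17e185f85f85f86185f7df85f)) (.leaf 0x82082089e8a08208a082081e8a08a2820820)) (.node (.leaf 0x82082281e81e82289e8208a08208207a0820) (.leaf 0x81e79e81e8208208a07a07a0822820820820))) (.node (.node (.leaf 0x7e17e17dd7df7df8617df7e185f8617e1861) (.leaf 0x8617df7dd8617df85f85f8617e17df7df861))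 (.node (.leaf 0x82281e81e8208208a08228228207a07a0820) (.leaf 0x7a082081e8a28208a082082282082079e820))))) (.node (.node (.node (.node (.node (.leaf 0x82082279e8208208a28a08208208a08208a0) (.leaf 0x82082079e8228208a28208207a082081e822)) (.leaf 0x7a282089e81e8208a08208a08207a0820820)) (.node (.leaf 0x7df85f7df8617df8e186185f7e17e18617e1) (.leaf 0x82082089e8208208a07a089e8208208a081e))) (.node (.node (.leaf 0x7e185f85f7df8618e185f7e17e17df7e1861) (.leaf 0x82282089e8208208a082081e81e82081e8a0)) (.node (.leaf 0x7e18617dd7e17df85f7e17e17e17e17df861) (.leaf 0x86185f7dd85f86185f7df7df7df7e18617e1)))) (.node (.node (.node (.node (.leaf 0x7a082081e8208208a081e8207a07a08227a0) (.leaf 0x82279e81e8208208a08a08a081e820820820)) (.leaf 0x82082081e7a082289e8208208208228227a0)) (.node (.leaf 0x86185f85f7df7df8e186185f7df7e17e1861) (.leaf 0x85f85f7dd8617e18618617df7df7e185f7df))) (.node (.node (.leaf 0x7df7e17df8617df8df7df85f7df7e186185f)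 (.leaf 0x89e82089e8228208a08208a08208a0820820)) (.node (.leaf 0x82082081e82082089e89e82082282089e820) (.leaf 0x7df8617dd8617df85f7e17e185f85f7e17e1)))))) (.node (.node (.node (.node (.node (.node (.leaf 0x7e18617dd85f86185f85f8618617e18617df) (.leaf 0x7a282079e8228208a08208a08207a0820820)) (.leaf 0x8a282081e82081e8a08a08208208207a07a0)) (.node (.leaf 0x85f8617dd7df85f8617e17e17df85f7df861) (.leaf 0x82082081e8227a08a08a08a08208208228a0))) (.node (.node (.leaf 0x82082079e8208a089e8208a081e822820820) (.leaf 0x85f85f7dd7e17e185f7df85f7df86186185f)) (.node (.leaf 0x82082281e8208228a08a081e7a082081e820) (.leaf 0x7e17df7dd7e17e18618618618618617df861)))) (.node (.node (.node (.node (.leaf 0x7df7df85f85f85f8e17df7df7df86185f85f) (.leaf 0x8207a081e7a08208a08a28228208208207a0)) (.leaf 0x82082081e8228228a082081e8207a08207a2)) (.node (.leaf 0x7df85f7dd7df86186185f7df7df7df7df7e1) (.leaf 0x8617e185d8617df86185f86185f8617df85f)))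 (.node (.node (.leaf 0x7df7df85d8618618617df7e17df7e185f7e1) (.leaf 0x7e185f7dd85f86186185f7df8618617e1861)) (.node (.leaf 0x85f85f85d7e17df85f7e18617df7df7e1861) (.leaf 0x82282081e82082089e81e7a08208208208a2))))) (.node (.node (.node (.node (.node (.leaf 0x8207a081e81e8208a08a08207a07a07a0820) (.leaf 0x82082089e8208208a08a08a28208208a081e)) (.leaf 0x7a082081e8207a08a08a081e8228a0820820)) (.node (.leaf 0x82282081e8208228a28208207a28a0820820) (.leaf 0x7df85f7dd7e17df85f85f7df85f85f85f7df))) (.node (.node (.leaf 0x81e82079e8208208a082081e81e8208227a0) (.leaf 0x82081e81e8a082089e82081e81e82082081e)) (.node (.leaf 0x7df8617dd85f7e186185f7df8617df85f85f) (.leaf 0x7a082081e89e8208a082081e82082079e820)))) (.node (.node (.node (.node (.leaf 0x8618617df85f8618e185f86186185f7e17e1) (.leaf 0x82089e81e8208208a281e8208a081e820820)) (.leaf 0x8617e17df85f7e18df8617e18617e17e17df)) (.node (.leaf 0x82081e81e8207a28a082282081e8208208a0)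 (.leaf 0x82081e81e7a07a08a07a08208208227a0820))) (.node (.node (.leaf 0x86185f85d7df85f86185f8617df7df7df85f) (.leaf 0x7a082081e8208208a08228207a07a08228a0)) (.node (.leaf 0x81e81e81e8a28208a08208208a08208207a0) (.leaf 0x85f86185d7e186185f85f86185f7e17e185f))))))) (.node (.node (.node (.node (.node (.node (.node (.leaf 0x8617df7df85f85f8e17e17e18617e185f85f) (.leaf 0x8617df85f7e18618e17e17e17e17df85f7e1)) (.leaf 0x86186185f85f85f8df85f85f7e17df7df861)) (.node (.leaf 0x8618617dd7df86185f8617e17df7e17df7df) (.leaf 0x82282081e8208208a08207a07a081e79e820))) (.node (.node (.leaf 0x7df7df7df86185f8df85f7df7e185f8617df) (.leaf 0x86185f7dd7e185f85f7df8617e17e17e17df)) (.node (.leaf 0x86185f85d85f7e185f86185f7df7df7df7e1) (.leaf 0x8207a081e8207a289e7a082082082082081e)))) (.node (.node (.node (.node (.leaf 0x7df7e185d7df85f85f7df7e17e186185f861) (.leaf 0x81e82081e8227a08a082082081e8208a0822)) (.leaf 0x7e17e17dd85f7df85f86186185f7e17df7e1))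 (.node (.leaf 0x7df7df85f7df7e18e17df7e185f85f7e185f) (.leaf 0x8617e185f8617df8e17df8617e185f7df7e1))) (.node (.node (.leaf 0x81e82081e8208208a08207a08a081e8a2820) (.leaf 0x82082079e81e8208a08228208208228a07a0)) (.node (.leaf 0x7df7e17dd86185f8617df86185f7e17e17df) (.leaf 0x82082081e81e8208a082279e79e820820820))))) (.node (.node (.node (.node (.node (.leaf 0x85f7e185d86186186185f85f8617e185f7df) (.leaf 0x82079e89e81e7a08a082081e820820820820)) (.leaf 0x81e82281e8a28208a08208207a08208207a0)) (.node (.leaf 0x8a082081e8208208a08228207a07a08227a0) (.leaf 0x7df8617df7df85f8e17df7e185f7df7e17e1))) (.node (.node (.leaf 0x8618617dd85f85f85f7df7e17e17df85f85f) (.leaf 0x7e185f7dd7e17df8617e185f7e186185f7df)) (.node (.leaf 0x7e17df85d7e186185f7e17e17e18617df7df) (.leaf 0x8a082081e8208228a08207a082282081e81e)))) (.node (.node (.node (.node (.leaf 0x8208a081e82082089e82079e8207a081e820) (.leaf 0x8617e185d8617e185f85f7e18617df86185f))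 (.leaf 0x82081e89e8208208a28a08208208a08208a0)) (.node (.leaf 0x85f85f85f7df7df8e17e17df7e17e185f7df) (.leaf 0x7e186185f85f7df8df85f8618618617df7df))) (.node (.node (.leaf 0x7df7df7df7e17df8df8618617df7e17df861) (.leaf 0x82081e81e81e8208a082082082279e81e820)) (.node (.leaf 0x8207a081e82082089e8208a28207a0822820) (.leaf 0x82282079e8207a08a08a28207a0820820820)))))) (.node (.node (.node (.node (.node (.node (.leaf 0x85f7e185f85f85f8df8618617e185f7e17df) (.leaf 0x82081e81e8208228a07a081e7a082081e820)) (.leaf 0x8a07a081e8208a08a081e8a08208207a0820)) (.node (.leaf 0x82081e81e8228208a082082081e79e81e820) (.leaf 0x8617e17dd8617df86185f7df7e185f85f7df))) (.node (.node (.leaf 0x7df7e17df7df7df8df7e186185f8617e17df) (.leaf 0x7df7e185f8617e18df7e18617df85f7e1861)) (.node (.leaf 0x85f86185f7e185f8df7e17e185f85f7e185f) (.leaf 0x82081e81e8207a08a08208a08a07a0820822)))) (.node (.node (.node (.node (.leaf 0x82082081e8208208a08a08208a281e8208a2)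 (.leaf 0x8617e185d7e186186185f85f7df85f86185f)) (.leaf 0x8207a089e82081e8a08208a07a08208208a0)) (.node (.leaf 0x7df85f85f7e18618df85f7df85f7df7e17df) (.leaf 0x8207a081e8a07a08a082082079e82081e820))) (.node (.node (.leaf 0x82082281e82081e8a08a081e8a082081e820) (.leaf 0x82082081e8208208a07a08207a281e8208a2)) (.node (.leaf 0x8617e17df85f85f8df7e185f8618617df7e1) (.leaf 0x82082081e81e8208a081e8a289e820820820))))) (.node (.node (.node (.node (.node (.leaf 0x82082081e8a08208a08208a081e8a08a08a0) (.leaf 0x8208a281e8208208a082082082082089e79e)) (.leaf 0x82082081e8208208a07a08207a282282089e)) (.node (.leaf 0x82082279e8208208a27a08208208a08207a0) (.leaf 0x8208a081e8a08208a08a28228208208207a0))) (.node (.node (.leaf 0x8617df85f8617e18df7e185f85f85f85f7e1) (.leaf 0x81e81e81e8208208a081e8228208a08a0820)) (.node (.leaf 0x86185f7dd85f7e186185f7e17e17df7e17df) (.leaf 0x7e185f85d86185f8617df85f8617e18617e1)))) (.node (.node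 (.node (.leaf 0x7df86185f7df7df8e186186185f7e185f7e1) (.leaf 0x8a082081e82279e8a08208207a0822820820)) (.node (.leaf 0x7e17e17dd85f7e185f85f7e17e18617df85f) (.leaf 0x82282081e8a08208a07a08208208a0822822))) (.node (.node (.leaf 0x7e17df85f85f85f8df86185f86185f85f85f) (.leaf 0x85f85f85f7df7e18df7e185f7df85f7e17df)) (.node (.leaf 0x85f7df85f7e18618e18618617df7df7e185f) (.leaf 0x8a082289e8208208a082082079e8207a0820))))))))

/-- A part of a store. -/
def st28 : Store :=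
  (.node (.node (.node (.node (.node (.node (.node (.node (.leaf 0x85f7df85f7e17df8df7df7df85f8618617df) (.leaf 0x7df8617df7df7df8df85f7df8617e18617df)) (.leaf 0x85f7df85f85f7e18df7df8618618617e17e1)) (.node (.leaf 0x8618617dd7df7df8617df85f85f85f85f85f) (.leaf 0x82081e81e8a082089e82081e822820820822))) (.node (.node (.leaf 0x7e17df85d7e17e18618617df7df85f85f7e1) (.leaf 0x7df8617df8617df8e185f7e186185f85f7e1)) (.node (.leaf 0x8208a089e8208208a082282081e8a0820822) (.leaf 0x82081e81e81e8228a28208a08208207a0820)))) (.node (.node (.node (.node (.leaf 0x8227a081e82281e8a082282082082081e820) (.leaf 0x7df86185d8617e18617e17df7df7df7df861)) (.leaf 0x82082081e8208a08a28208228a08207a08a0)) (.node (.leaf 0x82282081e82081e89e8208208a27a0820820) (.leaf 0x82282081e82282089e7a082282081e820820))) (.node (.node (.leaf 0x81e81e81e8208208a08228228207a08a0820) (.leaf 0x82082081e8208208a279e82081e8208a2820)) (.node (.leaf 0x86185f7dd7e17e18618617df86185f86185f)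 (.leaf 0x8207a081e8a08208a07a281e8208208208a0))))) (.node (.node (.node (.node (.node (.leaf 0x8208a079e8208208a08228208227a082081e) (.leaf 0x82082089e81e8208a081e82082081e8a08a0)) (.leaf 0x8a082081e81e79e8a08208208a0822820820)) (.node (.leaf 0x7df7df7dd85f7df85f7df85f7e185f85f85f) (.leaf 0x85f7df7df85f7e18e17e17df85f8617df7df))) (.node (.node (.leaf 0x89e82081e8208228a07a08208208207a08a0) (.leaf 0x85f8617dd85f7e18617e17df85f861861861)) (.node (.leaf 0x85f85f85f8617df8df7e17e17e185f8617e1) (.leaf 0x82082089e8208208a07a08a28208207a081e)))) (.node (.node (.node (.node (.leaf 0x7e17df85d7df7e18617df8617df86185f85f) (.leaf 0x7e17e185d7df85f85f85f8617df8617e17df)) (.leaf 0x8a082081e81e7a28a08208207a0822820820)) (.node (.leaf 0x85f85f85d85f85f85f8618617e185f85f861) (.leaf 0x8207a081e82082089e82079e8208a081e820))) (.node (.node (.leaf 0x85f7e185d8617e18617e18617df7e186185f) (.leaf 0x82082081e8208228a089e8a08208a2820820))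 (.node (.leaf 0x7a282081e82081e8a08a08208208207a08a0) (.leaf 0x8207a081e8a07a08a08208207a2820822820)))))) (.node (.node (.node (.node (.node (.node (.leaf 0x7e17df7dd86185f85f85f85f8618617df7df) (.leaf 0x8617e185f7df85f8e185f8617df7df8617e1)) (.leaf 0x8618617df7df85f8df7df8617df85f7df7df)) (.node (.leaf 0x8617e185d85f7e18617df85f7e17df7df85f) (.leaf 0x82282081e82282089e8a0822820822820820))) (.node (.node (.leaf 0x81e8a079e8a08208a28208208208207a0820) (.leaf 0x8a081e81e81e8208a07a2820820820820822)) (.node (.leaf 0x85f7e17df7df7e18e185f7e185f8618617e1) (.leaf 0x7df86185d7e17df86185f7df7e17e185f7e1)))) (.node (.node (.node (.node (.leaf 0x8a082281e8208208a082089e82081e8207a0) (.leaf 0x81e82081e8208208a08208a08a081e89e820)) (.leaf 0x7df7df85d7df7df86186186185f7e17e185f)) (.node (.leaf 0x85f8617dd7df85f85f7df7e185f8618617df) (.leaf 0x8617df7dd85f7df8617df7df8617df861861))) (.node (.node (.leaf 0x89e82081e8208228a08a08208208208a08a0)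 (.leaf 0x82081e81e8228208a082082081e8a281e820)) (.node (.leaf 0x82082081e81e8228a08208228207a082089e) (.leaf 0x82089e81e82082089e81e8207a081e820820))))) (.node (.node (.node (.node (.node (.leaf 0x7df7e17df7e17df8e18617df7df86185f7df) (.leaf 0x8a08a281e8a08228a08208208207a0820820)) (.leaf 0x7a082081e8208a08a08a081e81e8a0820820)) (.node (.leaf 0x8a27a081e8208208a08208228a0820820822) (.leaf 0x82082079e81e8208a28208208a082082281e))) (.node (.node (.leaf 0x82282079e8207a08a089e8208a0820820820) (.leaf 0x82282089e8208208a082082281e82081e7a0)) (.node (.leaf 0x8617df7df7e17df8df85f7e17df85f85f7e1) (.leaf 0x7a082079e82081e89e82281e820820820820)))) (.node (.node (.node (.node (.leaf 0x82082081e8208208a28a282082282089e820) (.leaf 0x8208a081e7a08208a089e8228208208207a0)) (.leaf 0x82082281e8208228a07a081e7a0820822820)) (.node (.leaf 0x8a282089e81e8208a08208a08208a0820820) (.leaf 0x86185f7df85f85f8e185f85f85f8617df85f)))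 (.node (.node (.leaf 0x8617df7dd8617df8618618618617e18617df) (.leaf 0x8617e17df86185f8e18617e17e18618617e1)) (.node (.leaf 0x8207a081e82089e8a27a0820820820820822) (.leaf 0x920820820820820920820820820820820820))))))) (.node (.node (.node (.node (.node (.node (.node (.leaf 0x85f7df7dd8617df8617e17e185f7e17df861) (.leaf 0x7a082081e8208208a28208208207a27a0822)) (.leaf 0x86185f7df7df85f8e17df7df7df7df85f861)) (.node (.leaf 0x8618617dd8618618618617df7df85f7e17e1) (.leaf 0x81e82081e81e8a08a08208208228208a081e))) (.node (.node (.leaf 0x8a281e81e8208a08a2820820820820822820) (.leaf 0x7e17df7dd86186185f8617df7df7e17df861)) (.node (.leaf 0x8208a081e89e8208a08207a082082282081e) (.leaf 0x85f7e17df8617e18df85f7df85f7df85f7df)))) (.node (.node (.node (.node (.leaf 0x8227a081e81e81e8a0822820820820822820) (.leaf 0x82082281e81e8208a082082081e89e822820)) (.leaf 0x8228a089e8a08208a28208208208207a0820)) (.node (.leaf 0x82282081e8208228a282082089e8a0820820)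 (.leaf 0x7df7e185d85f7df85f7e185f7df7df7e17df))) (.node (.node (.leaf 0x82082081e7a08228a08228207a08207a0822) (.leaf 0x82081e81e82081e8a07a081e7a0820822820)) (.node (.leaf 0x81e82081e82082089e81e8a082082082079e) (.leaf 0x8207a281e8208208a28228207a081e820820))))) (.node (.node (.node (.node (.node (.leaf 0x82082081e89e8a089e8228208207a0820820) (.leaf 0x86185f85f8617e18df85f7e18617df7df7e1)) (.leaf 0x7a082079e8208228a282281e820820820820)) (.node (.leaf 0x7e186185d7df7e186185f86186185f7e185f) (.leaf 0x8a082081e7a28208a082082282082079e820))) (.node (.node (.leaf 0x7e186185f7e17e18df85f7df85f86185f7e1) (.leaf 0x81e7a281e8208208a08a07a0822820820820)) (.node (.leaf 0x86185f7df85f85f8df86185f7df85f8617e1) (.leaf 0x81e82081e81e7a08a08208208228207a081e)))) (.node (.node (.node (.node (.leaf 0x82082081e8a08208a08208a08228a07a08a0) (.leaf 0x86185f7df7e17df8df7e185f7e17df7df7e1)) (.leaf 0x8228a089e7a08208a28208208208208a0820))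 (.node (.leaf 0x82282281e89e8208a08208208a08208208a0) (.leaf 0x82081e79e8a08208a081e7a082082081e820))) (.node (.node (.leaf 0x79e7a081e8208208a082081e8a082082081e) (.leaf 0x8228a081e8208a08a082082082089e8208a0)) (.node (.leaf 0x81e82281e8208208a081e8228207a08a0820) (.leaf 0x85f85f7dd85f85f85f8617df85f8617df7e1)))))) (.node (.node (.node (.node (.node (.node (.leaf 0x86186185d85f8618617df7df86185f8617df) (.leaf 0x7a089e81e8a081e8a08208208208a0820820)) (.leaf 0x7a082289e8208208a082082089e8207a0820)) (.node (.leaf 0x82082089e8208a28a08208208207a079e820) (.leaf 0x82282081e8227a08a08208208228208a0822))) (.node (.node (.leaf 0x85f8617dd8618618617e185f7e185f85f85f) (.leaf 0x7df8617df7df7e18df86185f7df861861861)) (.node (.leaf 0x7df7df7dd7e17df85f7e18618617df7df7df) (.leaf 0x85f86185f85f7df8e185f7e17e17e17e17e1)))) (.node (.node (.node (.node (.leaf 0x7e185f7df85f7e18e18617e186185f7df85f) (.leaf 0x81e82079e8207a08a08a28208a0820820820))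 (.leaf 0x8a082081e8208208a282082082089e7a081e)) (.node (.leaf 0x85f86185f7df85f8e186185f7df85f85f85f) (.leaf 0x81e7a089e8a08208a28208208208207a0820))) (.node (.node (.leaf 0x7df86185f7df85f8e17df85f7e17e1861861) (.leaf 0x8227a081e81e81e8a081e82082082081e820)) (.node (.leaf 0x82082081e82281e8a08208228207a082089e) (.leaf 0x82282079e8208a08a07a28207a0820820820))))) (.node (.node (.node (.node (.node (.leaf 0x7df8617dd86186185f86185f85f7df7df7df) (.leaf 0x7e17df7df7df7e18e185f7df7df8617df861)) (.leaf 0x7e185f7dd7e186185f85f7e18617df7df85f)) (.node (.leaf 0x82081e79e82082089e8a08208207a08207a0) (.leaf 0x7df7df7dd7e185f86186185f85f7e185f7e1))) (.node (.node (.leaf 0x86185f85d7df7df85f7df85f7e17e185f861) (.leaf 0x82082081c820820820820820720820820820)) (.node (.leaf 0x85f86185f7e18618df7df8617e17df7e17e1) (.leaf 0x7a082081e8208208a282082082079e8a0822)))) (.node (.node (.node (.node (.leaf 0x82082079e8207a28a08208208207a079e820)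 (.leaf 0x82082081e82281e8a08208228208a08208a2)) (.leaf 0x8228a081e8207a08a08208208207a28207a0)) (.node (.leaf 0x7a082081e81e7a28a08208207a081e820820) (.leaf 0x82082079e89e81e8a07a082081e820820820))) (.node (.node (.leaf 0x82081e81e8208228a07a081e8a0820822820) (.leaf 0x7e17df7df86185f8df7df85f7df85f7df861)) (.node (.leaf 0x7e185f85d7df85f85f7df86186185f85f7df) (.leaf 0x7a082079e82081e8a2822822820820820820))))))))

/-- A part of a store. -/
def st29 : Store :=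
  (.node (.node (.node (.node (.node (.node (.node (.node (.leaf 0x85f85f85f85f7e18e185f7df7df7df7df85f) (.leaf 0x82082089e8208a28a08208208208a07a2820)) (.leaf 0x86185f7df86185f8e17e17e185f85f7df7e1)) (.node (.leaf 0x8618617dd7e17df8618617e185f86185f7e1) (.leaf 0x7e185f7df7df85f8df85f7df86185f7df7e1))) (.node (.node (.leaf 0x8a082081e81e8a28a08208208a0822820820) (.leaf 0x85f7e17dd8617df8617df85f7df85f7e1861)) (.node (.leaf 0x7e185f85d85f85f85f85f7e17e17e17df7e1) (.leaf 0x82082081e8208a08a082281e820822822822)))) (.node (.node (.node (.node (.leaf 0x82082079e8208a28a08208208207a089e820) (.leaf 0x8207a081e8207a28a27a0820820820820822)) (.leaf 0x7e185f85d8617df8618618617df7e185f861)) (.node (.leaf 0x82081e81e8228208a08208208227a281e820) (.leaf 0x82082281e82089e8a08228208228208208a0))) (.node (.node (.leaf 0x85f8617df7df8618df86186185f7df8617df) (.leaf 0x85f7df85f7df85f8df7df85f7e185f85f7e1)) (.node (.leaf 0x7e186185f7e17df8e185f85f8617df7e17e1)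 (.leaf 0x82082081c920820820820820820820820820))))) (.node (.node (.node (.node (.node (.leaf 0x82082081e8a081e8a282082082081e81e8a0) (.leaf 0x82082079e8208a28a08208208208a08a2820)) (.leaf 0x7a281e81e8208a08a282082082082081e820)) (.node (.leaf 0x7df85f7dd7df7e185f7df7e17e17e185f7df) (.leaf 0x8227a281e8208208a08a07a081e820820820))) (.node (.node (.leaf 0x86185f7df7df7df8e18617e18617df8617e1) (.leaf 0x7a281e81e8207a08a2820820820820822820)) (.node (.leaf 0x8617df7df8617e18e17df7e186185f8617df) (.leaf 0x85f85f7df7e17e18e186185f7e18617df85f)))) (.node (.node (.node (.node (.leaf 0x7df7df85f85f7df8e18617e18618618617df) (.leaf 0x7a082281e81e8208a07a2820820820820822)) (.leaf 0x82082081e7a08228a282082082081e8227a0)) (.node (.leaf 0x82082081e82281e8a082081e8208a082089e) (.leaf 0x7e186185f7e17df8df86185f7e17e185f85f))) (.node (.node (.leaf 0x7df7df85f7e185f8df7df7e17df7df861861) (.leaf 0x89e82281e8208a08a2820820820820822820))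 (.node (.leaf 0x82081e89e8a08208a081e8a082082081e820) (.leaf 0x7df7e185d7df7df85f8617df85f8618617e1)))))) (.node (.node (.node (.node (.node (.node (.leaf 0x8207a079e8208208a081e8208227a082081e) (.leaf 0x7e186185f85f7df8e18618617e185f861861)) (.leaf 0x85f8617df85f8618e17df7e185f85f85f85f)) (.node (.leaf 0x85f8617df8617df8e17e17e185f7e18617df) (.leaf 0x8228a281e8208208a08a07a0822820820820))) (.node (.node (.leaf 0x8208a081e8a28208a08208a082082282081e) (.leaf 0x7e17df85f7e17df8e17df85f7df7e185f7e1)) (.node (.leaf 0x8207a079e8208208a082282081e8a0820822) (.leaf 0x86186185f85f8618df8617df85f85f7df7df)))) (.node (.node (.node (.node (.leaf 0x7e185f85f86185f8e185f85f7df7df86185f) (.leaf 0x86186185d7df7e185f7df8617df7df8617df)) (.leaf 0x79e8a081e8208208a082081e8a0820820822)) (.node (.leaf 0x7e185f85f7e185f8df7e17df7df85f85f7df) (.leaf 0x86185f85f7e17e18e17e186186185f7e1861))) (.node (.node (.leaf 0x7df8617df7df8618e17e18617e185f7e185f)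 (.leaf 0x85f7e185f7df7e18df86185f86186185f7df)) (.node (.leaf 0x85f7e185d7df7e185f7e185f7df85f85f861) (.leaf 0x82082081e81e8208a08227a27a2820820820))))) (.node (.node (.node (.node (.node (.leaf 0x8207a081e8208228a082081e81e81e7a0820) (.leaf 0x82282081e8a08208a07a08208207a081e822)) (.leaf 0x81e82079e8208a08a07a28208a0820820820)) (.node (.leaf 0x8a282081e8208228a07a08208208208a08a0) (.leaf 0x82082079e81e82089e8208207a082082281e))) (.node (.node (.leaf 0x81e82079e8208208a082082281e82081e7a0) (.leaf 0x82089e81e82082089e8228208a081e820820)) (.node (.leaf 0x8618617df7e17df8df7df7e18618617e17e1) (.leaf 0x7a082281e81e8208a079e82082082082081e)))) (.node (.node (.node (.node (.leaf 0x7e18617df7df7df8df7df85f85f7e17df861) (.leaf 0x8a082081e7a08208a27a08a07a0820820820)) (.leaf 0x82082081e7a27a08a281e8208208a0820820)) (.node (.leaf 0x82082081e81e7a08a08a07a08208208228a0) (.leaf 0x81e82081e81e82089e7a082282081e820820)))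 (.node (.node (.leaf 0x8617df85d8618618617e18617df85f7df861) (.leaf 0x81e82079e8208208a082081e81e82081e8a0)) (.node (.leaf 0x82282081e82081e8a282082079e8a0820820) (.leaf 0x7df7df7dd86185f85f7df7df85f861861861))))))) (.node (.node (.node (.node (.node (.node (.node (.leaf 0x8617e17df8618618e185f86185f7e186185f) (.leaf 0x81e82281e79e8208a08208207a08208207a0)) (.leaf 0x85f7df7df85f7df8df7e185f8617df8617df)) (.node (.leaf 0x7df86185d86185f8618618617df85f7e185f) (.leaf 0x82289e81e8208208a07a07a0822820820820))) (.node (.node (.leaf 0x8a082079e8a08a08a082082082082082079e) (.leaf 0x7e186185f8618618df8618618617df7e185f)) (.node (.leaf 0x8a082089e8a07a08a08208208208208208a2) (.leaf 0x82082081e82081e8a089e7a082079e820820)))) (.node (.node (.node (.node (.leaf 0x7df85f85d7e185f8617df85f7df85f85f861) (.leaf 0x85f7e185f85f7df8df7df85f85f85f7df85f)) (.leaf 0x81e82081e7a08208a08a08208208a081e822)) (.node (.leaf 0x8617df85f85f7e18df85f7e185f86185f85f)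 (.leaf 0x820820820824820920820820820820820820))) (.node (.node (.leaf 0x7a082081e79e8208a082082282082079e820) (.leaf 0x82282079e8208208a082081e82282081e8a0)) (.node (.leaf 0x8a081e81e8208208a08207a28208228207a0) (.leaf 0x82082081e8228208a081e79e79e820820820))))) (.node (.node (.node (.node (.node (.leaf 0x7df8617df86185f8e17e17df7df85f861861) (.leaf 0x7df85f7df7e18618e18618618617df7df7e1)) (.leaf 0x79e82081e8a08208a082282081e822820820)) (.node (.leaf 0x81e7a081e81e8228a0822820820820822820) (.leaf 0x7df7df85f8617df8df7e185f7e18617df7df))) (.node (.node (.leaf 0x85f7df7dd8617e185f7e186186185f861861) (.leaf 0x82082281e8a08a08a08a082082081e8a0820)) (.node (.leaf 0x7e17e17dd86185f86185f7e18617e185f861) (.leaf 0x82282081e81e7a08a082082081e8208a0822)))) (.node (.node (.node (.node (.leaf 0x8618617df85f7df8df7e17df7e17e1861861) (.leaf 0x82089e79e8227a08a0820822820820820820)) (.leaf 0x7df85f85f7df7df8e185f7df7df85f8617e1))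 (.node (.leaf 0x8208a081e8208228a082082282281e8a0820) (.leaf 0x85f86185d85f85f85f85f7df8617e1861861))) (.node (.node (.leaf 0x85f7e185d85f86185f7df7e17e17e17e17df) (.leaf 0x82281e79e82081e8a0820820820822820822)) (.node (.leaf 0x8207a081e8208208a282089e8208a081e820) (.leaf 0x81e8a281e8208208a07a07a0822820820820)))))) (.node (.node (.node (.node (.node (.node (.leaf 0x82282281e8208208a081e81e8208a07a0820) (.leaf 0x82081e89e8208208a27a08208207a08208a0)) (.leaf 0x82282079e8208a08a08a28208a0820820820)) (.node (.leaf 0x8a08a081e8208a08a08228a08208207a0820) (.leaf 0x85f7df85f7e17e18e17df85f8617df7df7df))) (.node (.node (.leaf 0x85f7df85f7e18618df85f86185f7e185f7e1) (.leaf 0x7e17df85d7e17e185f85f7df85f8617e185f)) (.node (.leaf 0x8617df7dd7df7e18618617df85f7e17e17e1) (.leaf 0x7e17e17dd85f7e18618617e186185f8617e1)))) (.node (.node (.node (.node (.leaf 0x7df7e17df85f7e18e18618617e18617df7e1) (.leaf 0x7a082081e81e89e8a08208208a0822820820))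 (.leaf 0x82082089e81e8208a28208207a082081e822)) (.node (.leaf 0x7e17e185f7df8618e17df7e185f7e185f861) (.leaf 0x82282289e8208228a082082082082282081e))) (.node (.node (.leaf 0x7df8617dd86185f85f85f7df7e185f7df861) (.leaf 0x82082081e7a08228a081e8208a08207a0822)) (.node (.leaf 0x85f85f7df85f8618e17e185f7df7e186185f) (.leaf 0x82282081e8208208a28227a08208208208a2))))) (.node (.node (.node (.node (.node (.leaf 0x7a07a081e8208a08a08228a08208207a0820) (.leaf 0x82089e81e8208208a08208208208207a27a2)) (.leaf 0x81e82081e82082089e8228a08208208207a2)) (.node (.leaf 0x82082279e82082089e7a08208208a08208a0) (.leaf 0x7df85f7dd85f7df86185f7e185f7e18617e1))) (.node (.node (.leaf 0x7e186185d8618618617df86185f7df85f85f) (.leaf 0x7e17e17dd86186185f85f86185f85f7e1861)) (.node (.leaf 0x7e185f85d7e185f86185f7df7e185f7e17df) (.leaf 0x8618617df86185f8e17df85f7df7e17e17e1)))) (.node (.node (.node (.node (.leaf 0x7e185f85f7e17df8e18617e17e18617df7e1)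 (.leaf 0x92082081c820820820820820820820820820)) (.leaf 0x7a282089e81e8208a08207a08208a0820820)) (.node (.leaf 0x7a082081e81e79e8a08208208a081e820820) (.leaf 0x7e185f85d7e17e18617df8617e17df7df7e1))) (.node (.node (.leaf 0x7e17e185f85f8618df86186185f8618617e1) (.leaf 0x7df8617df7df7e18e185f85f85f85f7df7df)) (.node (.leaf 0x7e186185d7e186185f8617e185f85f8617df) (.leaf 0x81e82081e8208208a08208a07a08227a2820))))))))

/-- A part of a store. -/
def st30 : Store :=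
  (.node (.node (.node (.node (.node (.node (.node (.node (.leaf 0x8618617dd7e17e186185f8617e17e185f85f) (.leaf 0x81e89e81e8208208a08a07a0822820820820)) (.leaf 0x82082279e82082089e8a08208207a08208a0)) (.node (.leaf 0x85f8617dd7df7df85f8617df7e186185f85f) (.leaf 0x7e185f7df7df85f8e18617df7e186186185f))) (.node (.node (.leaf 0x7a082081e8208208a081e8208a08a08227a0) (.leaf 0x8a07a079e8208208a07a0820820822822820)) (.node (.leaf 0x7df85f7dd7e17e185f86185f7e17df85f861) (.leaf 0x85f85f7df7df8618df85f7df7df86185f7df)))) (.node (.node (.node (.node (.leaf 0x7e186185f86185f8e18617e185f86185f85f) (.leaf 0x7e185f7df85f7e18df85f7e17e18618617e1)) (.leaf 0x82082081e8207a08a082281e82082281e822)) (.node (.leaf 0x82082081e7a08228a081e8208a08208a081e) (.leaf 0x8208a081e8a28208a08208a082081e820822))) (.node (.node (.leaf 0x86186185f7e17df8df7df85f7df85f861861) (.leaf 0x8617e185f85f8618df7df8618617df85f7df)) (.node (.leaf 0x86186185d7df7df85f7e17e186185f861861)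 (.leaf 0x82082089e8208a08a28208a082281e820820))))) (.node (.node (.node (.node (.node (.leaf 0x82082079e8a08208a08208227a07a2820820) (.leaf 0x82082079e7a08208a082081e7a089e820820)) (.leaf 0x7a082081e81e8a28a08208208a081e820820)) (.node (.leaf 0x7df8617dd85f85f8617df86186185f861861) (.leaf 0x8a082281e81e8208a08a2820820820820822))) (.node (.node (.leaf 0x82081e81e8228208a082082081e89e822820) (.leaf 0x7e17df7df7df7df8e186185f8617e17df7df)) (.node (.leaf 0x7df8617dd8617e185f7df8617e17df7e185f) (.leaf 0x8a082081e8208a08a08a081e8228a0820820)))) (.node (.node (.node (.node (.leaf 0x82282089e8208208a082081e82282081e7a0) (.leaf 0x81e8a281e8208208a08a07a081e820820820)) (.leaf 0x8a281e81e8207a08a282082082082081e820)) (.node (.leaf 0x86185f85f7e18618e185f85f7df85f7df7e1) (.leaf 0x8228a081e8207a08a082082082089e8207a0))) (.node (.node (.leaf 0x85f86185f7df8618df8617df7e17e17e185f) (.leaf 0x82082081e81e81e8a082081e8207a082089e))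 (.node (.leaf 0x8a282089e81e8208a08207a08207a0820820) (.leaf 0x81e82089e8208a08a079e8208a0820820820)))))) (.node (.node (.node (.node (.node (.node (.leaf 0x85f7e17df8617df8df86185f7e185f85f861) (.leaf 0x8228a081e8207a08a08208208208a28208a0)) (.leaf 0x85f7e17df7df85f8df7e185f7df7df7e1861)) (.node (.leaf 0x8617df85f8617e18e17df85f7df8617e185f) (.leaf 0x85f85f7df85f85f8e17df7df8618618617e1))) (.node (.node (.leaf 0x82082081e8a08208a08207a08228a07a07a0) (.leaf 0x81e82079e8208208a082082282282081e8a0)) (.node (.leaf 0x7df85f7dd7e185f85f7e17e17e185f86185f) (.leaf 0x81e82081e81e7a08a082082081e8207a0822)))) (.node (.node (.node (.node (.leaf 0x7e17df85f7df8618df7df85f85f8617df7df) (.leaf 0x82082081c820820820824820820820820820)) (.leaf 0x82082081e81e7a08a08a08a082082081e8a0)) (.node (.leaf 0x8208a081e8208208a28208a28207a0822820) (.leaf 0x7e17e185d7df7e185f7df7df7df7e17df7e1))) (.node (.node (.leaf 0x7e17e185f7df85f8df7df86186185f7e1861)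 (.leaf 0x86185f85f8618618e17df7df85f7e185f7df)) (.node (.leaf 0x85f86185d8618618617e17e185f8617df7df) (.leaf 0x8208a281e8208208a08208208208208a289e))))) (.node (.node (.node (.node (.node (.leaf 0x82082081e8208208a08a082089e82282079e) (.leaf 0x7e17df7df7df7df8df85f85f7e17df861861)) (.leaf 0x82081e81e82089e8a08228208228208207a0)) (.node (.leaf 0x8a07a081e82282089e8208208228208207a0) (.leaf 0x7df85f7df7df85f8e17e185f7df8617df7e1))) (.node (.node (.leaf 0x81e82079e8207a08a079e8208a0820820820) (.leaf 0x820820820820820920820820820820820720)) (.node (.leaf 0x86185f7dd7df7e185f7e18617e185f7df85f) (.leaf 0x7df7df7df86185f8e18617df8618617df861)))) (.node (.node (.node (.node (.leaf 0x8207a081e81e8208a07a08207a07a08a0820) (.leaf 0x81e82081e82282089e7a0822820822820820)) (.leaf 0x7e17df85f8617df8e185f7df85f85f7df7df)) (.node (.leaf 0x8a082081e8208228a08208a081e82081e81e) (.leaf 0x86185f85f7e185f8df85f7df7e17e18617e1)))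 (.node (.node (.leaf 0x8617df7dd7e185f86185f7df85f85f7df861) (.leaf 0x7e186185d86186185f7e18617df7e17e17e1)) (.node (.leaf 0x7a082081e81e79e8a08208207a0822820820) (.leaf 0x7e17e17df8618618e17e186186185f85f861))))))) (.node (.node (.node (.node (.node (.node (.node (.leaf 0x85f7e17dd85f8618617e185f7df7e17df7e1) (.leaf 0x82082081e8207a089e8208227a08207a07a0)) (.leaf 0x85f7df7df7df85f8df7df7e185f8617df861)) (.node (.leaf 0x86185f85d7e17e18618618617df8617e17df) (.leaf 0x8617e185f7df7df8e17e185f8617df85f861))) (.node (.node (.leaf 0x8a082081e8207a08a07a081e81e7a0820820) (.leaf 0x85f7e17dd8617df85f7e185f85f86185f7df)) (.node (.leaf 0x81e82081e81e8208a27a0822820822820820) (.leaf 0x7df85f7dd85f7e18618618617e186186185f)))) (.node (.node (.node (.node (.leaf 0x7df85f85f7e185f8e185f85f86186185f7df) (.leaf 0x82082281e8207a08a08207a07a08a0820822)) (.leaf 0x7e17df85d7e17df85f86185f7e17e17e17e1)) (.node (.leaf 0x8617df7df85f7df8df8617df85f7df7df861)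 (.leaf 0x82282081e8228a08a082082081e8208a0822))) (.node (.node (.leaf 0x7a081e79e8208208a082082079e8208a0820) (.leaf 0x8617e17dd8618618617df8617e17df8617e1)) (.node (.leaf 0x8228a079e8a082089e8208208208207a0820) (.leaf 0x82082281e8a08208a282081e822820820822))))) (.node (.node (.node (.node (.node (.leaf 0x7a07a081e8208a08a081e8a08208208a0820) (.leaf 0x820820820820824920820820820820820820)) (.leaf 0x7a082281e8208208a08208a28208228208a0)) (.node (.leaf 0x82082089e82079e8a08208208208a07a2820) (.leaf 0x82082081e8207a089e8208228a08207a08a0))) (.node (.node (.leaf 0x7a082089e82082289e81e822820820820820) (.leaf 0x79e82281e8207a08a2820820820820822820)) (.node (.leaf 0x7df7df7df7e17e18e18617e17e185f861861) (.leaf 0x7a082081e8208208a081e8207a08a081e7a0)))) (.node (.node (.node (.node (.leaf 0x82082081e82082089e8a282081e8207a2820) (.leaf 0x82082279e7a08208a08227a0820820822820)) (.leaf 0x82281e89e8208228a082082082081e82081e))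 (.node (.leaf 0x8207a279e8228a08a082081e820820820820) (.leaf 0x85f85f7dd7df85f85f7e185f7df7df85f7df))) (.node (.node (.leaf 0x7df86185d86186186185f7e18617df7e17e1) (.leaf 0x8228a081e8208a08a082082082079e8207a0)) (.node (.leaf 0x7e17df7df7e185f8df85f7df85f7e185f85f) (.leaf 0x8617e17dd85f8618618617df7e17e186185f)))))) (.node (.node (.node (.node (.node (.node (.leaf 0x85f7e185d7df85f86185f7e185f7e17df7e1) (.leaf 0x82082081e8208228a089e7a08207a2820820)) (.leaf 0x8a082081e8208208a08228208a08a081e8a0)) (.node (.leaf 0x8a082081e82082089e82082082079e7a081e) (.leaf 0x8617e17dd7e17df85f7e185f7e17df86185f))) (.node (.node (.leaf 0x8617e17dd86186185f7e18618617e17df85f) (.leaf 0x7e186185f7e17e18e18617df7df85f7e185f)) (.node (.leaf 0x7e17e185d85f7df85f8617df7e17df85f861) (.leaf 0x7a282081e8a08208a082282081e81e820820)))) (.node (.node (.node (.node (.leaf 0x7df7df7dd85f85f86185f8617df8617df861) (.leaf 0x82082081e8a082289e82082082081e8227a0))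 (.leaf 0x8208a081e8208208a28207a28208a0822820)) (.node (.leaf 0x85f7df85d7e17df8618617df8618617df7df) (.leaf 0x82082089e89e81e8a08a082081e820820820))) (.node (.node (.leaf 0x7df7e17dd7e185f86185f7e17df85f8617e1) (.leaf 0x8617e185d85f85f85f8617e186186185f7df)) (.node (.leaf 0x82082089e81e8208a082282082081e7a08a0) (.leaf 0x82082089e8207a089e8208a081e822820820))))) (.node (.node (.node (.node (.node (.leaf 0x7a082081e82081e8a08208a081e820822822) (.leaf 0x82082089e8a08208a082081e8a079e820820)) (.leaf 0x82082081e8208a08a28208227a08208a08a0)) (.node (.leaf 0x8227a079e8a082089e8208208208208a0820) (.leaf 0x8a08a281e8a081e8a08208208208a0820820))) (.node (.node (.leaf 0x82082079e8228208a28208208a082081e81e) (.leaf 0x7e17e17df7e17df8e17e185f7e18617e1861)) (.node (.leaf 0x8617df7df7df85f8e18618617e185f7df861) (.leaf 0x82082081e8208208a08a08208a281e82079e)))) (.node (.node (.node (.node (.leaf 0x7e185f85f8617e18df7e17e185f8617e17df)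 (.leaf 0x82282281e79e8208a08208208a08208207a0)) (.leaf 0x8a082081e8208228a08207a081e82081e822)) (.node (.leaf 0x82081e81e82079e8a081e82081e8208208a0) (.leaf 0x8a082081e82289e8a08208208a0822820820))) (.node (.node (.leaf 0x7df85f7df7df7e18e18617e17df7e17e17df) (.leaf 0x82082081e89e8a089e81e8208208a0820820)) (.node (.leaf 0x7df7df7dd7df8618617e18617e185f85f7e1) (.leaf 0x7a082089e82081e8a282281e820820820820))))))))

/-- A part of a store. -/
def st31 : Store :=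
  (.node (.node (.node (.node (.node (.node (.node (.node (.leaf 0x86185f85f7df8618df7df7e185f85f8617e1) (.leaf 0x7a082081e8208208a28208208208a28a0822)) (.leaf 0x85f8617df7df8618e185f8617df7e17df861)) (.node (.leaf 0x86185f7df8617e18e186185f85f7df7e17df) (.leaf 0x82082081e81e8a08a07a07a08208208228a0))) (.node (.node (.leaf 0x8a082081e7a082089e8a08a07a0820820820) (.leaf 0x7df7e185f85f7df8e185f85f7e17df85f7df)) (.node (.leaf 0x85f7e17df7df7df8df85f8618617df7df7e1) (.leaf 0x82082081e81e8a08a08a08a08208208228a0)))) (.node (.node (.node (.node (.leaf 0x7e17df7df7e185f8e18617df7df7df7e17e1) (.leaf 0x85f86185d7df7e185f85f7e17e17df7df861)) (.leaf 0x8617e185d85f7df85f7df7df7df86186185f)) (.node (.leaf 0x8a08a089e8208208a08a082082081e822820) (.leaf 0x82082081c82082082082081c820820820820))) (.node (.node (.leaf 0x7a282079e81e8208a08208a08208a0820820) (.leaf 0x8a07a081e82282089e82082081e8208208a0)) (.node (.leaf 0x82281e81e79e8208a08208208a08208208a0)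 (.leaf 0x8208a281e82082089e81e8207a0822820820))))) (.node (.node (.node (.node (.node (.leaf 0x82282081e8a08208a08a08208208a081e822) (.leaf 0x8208a079e8208228a08207a08a08208207a0)) (.leaf 0x89e82079e8228208a08207a08208a0820820)) (.node (.leaf 0x7a282081e82081e8a07a08208208207a07a0) (.leaf 0x8a082081e82082089e8208208207a28a081e))) (.node (.node (.leaf 0x82081e81e7a07a08a08a082082081e7a0820) (.leaf 0x82082089e8207a08a28207a081e822820820)) (.node (.leaf 0x86186185f85f7df8e17df8617df7e185f85f) (.leaf 0x82089e79e81e8a08a0820822820820820820)))) (.node (.node (.node (.node (.leaf 0x82082089e89e8228a08a0820822820820820) (.leaf 0x82081e81e8208a28a081e82081e8208208a0)) (.leaf 0x82082081e7a081e89e8208208208228228a0)) (.node (.leaf 0x7e185f7dd85f7e185f7df7e185f85f86185f) (.leaf 0x8208a081e82079e89e8a0820820820820822))) (.node (.node (.leaf 0x7df86185d85f7e186185f8617df7e17df7df) (.leaf 0x8228a081e8228228a082282082082081e820))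 (.node (.leaf 0x7df7e185f7e18618e17e17df8617df7e1861) (.leaf 0x7a082281e8228208a089e82082082082081e)))))) (.node (.node (.node (.node (.node (.node (.leaf 0x85f8617df7e17df8df85f86185f86185f85f) (.leaf 0x82082079e8a281e8a08a082081e820820820)) (.leaf 0x82082079e8208a08a28208a081e81e820820)) (.node (.leaf 0x81e8a081e8208a08a082082082079e8208a0) (.leaf 0x8617e185d7df85f8617df8618617e186185f))) (.node (.node (.leaf 0x81e7a079e8a082089e8208208208207a0820) (.leaf 0x7e186185f8617e18e17e185f85f7e1861861)) (.node (.leaf 0x86185f7df85f7e18e17df7e185f7e17e1861) (.leaf 0x85f8617df7e17df8e18618617df85f7e17e1)))) (.node (.node (.node (.node (.leaf 0x7df7df7dd8617e18618618617df7df7e17e1) (.leaf 0x82282081e8208208a28228a082082082089e)) (.leaf 0x8207a079e8208228a08208a07a08208208a0)) (.node (.leaf 0x7e17df85f85f7e18e17df7e17e17e17df7df) (.leaf 0x85f86185d86186185f7df7e17df85f861861))) (.node (.node (.leaf 0x8618617df7e18618df85f85f8617e17df7df)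 (.leaf 0x85f7e17df85f7e18df7e186185f7e185f861)) (.node (.leaf 0x8208a081e81e8208a08a08207a07a08a0820) (.leaf 0x8617e17dd85f85f86185f85f85f8618617e1))))) (.node (.node (.node (.node (.node (.leaf 0x7df7e17dd8618618617e17e17e18617e1861) (.leaf 0x7df85f85d7df7df85f7e17df7e185f7df7e1)) (.leaf 0x81e8a081e8207a08a08208208208a28207a0)) (.node (.leaf 0x7a082081e7a082089e7a07a08a0820820820) (.leaf 0x8208a279e8228a08a0820822820820820820))) (.node (.node (.leaf 0x7a082081e8208208a081e8207a07a081e8a0) (.leaf 0x81e79e81e8208208a08a08a0822820820820)) (.node (.leaf 0x86185f7df7df8618e17e185f86185f85f7df) (.leaf 0x7a082081e82082089e8208208208a28a081e)))) (.node (.node (.node (.node (.leaf 0x8617e17dd86185f8617e17e185f85f86185f) (.leaf 0x8208a281e8208208a082082082082089e8a2)) (.leaf 0x82082081e8a08228a08228207a08208a0822)) (.node (.leaf 0x82282081e7a079e8a082079e820820820820) (.leaf 0x8a282081e7a08208a081e82081e822820820)))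 (.node (.node (.leaf 0x8617df85d85f85f86186185f8617e17df861) (.leaf 0x82079e89e81e8a08a0820822820820820820)) (.node (.leaf 0x7df7e17df7df7e18e17e17e18617df85f7df) (.leaf 0x7e186185f7e18618df7e17e17e1861861861))))))) (.node (.node (.node (.node (.node (.node (.node (.leaf 0x81e82079e8208208a082081e82282081e7a0) (.leaf 0x7e17df85d8617df8617df7df7e18617df861)) (.leaf 0x8617df7df85f7e18df85f85f7e185f7df7df)) (.node (.leaf 0x8617e185f8617e18e17e17e185f7df7df85f) (.leaf 0x82089e81e82082089e81e8208a0822820820))) (.node (.node (.leaf 0x81e82081e82082089e81e8a08208208208a2) (.leaf 0x8618617dd86185f86185f85f8617df7e185f)) (.node (.leaf 0x85f86185d7e17e18617df85f8617df861861) (.leaf 0x82082281e81e8208a08208208227a281e820)))) (.node (.node (.node (.node (.leaf 0x7e185f7dd7e185f86185f86185f86186185f) (.leaf 0x7a08a089e8208208a08a082082081e81e820)) (.leaf 0x8208a089e8208228a08207a07a08208207a0)) (.node (.leaf 0x8a082081e82082089e8208208207a27a0822)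 (.leaf 0x86186185d7e17df85f85f85f8618618617df))) (.node (.node (.leaf 0x82282081e7a08208a08a08208208a0822822) (.leaf 0x82282081e8208208a08207a08a081e89e820)) (.node (.leaf 0x82082081e8208208a08a082089e8228208a2) (.leaf 0x82082081e81e8208a081e79e89e820820820))))) (.node (.node (.node (.node (.node (.leaf 0x8617e185d85f86185f85f8617df7e185f861) (.leaf 0x85f7e17dd85f7e185f8618617e17df85f7df)) (.leaf 0x7a08a081e82282089e8208208228208207a0)) (.node (.leaf 0x8a08a081e81e8208a282082081e8208207a0) (.leaf 0x8a089e81e7a08228a08208208207a0820820))) (.node (.node (.leaf 0x85f8617dd85f85f86186186185f7e185f85f) (.leaf 0x81e82081e82082289e82082089e8a0820820)) (.node (.leaf 0x7e185f85d85f7e185f7df85f7e18617e17df) (.leaf 0x7a07a079e8208208a07a082082082281e820)))) (.node (.node (.node (.node (.leaf 0x82282081e8208228a28208208a27a0820820) (.leaf 0x82082081e8227a08a08a07a082082081e8a0)) (.leaf 0x82081e89e82082089e8a08208207a08208a0))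 (.node (.leaf 0x85f7df85f7df7df8df86186185f85f861861) (.leaf 0x7e18617dd85f7df8617e17df7e185f7e185f))) (.node (.node (.leaf 0x7e17e185f86185f8e17df85f8617e17df85f) (.leaf 0x8a07a079e8208208a08a082082081e822820)) (.node (.leaf 0x82081e79e7a08208a08228a0820820822820) (.leaf 0x82082081e8228208a082289e8a2820820820)))))) (.node (.node (.node (.node (.node (.node (.leaf 0x85f7e185d7df7df8617e17df7e17e17e1861) (.leaf 0x82082089e81e8208a08228208208228a08a0)) (.leaf 0x8a082081e81e89e8a08208208a081e820820)) (.node (.leaf 0x85f85f85d86185f8617e17df86185f7e1861) (.leaf 0x82282081e8a08208a08a08208208a082281e))) (.node (.node (.leaf 0x82082081e7a08208a08208a08228a07a07a0) (.leaf 0x7df85f85d85f86185f7e17e18618618617e1)) (.node (.leaf 0x85f7e185d8617df85f7e17e17e185f7df85f) (.leaf 0x82082281e82079e8a081e8208228208208a0)))) (.node (.node (.node (.node (.leaf 0x7a082081e7a08208a28a07a08a0820820820) (.leaf 0x7e186185f7e18618e17df7e186185f7df7df))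 (.leaf 0x85f7e185f7df7e18e185f85f7e185f7e1861)) (.node (.leaf 0x7e17df85f8617e18df85f85f8617e18617df) (.leaf 0x82282081e8a07a28a08208a2820820820820))) (.node (.node (.leaf 0x85f7e17dd7df86185f85f7df7df8617e1861) (.leaf 0x81e81e81e89e8208a08208208a08208208a0)) (.node (.leaf 0x8617df7df85f8618e17df8617df86185f7e1) (.leaf 0x8a07a081e81e8208a282082081e8208208a0))))) (.node (.node (.node (.node (.node (.leaf 0x7a08a081e8208a08a081e8a08208207a0820) (.leaf 0x8207a281e8208208a08208208208207a27a2)) (.leaf 0x81e82081e8208208a28227a082082082089e)) (.node (.leaf 0x85f7e185d85f7e186185f7df7df7df8617e1) (.leaf 0x8208a081e8a08208a07a28228208208208a0))) (.node (.node (.leaf 0x82082079e8228208a082282082081e8a07a0) (.leaf 0x7e17df7dd8617df8617df86185f85f85f7e1)) (.node (.leaf 0x85f8617df7e17e18df8617e17e17e185f7e1) (.leaf 0x86185f7df8618618e17df8617e17df7df85f)))) (.node (.node (.node (.leaf 0x7df7e185f8617e18e17df86185f86185f7df)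 (.leaf 0x8207a089e8208208a08228208227a082081e)) (.node (.leaf 0x82082081e8a27a08a28228208208a0820820) (.leaf 0x85f7e185f7df7df8df85f7df7df7e185f861))) (.node (.node (.leaf 0x8618617df7df7df8e185f85f7e186185f7e1) (.leaf 0x8617df85f7df7df8e17df7e17e1861861861)) (.node (.leaf 0x7df85f7df7e185f8e185f7e17df85f7df85f) (.leaf 0x7a081e81e81e8208a079e820820820820822))))))))

/-- The vectors. -/
def vecs : Store := (.node (.node (.node (.node (.node st0 st1) (.node st2 st3)) (.node (.node st4 st5) (.node st6 st7))) (.node (.node (.node st8 st9) (.node st10 st11)) (.node (.node st12 st13) (.node st14 st15)))) (.node (.node (.node (.node st16 st17) (.node st18 st19)) (.node (.node st20 st21) (.node st22 st23))) (.node (.node (.node st24 st25) (.node st26 st27)) (.node (.node st28 st29) (.node st30 st31)))))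

/-- A part of a store. -/
def st32 : Store :=
  (.node (.node (.node (.node (.node (.leaf 0xae0003d0003e011d8003e2000390003a003c80004c001e900667000330003400f63000300003100cea0002d0002e00de60002a0002b002eb000270002800cc6006500002300024001500021b00a2b0071f0001d0001e006d7007030001400a7c00018009c40067b0098f0001a0001200013006820041800d94007780050a00bd200f2e00ce30000800009000060000700071000030000400bdd0000000001) (.leaf 0x6c0103d0103e003dc0067e01059010380103900fe100181007a30108900ed50054300749009d600da40076f0033f010f2001c7010290102a00eaf0102501021010270102301024001cd0102600495002120095601018010eb009a4010190101a0101d0101601017011d600388007260101200951009b20100f00a7e00a7d009bd0100101008000e30100a0100601007008550115a0010800b7f0100b00fff)) (.leaf 0x35300d360083d0083900362006200083c0083700838003170083500833008340009400e57006ef007c90082d0082e010430082b00f86008cf002280022700db400268008eb008ea00822008210081f0082000e2d003ea00f0000f7900a0b0081900bb700bb600859008140081500812008130071400b9e00dc3010d6002ff0080b0080c003da00eb5008070080801153005a90080300804008010080200cbd))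 (.node (.leaf 0xcaa00c490088100a4c0043b0043a0043900e690044e007ba0043400435002e000123004300043100f4300a06008df001bd0042a0042b0016300427004280040f0019400ab80064d001c400420004210047b0104101040004c30017d00e2c00e400001000416004170057f0041400ca600e5f00fe200149004260040d0040e00dbe0040b0040a006f100ac900406004070045b004e6004020040300444003d3) (.leaf 0xc3f00b5600c3c00c3d00f5a005d100c3800c3900c3700c3500c3600bfc00c3200c330108e0088700c2e00c2f00c2c00c2d0056c00c2900c2a00af10028200c2500c26006a700ea200aa400c1c00c1f00c2000316004d600c210077f0077e0037200b1a00c1600c1700e1f00c1400a730005900b370055a00c0e00c0f00c0d006fa007ea00c0a0026c00c0700c0800c0500c0600c0300c0400bfb00c0100ab0))) (.node (.node (.leaf 0xb3a0023a0023d010f100ecf0023e0023800239001050010400df1009d400318004790031200b530022e0022f011a40033300e0200bb800b4d008280082700888011dd0070d0022200223002210084c011f4002190021d006df000210090c0021e0021700218002150021600581001980101f007190020f002100020d0020e00209005a5009e20020c001ed00a6f00bca00fa200915008bf01179010e7002d6)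 (.leaf 0xa3000547007c1007ed00a4000a3900a3a00a38005c50069a00a3400a350004600a1700d7b00a3f00a2e00a2f00a2d006cb0002000a2900a2a011ce00ff400a2500a2600a2300a24011a50084400a1600d670074300a1d0014a00a1b00a1a00a1800a1900a3200a2000a1400a150073600def00fc700cc90077c00a0d00a0e006d40081a006d6009d00013b0030c0042e0115500a0300a04009ef00313009ff)) (.node (.leaf 0x63f0063e006e0006480063a0063b011e70114500636006370063400635004ae006320063000631008d1003950004e0011f0062a0062b006c40005e006170062500626006230062400621006220083a005cc00bfe008d000f910116d00cb80118d005aa006270111a005dd00867009320061100612005630060e0060f0068e00b5500a6e009f3004a900607006080112e006050060400602006030060000601) (.leaf 0x3b700e3d00e3e00e3b00e3c00a4300a5a00e3700e3800b30005260052500e3200e3300e3100e230090400b050081e0041a002aa00e2900e2a00bcf0007d010c40028d0088900e3000e2100e220076100c150070c00e1c00e1d005c30105400e1800e19008a500aeb00e1400e1500e1200e1300e1000e1100e0e00e0f00e09001440112b0027600e0d00e0700e08003b300e0500e040096d0022b00e0000e01))))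 (.node (.node (.node (.node (.leaf 0x65c0013d0013e0092000a0800595004e2001370013800278004f900690004b70074b007f9001780012e0012f003f50069c003c50085b0057b010a900b6800dec0011c010f50043200fdd0010d0016c0062c000d20011d001250011a0011b00118001190008600c7b003810092b00112001130011000111005c200da5001210010b0010c002bd002bc0100300c850005800237002360010200103000f4001a1) (.leaf 0x110a0113d0113e00a8000c5b01131002770097b010fe00c5a003a201134001f9011bc0113a0112f01130006060112c0112d00e0b0057000c680112701128009f100aab011240111e007e3011210111f01120011230111c0111d008ca0061600d82011170111800d52005940096800984006c300f100110600a98011750110d00576010b30113f01109011070110801110011040110501102011030110001101)) (.leaf 0x9400093e006bf006be0093a0093b00065009370093800935009360093400f990061300e5b01165009c10092e0092c0092d00114006b4006b3010800066c00d69001f4009230092400921009220013c0091e0091f007cf0024a00fee00b480091000946009160091700204009140091300e6a0108a009190090e0090f0088e0021a00b4000baa00bad00e9b001e300548005fb00e2f00e710058e00642003f7))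 (.node (.leaf 0xc9f0053d0053e0052b00d9e0072a009a600538005360053700f15008f200fda000a3008a40024400e56002fe0054f006d80053c005290052a005270052800e3500e340066500c4200ca900a880051f005200051d0051e0051b0051c005a60051800519005150097600517005130051400512005100051100b770050d0050e0050b0050c0000d00ea0005070050800240007da0115d0008e0050100502007e0) (.leaf 0xd400006b0044b0066e00d6300d3900d3a00d3700d380083e00d3400d35005f600a8200d3000d31002ca0096100dac00d2b00d2c00a6200d2800d2900d2600d27000a900d2300d2400d2100d2200d1f00d2000d1d00d1e008b500d1a00d1b00a8b002cf003fa00dd7005f000d1300d1400ec700a5b00d0f00d1000d0d00d0e00d0b00d0c00bda00ed1010e4002c600bd400f3700d0300d0400d0100d0200f47))) (.node (.node (.leaf 0x102d00338008be00caf0017b00992011460033e0033600337007650024f0022c0033100332001a70032b0032e0032d004870032f003290032a004dd007600096300322004dc00eaa003250032000321000f000dfb005680030900b8e007fb00b9f002330083600c1e002e8002a100a0100231003df003de005ee0030d0030e00a0700572007f10031c003070030800305003060030300304004a20030000301)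 (.leaf 0xcae00b3d00b3e00b29001a50023f00b3800b3900c110046e00b3400b35007a7003dd00b4500e36002700066d00b2d00b2b00b2c0107c00b3c00b2700b2800b2500b2600f4600b23008a200b1e009c30005000b2100b1c00b1d0045700c1800daa00d9c00b1600b1700b12008d600a8f00b1500b1000b1100b0e00b0f00f5b00b0b00b0c00b0a00f41011780024200afd00e2e00f7a00d6a010780106400b64)) (.node (.leaf 0x73e0073f0073d0073c0073a0073b0073400ada00d4a00a1300051007390073200733005c00072f007300072d0072e0068c005930053a0025300727007280101300725007230072401073006bd0048a0001f0059d0071c0071d006600098e0021100da600d980071500716008110071200713009a5005da0070f010760022400e1e00709003b40070b00707007080070500706002c40001b00155010f0006c0) (.leaf 0xf3d00f9200f3f00f3b00f3c003fd00f3800f3900d0500f3500f3600f3300f3400cf30039b00f2f00f300000b00f2c00f2d00d8500f2a00f2900f2800f27011c9008fb00f0a003440005b00f2000f2100f1e00f1f00ff800f1b00f1c00f1a0037900f1700f1800f0b00535007b900f1300cb6004a50111100f0e00f0f00b9a011be00f1600f2400ee3000b6003a4003bf00f0400f050046000f0100f020081c)))))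

/-- A part of a store. -/
def st33 : Store :=
  (.node (.node (.node (.node (.node (.leaf 0xffd0016e00846000c4000ba000bb000b9000b80048e00f08000b4000b5000b2000b300261001a6001430003f000ac000ad011c20007600d2500dce000a7000a6000a4000a500532002e700eeb0009f000a00009d0009e0024d0036f0114d0008c008c6011d30009500096008320016600fbf0119e0109b0008f00503002de000990008a0008b00759000870008800117006a8003e00008200083002d8002d7) (.leaf 0x10be010bf010bc010bd010ba010bb005c7003c4010b6010b700e480045d0110b010b1010b2010af010b000a59010ad010ab010ac00c5200128001ee010a6010a7010a4010a5010a2010a3010a0010a1008e70109d0109e0109c00090010990109a010970109801095010960109301094009dd0109001091008cd00c310108c0108d005f70091101034010870108801085010860108301084007ff00b5700928)) (.leaf 0x2030033d008bd008bc0039c008b9008ba008b8008b6008b700d1c004a100f6000e63008b0008b101055008ad008ae00ede00fed0015d0118b00aa1008a6008a700e17005310116000b2200be3003ad00b8a008920019a0089b0089c011dc001c600898003bd00750008940089500abf0089e00954008900088f0090d0088c0088d0088a0088b00e240022600c3000769003c60078a0088300fb10043d00880))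 (.node (.leaf 0x3db004bd004be004bb004bc004e3004b8004b90013300af00058000d41008d9004b1004b200ee100b4900633004ad004ac004aa004ab00609009d801058000d300f11004a3004a400302008b4007e200dfa000e90016f007db00f8300b7d004980049900496004970102000288004920049300243004840048f000b700fe80048b0048c00720006660117f0032c00485004860049000482004830044000da3) (.leaf 0xcbf000c20080000cb400b7300d500057e0061a00cb700f1200b5400cbc00cb200cb300793010ee0033c00b3f00ca100c460078c0043f0052200ca700ca80041300ca400ca50025d00ef300cad0046d0053f00c9a00cd600c9b00c9c00c9e00c9800c9900c97011f7004c2001b500c9200c9300c9100c900115600661002e10065a00cff00c8a004cb00a7200be200d5f00107003c700c8200c8300eec00c7f))) (.node (.node (.leaf 0x2c000de10010a00109002ba002bb011ac008e600db5002b6002c5002b3002b4002b201174002af002b0002ae0105c002ac002a400e2b008fc002a800a77001800036d002ab002a2002a30031400d57009c20029b0047a003450029e002990029a00fe300990002950029600dda00dd600291002920028f002900028000e250028b0028c002890028a00494002860028700b5b0077700bd300c27007d40028e)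 (.leaf 0x89300aca00b6200afa00aba00abb006760042400b72005fc00ab400ab500b6c00ab100ab200c0000e7400aae006f0009e50112500aa900aaa00e7c00aa700aa500aa600c22005e1001f3008a8002d000a9e00a9f00a9c00a9d00a9a00a9b00a810110f001f200a9600a9500a9400a9200a9300a9100a5500b1300a8d00a8e003d700d19010c800d55005210077d0016200a8400a85006b000d3200a990113c)) (.node (.leaf 0x93d0093c00721006bc003bc006ba006b8006b901060006b5006b60092a00929009c5006ac00a83006af0098b01199006b1006aa006ab009710008500c2400f550086a006a3006a4006e500e890069f006a00069b005b40012c0069e00a3600772006980069600697006940069500cc3006910069200134000e50060d009420072c00389008dc0094800947006860068700684006850068300011011c700e7f) (.leaf 0xec000ebd00ebe00a5e00eba00ebb00e5a005cd0094b00ac70080900e83011c100ea90054d003a80102800f9c00eac00ead00eab0032300eb200ea700ea800fb500753005cf008ce00c2300dc70050900e9f001ce0097c00e960090800e9900e9a011620116100e9c00e9400e95011bf00bf0003910087700e8e00e8f009b300e8800e8a00e8b006a100e8c00e8600e8700e8400e8500eb4007ce0064c00b78))))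 (.node (.node (.node (.node (.leaf 0x1be001bf0042c001bb001bc0005500d7e00bd600fde00ffe00c9400b7400ef0004c4001b0001b1000c5001ae001a4001ab001ac009ae0055200bec00330000b000b3b001ad001a2001a300100002e20019e0019f00bdc00177011710089d001930021300560001950019600425001990019100192009880018e0018f0018c0018d007b20107d011690094300186001870018400185010f80074601036002a6) (.leaf 0xe9300f0c0096901132011ba011bb011b8011b9011b700069011b5011b4003d9011b200dad011af011b0011ad011ae002b9011ab011a9011aa0006f011a6011a700a220022d011a2011a3005580119f011a00009100dca0119c0119a0119b006ad0119701198008cc0104b011ee00fbb00e6001190011910118e0118f006190118c008a9009cd0118801189011860118700d5601183011840117c00145011d4)) (.leaf 0x9c0009be0100c01045009b7009b100c4500376009bb01066009b4009b500e8d01010009ba009af009b0001aa009aa009ac009ab009ad009a8009a9009a300539007110101b009a7009a1009a20099f009a00099d0099e0099c009980116e009990099b00996009970095200993009940033a0098700297000150071a0098d0098c006ae009f6010420019000991009850098601113009820098300fef00d83))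 (.node (.leaf 0x5bf005be005bd005c6005ba005bb005b8005b901051005b300fc20069d005b6005b1005b2005e0005af005ad005ae01173011720061800805006d1001520051a0020b005a3005a4005a1005a20059c0095300bfd0071e005a00059a0059b0059800599010c5010ff0013a011150072b00591005920055700dd5009020058c0058d00f61005890058a005870058800b4300bea010d2005820058300214004b5) (.leaf 0xe730040c00dbc00dbd00d4e0035b00db800db900db700dc4002b700826000ff00db100db2004430047700ced011b100d2d00ed600b1900dd000da700da8007180010e0102f004800057100da000da1005740053b003e800b18010c100d9900d9a0071700d9600d970024c0000f00d9200d9300d9100d90010500064400d8d00d8b00d8c00d58006c100d8700d8800d8600f2b00d42009800111900d8000d81))) (.node (.node (.leaf 0xf060017100897006bb00cc4007b0003b8003b900e3f003b5003b60070a00e06007e4005510014b006db007ee008a0003ac003aa003ab003a900eb0003a6003a700b6500f070039401135003a1006510039f009e60075e008bb00f310016d00399002f900d43000ea0062e003a3003920039300e910067a0038e0038f0076600cfa005c400f9d0068b0101400f4d0038500386003830038400c4a001150037f)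 (.leaf 0xbc000bd900b5a0104600b52004d7005c90022a008180081700a5100ac800b9200356008ef00baf00bb0011470090900bab00bac0090a00ba800ba900ba300ba6001db00dee00ba700ba100ba20094d0031900810005ff00b9b00b9c00f0d00f6b00b9700b9800b9600364002d900f6400bb30026200b8f00b900031b00a7f00b8b00b8c0089f00b8800b89008c000b7b007eb00b8300b8400ef900de200dcf)) (.node (.leaf 0x7c0007be007bd00bee00b5f0043600f14007b7007b8007b5007b6007ac009c70018b0015e003ba007ae007af007ad007b4007aa007ab007a8007a900b3300794007a500a6a01035007a1007a2007920079e0079f009750079b0079c000cd00798007990055e00796006d2007a600cb1007a000790007910078f005750078d00cab0078b00884007880078900ef200785007860078300784004760087900776) (.leaf 0x9200ed0008fa00f75011930067f0096400fb800fb600fb700ea600fb400a6900fb00088200fb200fae00faf00fac00fad00cd300fa900faa00e4100fa600fa700fa400fa5005d40020500ae500fa000f95006c20038a00eae00b6e00b610093300f9700f98004d100f9f00f9300f9400f3e0061c00f8200f8e00f8f00f8c00f8d00f89000e800f8b00f8700f880082a00f85006d00049b00f9000f8000f81)))))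

/-- A part of a store. -/
def st34 : Store :=
  (.node (.node (.node (.node (.node (.leaf 0x7e0007f00e27000dd001ea000790007a0007700078000aa0007400075010d5010d4000050026a011a80024b005c10103f00d3e011d5011b600dd2008e8009f20093900063000640006200a68008c4003cc006280005c0005d00f22006d300c12001060005600057001ba0037e00052000530073500b1f006590062d000c1000370004a0004b00ec3000470004800a330035500043000440034c000410076b) (.leaf 0x6f80074a0018a00b2a003f2005d30106500b02010720070e0107401075007220107701070010710106f0106e0106c0106d006ed010690106a007dc01067009b60107900b01004550106101062006b70105f0105e000f1002ad0105a0105b0103a004a70105601057008af00e1a0105201053005b700d8f0104e0104f00a6700a6301195010490104a00f5c00f7f00bbc009bc0045c0082c009890041e0041d)) (.leaf 0x87f008630087c0087d008510087a0078100de500e9000b6d006e90087400c760084b00870008710076e003ce0086c0086d00c75006a5005cb0085a00614008dd011c000a420087e00861008620075a0085f0085d0085e0046f0012a0086800816004fb0085600857010050085300854008520087b0084f00850000c00084d0022000872008490084a0084700848000bd0026900a21007f7004540045300b63))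 (.node (.leaf 0x47e0047f0047d00e750041f0029d00232010c000daf007820047400475002ef0046c00470004710085c00b3600ca0004720046a0046b0046800469004660046700ccb00350004ed004eb0046100f030045e0045f010b4010440040500b44004580045900b1b0115701063008420084100ddb004500045100a57004370044c0044d00d3d009fa006c500e7a003f100445004460040100db0004410044200481) (.leaf 0xc8000d6e00c7d00c7c00116001f500c7900c7800c77008730086b004cc00c7200c7300c7000c7100c6e00c6f00f4800c6b00c6c00c6900c6a011290095000c6500c660066f00c6200c6300c6000c6100c5e00c5f00c5c00c5d0113b0113600c5800c5900c5600c57007fa00c5300c54010aa00f7000c5000c4e00c4f00c4c00c4d00c4b003820043e00ee7007cd00cac009b900c4300c440052300efb00c40))) (.node (.node (.leaf 0x27e0027f0027c0027d0027a0027b00275001360113900e0a002790027300274002710027200b2f0026e0026f0026600c0900d4900070008450082500b4c0026d0026400265002ea00b91000b10025f002600096700ca3002560025b002590025a00257002580025c0025400255007290025100252004ee0033400ff70009c00d950006e0091c0024900247002480024500246005300049100b07010d100506)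 (.leaf 0xb8d0100e0100d0001900e5100a7900a7a00a5f002a700af900a7400a7500c1300c8800a7000a71002070060b002d100a6b00a6c007a400fb3000610104d0035d00a6400a650104c00d2a00a6000a6100a7800ebc00a5c00a5d00d1100e39010ae00b7e0044f002fb00a9000a5300a5400a5200bb500549007d900a4d00a4e0043c00a4b00a4900a4a00a4700a4800a46007d300a4400e3a0086400a4100a3b)) (.node (.leaf 0xfba0103b001da0067900016003900067c006770067800ab9001fa00e5900e58006f9006700067100c6400d3c00b2e00927001cc00654003e900eda0003500489005240115b006620066300c8e0071b0065e0065f00ece0013f0114200c8c0004f001420014100655006560066a008d8002f6003a0000250064e0064f0042300e81000ed006490064a0063c0115c006450064600d8e0017c00901006e2008f9) (.leaf 0x68000be400e7d00aa800e550044800e7900e7800e7000e760047c00aaf00dbf00e720090300e7700e6f00e6d00e6e00b5c00f59009120043800e6700e680015800ec20035a008b2000db001610119200412007ec00e5c00e5d0093100eb90067400673008310052f00e7b00e5300e54001ff00a7b0095d010db00e4d00e4e007f000e4a00e4b00af2010b500e4600e4700e4400e45009d3009d200fa800419))))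 (.node (.node (.node (.node (.leaf 0x17e0017f0041b006430033b001790017a001300019c0015100af8009de0017200173003be00ded0049d000be0039a00120005fe0016a0016800169005ea0009300164001650042900a8600e610015f00160007b1008aa001590015a0015b0015c00e66011d100b6b007020015300154005a700176000220014f0014d0014e004c6003b000a1c0041000be900146001470118100e0c000af0065800657004e7) (.leaf 0x4880117d0117e011820117a0117b0020200b0800bef010e50110e002b1005ac005ab0019b0116f011700099a0061b0116c002df002d20018900d7f011660116700930001c000add00e9800e97008a30115e0115f0050400647006640100401159011580045600c8f00a05011540080601151011520114f011500114e0009a0114b0114c00ec4011480114900bae003390063801143011440065b0114001141)) (.leaf 0x97e0097f0097d00e9d01138009790097a001e700341005160079d007d600fdf00972006a90096f009700096c00e030096e0096a0096b011bd011140025e009650096600fb9003260096200d2e0095f00960010c300e50000cc0095a0095b0095800959003740101e00ac2008910059f009950101100c670094e0094f00ba00094c00eb700941009f400689006880091800d6000944001880068d0094a0093f))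 (.node (.leaf 0x41500cb90057c0057d00129001f600579009fe003eb0110c0078e00d9f005610030b00da20112a006e10056d0056e00c2b0035c005690056a0031d0056600567004e000b76006100076400573001970055f007970055c0055d00bed00c1000ae2011a100590005550055600554008f5001a9003b100cca0052d006ea00eb10054b0054c002cb00a500090600a3e00bce00544005450103200d620054000541) (.leaf 0x1168001b900d7c00d7d00a3100d7900d7a00d7600d4f00d7800d7400d7500d7200d73009f500d4400d6f00c7e00d6c00d6d00d5900b030092600d6600a1f00d6800d6400d6500d3b00542010d80094500c8600ac300fc500d5b00d5c00b4600d6b00d8a002a00118500a8900d5300d5401116001d300cba00d7700dbb00d4c00d4d00d48007370026b00d4b00d4600d47009e700d700039700d84004b400d3f))) (.node (.node (.leaf 0x380000540037c0037d0037a0037b00f190037700378009b8002dd0095700bf700c1900370003710009b00369002a5001f10036a0036b0036e0036700368003d400df000b95004fa0083b001d500f620035e0035f00a660056b00dba00e640035800359007ef00bb20004500b470083f0035100352004640034e0034f00757000420034a0034b003480034900346003470029c00f23003420034300977006ce)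 (.leaf 0x100200a580049a004c900b8600b7900b7a00e800050f0056400b50001b400cbb00ab700b7000b71001e600f9b0087600ab30015600b6900b6a0012700b6600b67003a500b000084000abd00f9a003cf007bb00b5d00b5e00e6c0028500bbd00b5800b590108100c3e0060c00cb50023000bbb00df900b7500b4e00b4f002290026700b4a00b4b004af0091a0035400d5a00b310045a0058600b4100b420090b)) (.node (.leaf 0xc1b00c1a00a8700a0f007ca00dcd00dcc0000e0028400780007740077500ecd0069900770007710102e0086f0076c0076d00040010d70088600767007680038d003350056200ad100ae600e20003270074e0039d0075c0075d011c40086000089007580034d00756007540075500ea500ffb003d800896006cc0075f0074c0074d001320107e01031007470074800182007440074500a1e0074100742000e2) (.leaf 0x104700ac400f7c00f7d00f7b00b040081b002ee00ac500f7300fbc00f7400f7600f7100f7200c5100f6f00edd001e5001e400b9900f6900f6a00f6800f6700f6600f5f00b9300032003600058b008b300f6500f5d00f5e0104800b0d00c3b00e6b00f5800f5700ae4006a600f5300f5400f5200f5000f5100f4e00f4f0038700f4b00f4c00f4a004db00c6d00d0000b2400f4400f450042f003f600b09008ee)))))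

/-- A part of a store. -/
def st35 : Store :=
  (.node (.node (.node (.node (.node (.leaf 0xdb3000fd000fe007d5000ef000f9000fa000f7000f8000f5000f600101000f2000f30105d0031f000fb000ee0064b011c3000e0003960049e00f8a000e7000e60068f00cf90100900740005e4000eb000de000df0007c00cec00e62000da000d9000d7000d8000d5000d6000d0004a60011e000cb000d4000ce000cf0079a0095c000d1000c9000ca00ed9000c6000c7001af000bc004ec00cbe0004d0084e) (.leaf 0x59601137010fc010fd010fa010fb006fd00183010f6010f700124010f3010f40102c0023c00701010ef00cb0010ec010ed0101c010e9010ea010e200201001d40117600d08003f0010e8010e0010e1010de010df010dc010dd00e4f010d9010da00d610076a0080e0007300072009f90058400241010cf010d0010cd010ce010cb010cc010c9010ca00a8a010c6010c70059700e260095e00af700d9b00478)) (.leaf 0x8fe008ff008fd002a900f2500fbd00640008f7008f800bc500553003e5003d500534008f0008f100bb100f40008ec008ed0082400823008e4000670109f002b8002f5008e9008e2008e3008e0008e10042d008de008660068a008da008db004b30065300deb00b1400dd1008d3008d4008d20062f0061d0082900ea30108f01196008cb0111b008c8008c9008c700098008c300060008c5008c1008c200b87))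 (.node (.leaf 0x4fe004ff001df002fa008580036300135004f7004f8004f5004f6004f3004f4004f1004f2004ef004f00025000463000c300462004e9004ea004d80014000404004e4004e5004ba00139001fc00565004de004df003280032400f49005de005f1004e800bba00c1d004d4004d5006ec006eb00f96003f9006c9006c8004cd00c7400c89011f300b7c004c7004c80014c005ca001b20041c00c95004c0004c1) (.leaf 0xc8b011e600cfc00cfd00cf80038c000e400cfb00cf600cf700cf400cf500f3200dfc001e8003c300cee00cef00dae000dc002db0002f00ce800ce900bcd00ce500ce600cd70000a003cd00ce000ce100cde00cdf00cdc00cdd00cda00cdb00cd800cd900ce400c9d00cd400cd500fab00cd100cd200cd000cce00ccf00ccc00ccd004650055000a1000cc700cc800026002e9003bb0069300cc100cc200cc0))) (.node (.node (.leaf 0x80d0052e002fc002fd00a56004fc00398002f7002f800652008e5009ec00fe9002f1002f2002f00047300f78002ec002ed000290026300cc500315000a2002e5002e6002e3002e4001a000c8d004330116b0008d0037500eca00ceb00fec00b94000810008000200002d4002d5007d00116a00a6d00aa000d18002ce002cc002cd0054a00d2f002c8002c900fc600d07002b50070400be6002c2002c1002bf)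 (.leaf 0xafe00aff00b0600afb00afc00abc00a7600175010c200af500af600af300af400e4900c28004b600aee00aef00ad000ee200e1600ae900aea00ae700ae80076200fa100f5600fcb0055900ae100ae000ade00adf0116300adb00adc0073800ad800ad900ad700ad600ad400ad500ad200ad30076300aed00ace00acf001cb00acb00acc00abe0040800bb400eb6005e700f7700f7e00d5e0095500ac000ac1)) (.node (.leaf 0x6fe006ff010f9006fc006f500c0c006720107f006f6006f7006fb006f3006f4006e30040900aad00830011ef0106b004d3004d20054e00875001dc006e6006e7006a2001c8006f2006410056f0063d0021c001fb006dc006dd003af006d9006da0052c0001c00a0a00dcb00a0c0005a00795005a800f84011c80034000fd00074f00a2c00bd1004cf004ce006c6006c700449006290111200f9e00d8900700) (.leaf 0xefe00eff003c200ef600c4100dc800b8200be500dc900efc00ef400ef500ca20078700eef001b300ef100eed00eee00c81000a100ee900eea00ec100c4800ee600ee400ee500f0900aec004b000edf00ee0008ac00f6e00edb00edc00668000c800ed700ed800dab0103300ed300ed400fca00d0900fbe0023b0065d0077300ecb00ecc002dc00ec800ec900d1200ec500ec60114a0004900e6500ee800ebf))))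 (.node (.node (.node (.node (.leaf 0xe52001fe001fd004e1006de0067501133005f3005f20057a00c7a0092500aa200a970036c001ef001f0010a800208001eb001ec0007b0003600cf10097800b6f00f6d00f6c00907001e1001e2001e0004fd001dd001de006e800ba50067d001d8001d9001d6001d700361010e600d51001d1001d2001cf001d000e9e010220066b00acd001c9001ca006e40102b00899001c300422001c5001c1001c201164) (.leaf 0xc96011f5011f60021f004ca011f2011f0011f1006ee01194011ec011ed011ea011eb011e8011e90063900cfe011e4011e5011e2011e3011e0011e1011de011df002250089a011db011d9011da0003c011d7010150006a0118000097011d200157011cf011d000a28011cd00bf6011cb011ca00f26006cf00681011c5011c60075b000ec000ab00eb300865)) (.leaf 0xa0000578009fc009fd009fb0044a010d3009f8009f70098a00d71009490060a000660112600bd500a02009ed009ee002f4009ea009eb009e9009e800d450039e00aac009e3009e40020a009e0009e100bdb0017401092009db009dc009d9009da004a8009d701030009cc0023400e4300e42009d100a09009cf007e10118a009d5009ca009cb009c8009c9007b3007fe006b20001700b200029f0092f009bf))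 (.node (.leaf 0xb9d0016b005fd00ab600905005f9005fa005d70108b00d33005f4005f5001f8001f7004d900d15005ed0030f005ef005eb005ec00167005e8005e900ac6005e5005e6000e1005e2005e300aa3005b0005c8004da00615005db005dc00710005d9005d8005f8005d5005d600fa30107a005d200c3a005d000ea4005ce00eb80061f00869004c500bb9005df010b9005bc00a370038b00e1b0010f0006d00731) (.leaf 0xdfe00dff00fd500cf20031e0049f00b5100df800df600df700df400df500df200df3002350036500a1200ba40017000126008d700de900dea00de700de80002c0087800de300de400b81002be00dde00ddf00de000ddc00ddd004520029400dd800dd900d16002930058f00dd300dd400068008d500da900b80000a80077a00779006d50119d00ef700efa00ea100dc500dc600db60080f003f800dc000dc1))) (.node (.node (.leaf 0x3fe003ff00f3a003fb003fc00d17004d000dc20090000f420012d003f3003f40107b00447010e3003ee003ef003ec003ed005770081d0066900d9d003e6003e7008f4003e3003e40003b003e100084003110031000b320103c004bf0080a011b30075100a8c003d2008f30036600400003d6003d0003d100b600086e00ce20005f003ca003cb00beb0003800c84008850012b010b800cf000efd003c0003c1)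 (.leaf 0xbff0061e0059e00c3400c0200bf900bfa00bf800373011cc00bf400bf500bf300bf100bf200e9201177007bc0055b001a8003c9005850014800be8007c4002c300ef800e7e008a100c8700be000be100bde00bdf000020019d009df00d0a00bbe00bd700bd8001b8009f000d06002830000c006ca00bd000e280054600ce700bcb00bcc0020600bc800bc900bc600bc7008f600bc400bc300bc100bc200bbf)) (.node (.leaf 0x1082009c6007fc007fd0031a00c5500131007f400843007f5007f6007f8007f2007f30030a00e4c00357003ae00a3c00e5e00b8500c0b007e8007e9007e6007e7007e5003b201122004a0009ce00500007de007df007dd010680049c0050500a4f007d8007d700974000fc0028100a45007d1007d2002d30091d00e8200c47007cb007cc0077b0082f007c7007c8007c5007c600be7007c2007c300a3d007bf) (.leaf 0x1000001b6000bf00fe00075200ff900ffa00f1d0024e00ff600ff500a2700ff200ff300ff100ff0009810091b008ab002da00fea00feb002f30048d00fe600fe700fe400fe500298004110103700ffc00973001b70012200fdb00fdc0053300fd800fd900fd600fd700dfd00fd300fd400fd100fd2006cd00fce00fcf00fcc00fcd00ae300ed200fc800fc900a11002c700d5d00fc300fc4005b500fc000fc1)))))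

/-- A part of a store. -/
def st36 : Store :=
  (.node (.node (.node (.node (.node (.leaf 0x9610076b00040006cb003e20082c01043008e6000360003700bc8003cf00b600002a003c1003c000ce900db5002b7001df00f6300032006e400a8e00a8d00d950002300650000250027600020000210059d00bbc010460052c0103b00012005c200538009c0006930071a00013000140001a00d9a0000f0001000ef700c2a00bc700fe30000800ce30000a0060c00b55000040000500071000010000200bdd) (.leaf 0x5c10080800807005670001b010390103a010590117e0073f007a20033500ed401031010320102f01030010790102c0102d007d200463004ed00995010230028901024010250102700cb10028a0079c0101e0101f010160046700e8900e4f010db01017010180101d00f37008f90023f00f7b0094f00e8d0100f0100d0100e0100c00fff0100600d9c01007010080100a006ee011520064f003f30100001001)) (.leaf 0xd43002040081900837001d50062000838008390083c00820002b600875006e900617000e10082f00830002c4007040003a007ad00e0200c4f008270082800db200b4c00823008240073c0016a00836003170041a0081c0081d003db006d40083d0081700818008150081600859009700096f000a300ea40024b0080d0080e001e2001e1011b300c000103e0103d003d8007b600801008020080300804007ff))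 (.node (.leaf 0xe240038200fb1003c30043a0043b00cb70075e000e8007b800e640035a0071900fdd00fdc00fdb007100042a0112e008e800a060042e00dc4001de001dd0040d010e7003ed00e1100420001c4004220062b0041d0041e0041b0041c0081e00a5900d940041600417002a5006af00471003cc006f100a1c0040e0040f0042600ff40040a0040b00fe2004be004590045800a3e00402004e600404003fe003d3) (.leaf 0xc4000f0c00f0500f0400b0d00c38005d100c3a00c3700c6f00c6e00c3200bfc00c340108d0052200c7300c7200c2d00c2c011c40000d0050a00ea50028200c2500c2600ea100ea200c2200cce0050900ea0001f9006d000ccf00c1a00c1b0037100daa00c0f00c0e00ea300c140112c00c6b00e9d0055a00c1700c160055400ce4007e900c0a00f1400cb600f1200c0300c0400c0500c0600bf90039f00809))) (.node (.node (.leaf 0x10130023800db70027b00ecf002390023a0023e0023600237002350007e00b9f0047500eb9009890022f0022e011a30022c00f860022a008730022700228002250022600b95011f40021f0022100872002220021700d8600b2c00a2b00e1700218002190021e00b9000b8f0019c0020b00956002e000abe00aca0095c000cc0020900213002dc0020c001eb00a77011070110a0083e0105200fc20019400e74)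 (.leaf 0x26a0040500dce00dcb00a3a00a3b00a4000a3800269003b500faa00fa90004400a2e007180007000a1700a32010ad011d80021b0039b00f310004200dbe00f3000f2f005fc00ab60096400d0b00a140028c00742001e00041000a1a00a1b00711009a500a2f00a1500a1600a200050700a4200a1100bc500a0d0077c00a0f00a0b00a0c00c6400e4200a0300e1a0042b00b540013b00a08009ed009ff00313)) (.node (.leaf 0x63e0063f006dd0063b0063c00648010fd004b000988001900060300602004ae00632007c3007c200dd700093002ad007ae0041f0047b0029f0005d0009400d7d00d7c0016b005fe004ab004aa0083a001b200bfe0061c0061d00add0016d00ed100137008320061500616008e10092d004a4004a3005000064a00649006070000700a6c0094900a630068e0060d008df008b8008de00635006340034b0034a) (.leaf 0xe3d003b700e3f011180111700a4e011f300df300df2011af00e3400e35009e1009e000e3100e2100c8d00b0500e2c00e2d004a70092f009c1002f800e2600e270013c0043f00e2200e2300e3000cec008ce010b400d2c00d2b00d0d00a0700d2700d260021a0017000bf500bf400e1300e12004230064d001130011200e07001510050e0015000e0800e0900e0d0070a00f1300b9600e000082a0096d00e03))))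 (.node (.node (.node (.node (.leaf 0xb4b00dc100dc000e2500a040059500f6a005aa00618001350013600fd1003f500469000be0012f0013000178004b700305000870086d0107d011c800b6700bbe0011a010f5001220012300dc200165007af000cb009d10011b0011c001250011800119000860008500380008cd00e0f00e0e003e00008400a7c001bc003f80008300082002e500b430064e0087c0005700104001050109801097000f200100) (.leaf 0xfa20113e0113d00a9900e4d0112f0031a011370113800c5a0070000944003160005401130011310113a0042d00a7300c130050d00da20112901187011860112601125011240111c00966004ac0111f011200111d0111e0112300d5e005dd00d8100e3c00e3b005b4005e2009110109200df60017e0110400167010e500e78006d90053b0020500e7900bca002060110501106011100110301102000d6000d5)) (.leaf 0x94a0093e0093c0093d00d3500d34000640093700938004ff004fe0093400f980092c001f500a7f00e2a0039900613009320108f009290092a00963001cc0092300aa200d690092600541005400028d00701010f00108b0099200981009780090e00916009460091800d36009130091400f59011140090f00910009190088c008a500b40007280050600baf009060090700e70002e100e6e0058d0017c00f42))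 (.node (.leaf 0xca5007300072f005290110b002a90053600018009a600539009cd0053300534007140053000531006d3004d50054c0001c0052a0052b0053c008be0033d005250052600d770052300c300051f00a8800521007c0007bf010dd010dc005a4010e400d0800513006720051400515005170051200dff00dfe0032700e0b0112b0050b0050c00c2900c200073600a130090900504005050086f002870028600610) (.leaf 0xd4100d3d00d3e0067100d3a00d3b00d6300d3800d37009150093b0093a00c4700f20011c6011c500283000ae0016f00e1d00e1c00a61009b5009b400e1900e18000a5008c000b870055b00bed00d2000d1f00d1e00d1d0119600d1b00d1a010c8002cd0119d008d100d1500d1400d1300ec600e410025800257005c300e1b0084400a2100b940118d0051800d0600d07011d600b8400b8300d0100d0200f47))) (.node (.node (.leaf 0x10f2003360052700ca200ee30024a00ee000337003380033e01034005d300333001a70033000331003290032d0032e003a50032a0032b0032f0018e0050f010800032000323003240032100322003250031f0049f004980030700cdd0113900318003190081f0113300b3200d4400a0000e5a00310003110030d005ee0030f0105400675007f100308003090031c0069c0012c005fa005f9004a2009eb009ea)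 (.leaf 0xca100ebb00eba00efe00b3800726001a500b3b0097c0085c002fd002fc010bf0031500b6f011b00026f006630084d0021c006df0007b00eff00b2500b2600b2700b28011ed003e10039100b1c009530073500b1d00b1e00b21003c700b1900b1a000e300b1600b1700b1000b5b010d000b1100b1200b15001d0001cf00c3b002ed002ec002f000b8b007440049100afb00e2e0039e00ecd00b0100b0200afe)) (.node (.leaf 0x1036001810073d0082200ce600ce5007320116e009900050800b1f007330073400739007bb0053e0053d0047f0047e0072b0072c008fc00b820090a00baa00b3a00e6f00feb00fea00b8000720007210071e0071f005a2005a10065e000150043300a3100d97007150071600532007120071300a190042f006fc01075003640045d0070700e0600708007090070b00705007060082d0067e001540091f01135) (.leaf 0xf3b00f3e00f3c00f3d00f3f003fd005dc005db0101500f3600f3500f3400f3300f3200a2900a2600a25002980029600295011cf0116c011cd00f2700f2800f2500f260015200a780016200a8200d3200c4400c4300ff8005d400fa300f1a006b600f1800f17011d90118a00c0900e0500c07000d30017f00b9a00f0d00f0e00c3e011da005a70017b011cc00f0600f0700c3d00c3c0045f001aa009ae003ea)))))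

/-- A part of a store. -/
def st37 : Store :=
  (.node (.node (.node (.node (.node (.leaf 0xfe0001310048b000bb000bc000c40047d000b80004800bf600ff300ff200cf200dfc00c81000ac000f700d2e001a6000b0011c200076000a4007c1000a6000a700d25000a9008110034000eea00c8000c7f00abb00aba0024d0114b004730008a004f300095011d300097006270062e00091000920109a0109c0076e0116b0008b0008c0009900885003c50012b0011700116001100010c0010b0008000081) (.leaf 0xb33007a7011df011de010bb010ba010b90026b0035600bb2010b100e1e00d9e00e48010b5010b0010af00e4000a2d00ae800ae7010aa006cf006c2010a5010a4010a7010a6010a3010a2010a1010a0010f3006f000aad0008f01099000900109b001030010200c9d00cd60046500ccb0111300d8800d870092b0108c00c310108e0091d009680076501085010860108701088002e900cc500cbd0097e00326)) (.leaf 0x105300528008bc008bd00740008950089400605008ae008ad008cc008b400b97008b000e63008b2008c8008b7008b600edc008a60047c008a8008a900fed008ab0090c002440115f00e91008a0008a10089f0089e0064b0089c0089b0099e00899008980089600897008ba008b90089100892008930088f008900088d0088e0090d0014c004c600caa011dd00ca900768000890078a008830088100882011d7))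 (.node (.leaf 0xf790040800ac9005cb00869004b9004ba004e30012d008d9004b100d4000af000580004b50063800b4900633009d70112100622006210104c0017400e2b004a5004a6006120061100302004a100bdb0031e0039600dac0049b0049c00a58005680031d01051005b70079b00492002880049400b07004820024900047002f300846000bd006bd004850097300b650066600489004830048400490005440029d) (.leaf 0xcbf0004d0108200cb200b7100d4d0057d0039a0043900c080115500cb300cb400cbc01022010ed00ef300cad00cae00fec00ca700889008870078c00cab004700053f00c9f009aa0033c00b3f0046d00ca400c980109600c9b00c9c00c9900c9a00c9e00c9700c96004c100b7400c5f00c5e00c9100c90011a800c8200e2f00c8b00c8c00698004c800a71006cd006cc0087d004570066100c8e000b1000a0))) (.node (.node (.leaf 0x2c0011b9002e600586002ba002bb00a48003c80002d00835002b4002b5002c5002ac00a9c005e700ac6002ae0062d002b2002a2010580053a009cf00a6f00d7a00415002a3002a4002ab00d7000ddb006290029900480003430029a0029b0029e00f2e00d4a00f2d00f2c00dd90058f00dd400dd30035400b470027e0092000a1f00d670102101026004930050200501008d600fac00d2f00c27000fc0027f)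 (.leaf 0x95400210010f900ab40009e0009d010de003ec0025900a2300afa00abc0087600ab200ab100eb5002d600aae0109d00aa900aab009e500aac00e7c00aa700c5900c5800aa400a9e009250118b00aa0005e100aa301174002b100a9a00a9b0113c005ea001f000a9600a9400a9501191011900094c00a53010cf0002800027001d700a8a00a8b00d540052000a840005b0077d00a87006b000f2100a8000a81)) (.node (.leaf 0x6be006bf0048a003a1006b800758003bc006bb00df500f1900379006b3006b401045006aa00a830041400f8d01144006ab006ac006b10069e00c7b00dc700b69006a30086a006a50069f009a4006e5006a2006a900d520030600971003b6001b600c8a0069400695006960069700016006910069200fd2000e50060800942005930075500a6d0068800689006840068500686006870055f00d99009b90067f) (.leaf 0xfce00ebe00ebd00a5d00b3e00b3d00231004e800eb600eb700ab000e83011c100ea7004e1003a700952004e000eac00ead00a52004dc00ea800ea900eb200ea600c280081000c1500c2300c2400c1f00e9f00e9e00c1100e9400bb000e9900e9a00e9700e9800e9500e9600e9c011bf01177008a200de500e8f00e8e0101000e86000c7000c60101b00e8700e8800e8c009fd009fc00eb400c6700e8000e81))))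 (.node (.node (.node (.node (.leaf 0xda100da0000670010e00da5001b0001b8001b9006ca00699001b4001b500f960061f00055001ba007a6011b4001a2001e800cf100f02001a8001a900332000ad00b39001a3001a4001ad001a1006550019f0019e00bdc0021401170000ed00191005a500560006c100d890020100192001930019900636004dd003280076d0076c0015e0057b005e90018600943001880056400b76010f8007460073e00d79) (.leaf 0xe9300b56009940037e00e4500e44002be00de1011b700dd2011b5001ae0080a003a90014b00b3000e36011ae011ad00a47011ab011aa011a900c8f00c6100c6000fb9011a20022d011a400ae200f5400f5300fbf00d170119c0119b0119a0114300ed800ed700d1c0104a00f4000fc600e6000a9300a920118f0118e00d09005d900aa100f150118401183011280112700d8301189011880117a0038a0006a)) (.leaf 0x9c4009be009bd009c501066009af00681000c8009b6009b700d2900d28009b2009b3009b0009b1009ba00f010025d009ab009ac00ca3001ca001c9009a10053700a18006a1009a2009a3009a7009670025e0089a011dc009990099600ada0099c00997009980099b01028011bd009690091c00985007370098e0098f00ddf011f200f8c009f60023000637009860098700991009dd006f7006f60091b00d56))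 (.node (.leaf 0x5be005bf00bff005bb005bc005c600b8900b8800496005b10117901116005b2005b3005b6005b0005af0079900798005ab005ac00138007b50079500f0a005a3001980051a005a60071d0071c0059a009c300bfd0001f0059b0059c005a00077100770010c5010ff0013a005e30068c00e62000db00555002930058c009020058e00f610058700588005890058a002bc00bea00582010d20058400177004b2) (.leaf 0xe6c00a27001600015f010570056b00db800db90023d001630002e00db1000fe0082600db40044200dae00daf003b00049d00ecc00c1800da800da900dd000d7b001bb009d60047a0112a001bf001be00d92010b30106201009011e1000110068200d960071700d9800026004180057400d9f00f6f00d900104f00d8b011540064400d8e00d6b0019501091010900021d011d000b460118500d800111900d82))) (.node (.node (.leaf 0x3a40007900750006b9003ba003bb003520035100e3e0069a00a36003b3003b4003b1003b200dad00e610035700be300be80035900358011b2003a600eb0003a80032c003bf00392006c0006bc002f600c0100b0400e69000e200a2a00cb80092e007fd003530049e001660039300394003a300b220038e0067a0039000d610038b0038c0118100754006400038500f4d0038700b6b001560043e0037f00115)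 (.leaf 0xbc20012600b590001e00df900bb900bba00bb800bb600bb7005490078600262010b600bab00e9b009080024e00240008ef00bb10072700ba400dee00ba100c790054200ba900ba200ba300ba700ba000233005cf009e400b9c00b9b00f0f00b9900f60008b300e040022400d0a00df000b9100b92002160021500cdc0116500f4100b0900b8a005b9005b800d2300b7900c4100d0400d03007290017a00722)) (.node (.leaf 0x51d007bd007be0055300731007b70026c00436007ba00805005a9007aa007fe007b1007b200cc40011f0062c0082b007ab007ac007b4000d8000d7010be001af007a50034d007a101035007a3007900027d0027c007d601020004950079a005ae005ad0055d007e5005a8000c5001cd0079100792007a00078f009e7009fb00ca80078b008840078900788000ec00bb400ac80087900781007820078300774) (.leaf 0x119e00e7e008f800c5c002c700e7f011a500fb800fb700fb600fb500fb400c6500fae0043d00faf00fb000fb2007770028400fab00a3500a3400a5b00ce100ce000fa500fa400f1b0113f00fa100fa000f93001ee001450056500cf900b6100f970093300f99001b300f9400f9500f9f00f92008d0008ec00f5600ae4006ae0098b00f870044e00f8800f8900f8b0022b004cd004d6007db008ed005e6005e5)))))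

/-- A part of a store. -/
def st38 : Store :=
  (.node (.node (.node (.node (.node (.leaf 0x9d400234010c4000dd00b2a00171003be011e5011e4000aa004e5004e400072000730000300a300115600dc30006c0006d0044b011800006800069001bd010d300063009390006500e72000600006100e5f0005c006280005e00a8600e5600c6c000560010600058001b1011320084e000c000050000510004a0105c00cbe001e9006590004f00e65000b70048e0004300e4300a330004600a28008520003d) (.leaf 0x107e0107f00129001ea003e70024f0102e0106401070010740070e0107600dcf0107101072010770106e0106f0106d0106c008600106a01069007dc01067009bb0076f010780056f00d9d003e800df40105f0105e000f10004e0105b0105a01038002aa00dbb00d4e008c90030c008bf00203004970104e00d8f0105000373004a901049011950104b01047010480001d006b2006ff0003900b530104001041)) (.leaf 0x8740086300c8500107008500087a00784008770087800ab3008340087f0022900220008710087000503010d90012a0085b004cc006a4004bb0085a008e0008dd0086500def0087e00861008620106b0025b0085e0085d00b360086c0086800814004f800e5e007ec011ef009fa0044a000410084f0087b008510005300b2d0084b0084c0084700848008490084a0048c005c500d0c007f60084100842006f2))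 (.node (.leaf 0x72e0072d000b9008aa0062a00da30047400cfc00ced0047600232004790009a0046a0041300ca60046e0046f00ca00046b0046c00472001320074b0101c010eb010940034e0102a000c300bd00045e00f03004600070c006fe0054700ece004070040600c8401157006e1004530045400d570044d0044c002fb00f8a00451004500006b00853004480044900445003f100447003ff0044100db00044300545) (.leaf 0x9f00d6d00c7c00c7d006a800e5b00ba600c7700c7800b4d00c7400c7500c2f00c2e00c7100c7000c3600c3500ad90005900c1200c6a00c6900c6800e8200a6900fb300a0a00c6300c62011a7011a600c9300c9200f7500fbc00e4e0113600aa600aa500c5700c56000f500c5400c5300c5200f7000f6700829008cf00c4d00c4c00c4b00c4900c4a00ee500d33002da011c700f1f00f1e00c4200b8500c3f))) (.node (.node (.leaf 0x2800028e0079f0079e0023c010f100273004f9007fb0002200274002750027900272002710026e00b2f0027000264007b9010b800a3f00a37002670026800265002660026d00af400bb300eec00ec100ee80099f009ad002540085f00b7200ab700d1000d0f00255002560025c00ef900d7300d72002450107a00bae0009c00cc60080f0033a0048f002f4009ec004ee00250008a4002420024300bf100bad)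 (.leaf 0x93000a7d00a7e0010f001ff00a7900a7a00f230020700a7400af900a760112d00a7000c8800a72002a700a6b0068a0060b00a6e0075700c66008c400bf700a640035d00a660060900a6000d2a00a620034400a5c00ebc00a5e00fa8004ca004190049a00a5600a5700a5400a5500a9000eab00a5000a51007d900e3a00a4300cf000a4400a4900a4a002b9011ac00a460095d00a4b00a4d00a1200a4100a39)) (.node (.leaf 0x68000703001d90067700cc30038f00678006790067c010df0030b00673006740051600d3c0066e006d600670006620066b0066c006690066a001d300bc90048600d4f0064700b2e0066d00c830065f006600071b00b4400b4a00cfe00cff0004b0065700658002e2001a0003e9008d8006510065200024010030010800e1000b780089d0060f0060e0063a0066400b7c004c900d8c006420064300e6800388) (.leaf 0xfba00fbe00e7d00aa800e53006c5011090110d005fb005fd0015d0020000b5c0006200e6d00905007250090300e7100dbf00e6a00e6b0039d00641006e20015c0004900435008b100592003af011920005f00857004fc002fa00c7a0031200e5800e59005e40005a00e5400e5500e7b00e5100e52007d30101a00c5b0113b00e4a007f000e4c00af2010b20094500d60011bb011ba0004500a0900d11010ae))))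 (.node (.node (.node (.node (.leaf 0xf1001111004c30090100f0900b8100de20012e005810014400af6004a800172001730007a00e1600d2d007f90061a0016400624008210056a005690110f00395001200016c00db600f22006db00dbd00dbc0018b00e7500e66003fc003fb001580015900adc0038300153007020015500f2400e0c00e0a011580014d0014e0088b011b1001490014a00be9004d0003f900f9d00176000f8001410014200cc2) (.leaf 0xfdf0103700fe10117b0117c01182005b50074500e92011750117600a9d01172011730116f0019b01171007380116300f2a0008d01166005e801168002d20116a00b8d008ff0116d01161011620115e008a301160007da0115b0115c01151005790014f004560006f00cb500d8d00751010040115a00cf500cf40114e002ef0036f0009b0114800ec40114a00ff700edf00ee1006ad01199011e600fc100fc0)) (.leaf 0xb57010810096200b37010fe009600095f0091a00958006f9009740097500488007560069b00813008120096a00e010096b0096c0096e009930108a009a001122007e300a22009280097d0003f0097a00979010c300a450020e0095a0095b0034100977002dd0021200ac100abf00b2000eaf0094e007ce01011009510094d00a9100ac70093f0060a00947009480091700e4701134001870068d0094000941))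 (.node (.leaf 0x36d0057c00cb90057e0018a001fb011590057700578006da00d4500d9300561001fa0057000571010630056d0056e0075b00dba0016900168004990103c003dc00f9c00185007e000cdb0057300197006830055c007970055e00d2200c10005580055900556005570059000c0d007bc00bec007e400cc80054b006ea001fc0052d0054f004f500bb5001e30045b0036300440004810074900ba50092200921) (.leaf 0xd7f00bd6006260062500da6002a60018000d740052400d7500d7600d78002520025100d71002a100d6f00d6c00c7e00d6e00d8a007730092400d640028b00d6500d6600d6800d39001db0038d00e460074f0111b00d5b00fc500d5d00d4200d5800d59004520098000d5300a8900d550069d00eda00d4c006650105600cba00d5000d4600297003c400d4700d4800d4b00575003140083f00d5a00d3f004b4))) (.node (.node (.leaf 0x381011bc0037a0037b0037c0037d006b5003770037800ed900374003750104d0037000c19003720114c003670057f0036a001f10036c00368003690036e008f300f640070d0054600361003620035e00f620036000a650035b0035c00434003ab003aa003ae010b7009d30029000397003b9003b80034f0035000464007a4011ce00601006000075200ffb00ffa00ff90034200a5f0029c0034500959000a2)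 (.leaf 0x3f400b7d00b7e0064600b7a00b7b00b860064c007600018400b4e00c9400b700025a00cbb00b7300b31000e400b6c00b6d0038400f55006a600b660012700b680048700aff006e3006fd00f9a00033005c000b5d00b5e00e7300b1400b5800bbd00b5a0097f011be0000600a050104200b5100b5200b4f00b5000b7500c76008250013f0065c004af001e70028f00d84001e60065d0010900b4100b420090b)) (.node (.leaf 0x77e0077f00a8500a0e007c8007790077a00dc900fad00775007760078000d6a00ffe0059900598010650008e0018d0018c0003e010d7007670088600769010d80108900cda0076200763000dc00b770074c004380075c0075d0056c006ed003c6006ba00a6a009720068b0038900af10034901153003bd00d5f0074d0074e0075f00468006f8005430074700748001820117800b080074100a1e00743008bb) (.leaf 0xf5c00f7c00ac400f7e01012009e6004bf00f7700f7800f7100c5d00f7400f7200f7300f7600c5100d9100f6e00f6c00f6d00f6b00139004e200f6600c5000f6800f5d003650002b0035f0058b00b9800f5e00f5f00f6500f7f00f5a00f5b0091200f5700f5800f8f00b6a011a00119f00f5200f5100f50010ca010c90038600f4c00f4b00f4a004df00ad800d00011ec00fc900fc8005da0090000b8c01194)))))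

/-- A part of a store. -/
def st39 : Store :=
  (.node (.node (.node (.node (.node (.leaf 0xfd00db3000ff00281000f9000ef000fb00143000af007fa00c55000f3000f4001010105d000f0000fa000ee0019a00787000de000e9000ea00437000e6000e70068f00b6e00b180039c00831000df000e0000eb0007c0076100591000d9000da007a9007a80110101100000ce00f11000d1000d2000cf000d0000d4000cd0020d0011e00af7010c2009b800e8b00e8a00794000ba00462000c1000c200052) (.leaf 0x5960097b00639011e700cd900cd800abd00183010f6010f700124008e70109f0033f0027a0091e00ee6010ec00cb0010ee00466004ea004e9010e000425001d20110e00519003ef010e1010e2010e80067600ab90051c0051b01019003ce0086e007660076a002ff010d4010d5000660058300bf200b1300a8f00aef00aee00cd500cd400f4f00f4e00d19010c7010c6005970007d0095e000c9011e000cfd)) (.leaf 0x1164001c0002ce0072a011c9008f70101400fbd008fa00cc900bee008f00036600fda003e5008f400bac011ee00f8200f90008ea008eb008e20042c010f400038002f5008e3008e4008e90061400867006060060400866002d1008db008da004b60065300dea00285008d5008d3008d4008d200d1600f9100c4e00e1f00114008b5008cb00ac301055008af008c7004f4008c100a68008c2008c3008c500d24))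 (.node (.leaf 0x9360093500de600e5d004f700bce0027800858004fb002cb0054a008c600098004ef004f0004f1004f20024601029004eb004ec010ea010e900eb800cc1004030007500074004b800f6900eb100eae00f49004db0018f00eaa004de004d9004da005cd005c900f840052e002fe004d2004d300ef000147004ce004cf00f850086b004c700a5a0064500c89004cb0088a005ca005cc0017d004c000c95004c2) (.leaf 0x65a0065b010c00047800cf6005c400f9b00cf700cf800cfb011500114f00cf3000b3001ab00a4c00cef00cee0047700e2000bd800ce80002f00cea00bcc0073b0073a00c0c00009003cb00fa700fa600cdf00cde0031b00b8e0056200764010fb010fa006fa01095010cc010cb00cd300cd200cd100cd000c1c00c2100ccd00ccc0109300cc7008f60055000cca0024c01083007b00067b00140004e700cc0))) (.node (.node (.leaf 0x10d6004d400b3500b340044f00e5c007fc00e2800bcf003a0008e5002480048d007e7007e600b0a0114d00ac500b0c00b0b001c800af301084003dd006ce002bd0010a002e3002e4006560090400211002de002df009570020a00bd700c4600bda002d7002d800aaf002d5002d4002d301167008dc002d0002cc008fd00d18002cf004f600bd3002c8002c900fbb00bd4002b30082e00ef8002c1002c2002bf)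 (.leaf 0xb6400b0000afc00afd00b0600ab500a7500af5000ca0017500af800263002ea00e4900753004b3010ce010cd00ace00aec00ded00aea00ae9010ac010ab00ad100ae500f8e011f1011a1009e800ae000adf00ade0061b00157011d10099a00c6d00f4800ad600ad700ed200fca011eb011ea00ae600acf00ad000aed00acb001cb00acd0020f004bd007850094b002af002ee00f7d008ca00ac00095500ac2)) (.node (.leaf 0x10440045c00b620070f006f300cd7009760074a0098300982006f4006f5006fb00840004110109e007c9010050075a006eb006ec0054e00833006e6001dc006e8006a00002900b6300e6700455006dc00b2b001f60063d006e000161005760110c006d7006d80066f007ed0081a0052f006d1006d200c1d010a9002e700c8700c860003c001b7006c8006c9006c6006c700e7a009c200df7010a800196003a2) (.leaf 0xb2900b3c009c800ef4007eb00dc600253002c30000e00ef500ef600efc00caf011c300eed004d100eee00eef00ef10026100ee9000a100eeb0025f00ee4010ef00c4800ee70033b00ee201145003390114600edb00edd008ac00ede00d5100376011980119700ecb00ed30103300ed500ad50061900be40023b0045a00b0300dab00ed6009e200ec800ec900ec500d1200ec70114900ec200ec30026000fcf))))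 (.node (.node (.node (.node (.leaf 0xa7b001fd001fe0054d0057a0057200c1e001f7001f8006de00931001f3001f4001ef0036b00a97001f200f9e001ec001ed002080107c0004c001ac00b4800b45001e4001e5005480080c0080b00a1d0002c0042800427006e700d62001d80067d001da00a8c003d70083b001d100668010e6001d400b0f00b0e001ce007930092700acc009a9009a8002eb007d1001c6001c100421001c2001c3001c5008fe) (.leaf 0x11f7011f6011f50022300e390098c00ae300fcb00855008ee00b2400f4600ad300ad2011e9011e8010fc011420007800077011e2011e300d9b010c1010bd010bc008880099d011d200f0b00f1600a2c0088000d05011d4011d500096011db00adb00d8500f2b0034c00f2900f08011ca011cb008fb0012800c4500d3100d3000c2b00ef2000ab00eb3011c0)) (.leaf 0xa01003eb00e8500e840078d00854009f2009f8009f70098a009f5009f3009f4009f9009f1009f0009ee009ef00a02002470030100300009e900ae10078e00f7a00aaa00b9d005ff00eca00e3300e32007e2009d800984009d9009da009db009dc009de004ad00da4009ca0007f00355009d00011d009d2002a8007df00535009cb009cc009d5003c200efd009c6009c7009bc009bf0059f006c400e2900017))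 (.node (.leaf 0x9e30062300e7600a2400e770030400303005d5007cf007cd005f5005f4005f2005f3005de005f0005eb0030e005ec005ed005ef00a980018901169002b000f8100f8000e57005940111500a9f005e0005df005f10111a00f3900f3800f430118c005d8005d6005d7005f800f1c00334005d200c39005d000b9e005ce004d8004c4004bc004c5004d7005c8005c7005ba0084500cfa00d0e000190103f00b5f) (.leaf 0x5110051000fd4000b200dfa00dfb00bbb00df8006c301112006b70106000e3800e3700df100b930086400ba800aeb00bd900de9008d700deb00de800de7004fd00e9000de400de300179011b800ddc0098d00ddd00dde00de0002a000dd80029400dda0062f00dd500dd60029200291011b600dd100da70107300a3d00dcc00dcd00a3c003fa0077800dc5006a700efa00dc8004290006e001210013e0013d))) (.node (.node (.leaf 0x4440040100f3a0015b0015a00dca001460010d003f6003f70013300b7f01002003e600446003ee010e3003f00042400ab8009fe00f0000654010610107b003f2008f1003e3003e40003b00b2300111003de003df002e8005660081b003d9003da00806001d6003d0003d4003d500400003d1003d2003d600034010da003ca0041200ce2003cd00be1002b800b1b007590008800d490043c009c90003100030)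 (.leaf 0x5bd0061e0059e00c3300bfa00bfb00c0200bf800a67000b600e1500e1400bf3010d10024100bef00bf0008f500d210055200be00058500148003ac007c400be500be600ed0003ad00fd0003c900beb00bdf00bde000000019d004a0002d900dec00ceb002db00d7e00bd5002c6002ca00bc600fde00461002f7004fa00bcb00ce700bcd0110800667000350000c00bd200a1000bc400bc300bbf00bc000bc1)) (.node (.leaf 0x800007b300398002f900277000f60016e007f2007f500843007f7007f3007f4007f80030a00e4b007ee007ef006d50085600efb007e800c0b007ea002f2002f1007960055100965009df007de00563009ce007e1007dd0106800f830115d00a4f007d7007d80079d007d4007d500e500102b001c7007d0005f700950005f6007cc007cb007c7006ef0077b007ca007c6007c500be70063100630000a80051e) (.leaf 0x100b0077200ffc00ffd00348003470034600f1d0114700ff500ff60040c000b5000b400ff000ff100fee00fef008a700cac007240072300fe800fe900fe400fe500fe600fe70000b004090117d000bf0117f00bd1004320043100430008f200fd600fd700fd800fd900fd300dfd00fd5006900013400be200ec000ebf00fcd00fcc011f000ad400f4500f4400fc70119300d5c00fc400fc3002020114101140)))))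

/-- A part of a store. -/
def st40 : Store :=
  (.node (.node (.node (.node (.node (.leaf 0xa430003e00e99005bf0003b00dca0002a0024800b2a00b210059b003fa00032000330003100030003b500395006a00002b0002c0003900e68003ff0002700a8b005300012b0052b00020007fb000220001d00d070001f00d4700008011be00d0c00a0000e7a00c6f00e010066e00c87000040000f00d41000110084c0000c0000d000670000a0075d0001b006cd00005000060001200002000030034e00d37) (.leaf 0x30b007580071300bcd0103b00e4a0104001069010360103700abc00b9d00f43010320102f0103001031007600033b0102b0102c01047001b0007dc00f1b01024010650102601016002db01021004e800fa30101d0101e0101800b9f0101a00a230101c0101701023005b300eb0010120101300fb300a9400fc400f1900ed700fe90100b01005010070070e0100900d610100a00d5f0053e000be003f201000)) (.leaf 0xc7300e6c0083c0083d0035f008380077f0083a0082d001460083300834008350059500e1600830007ed00ef800837010da00c740082a008280082900815000530082300249008250098300ce300083004fa00a1600c610081c002670081a0040000c4f0081600817008270086800dbf00da500403011470037b00af30080b00c380080d0048401134007020044f00806008010043d00c85004c800805000b7))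 (.node (.leaf 0x59e00069008040045b0023d0040d006ba0016a010f50032d007ee003560057e0043201154004300042a0063c002f800b14006720042f00e4900583004260042700424004250042000167004210042300316001f90006b0053400716004190041a0052000a1b0040e0041500413004140070d009fd0040f00410004160043a010b4003db003010010e004070040800402004050046100811004060036000819) (.leaf 0xc4100c3d00c3e00c2c00eba0046f00b920080c00c3700b1b00c3200c920085700c3500c3100a100067100c2d00c2e00c3c00c2b00c2a00c2900c2800c25000ae00c27008d700fb200d8500dec00e2000c16003c40054500c1c00be800be500a5600c1700c1800c1f000f40111200aa800ad900c0e0026c00db400c1100c0c00c0d00c0a00c0b00a2c0075000b9600dfb005a4010e200bba007e5011360068d))) (.node (.node (.leaf 0x2ce008d00043b003ba0023900f550023b002410087400def00784004d800ab90022e002310022f00230002320022c0022d00b8900227008800087a0022a0022600dde002220022300224011a300f3e00147005d1007890021c0021b00218004e50021a002160021700245008f90072a0020f008fc0020a0021200600010c2001eb0117900210002080020900c5900205002060069b0066b0020100202008e1)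 (.leaf 0xa3e00a3f00a3d0077c00dce00a3a00a460079800fd100a3500a360079300e0e0008100177003c3005460010100b8300c0900a29003bb00a2b00ec400a2600a270099d009480101900a2100a220009f00a1e00a1f004be00a1a0041700a1c0070000a15003cc0081e00a18009ed0059900a1200a0d00c3000cd2006ef00a11011e2001260106f00e8800c7f0107500e7100a0400a0500a0200a030047800018)) (.node (.leaf 0x7100063b00e3e0042e0063e00651006390063600d7d00638005e70063300634007c100ccf005b80062e0062f0062a00c7500d3d0062d006280062900627009f6009840056300621004ff0062300b17000510061c00e560061e0061b0096000f6a000fe0073c00a7800943006130061400612005d5009330113200607006520067000665009a900608006090060e005da000d3006030060400602000e20020e) (.leaf 0x95d0063d010f20036d010bb0072400e3800e3900e3600e370097500e320032700e3400e3000e3100e2e00e2f01135006ff0110801045006c4006b300dff00e2200061006c20064700e2600e1200c2000e1c0115500bcc00e1f00a4500d9c00dbc00b8700d12008310056400e1300e1400e210006d003280031100a3300c9b011e5003bd000f800add00e0800e870118d00e0000e0300e04006d40001500e05))))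 (.node (.node (.node (.node (.leaf 0x48f0016c0012f00c7a00dbe006f700137009210013900a820032200134000d80109100130001310013d001a20012c0012d000240078200446011db0011a00a0b0087c00122000e70012400121003540011b000590011c0011d0011f00127001040011800c9900b420011500bec0067b0011000663001120007a004090010c0010d000f20018200589008850010600107001050011900e9200c9a00a2e008b0) (.leaf 0x113e0113f011020113c0113b005d70113700cc40113900c0100e2d0080900f2d0060f005fa00e7700e9300756009d000e8c0076a00b08011170114900938011480034500d790017e00bfd0111f0057601121011bb0111d0106e003490019300af100d9e011290111501116011130111400c1400c6400c630006c00a730110c0110d002a5002aa0016100e2b01105010580110701103011040113d00d3500794)) (.leaf 0x93f0093c007dd0093e0039c00ad8009370112700939009360065b0092c00610002d5009b700949003790119201191009340008c00976009de0092300496011710005d00da40092800d1000138003f00045d0079a0116b0091b0091c009190091a00ed4000e5008df00f2e010920090f00caa0091000911009130090d0090e001a50090a0090b0090600dee0090700909008b8009030090400f47008fe003a7))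 (.node (.leaf 0xb3010030053c0053d0053b00536007df00e6b003130053a005350041c0053200533004d500025006c90052a0056c0052c000230052e005440117400ea9005260108d005b00051f00a51010c7004180052300b5800b880039600afa005190051a00fcb010d7000620096c0071a0050b0051000664005120108700cb40050c0050d005130050a0050900b8000b37005060033200501005030059a00504004fe) (.leaf 0x11b1002960062b00d3b00d3c00d4300d3800d390000000d36011010116a010ae00d3100d3200d1f00d2e00d2f00d2c00d2d00bd800d4f000ea00d2700d28007a3008cd00d240034d0018b00d2000d2100d3000d1e00d1d00727011f6011f500d1900242008770115f00d1400d1500c5200e1700d0f0092200d11008420033f0001900d05004d00025700d060001e00d0800d0b000c700d010072b00d0300cff))) (.node (.node (.leaf 0xd0d00d7500eac00cb00102d0033700338003390033a00341005f7003330033400505003290032f00330007b9004360032b0032c003670033100e1000e3300d6600f4f0032400a800013500162010bd0004e0031d0031e00de20030c00b6d010df00b04005670041f003140031500537009da00e0f0014000e98006e8003080031b0103f00b680069f0030d001ad00b57008d90066f00302003030040a004e6)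 (.leaf 0xb3d005c800b3f00b26010d5000fb008ef00b340050700b3500b3600b3800d5b00e9600b3000b3100b2e00b2f002c4003c100b250003700b2800b2900efd00b3c00b2b00b1500b2300b1c000360116500b1d00f5c00b1f00b2200c3600fde003dd00170006200077e00b240042c00b1100b1200b1300b0f00b1000ace0107a004f500f01004e9007660112a00afb004940064a0031800b010106200b030049b)) (.node (.leaf 0x74000af500bb7006170016f0073200fa9007380073600737004c4011f4007330073a0073100ba90072d00e9b0072f010ad00d020021300e910009c00d1c00ea4008bd00e3a00bd3011dd008ed0115d00f260071d0071e0071b0071c005140115900af00038c0041b00714007150103d00c77010440063f007070100800412001b80070600e4100094007080070f0070b006f3003d30069200808006fe00a19) (.leaf 0xf400022000ded00aeb00f4100fc200d8900aac0116400f3600f3400f3500f3200f3300f3100b5400c47009150113300f2b00f2c011760034c00f080115b0071f005a6003be0019600f2100f2200f1f00f2000f1700ee0007cf0102700f1a0100e008aa00f1e010a000d8200f1400f1200f1300f1000f110106a0029500adb00f0b00f0c00f0900f0a00f28011da00f0500f0600ebd008eb00f0200b0b00efe)))))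

/-- A part of a store. -/
def st41 : Store :=
  (.node (.node (.node (.node (.node (.leaf 0xbb01002003d80117c000bf000ce008a9000b400800000b5000b6000b80053f00cca00d6500b47000af00c2600fec00dd300eb700cad0047200e9f00552000a5000a60008a00247009bd00543001a100a200009e002f00072800cc6000990009a00095005490025c00098007090009100dd600093001830008b0109c0108e0092b0008f000a400087006ec0008900c9d001e500e43008200008000a3200082) (.leaf 0x7520018100320010c600e3b010af010b6010b7010b8010b900ee20040c010b2010b3010b0010b1010ba00d330072c0115a00ad1010aa011b90096600b63005de00e59007ce007e900de100d6300f160109d0069e0109f0008e0076900dfc01095004f40109601097010990007100fcc0091400132009d50076e0008d005250076d0018d00c4801088010890050f00eca00466003c70108201083000d70107e)) (.leaf 0xacb008bc00725008be009550049e008b600905008b7008b9008b4008b5005d00089e003a200100008ad008c0008af008ab008ac00f18000b9008a7008a80088d00240002fe0119e008a000fbe008a20086d008b20089b003420089d008990089a00896007c6008980104d00893008940099e008c800edc0088e0088f008a60095800b98005ca00f8b00990008860088700108008830088400bf100f9100229))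 (.node (.leaf 0x4bd00a1d004bf0085c004ba004bb004b9004ee004b1004b5004b6009b9004b2004b3004b7004af004b0004ae00d6800d60004ab004aa004a8004a9004a7004a6004a4004a5004a2004a3000fa002df00498008ba0049d001d700b00004990049a0049f0066c0092700cdc00b06001a70048200490004910013f004f800efb00cdb0048b004890048a006740048600487004830080a00485004920047e00ec3) (.leaf 0x34000cbd00cbe00ab2007ff005c5004710027b0015400cb3001580050e00cb600cc0002d80033c0028a00e83000aa00280009aa0091200ca800ca900ca4007e100a4900ca700c980079d0024f0054a00c9e00c9f0008600e4200e0d001020011700ca300aa700a4c00f6100c9300c9400c3400c9000c91010c800c6e0005400c8c00abb00c8900c8a00a760001300b6e0080300c8300c8400c5e0107f000cd))) (.node (.node (.leaf 0x2bf002bd002be00fda006e9002b400eff004c1005ee002b5002b6002ba002b3002b20094b00866002ac002a200da3002af00fa00110a002a8002a900a60002a30110b002a4002a6002ae00de0002a000d8400b7800357001880117f003830018e00298006d800d3e00f0e000c0007f3001dc0027e00db50028e0028f0107d00388007a800caf0018c00286005a0002880028500bd9002820028300b7700cac)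 (.leaf 0xab400abe004680103500c8b010f70023300cfc0038000ab500ab600abf00ab300cbc0098e00ab000aae00aaf010f300f3800aaa00aab005db00c1300c9700a7100a9e0098900c5800b4600d7800a9f00aa000aa500e6f00a9a00ff600a9c00a990099a00a9600a9700e8d0101000e7400a9100a9200a5300ad500a8e001d900afd0002600a8a00a8900a840057400a8500a8600a88007f60013600a8100323)) (.node (.leaf 0x6bf006c3011b3003740038400439001f8006b8006b701199006aa0097200e28006b1006b200b61006ae006af006ab003ef006ad006b500e85006a80077a006a3007f1004cf006a600e9700d450002d003090109e0069c0069d002040005f006d70087d00bff006960039d00691002e900703006940035c0068e0068f00c000068c0068800a61006890068b00645002c600bd40065f00573006810068201074) (.leaf 0xebe00ebf00f0400ebc0078f00c3b00eb900ef1000ab00ea700eb500ac500eb200eb300f69010140019b00eae00a520033d00ea8004dc0052700eab00eb6007ca00ea50072600ea3000f500dea00e94000a8011d000e9c00e9d0072e008510003d0030f006a200b3200d4b00ea00112f001030072900e8e00b9300e9000a950112c00e8b000da009f400a0900e0700e53006a900e8400cae00e8000e8100e82))))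 (.node (.node (.node (.node (.leaf 0x4d9001c1001bc001bd001bb00ee80045c0070c001b6001b700bfc002fa00668001b1001b20102900af80106000307001ac001e2001a8001a9001aa00493001a30090c0027f001a60012e000a00019e00d77001a0008e000f4200eaf00191000ed001970019800f23001920079f0111a001950019a001e700da1002990108b0028900d2200a68001860029c006c10018900ff3000dd000900010a010be00fb4) (.leaf 0x11ba0001a011bc011bd0111e011bf010a9011b7011b8011b5011b6011af006bd011b200d3f00853011b400d92011c5011ac011aa011ab011a9011a8011a700a47005b200f780022100f7e011f1003a500f8f008a3008780119b0119c00ade006b6002f901143008f8002dd01193011940092e0092d0094c0118f00f4a00e06011c0009dd01188006fd0118a008c300ec80118300e5a0118500f480118001181)) (.leaf 0x9c6009af000a2009bb009bc007d0004b4009b600931009b8009b500c66001f2009b0001ed009b2009be00597009ab011d3009ad00cab0060a009a1005b700e6a00a59009a200644009a4009a800cf2004f30089200a2500c4a0098100a98011ce010ef009680098500eeb01157006f90099100992008880078b00ab100f850085400f590098600aa400987009880098a009960062500822009820099b00d59))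 (.node (.leaf 0x3c005c00067e004c900660005c90087300630009a7011e4002e000d7b01015011a5002eb00524005ad005ae005af0055d00bf9007e4005a8005a9001c000f2500f9e00c05005a2005a30055500287006760043f00b52003d2000350050200a1300dd8009ae00591008320097f005920059300596007a0006e7010ea00ad70058c00587003c80010900b4a0058b003e4005820014a00428005850058000581) (.leaf 0x8130013b00a6600e1900dba00dbb00a570056d001dd00db60029000c0f00ed100db200da800bd100daf00fd300e7500dc200d9d00da900daa00db100ddc00f800081200924002ad00da00018f00da200f4c0111800dab00e1a00d990014b00d9b00d540056b00d9600d9500d9300d94011ae00d9000d9100d8b0078e00dc40057500d8f00d8700f390075300d8a00e7d00c220029f00d8000f150046900d83))) (.node (.node (.leaf 0x3b800f2400e0b0057100a2a0023c0015b003bf0038a003b60002f003b4003b1003b2003b30055b007f50015700141007c4000f00026b002c0003f700900007a9011a0003a3003a4008b1003a0003a10039f009c3006950093b0039a0039b007f70057b003930051c0002e003fc003970034f0007b006ee00e570038d0038e0071701057003b7003850028c001f60094f00389006bb0029a010d30115600ab7)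 (.leaf 0xbc400bbd00bbe011f000bb900c0300bbb00bb60073d00bb80025e00bb300bb4001ce010fc006d00086000b4000bac00bad00b8f00c5c0073000ba10106b007b600ba500ba20064f00ba400ba80064b0101b00b9b0103400c5d00b9e00b9900b9a0088b0106d00c0700b9400b9500e8f00c3900b9000b9100bab00b8b00acd00fc600b8e004fd0022b0051d00e18010e8011d200b8400a2d00e7e008d100508)) (.node (.leaf 0x7be007bf007c200256007b7007ba0032e0055a007bb00ba6007b4007b500376002780005b00b6c010d1007ab007ac007ad007ae004ef003a60028b007a6007a70096a007a100d2600951007a400590001940096500ca2011c3010d80091e00bc100a380079600797004f20110000a3400b75010e00065e00ebb00d8e0078c0078d0098f007880021d0078a000eb00fe6005cb00235007740012a0078000781) (.leaf 0x17a008a100fbc00fbd00fba00fbb008ff00fb700fb800fc300fb5001800101100c2300c790044a00b6f00f6c00c7600c51007c700566007390075b0007000fa500fa600fa40101f00fa100fa2002ab00fc0005a500171001fe0056200e47007e000cfe00f94010540016b00f9700f9300deb0088100f8e0119f00f900057d00f870088900f8a010e70054e00f8c011d70098d004d300f8200f830064000da6)))))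

/-- A part of a store. -/
def st42 : Store :=
  (.node (.node (.node (.node (.node (.leaf 0x1076005cd0007c0007d003910010f0007800079007d1002ee00ec60007200246000740109400fa70006e0006f00e110110f0041d006dd0043e000630000b000650006600ec9000680051600e250005c0069a00e5b0092500060007b1000560011e00bfe00b670005a0004a00c8d0082600dcf0061f0004f000500031f004e70004b0004c0005500e4b0035500043007ec000440004500047008c20004000041) (.leaf 0xc81010800028d006580107000b0d007e201077010780007f00a07006800044100452010710107b00a0a0111c00b970026400ba700f0f010380026100fe8009c701025010610064300b0201064001ae0026d00862011770105b0105c010590105a011060038b00cfa0035d00f96009530104e010500105100f7a01052008950104900173002e10104c002530102a00b5000e2a00711003d4010410104201039)) (.leaf 0x87e0087f00698001250087b00228008700119d00d17008760087500237005b9008710087200879002cb0086c0089f0086e0086a0086b008690081400bdc002b00065300863008640105e0085d00baf0085e0085f00861004bc010d9008590085a0085600c330085800eef0098c011b00084f00e9a00850008520084e002c20000e0084700ef600dcc00dc80084b00cf800d4e008410094500d0e00844001c4))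 (.node (.leaf 0x4400048100fef011e900474004790047a00a010047700df0005c70047b0046a000a900cb90027c00c3a00cf10046c0046d002ed0047300d8100abd0046701085004640046500462004630040400bd0008f4004580091f001b90043c004590045a0045e0066a00ed5004540045500e6701072010e300d5a0080700163011440044500d4900fb000d420044700448001290044c0044400dd9002e8010730047f) (.leaf 0xa080097c00bc500a5000a5a0013c00fb1002fb0071200fad0062c0082b0083f00c7100c7200ccb0001600c8e00c6b0017500c6d00aea00ae900c6800c67009b400c5b011110111000c620081d00c6000b7300c8200b9c00baa00c6500c5a0020700aa300c5700c5600f6d00bed010c900d1300fac00c4e0081800c5000c4d00c4b00c4c0099c011cd0108a00f2f0116200c4400c4500c4200c4300c3f011c8))) (.node (.node (.leaf 0x1a400291003fd0047000cb80027300279007b2002740027500276002770027a00dfe00ff2003e9003df00e5d0105f00c10003aa0026a00269009eb0081b00f5f0014c0106c00262002630106800ed0004ec00bb5002540009600bf30025a002590025800d09007bc00ce40025d0104800e66007cb011e700ca10024d0024e0024b0024c00ff80082400038000a30007300215004d200ae400d1800238008a5)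 (.leaf 0xacc007fd008c40017600a790056500a7b0061600a7400c880065600a770110e00a6200aa600a6b00a6e00a6f00a6c00a6d00a70006de0015f0018a00a6400dbd005fc00a670094600a720068a002a7005e900a5e00a5d00a54001fc00c7b009a50055900db900c1900a5500a5c00a9000ead0052200c7c00a4d004cd00a4f00c9600a420096700ca5006df011a600a3900e1b00a440003f00a4b00a4000a41)) (.node (.leaf 0x677005bd0067d009d4001130067800d510067a0067f0059f0067300488006750042b00c2f0060c0030400014006690049700203004570066d001b300666006670060b00511001110066100662005bb00684007900065c0065d0093500ad6006570107c0065900a75008da004fb008650060d0063a0064e00ba3006500064c0064d00ba000b05006480064900e23011c900687009a301063006410064200f81) (.leaf 0x2c700b8200d8600e7b00e7c0001700e7800e79011300037800dad00a93010f400e6d00a060017f00a9d0095700e720083e00538009a600e6900029004530025200e6400e650015c00e6200e6000e6100e5f00e5c0026e00e5e0005e01184010a5001c20038f0061d00bfa00e5400e8600e5200e5100ee300e4d00f4d00e4f00b53000490103a004290057f00f9a006da00e45005d60008400c9c0070a011dc))))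 (.node (.node (.node (.node (.leaf 0xe700112300ac90017b0017c00fbf001780017900a3100a7c00c6c001720104b0017400f9d00b180073b00164001430013e00f95004380016900ed20042200165001660016e0044e0032101109001fb00a690015d0015e00e63003b900ec000ff400cb5003ae0036a0037000cb70014d00151001520097a0014e0014f001530026500d9a0058400148001490021f0083600144001450016d00ec1003ad00310) (.leaf 0x29b00ac10117b000bc0117d011660020b0116e0105d00f2a0117200528011630117500926011700097d011780116c0116d0091d00d34011680116900fc50117a00b2000f370117300c460115e00b7f00d160116100720011cb00f27010ac0071900372009940038100e1e00431011520115301150011510114f0114e010c500b720037c00d6f01128011260081001145011460044d01197011410114201140)) (.leaf 0x594007410116f00c7e00979001500097b00977009780092a00e35005ff005c1006b400970009710096f007c50096b005150096d007a5009d80099700a4a010a80079e011d50096200963007d80061a010fe00b7600e3f00ffd00d76009590095a0088c00e6e00bdb008bb0094e0105300952007a2005f30038600954005e801190002b10094a0093000a24008c900a63008430094000615009410094200944))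 (.node (.leaf 0xe480043300f8d005770039800bf700578005790057c0112000d8c00a870068300570003bc00572006e40037100db80052d00d97010e600aef005560031700faa00a7a00e150062400f9b00561010c00055f010e5005ac009d2003b0007b800a58005570055800568005a10055300554000a70054b00bf00054000f880054c0054d0055100ca000097002ea00ce100a2f00c1d00529000a100fd8005410054f) (.leaf 0x9e5005f50063700d74005b400d7a0112400aa10019f0095b0033e00d7c006c000d7100d7200d6c0114a00dd00077100d70009dc00ddb00d64004ad0074300326000b100d69010a1001d501006004ac0100400d5d00d5e002d200b33004500098000d5800d5700d5600d5500d9800d4c005e30067900d5000d2a00845005c400d5300e95006ca0044b00d480001c00d44006a100d4600d3a0044900010011e1))) (.node (.node (.leaf 0x37a00ed300dc30114b0080f0037f0092f00e76001de007b300bcf006bc010dd011580056e001550036f00f5400e3c00fdf00ada00156003da001d60032a0036500366003630036400ce20035e004010083b0036101055006900035b0035800f6b0035a0029d00434000480012000352003530035000351003920000100d2300f29000d6003460111b00347003480034a0112500343003440089c0033600cbf)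 (.leaf 0x1160008fb00b7a00b7b00b7c00b7d00b4e0029e002810095e00792000c200c5f0114c009d3000c100faf00c860031a007b000b6b004f100b660030a0005700b6900b6400b65010a7009db006b0003d500b5d006cb00b5f00b5b00b5c00777011e30051e0030600b5500b5600f3000e4c0059d00b4f0104600b5100b79007c000b4b00b4c0058800b4800b49000b000aa200b4100b4300b440011600b4500bae)) (.node (.leaf 0x83900b16004f900a3c00dcb006a70077500dcd00b5a00efa0077900783007730077000d6d007720076c0108f0108c0076f0076b0112b0109b009fb006fa00b09010ee00763007640074c00ffe0102e010fb0075c000090075e00fa8007590075a0103e007540112e007550075700d88010bf0074d00c080074e0074f0075100762010f90074700748007490074a007e600745001c500d67005e60097e0073f) (.leaf 0x5cc011a200f5800f71008fa0104f004c2011a400f7600f77009e900f72005df00f7400f7c00cce00f6e00f6f00c5500fae003590061900eb100f5d008cf00f6500f6600f6300f64001da00c9500f5e0026600f6000f6800b1e00ae100f570098b00f7d00f5a00f530023a0036e00f5600f5100f5200f500032500f4b00e4e00d9f00f4e0118e005ea011820090200f4500f4600f44010330019c00f3b00f3f)))))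

/-- A part of a store. -/
def st43 : Store :=
  (.node (.node (.node (.node (.node (.leaf 0xff00618000fd009df00b3a004a100ff700e0a000f700df500ea200c15000f30010b008c6003ab000ee000ef00199000de0078700d29000e9000e600123000e800917000e4000df00601000e0000e1000e3000ec0018400dda000d900e8a000db00133010810034b000d4000d50060500ac2000cf008ca000d1000ba00c80000c9000ca000cb000cc001f400d04010ff000c4000c500ef900b7400b7000294) (.leaf 0xc60095f001e800bb10075f010fa0074b00cc700aba010e90043700e7300aad00e3d010f1001c60099800765007d5010eb010ec0058e010f600b8600f890056a0055e010e10045100c04010e40079100319009f300373010db010dc0082c0085b0079b00517010d400b3b010d600382005fd007af010d0010ce010cf010cc010cd010cb010c100c5300c8f00521010bc0114d010c3010c40020d010ca00560)) (.leaf 0xfb900901008f70021100b7e00f7b0021401196008fd008f5008f60045f001df008f1008f2008e200b39004d100721002cd00f03008e9008ea008e7008e8008e3008e4008e5008e6008f0002000019d00916008dd008de008db008dc0065500305009f700c24008d6008c500edd008d2008d300b810023e00f6700cea00d25008cb008cc000d00094700891008c1000f1008d500a7d0118700042008c7008ae))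 (.node (.leaf 0x6220050000b8a004f7006540081f0077d0048e004fc004f600b0c010980099f0079500b6a00ecf007aa004b8004eb0025f004ed004ea00b0a010200004d0030000219004e3004e4004e1004e2004e0001f1004dd004de00eaa004da004db001bf00234005c6004d400531004d600f8400244008ee00d0a006a4004c700a4e004cb004cc004ca005bc00802004ce004c5004c600735004c000f79002b8004c3) (.leaf 0xd0000f98001ee00ab800ae80105600cf70084600cf900cf500cf600cf400cf3009a00046e00cef00cf000cde00ced00cec00ce8008ce003dc00ceb00ce600ce7001cd0025500821003620054700cdf00ce000cee001d3004950048c00cd900cda00cd800cd600cd7001cf00cd400cd100a0f00cd300cd00063100f7000beb011d900c70000b200cc800cc9010f80009b00cc10113800cc200cc300cc500cb2))) (.node (.node (.leaf 0x2fc008a400ac8002ff00c78001b4011980042d002f6002f7002f4002f5002f2002f3002e30009d002ec000760046b002ef005b1005480069300442002e6002e7002e4002e5002f100af90104a005b5004a000aca01195002dc01022003f4002d700cb1002d9002d400932002d6001f000d5c002d0002d1005ef0023f008ec005eb0086f00ff100ff000fea00e7f00686002c500b2d002c10084d002c3003a9)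 (.leaf 0xbc900afc00a8c00afe00b070051b002e2001af00af600af70073e00fe50080e00fdc01119007180056900aed00aee00aec00f3c00c6a00c6900cfb00ae600ae700ae50024300ae200ae300f5b00adf00ae00119a00e0900ec200f0d0036b00c120093a0058d0065a00a8f00ad300ad400acf010ab011ea00ad200b0e00b8d00a7f008bf002de0017d002fd00ff500ac600eb4009e800ac0000d20117e00ac3)) (.node (.leaf 0xe2c0070101189006fb006fc007670099300eea0013a006f4006f5006f600705006f2006f0006f100a0e00390006eb00088006ed003ed002bb0030e0058f006e5006e60056f001c3006dc006e0006e100a4800a6a0006a006e2006d900e46006db0029700699005fb006d500e02006d2006d3006c600bb0006ce006cf00007006cc00b5e00d4a0052f006c7006c8006d1009c200e29006be00e240018700d73) (.leaf 0x2b900f0000b2700df10048d00776000c30082e00ef50084a00ef700de700ef300eed00eb800eee0085500ef000ef200ee900995006f800eec001ba00ee100ee500ee600edb00e50010b500ee700f1d00ede00edf008d40089000ee4005e400ed800ed90100d00ed600456009180037e0016800db300260004f0001e000ecc00ecd00fff01086000640118600ec70007500fe400a280048000adc001420015a))))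 (.node (.node (.node (.node (.leaf 0x1fd00f9c001ff00a5b00160001f70041e006b9001fa00387001f3000c8001f5009b3004df002d3001ec00cfd009b1001ef0020c001e9001ea010fd00190001e400085001e6001e1001ab001e300ece008f30037700db700292001d800f6200a8d001db0049c0036800d62011ed00cdd001d2001d0001d100cd500bb200ce5001c9001ca001cb001cc001c7001c8010f00074400840006e300e58001be005a7) (.leaf 0x11f700d1b00d1a00734011f2011f3011a100bbc011ee011ef001d4011eb011ec00ad00047c011de00250011e600e0c005b600b5900a0c00d40011df011e0011e80072200e400012800f0700ccc011d800f86011d400964011d6009ac00b85011cf00e9e011d10099900c49011ca0115c011cc0064600c40011c6011c7011ad011c40079c011c1011c20118c)) (.leaf 0x9fe009ff00411009fc0076800df3009f8009f9008d800626009ee00e89010de009f1009f2009ef009f0009f500a14009ea00268009ec00f7500ac4009e6009e700d7f005d4009e0009e1009e2009e3000fc009290118b00d6b00b6200312009ca00969009d6009d7010900067c00b710055c00bf20112d009ce009cf009cc009cd009cb009d9009c9003ea01066009bf009c4009c50039e006c5009c0009c1))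 (.node (.leaf 0x974005fe010d200a65006d601131005f8005f900335005f400d7e005f600950005f1005f2005f0002cf002b700bc8003d1002cc00f4900a5f0094d0063500742005e200eda00d52005e5005e0005e100f73010a6005dc005dd00aa900606005d8005d90113a00e4400611009e4005d2005d30021e008b3005ce005cf0007e00f7f007850088a005ba00b3e00475004d700cba00d4d005c2005c300973005be) (.leaf 0xe270027200fd40109a00c0600df900dfa00df600df700df8000f600df2009fa00df400efc00476002360090800f3d00c2100f9200ea100de800de900ef400de300de400de500de60031c010a2002a100feb0022500ddd00da700d6a000dc004430059800dd50009200dd7007f4000ac00dd100dd200d6e0005200a3b00778008490077b0003a00dc50084800dc600dc700dc900d8d0037d00dac007f8003f3))) (.node (.node (.leaf 0x28003cb0027d00394003c900034003f8003f9003a8003f5003f6002da00dc001001003ee00920006ac003f1006ea003eb003ec009c800270003e7003e8003e6003e300586003e5003e1003e2003de0026f003e000b1900ce90040b00369003d0000bd003d6003d700b6001043007040059c005ec003d9003ce003cf00fd900a17003fe003ca003fb0058a01084003c5003c600c1e00a30003c000b2c003c2)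 (.leaf 0x6970005801122001b500bfb00e55005ab00bf40057a00bf500bf600bf80025b009d1008820055000bee00bef00c540011400ccd00be900bea00c1b00be600be700c1a00be300be400be100be200bdf00be000bdd00bde008670095600bd70028400d2b00bda00bd500bd6006850072300bc600db0004600037500bcb0103c00e1d00bce00bca00aff005ed00bc700bd200c7d00bbf00bc200bc30079900bc0)) (.node (.leaf 0xcbb007fc00a7e007fe00021007fa007f200dc10039900a83003af00dd400293007f9006a5007ef007f0004350082f00046007ea007eb010a3007e7007e80074600c02005aa007de0107900ca600f9900539007e30093d01028007da007db007d700961007d9007d4010ed007d6007d2007d300077009ba00f1c010a4007cc007cd0025100ea6007c8007c900fab008970096e003ac007c3007bd0063200b4d) (.leaf 0xecb007610095c00ff900ffa00ffb00ffc0024a000f900a9b00ac7001590018500271002ca002c90047d00fed00fee000ad00ddf002c80100c0106700fe70078600af400ec500fe200fe300fe000fe10036c00b1a00fdb00af200fdd002bc003cd0054200fd700fd600fd500dfd00dae00fd200a3700fcf00fd000fcd00fce010930051800fc900fca00fc800fc700b8c011670100f00fb600f3a00fc100f9f)))))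

/-- A part of a store. -/
def st44 : Store :=
  (.node (.node (.node (.node (.node (.leaf 0x3f00dea00ef70003900c610041e0003c00d2c0003700bcd000320052d00e4c0003500a0c00be5003a900bf20002b00a170002d0000400a8b0005800023006430002500f0700027002770103c01047005bf0112b0001200d470001a0001b003180001700018006ed0001300007000150001d011800058200faf0000e011be000050044901042008080000600014000080000c0002a0008a0012e0065e00fcc) (.leaf 0x103f00e0b00dcf000210103a0103b0104601070010370103501036001a100f4100b3f00ee300b0d0102b0096900eb700e4f0102f00ef9000a4010270102800927010c400cda010230115e01020010210101f00eec00337010db010de004e80101700ab5010190101600918008ae00f03008f0008990100f010100093e010b00100b0100c00ed300cfd003bc007df0045000d8d001f600b65003720013000fd0)) (.leaf 0x7f100675007ed003e100b2400dc70083900b2500815003e500534011c4006cf006c30032400e020070400b580082700a5b0113900828011a70082a0082d0009e0004600f6a007f900b6e0049c008200039100d9800b2300816003b40081700818008190081a0081c00837008140105100d680017900c2500d7200ee80072f0054a007e60056700a61000090080100806000550107200e0100703008070110e))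 (.node (.leaf 0xe2d0043a0005f0054c004310043e004380043900bcf0043400e4b0043600a66004300043b004320074e00853003840042b0042c004260042700e28004290042a010e30042000cb90042200e8500424001400003a00ce100bb000ce200d450040e0041000a87006e4009cf0057d00f8d00e9b0040f004180041100419004450038800f6000405000690044200f640010c0040a0045e00b3b00b70001fc00c4f) (.leaf 0xc3d0088500c3f011d9007d500c3a005c700a490068600dca00bc300cbf0071300c2d0051000c2e00b3200c3000c3200bde00c29003d200c2b00e520028600b400081000c9000aab00c1f00c210028000c2200c1d00c1e00c1a00c1b00c1c00c1700ad500c1900e7b0090b00da200c0e00f1a009e9011a000b0100c1300a2b007bb0073900c020011400b0300c0300d080039d0051900c0700c0a007f700c00))) (.node (.node (.leaf 0x23e0023f0063e0023900db9001d70023c002420105e00235002360023400d0300e8f00231007220012a00216009e500c5b002270078400228002290022b0086b004d600b9300f5c002170094f00f860021e0021f011d000bbd002180027900e060021b002220022e0027e0020f0021200213002100021100214007650020c0020d0020a0020b0078700208002050062400207002030020400f81001fd003af)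 (.leaf 0x26f0011100a3a002c300dc800a3d00a4b00a3400a37001d600f5f00a3800a2e00044008c400a2f00a3000a3300a2d000a600c0d0004800256008ba00e710006200a140025a002590018d00a2000a210027d00e1500070006420069e00a15006c5009a30002c00c7b00a1a00a25008fb00a0d011ac00bc200a4400dc600a1200031003c100fb400045010ae002a900a040051600a06011d400747003ec006e1)) (.node (.leaf 0xb6f0023d0063c0063d011520063a00770001e5005c800b780019e00302005d5006300063100632007860062a010c50062b0062c0062e0029e000850062500df3006270020600303004ff0061100e9a0061c00712003ff0061f0061a0061b00618006190061500e6600617011e60061200613006210061000b1400cfb003050096c0094100608005830060a0060700ac40060400605009f7005f8008b100d34) (.leaf 0x11d500d3f00e400015800e370017d00d7e00d7d00e3b00e1200d830029800929001bb0106000b08010f400dad0043f009c10039900b6b00e220042800e2700453008e800e2300e2400e29001be001a60106a0019500e1d00ce800f2f001fa0007800e1300540006cc00a1e00b8700e1800e360016700aa20031a00e070011200c8d0103e00e080029d00e0a00e0e002190099f000960050d008300080300df9))))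 (.node (.node (.node (.node (.leaf 0x13e0013f001410013b0013c000d600d2d00ce400e640044e0093b00133001340058100dac010010014d000020072b0012c0011a0022f001290012700128001190012500c6c003a10051c000f80011b010e5007fe006ba00ed2001200012b00126011e2000f20005d0051b00c090029600e0d00a3e0010b00a5f0044c002bc0040600110010d5001e90010600c410010800bbe011e3004a100101001020064b) (.leaf 0x2b2011400118e008d600ef2011ba0082b00cc3006a500e60011840113000c750018b00a74011340112f00a7f003fc00e9c0001e011290112a006bc00c490089c00d6f011230112400dff00936011200111d0111e0111f0110300fb000d810111801119001ae00f7800f3f00f2e006f4011b40111001111006af0080000161002aa009b7011050110700e610110900c880110a0106e0111c0110200170010ff)) (.leaf 0x94c0100e00fef008a800135009390093a007480090d011210092c00934009320093300d040092f009300092d0092e00935006fa000fc00e3300ad80102600d750064d007090090e00ba300d250091e001b900920010ee00d330091900c7f0091b0101500acc011930091300f1500915011a401185009dc006f600923009370072800c15009060024e0115f004930090a00aaf00abe008b7001ea000d100528))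 (.node (.leaf 0x96700b640009a00b860053600535009b100537005380053b0053a00835010da0036000d480052a004c90052e000340052b0052c00530007a0009000073f00dfe0051f00f9800c8f000a20108d009a20052500e9900ea600122001150051a00c040051300f1200a0500c8a001b600518011a800e7a00c310059100d9d00e03002ec0109500ab3005010078d00f2600504008ef00506004c4004c50050900cfe) (.leaf 0xe3e00d4b007ac00b69007ab00d4600d6c00da700ebd005ff00252006000091c00b9f00c4400c43000fb00332001390003800d2b00d2a000ea0055b003b000d20009210119500d210067200d2300d26010bc00ea100fb500e910068500d1a002720024100d140106b011a100d1700cee00d0f00bf00073000d1200e6c00d0b0097100d0d00b92008cd00c060008c00af401171009310023300d0200cf500d00))) (.node (.node (.leaf 0x33e0033f000d00033b0033c00ee40024a003380101d0034600333002d30033500d2e0049f003300032f0032e0032a0032c0032b0032d0032900b490032000325003260083100321009430032300327010980031e0031d004650031b00e0f00cf80001900317003150031600308003120031300b6d0030d00b6800361003100030b0030c003090030a00314002e3006780060d006db0062300634003b200491)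 (.leaf 0x1032005f500e8100bb60040300b3900b3a007b500b37004cb00b1d00b0e00b3000c2f00d5a00b330026600368007c900b59006ef011ed00ef600b2800f0000b26008380083b0081d00b22007f400bdb00a4e004f600b3500b0f00b1900ece00b1b00a7800b17002b9006bd0060f00b5e0059c005be00b1000b1c00b34010300046d0047900490009a800e30001ba010f7011e5005c100c0800f5500c0f000b7)) (.node (.leaf 0x527007410073d0039c0073b005af00c0b0105300989009fb00733004c30073500be000bee00d100080d0006b0071c009f40012d008bd007270090c00729001a9008f9008a40071d00230007210071e0071f00720007230072d007460096b007180071900fc2003fa002ba0044000c330061e00966011810070f009b8005470070b0070c005540092400aa1006f30067f007050082f00802007af00d40006ff) (.leaf 0x111500862004e000eaa00f4300f3900f3a00f3400d7b00ded00d5c00f38010af00f3200ec60005c00e1b01114007ad00da300095008c600992011cb00f1f0050700ff00005400f210034b00f23008d900f27011c500f1b000cd00f1d00c1200f1800f1900f4b00f040091400cc9009ad00517002d6005e700b9a0025d0025e0107c00f0500ac300ff500478000240004b00f0b00f160101300ff70026200b27)))))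

/-- A part of a store. -/
def st45 : Store :=
  (.node (.node (.node (.node (.node (.leaf 0x117b00ed0000bc000bd000bb000d9000b4006b600b00001ff00640000b9000b3000ac000c6010fc000af000ad000ae000b2000aa000ab00481005b800e4100a2c002730102900494005220009f01168000a1008260009900283002510053d0009d0109b00b9600e0400f2b004ad0028f002630008b0008f0009000fcb011d600d0700091000030058d0045a00087000800062800082003f9000840109700086) (.leaf 0xbe9010bd010be00d1f001c1010ba010b90035a00358004e7008a9010b20029b010b400fee0100d00f3300a08010ac010ad010ab00f44008f3010a7010a8010a6010a5005f20055d002a100d70010930116700d8c00a940109900098004f30109c0031f0008100e880050b00555010a00109000e480109200cca0074a0052101085005430108800a450108a00965009930108c002b60108300bb20107e000db)) (.leaf 0x8bc0104a0072a008bf008bb00a28008c5008de00903008a6008b500bd8001470089400601008af008b001014008ab00ba0008ad008a7010b50093c008aa008b60028800724008a000f7b00fbd008a3007680089d0089e011260088e00f6f010110105c0116d01175000e8008b20088f00e4e0089000891008930089b008d2009ed00ce90088a00f7d00887008880088300c3e00ab100886008fa00f900087f))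 (.node (.leaf 0x11f40075a004bb004d3004bd004c0004c70034e011c700b83004b500d9900171003980064800b420064c004a20009400576006da004a3007b20104b004a400e7400bca004a7004aa004ae00103003a7003310037300960008210049900a730049b00498001d30049500496000a300907004eb0030000b0a004f80048d0048e00cdd0048b0048a00bce006680084e00ba50046200484001d100cd5000a901158) (.leaf 0xc3400cc500cbc00cbd0027b0066c0042300cb300cb600cb7007420016600cb800cc100f8200cad00cae00caf00cb0001aa002ed00f40011dd0078200c98009e100c9f00ca300ca400ca100ca200c9e00ca500ca000c9c00c9d00c9900e8700c9b00ca700a9200c920036900460003e300c96008cf00c2400523009bd00e0c000530064f005150066d0110600c830059500c8400c8500c8700c71011e00094d))) (.node (.node (.leaf 0x58b0047f002b40010d00c6f0071500b16011b2002b501084002b7002bd002cc0113f008ee0017f002a200fc000769002ab002ac0110c00a07001f2002a300a70001f400d7a002a7002af010a200dda002990062900e090029a010b30029c0029f00e340096d001130029100d57002920029300295007500009300183011b60117f00289002ee0028b008a50085b00c2700e5100cce0009c0027f0047000c20)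 (.leaf 0xac00090400aac00abc00ba90007300ab800ab900ab600ab70101800ac70050a00cc00088400ab0009050065500aa900abd00c23011a300aad00de400aa5006d600aa70086d0094a00e100070800e9300a9f00a5301165008fe00a9b0095100ea500a9700a98005d3010f90109d00fc100c9700a9000a9100559000c000a8d00b710002900a8400a8800a8900417002780017300a8a00c5900a80000e300a82)) (.node (.leaf 0x6c00098300b1501128006b40011d009cc006aa006b5000b8006b7006bb009a9010d2001ca0068d0110f006ab0054e0044d006ae006b8006a8006a9007c000e9801137007850069f0067b0056f003fe006a300a1b00d590059300dbf007b600694006970069800e69010e40069900db000692006840068e00df500690006b00068800e6200e79006790068c0068700c3700d1b00691001f8001b80067700680) (.leaf 0xec500ecb00d3700ebc00bd500ea700e8400eb60102d00eb800a5d00eb2007d300eb400f5600eaf00eb000ad90018f00ea800ac200f3c004da00eac00eba0051d00a9900ea300ea400d9000d1e00b9c007bf00e9d00e9e0112c00412006200051e006a600e950067100e9700e5300aa00117300d1c00c5d0023200e86011aa00789005a5009e2009ff0109600c9a00e8e0042100eb900e800007600b3d00e83))))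 (.node (.node (.node (.node (.leaf 0x1c000e2100d4100ed500e3200b070091f00682006d800514003b6001b1001b300443001b4001a2006f901117009ea000dc001ab00cac00726001a300cec00e20001a4001a5001a8001b001034002d4005b0006350019d0019b0019c000cc0019901075009b3006f700e1e00193001940018a001910018e00ead0019000a220018401132001920057e00145000e100185001860018c0028e00178009de0017e) (.leaf 0x11c00000d00fe300149011bb0113a00fde00d6e00dd00028d00dd10111201048002b8011b0011b1011ae011af011de00a1100e7f00e8d00c68005120082900a41005e20091200aaa00d8e00d1500c100119b00bf10119c0119d0119f0119a00ee20077d011e9008f400d24008df0091601191011920118f011900113d008f6005d901188009e3009da0118b010dd0117a009110113500d6900ffc0071000011)) (.leaf 0x9af00d7100c8e00cc6009ba009bb009b90070e0110b009b0003f700b54001970057100539009b6009bf009ab00f1300bb1009ae009a0006b300b090107f006c400d54009fd00a18005200076f009aa00e0500d91009960099b0099c009e400997011dc009990099d009950038e0108600f29003410098e00b800099000f790098600f5b0078f00737009f0011f20098c0095800982006be0098400d760097f))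 (.node (.leaf 0x1f00b11005bc005bd005bb005ba00864000a8005b6005b701174005b200d8f005b40027c0019f0073a01041005ab00ce0005ad008f500074005a10017c00f8300e8b0056a005a300d6d005a8005a000842001c20059b00b120059d0059a00961001e8010d7010d800c86005920069c005940050f002e400276003df0008900587002bf003d600f46011c80058c005860045600d5e00609000100013200577) (.leaf 0x69b00dbc00ff300dbe0079f004690023b00da800d4200e6300db400db500ce700bc900aef0069300daf0084800e2e0013100da90016500dab00db800d3800fc600da400da500f2c00c14011ee00d9200744011590050e001f500d9b00fe2004b40081e0038300d9300d9400d9500d9600da00099e00ea2005b3011a2010050109e00f570097500d8800d8900d7400d8500d86001e600e35009d70111a00d7c))) (.node (.node (.leaf 0x3bf0064a003bb01008003bd003b9003ba00392010d3001b5003b10081b0056600301003b500d2700200003ad003ae009c901176003a30002f00269004a0003a6003a4003a5003aa006c100123003a0011420039e00c050073c004f10039300e2b004b20056e0017400394003950039a003b80081f0044800d550099400af2007530007a003890038a0040c0014a00fb20037a0042d00d970037f00fdc010dc)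 (.leaf 0xa50001050021c00bbb00bbc010f800b8f00bb8009c800b3c00cd7011f000bab01082009ac0041c008f800bac00fec00bae00bb300ba100abb002cd0017a004520048600667009220066600baa008ac00d320106d00ada00ea000b9000f0f00ceb003e000b950009700b9700b910022400d0a00b9400b9b00bb9000da0074500f8c007e1007c500def007ca00e140053c00b44010c0004b600b8100b820098f)) (.node (.leaf 0xe9f007c1007c7007b700c0c00cc8007b8007b9007bc0069a00b3800b79007b1004a9007b3007ae00702007b000f2d00d3d00d3b00790003f6007a6000dd007a800de300bf800bed000cf00bf40052900dbb0079b0079c0079d0079e0079a006cb0079600ccd00798007910074300beb0047e00795007aa0098a00f7e00508007880078a0078b00e8c0078c002090062f006a40022a0085a00ca80078100780) (.leaf 0xdee00fbc008a100fbe010f300fb7005da005db00fba00fb600d1d00a0a00fae00386000510111b0000f00fb30085200fac007c2002c000fa500fa700fa8007e500fa900f5000fa300ac600f9300f9f00fa00055f00f9c00f9d00f9b00f9400d4f005240105800cf900f9500f9a00fa100c5100f8e00881010fe00f910041300b8c00ae100d7300f890006c00f710022000f8400f85005a600cb10020200f7c)))))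

/-- A part of a store. -/
def st46 : Store :=
  (.node (.node (.node (.node (.node (.leaf 0x6fc0007e007e200077006e70038b00c7a00e190007c00e82010f1005a900aba000710007200a1d00a6a000630006d00f880072e00068004090006a0006600067001dd011ce0006e00a26008e7001510043d00b5c0011600f30011490044f0005900028000570004a0080500f2400c8c0004f00fb10085700052007c60004d0065800f06000560004700a2a000490082500a0900a3200858002f70077f00040) (.leaf 0x9a701081003ee00f0c00e5d00c67007e3004fc0096e011e100198010740107100804010730103800d790110400b9e0106900d1600e1f0106c00eeb00ed6003450097e00654001c400ce30105900e310105a002370105b008980105d0105f0106100f9700fdf0104e0036f010520073801054008130066b00f770105601049000cb004a8008be0104d011b30002001039007fa009db010400000a005ae01043)) (.leaf 0x880008700087d00fca0087b008790087a0095f004e20087500876011d70087200873008610087e004d20086e00aa4004d700226008690086a00868008670086500866005b90085d00f3e0087100ae40025b00f7000863004c20028700783008590004300050007ee0085500bd60042e00fad0085100ced00847004870084b006df0084d0084a0084900dae0084f0084600841005c3008430059f0084500e68))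 (.node (.leaf 0x2be007920047c0047d00adb00dd600b0b00f0800477004750047600cd60025f010e900451002810046f0046b00b0c0046c0046e0046400dba002d200afa00ff90031c0046a001db004850045800c9400243004040045c0045d00459000880045b00461004570058500e590045400e2600ba600471010060005a00136006ac0010e00bd1004470000b003900044a010f00040d00441001b2004080044400714) (.leaf 0x91a00b7b0034000c7200a160007900c7700dd900c79002c20113300c7300c7400c7c00c8200bdd002bb00cef004dc0012400c6a00c6b00c69011a90107a0015200c5500c6300c6400c560003b00cd200c5f00bc400e90008ea0022c0114100a8300c5700c5800c6200c650034d00c4200c5200f920076b0040000c4d00c4e00cd100c4b00ffd0112700c4700c48007d8009f300d3100d3000c5300107011d2))) (.node (.node (.leaf 0x2820021500a1f005b100cbb00bec0021a00a86000220058f004fa000c3000a500d1900ed700de600a3f00264004fb0026b0026c00267003a8002650026a00b2f002680026e0009200f010026100ec30047300f0d00f0e002ef0085f00a2400a2300fd80025500a2900257002450035f00d350009b00fe5011c200909000f4009c70114a0033900b4c00e6500246002470025400dde0045f0023800d1801147)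 (.leaf 0x112e005dc00a7900a7b00a7c003fd00a7d00b1800a7100e4700a75011310049a00a6f00a77002a600a7200a6e0016b00a6c00a540006f0015e00a640115500433001cb00a68000f600a620080900a5c0010f00a5e00eb500a600082c00a5900a5a00a560015b00a5800a5500a6b00a9e00ac100cf000bbf0097c00b1f0116000bc500a3900a4a00c3800a4800a4600a470108900a0f008ed00a40011a600a42)) (.node (.leaf 0x70600d4a004d50067c006a200b57006890030600681006730083e006740067600d2200e960066900942006d300c8900cba0105000645006700048800ba400ba2006d9006e0010ea006620066000661006c60000100ad4006570065b006590065a0004c0065c0065600aae01064008db0115b0115100cff00c8b0064e00925004af00100003be011cc004b10064700b7d0066a006410002600a1c00644000b5) (.leaf 0x11ab002ce00e7c00e7d00c16005110068a00e7700e780075600e6d004a600e7200e7300a27008dc00e6e00e6f00e7500d0e006fd00e67006960084000e6a00616002480013700db60068b011080113600e5e00e5f0107b00e5400b5b00e580045500e5a0075500e5500e5600e5c00e9400c280028500e4d0102c0089200e50000330043500bc00074f0109100a7600e4500e4600e4400e4200e43000a700e3d))))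 (.node (.node (.node (.node (.leaf 0x2b00018000e3a005a7004de00ba700811001820017600177001720039600a8500175004b3011010016e0016f0015500efb00a6d00168001690016a00e1100cb400daa0016400162001630110d00ff40015d00a690015f00df700a5700370005dd00e3c00153005e60016d007ff0015700c66000600014f0015000be20012f003c80014800387011bc0014b008b300bd0001880056b00142001430013d0041f) (.leaf 0x28c011ef0117d00fdd000bf01186011780117901172003ab00896005b500e920117700d0500acd01166008fc00897004f40116a0116b0036b000a00109f0116f00a9d005e50035900b7e003f400a4d009080102200bda003eb00652009fe00d9e00480011560115700a6701153011540063b00651011500114e0114f00fe6002f8011480024b0005b0114b0024000ee0007dc01144007dd0039f00c5a0113e)) (.leaf 0x980010650097700a4f00ae300be400f6600ec80097d000d400d8a0096f0097000b7200d0c009730097401077002970060c0071a003e80102e006f80053f0071101087009630096400959005990049d00878002eb0095a0095b0095c0095d009620098500956009570095400955009520095300a9a00f74002210094e00c800093f0094b00aa30094700fd2009490035c0094400945003220066f0060b00940))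 (.node (.leaf 0x57c00189004140057f001fe00578003430057a00580004ac005740057500570009cd009b200573006a100397005560036200144005a400568005690080a003b30056400565007f6009c3005600056100f9e00353010a30055700d280055a00a8f00afd0055c0056d010940070a0054b00551005520054f00550006ad006ec0043c005530080c00cc7005440070d0054500546005480108b005410054200e17) (.leaf 0xf6d00e3900e3800d8000f37002a40106f006f5004fe009810092600d8700f8a0080f009be010a101125011b8005a200d3900d6400ffe011830081200d65001cc00d6700d6b00ddc00f6200d5b00d6000d5d0058400d5f00f3500d6100b310069d00d4c0029400d530038f009a500d5600eda00d5000d5100f9900d4d00d4e00d5800d3e0067e003cf005310001c00d3a0041a00d4300d4400db7001bd00701))) (.node (.node (.leaf 0x3820037d0037e009c5009c60038500377000e5003790037400375003760049e0100200b6a0015a010550036e0036a005e9011690036d00c9500b2e00350006e800364003650035e0056c0030e0053200253003630035b009460035d010b801163010b7003cd0035100758003520055e0035400356003670034f004b800c540034a00f220034c006ee00348005cd003360106600bf600579009c40099100c7d)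 (.leaf 0xb7c011620064600b7f00c7e00fea007b40063600b7600b77010f600b7300b740097200a8c004020063f008220031100b6600e2a0037100d3c0030f011ec00b6c010030053e00b6200b6300b6100b5f00b6000b1300b4f0005e00e5b00b4d00b2c0082e0067a003d500b51009b400b5200b5300b55005ec00b5d00ace00b5a00249000fe00b430032800b41011d100b4500b4600b8500b4a004b000b4800c26)) (.node (.leaf 0x410077501198007c80077900efa0077b00fd300776007770077e0077400772007730077100639009a100dd700f480074c00c5000767002ad0089f0076a007620020e009df000d500766010fd0075f0076000ecd010cf00afc00759004be0075b0035500bea00e7600e570074d0038c00751007520029000e490042f007540076c002c70108e00ee60093800a020071b00b8d00d9f0079400cb50073e00ef0) (.leaf 0xddf0078e0088900f80008a200f760098d011160104f00f7a00de50095000f7300f7200f870085e0089a00f6c00d7f00f6e000fa0082400f6800f6900dfd0097900ae000407002e600d6200f5e0040b00a3500f6100f51002230098b00ed400f5800f5900d8b00eb100b0200f5400f5200f5300f5d00fa4001c8011e8000f500df400f1700f4a007cf0076d00f450058900f47010aa00f3b008c00103300caa)))))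

/-- A part of a store. -/
def st47 : Store :=
  (.node (.node (.node (.node (.node (.leaf 0xf700b4b000fd0092a00d2f00f6b000f300121000ff00a6300f4d0024d000f900117000ee000ef000f0000f1000ec000ed000eb00d29000d800895000e7000ca00378000df00a81000e000187000e2000e4000de007a7001ac0108000b8e000ba000e9000ce0013a0076300976002d1008ca009010033d007a2000d700f1c0019a0104c000e6000c9000c7000c8000b1009d8010fb00274000c200fda00a8e) (.leaf 0x110000f8f00761000b0000c4010fa00a9500bba00b0600b75010f500e2f00fbb010eb0007500446010ec0091d00ef1010ef010f20066300472002f0010e7010e10011f0069500425010e2010e6010cc010df0101b01187003800101c00533010d90059600597004f20010a010cd003b7006b2010ce005ed0075d010d1010d4010e0010cb00af8010c6010c7010c8010c90062d0102500af5010c200eca00b84)) (.leaf 0x9e700a9c008eb0116e00a13008820072500baf008e20118d005aa01196010a9008f2008f10101200505002b100a43008e9008fd00c5c008ec00e2500061008e600ce6007ef007ea008f7007f5008e001194008b8008da00e7000653008dd00f20002d000fd40113c008d3008c7008d50088d008d0008d100c91008cb00d09008cc008ce000d2001de008c1008d400f2a008b900a3100ec4004f9008c800f42))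 (.node (.leaf 0x62200d77004f7010780026d00275008c20048f004fd00b1e004f50116c0109a010d60039b00afe004ee004ef001e300de200492004c1004e30101a010b6004e4007e4004e6004e900877011f100f3d005f70017b004d900c6d00eee00ea9004dd004d80086c002250067d002cb004bc0086f004d100df000feb00ddd004cc004cd00b36006f10052f004c8004b9004c60050200503007340085c004ea004ba) (.leaf 0x650005000100900cf60060e00cf700f960031900cfa00cfc00d0100cf300cf400cf100cf200a5100c6e00d1300850001a700b9900cea0088b00e1c00db3008e500cdf00138010620041b0041d005ac00ce500cde0048c00cd9005c50102400cdc00cd800bb5004740048200cd400cd300c6000c4c00fc800ccf002840079700ccb00ccc0108f00f14007ba00549009bc00cbe00cc20113800cc400cb200ab2))) (.node (.node (.leaf 0x9ec002fd002fe002f1002fa002fb002f60114c00042002f9002f5002f3002f4002f2002fc010e80025c0028a00cab0050c0095e002e5003ce002e7002e800f63002ea005900030700bdc002de002df002e0002e1002dc002dd002d7002d9002da002c9002db00f11002d5001a00033400468000d3008d800bd200e7e00ba8002b3004d4002c8002d8002ca0074b002c5002c6002c100a3c00c76002c400faa)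 (.leaf 0xfd7004f0005580075c00aed0046700af9010ca00af700ed8010c300d0600aee0038d00af000af100db100af300afb00aec00aea00aeb00ae600ae800ae700ae900ae5008600097b00adf00f8b00f6500ae200acf00adc00add0047b00b9d00eae0092800ad700ad300c180065d00ad600ad200fc3011f500ade00b4e011700091700aca00acb00ac800ac900ab400fa2007d60060600f0a00eab00a5200abf)) (.node (.leaf 0x700006fb00e6b0007f006fe0092b001af00968001960090f00d780111300707006f0004ca006f200b2b00349000160054d006e5006ea006e6003660007b006e9006eb00416006e2006e300a00006640084c006dd006de006dc00304004ab00665001b7006d100aa6006d4006d50066e006c8006d7006ce00833006d0006c700e1600799006c9006ca006d2006cd0065f00a19009a600832006c2003a2006bf) (.leaf 0xdcb00ef400efc00efd0016c0077a0102a00ef50003d00b2900ef800efe00eed0113b010ed0074000ff6004db00ef30101e0106800ec900edb0080e00edf00749011cd0033a010310119900ede0114600ee700ee100edc00edd00ee900d5200ed900af60027101067001bc00f5a0100a0011c007f0000be00ecc00b1a0075e00ecf00ebe010c100eea0097800fe900f3100ebf008c30026000fd900ec000ec1))))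 (.node (.node (.node (.node (.leaf 0xb60057b0020100401007fd00e1a003dd00683001ec0100400d9c002a5001ef002a8001f0001f1001f3001ed001ee001f7001eb009020010900598001e400d8400638001e7004ed001e2001cf001df001e0008c900065001d500463007f3001d9001d00023a00a36001dc001d400497001d200483001d8001e1001ce007e900d6600a65006b1001c700f4f001c9001c600df801063001c30059e010bb001bf) (.leaf 0x11f7005ef00ad0004bf009f200987004e100bb40117e00da100b2a00b67011eb011ea0119700f4e00dfb0061400b05011df00104001180107600c81011e4011ad00ca900998011da011db00c3c00bef008740008d00e3f00a03011cf00c4000b470021d011d30006400ee50064900f28011c600ff100588004b7011ca00f1e00834011c10024f011c3011bf)) (.leaf 0xe890115a009a4009fc00736009f9009fa009ee00603009f5009f60072c00c45011f3009ef00988009f1009f80088c002ff003d7001ad00c11009e6008ff009e80022d0099a0118a00e8a00ca6009ca0076400181009d9009100104401189009dd000c500d82009d5009d6009d4009d2009d3009d0009d100415009cb00572006b9009ce009e0003ac00bb70024c0037b0037c0034200562009c000e2c009c2))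 (.node (.leaf 0xd36005f9005fc005fd005fa005fb005fe00602004df007cd00b3e005f1005f3010a4005f4005eb011f6003c6010d000b50005f0005e80036c005ea00f100015601164005e3005e4011a5005e1005d6005de005df0015900a7e00fb800fb90118c005d7005d8005e000633005d200a96005d4005ce005cf005d0005d100347005cb005cc005c9005ca0063700c39005c600cdb005c200844005c400b0400bc1) (.leaf 0x11220052600f6700dfa011e700dfc00e00001c50015c00df20068f00f4c0062600df600de7004d000b8900fbf00f3600de800deb0003e00de900dec00df10027000f7500aa8007a5004ec00de000de100f7f00244004ce00d6300dd8002a000c7800ddb0076e0047a00dd3007fb00dd5003f1011b5011b70103d00dcd00dce00dc500eff00c3600dc900a3b0083a00a0e00dcc00dc300dc400dc000bcc00dc2))) (.node (.node (.leaf 0x61d006a000a7a0112d003e60071600083003f8009b5007a9003f501161003f2003f300dd2003f0003ef0107d003ed00a010115c003ea003e70096a003e9003fb00836003e400c93003d30083c00b980058e003d0001f9003d9003da003db003dc00fe1009eb0058a00b56003d1003e200c2a003d4003de00d49002e900357003cb003cc003c9003ca0014c003c5005ee003c7003c3003c4003c000a0b003c2)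 (.leaf 0xbff00bfa00bfd00bfb00bfc00bfe00bdf007a400bf50034400bf7007a100bd90002e0119e00d11011d800731007a30027a0079300757010bf00be600be700be8000300097a00be10014e00be30073200bf900c2c00c70002e200b200115d00bf3008b400bd30085400ebb00bc600bd7002cf0044b0014600437004890003600dc100bcb004a500db200bc700bc800bd400a4c00c5e00c3500a10005c000e4a)) (.node (.leaf 0x1540011e001fb007fc00dd40104500823007f800c0100563008e100b21001da007e70083f00ed1008e4008560083d007e8007eb008e3001cd007ec007f20080b00fa6004e5010790007d00b8b007e001007007d10114301145007db007d7007d900c46007da00ac500c3b007d200eb3007d4007de007cb00f49007cc005f6007ce007d000b8800b2d0077c007bd0004e00b8a007c3007c400fab007be006a7) (.leaf 0xfcd00d6a00c4a0118200ffb00ffa0046600ff800f0200eef00f090016000dbd00fed011c900f250093d010b100ff200bad004cf00b7a00ec700fe700fe80114d0025000fce011bd00d9a003d800fdb01057011b90117c0038100fe0000c100ec20025800aff00fcf00fd5008d7007780094800fd10100000fd600fe400fff000000008e0087c00fc900cd000fc700da600fc400fc500ad10071700a93002ae)))))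

/-- A part of a store. -/
def st48 : Store :=
  (.node (.node (.node (.node (.node (.leaf 0x3e0003f0002a0118900dc700bb00081701003000c000032000280038100bc000036000a600be80002b0002e0053300a300002f0003d000230003500a1c000250002600cc5000290000a00dcf0001d0001f00a2b0002000407011b3010710001900511000130001600e7a0096c0001701039002be00010007150000c0083a0000e003b4000220014f002c10112200c2f000050004a000ba002150088c00000) (.leaf 0xe19003430103a0103b0103c0103d00012010850116100f410102b010340102f0098b005b40104f01033010660102d004e8010350077a002620026101027004fe002ad00a450101e01020005e5010220101f01023010b00101701019005f20101b010960101c00fcd00c9700f1100f090100f0101001011010120100e0100b003370100d004320056a003bb0075800461010040100500038010010100201000)) (.leaf 0x837008c9006ca0083c008380000d007f40083b0083f008330088b0106d008360104b0083100e0f008270067a0080200fa70082800d4a00e9a0082b0082f0082300858003be0082600af700be40075a00816007010081d0030900fe3009da0113500857000390081f008470087000672008110081200e830080d004fb0080f0080c009ed0080100e2e010620107200663001b4005670031a0082d0080a01155))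 (.node (.leaf 0xe2d00707007ae0043b0043c0044000e480043400e610109100b6b00438000b60100a006fe0042601120011b90042b003730042d00ed300a1b0114c00dc3004300042500a7a0027b00f390063c0112d009db006f10040e004ca00419009360041b0041600417004180041300a8c004150040f003cc01076004120041d00458004f000a3b0040200406006cf0001c004090040400405009ac0040a00bea003ff) (.leaf 0xe050115a0099d011d900bda00a1100c3900c2d00f7b00c3600c3500c340059d00a4700c2e003400000600c3100c3800c2c0078b00852005d000f6b00cce00e9c00c1600c2300c2400d8e00c2000c210119f00994003b30075d0055900c17010cf0097a00c1a00c2500c0e0112400eb200c1100c1200c0f00c1000c1500b2c00c0b00c0c00bdf00c07003f600c09010dc0023c00a1e0010b00d7100c0000c01))) (.node (.node (.leaf 0xb7b00240003b500c05000f8007af00393001a800237002360086e0022e009bc007840022f00ca90023100234008b5008ea004d600ced0086b0087f00217008800022200244011dd00225008a20021e00f85002200025b0021800bbc007ca00e0e0021c00227002160000200acb00957000ed002110031e0020c009df00aca0020f00acd002090020a0089b00f9700a6d010560093b00d350061b007fd01108)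 (.leaf 0x26f00a3a00b730077b0040b00a3e00a500063200a37001bd002b6007a50025600e1b00a620002c00c7b00a1400091011d50001e0053500a2500a2600b7200a2800a29005c300a2000d000025700a2300cb700c0400a1a000270042900a1d009c20052000a1600a170006300a2e0072800a0d00c3a00a0f00a100035f00a1200e3f00a03001ce00a0800a0900b0000df700d220017400a0b0076c00c9c00b5e)) (.node (.leaf 0xd5a010d3005850042100641005d50063800639006370063400635006360063300a380017100de300ad60062700af3005ae006d10061101114009e30062e009f2006210110900913004b4006250061c011a700b12000410062000202001590061700612006190013c00613005c100615006180062a0060e000d60061000b7800dff006080032200c7a0060b005f8007d600e6f008dc006030060200d0e005f9) (.leaf 0xa0c009eb00e42007170091000e380017d00e3a0049100df100ddb0029f0093500e2100f4c0090f00e2f008090043f00e220112e00e2500e240030c00c8500e2600e2a00e29009c100e2c00e3200e1c011a100d290084e00e2000a32001600103f007d000e1400bcc0039400e1700d2000d38007420112700830002190050d00c6c00e08005790029b00e0b00df900e0000c3f00f280070a00e0100e0200e06))))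 (.node (.node (.node (.node (.leaf 0x59500b5b005680061600137001390013a007e10013b0036f00252003720013000131001320013300350001cf00b270018e011e20012a00127001280012900125001260064f006c0006bb0011b00db900bf5007eb00750000be00121000f200119001170011800064008f600110007ad0055400b74001140010f0010c00faf0010e00c030110000598011e30037b001010010500102001030010400106000fd) (.leaf 0x8a801145011de002d00112f00eb30067e006c200692011300081900a81004520113101132011360113b00e2b0042000e8100b590089c011030098300e100111c0112300c140112500007001b80042f0075b005ee007540112600c6f0111800add0111a009e0007d5005df0062901104009d6000d4009740110e0110f0016301105009b700c8800624002000016b002aa0110c01113011290110200abb0010a)) (.leaf 0x94e00338008a9002af00204009150030300760002fc0041a00e33001c5000fc010ee0093100ed10092d007f00092f0090e005a90091d0092300786009260092700924009250092900970005b7009e100d98009190092a00c4800ca600cd90091e00f74006b000aa00093a0005d0062300b9c002a000e3b00e300092c00aed0088200eb400a9c008a10090700908008e200903009040090500f0c008ca001f1))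 (.node (.leaf 0xca400f2200fe500540009b10039b009b6009660096b009b000a2a00b1b0002d0052a00364003820052f006810052b00fdc0052d005320054b004df00b0d000a20051f0054300cab005210052200a18005250044300bb8006f70051300b84003950118d0008201051005c0000550051b0046d0001800c7d0050c0048000e0d0050f004b800f3e00fac00a4e0050400881002b10050700502005030050100650) (.leaf 0xd420069d00d3b003d100d3d00d4c00d7400e1200f3200d340020300d3600d3100d0300d3300c4300c5500d2b00b140015100d2e00d2700e1e001d300d2a007cb00d2100f10005b600a0500d2500e1300cf3011a400d1a00d1b00d1c00d1d00c6e00d1400ceb00d1500d1600d1800cf400ab7010ae005fb00d0b0060100ab600e7100d0f00dde00d0800d09010ac00cf500d010114400d320009200d0500a22))) (.node (.node (.leaf 0x326002f00033b00d8f0033d00ee400edf0093e0100c002e300335000fa0032900332002df00eaf001a100bf200753002690007a00db400333004b5003460033f010e80067400a6c0060a00321003070031d002100031f004e90031800803007e00031b003140104200277003170044f0030d00b130005a00e6b009d40031200e28002f8003910081c0030800320010a8003020034b009390030500b6f009dc)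 (.leaf 0x7d800b9e00b4000b3801082004db00ba100b3c0076b002870085a00bb9002bd002c4003b20058b00268003e400b2b00c0d00b2d00b28001db00b2a0012d00b6700b0f00b1c00b2200b2300b21002e10085400b1e006a400b240053400f5f00ce90018b00b1700b1000b1500d2d003110061e00b1100b1600b2500b4e0052700a4100b0a00b0b0073900b0700b080075f00b0400b0500dbb00b0200afc00a07)) (.node (.leaf 0xf77007440073a0073b0073c0073d00b09008ad004bf00733009fa00df3007360071c0072d005fd0109c00083007310072c00f46008b9001a900a130071d007230099a00b940072600f5c0071e007200071f0072100727007320074c00711007190006d00e3c007160000f006f3001c2005bc0071a0070f007100070e0070b005460070d00e0300c4a00c490043e0038500d5b007030070400e690081e00cc4) (.leaf 0x11f60050a011f100c6d00f3400f3a00422005f100f3500fbf00f3700f3b00f4400d3700f2f008ba00f3100f2c0096d00f2e00f1f008bd00f2700e0400f2900f9000fbd00f21006d60053e00f2400ad400f2b011c500fa000f1c00f18009e800f9f00f1b00f1700f04011ce00f12011db00f140101400d2400b9a00f0500f0b0090200f0d007db0101300f0700f0800f0600f0e00f1600f0200f0300ef400589)))))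

/-- A part of a store. -/
def st49 : Store :=
  (.node (.node (.node (.node (.node (.leaf 0x47f0011c008f2000bc000c10000300fe800ff8000b500433000b7008a700bc3000d9000b0000b10089800cea000ad0008a00fb3000f900cbd000a500e4300031000a800efe006f500526000da001a0000990104500b8e000760009a0009b0009f00ee8000960009700992000930009400d0200a2d0114a002470008e0008c0008d0008b000ac003e9002c000080000860034a00cc90072e005170064e00087) (.leaf 0x45a010c10097800cee010bb010ba001c1010b4003cd00cd7002ac010b80029c0057f00fee0101d0109300d11011d600d0700fc3010a0010a900306006a200eb60068900e4f00c54010a1010a2010aa002c9001f6009510072f0026d004fd00d720109801097010180109401095010af011b800436007a8004ed007e300dfe01081001cc009a700f4f009ba003e8009c40103800ece0064900b3b0108c00479)) (.leaf 0x8c80017f00f2a008b6008bb00f300072a008b7008b8008bc0022d00ba800864004f400fd7008ab0105300ada00738008ac008b000fe70093d0113f000b4008c1008a000b95011c90022100909008a5004c6000f70004e0112a002080099e008f0000af011770088f004a6008fc0074500fbe00a9d003ab008960088e0088d0000100835008830028a00ddf0098f0088601078008620088a0090c0050600226))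 (.node (.leaf 0x737004be004bd005ca00ffa004c5004d70050b0107d009c70032800622004b3001ee004a200b48004ae004af004aa004ab004ac004ad0077d004a4006c30089500042004a80028f004b1004980049f004a0003840049900ad50017700a7d0049d004a1005410054f007a30106f001bf00d6c00e37000db0048d008c20048f005c40048b0048a00eda00486004870048800d460007b001d000464009ab0050e) (.leaf 0xa4a00478000a9009ae00cb300f9900cb800cb900a1f007b900cb400cb500cbb00cc700cad00f800078e00a5200cb1004de00523010ed0023000ca800c960091b00ca30053f00ca500ed4007a200bc40096700cd200c9900a01003ec0046700c9d00c710101500ca700c9300f6000c9500c82008d100f5800c8e00c8f00c8b00c8c00c8d003b600c830110a006d300e5b00e2700c8400c8900c9200c7f00c80))) (.node (.node (.leaf 0x2b40001100b33002ba00fd3002bc002b9002b5011b100a35002b8002bf002d7002a20050500a970093c00eeb01025010b500fef0110600640002a3006ae00a6f002a4002a5002a8002b20106c0091100e3400da30029a010b300e090029d00291002950029600297002980029200d560029400299009cc004a30018c002890036d00981008890028d00ff100b360027f000f00028200fb2002840044600280)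 (.leaf 0xac50019d00abc00abd01101007a700e8800ab500d1200d0d00ab800a5300ab1007a400ab300aae008de00ab000ac700aac00f5900aaa00a9e00aa5008fd0005400aa800e8400aa300aa100aa20091600a9f00aa9008910090a010f900a9000a960104a002b000a9900a9500a910068d0095000a9400a9a00a8f00a8e00a84004140064200a8a00a8800a8901074002f400a8500a8d00a80011410113400a83)) (.node (.leaf 0x6c1006aa00a48006b800122006b9006ba006bc002f5006b6006b500196006b10064a006b30091700a67002a700198001f4001f2006be001e000065006a6006a7006a500b1d00593010a7006a0006a10068400dc400d3e0069100db60069400b5f00e4c00e4a001d700bf70069a006e6011370069c000e10068f0067300a930068c00e6a00e79010a500687006880094f00e860069f0019300d450052e0037e) (.leaf 0xec500edb00ebd0094d0086100ea4009f100eb8005f3010a6011680090b0113a00c1300ea800eb00033000eac0097b00eae0079c00ea900eaa00eb100e5300ea6008c700eba00e9400f5300ea000ea100e9f00f8b00f6500c26003cb0082900e9500b56001b20077e00e9900ea3011900035900e8e00e900085000e9100e8c00e8d00cfd011e400e8700ab900e89006850045600aa400810003860112c00e7b))))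 (.node (.node (.node (.node (.leaf 0x493001a200a3600fe0001b0006f600d4001121007b0001b100bc100805001b300e97001b6001bb0106e001ad001ae010fd010c700ba70072900238001a6001a70045f00ff600d6d001be0032f000a00055d0019100abe002dd0019a0019b009f7006ad00192006b4001890014500683001970019e00190010fe0012c0018d0028e00b180018500195001f800676009b30018a00178001820018300df200d68) (.leaf 0xfc500c6100449011bb011bc011c10042e01092011ae00d76011af000c50001b011b0002b7011b2011b5011b70114e011ac002ce011960119a011a60061f011a8005f000d1e008cc0119b00e1f0075c00c1f0119c00bd90119e011a2011a9011970037401199011aa005ea009550118f0035c0094500e93011930114f0051800d91007730034c0003c0117a009a90077200dd6000500118201183011810117b)) (.leaf 0x76f00bf9002ed002330107f01088009b9006ea0110b0053900fdf00973001860057a0053b005360095800cbc009980040300481009a001187007bb0108a009c0009a2006de00d54009a500985009aa009960089a00c3d011d2009970072500c40009ad0099b0099f0099500c1e00991000950099300f7900887009860098c0098d010320098a0098700988009890098e009a100d9f01128007410028b00b4d))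 (.node (.leaf 0x1c3005bb0059c00712005be005ce00feb005b10092100d230116301031000d0002da005b80034d005af0062c008f500b8b005a1005a80092b005aa005a3000d2005a4005a5005a700242005ab0078f0059f0059b00c33005bd0059e009f500fd40010900596005970013f006e3006a300b50005900059100c7500c5f0115c0117d00b30004ea00f00003ee00587005820063d00fd500b4b0058600dab00573) (.leaf 0xdbc00e63001fa00dbf00b0300db80012000dba003d70069b0038c0032a00db200db3007c300dae0036600db0007f500da9005810014200dac00dc000de7011c00074300d920029e00d6f00bae007940098400d9d00d9e0054e00d9500ed500d930091f005e6004ff00d9b00d9400d9900da40118c00d8b0033c00c2200d8c00d8d00d90000d700ecd000d8004eb0085f011d000d7c00dd5011d100adc00adb))) (.node (.node (.leaf 0x3bf00824003b9003ba01008003bc003bd003c0003b100c8a0023d0000b00c1d00b31003b7003b000bcf009c9003a3003aa00890003ac010da003a8002e0003a4003a5003a6003ad003a1003a2003a00039e0039f0039a0039c0053a0039d0104d00397003980015c0051900e1500239003c90030a003da007fb005660037a00db50038b003620007f009cd00e4600e82007060049e0016d0053000034008cd)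 (.leaf 0xbc50005700bbb0021b00bbd00b7700b340051d006fa00bab004e600bb4007b500bb100bb20003a00bac00da100b8200baf00bb600eee0016f008b4001aa0027600ba200dc100b5400ba500b3900a7500cc600b3e002d6009120007e00f0f0024100dcd00b91011cb008a40072400b9200b9300b9700b9000ace0009d01175007da005ac00fa900ddd00b7900b8600b8700b830051a00b8500bad00b7a00f7f)) (.node (.leaf 0x1c60079b00790007c7009a80079e00cb60027d007aa00b6000bb30027900af6003760016c001b70023a0043d00113000c300274007b70079f0109000aba00d6e00a3400ab20049500ca1007a0007a1007a9007ba009e700eab007be00ce5006d50055200cc0007910055100da0007920079300796007bd005a000caf00bd60078c00c2b005cf008f400774011700092800783002320078500780004f600782) (.leaf 0xf360089200f2500fb70116700e4e00fb800fb900fbc00f5000fb500fb4000ab00283007ed007780010d000f3003e20050900fa500be900b8a00a5a0082c004e500fab00fa400fa100ac600fa300f1d00f1900f9c0035300f9e00f9a00f9b00cba00d660020700f9500f9600f9400f9300f9100f9200f2600ae300c4d00451007d400e9e006750034400a6600f6e00f840021f00f86000d100f7c005dd00cb0)))))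

/-- A part of a store. -/
def st50 : Store :=
  (.node (.node (.node (.node (.node (.leaf 0x38900b9b0076600dfc004840032b000fe00078000710009c007e9009c800ec900dfa000770006e006ec0007000718001ff00068003f90044c0006b001d600d41006a80011600a150005c0006100b65006d800bca0091400062002f3003100005300bcd00bbe00ef70051400aa60005900040006c9011840004f0089d0004b007610004d0000400043004f1000460004700bf000ec600049004a50061d00052) (.leaf 0x9bb01070004b70107b0107c000fb01077008850107900410001f500a8701048008070001a0107e00494001af00834002a10106a0106b00d7001067010680102e01061006520075700808010650105a00df4010d90105d0105c000eb01060009770104e005e900205010520044e008af0105500516006d90103001058003990104c0083200a9800a7f0107301046010470009e010400014000316006d701044)) (.leaf 0x2280087e0087d009c60087a0087b00879008d70087700bd50087100872004cc0087400875008140086c00235009ef0086f002290086a0086800869008650086600867008b3008630088400ebb0085e00d8600860008590085b0085c00b350085d0082500818007ea0116200b1f0117c00c2a003e100e8f007f100e1d0084b006ef0084d00d44006ed006e90081500841008450025800842008430084600a6a))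 (.node (.leaf 0xbf0027a0047c0047d001e600dda0108000cbe0047600477004750046a0026e010f2009cf010ef0046f001e2005120054a0046b0047400dc2002db00c9a00465004660048200f6200d580100600dc8001a500b70003c400459003c3010bf0045c0040d0045300e85005e300454004570113300f8d00445003130105400d7a000690044700146011bd006ce0044b0028100450006710051e003e5007750043a) (.leaf 0xc81011470051000c7200a2f00609002c20097f00c7300c740058f00c7600c7700c7c00c9800cd40111b00d1900f3c00e0c00f6d00f7600c5600c6800c650094200c67002d500c6300c62011be00c5e0058e00c6000f7300c5700c5800c5900c5a00c5b00c5c00c6900d2f010a300c5200c5300c4e00c500077f00c5100f8e00fc800bde00709007080091c00c4400f5b00c4500c4700d3000c4200fca00999))) (.node (.node (.leaf 0x286001e1007b800273004230047e007b4011490031500ba600d59007ab0027c00cf200ee9010d600a3f004730109b0036a0117f002650032c00b2f00266002670026a0024500263010290102800fd9002540025d0025e004f20021d00fd8002550084400a2100a33002590025f00dcb0013500250002510024d00ff00024f00b44002460114600248002490008f0024b002640022400eef005a200b990023e)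 (.leaf 0x104900a7e0049a00a6800a600042400a5400a74006650035d00ba000a7800a6b001f30066b001ef002a6005dc002060032300a730084000e4700a7c006af00f880066f00a5c00bc900a31008e100a7b00a5e00a5f002d400a6400a5900fa800a5b00a58003ed00a5500a5600a7900ab400cae00cf000a3900dfd00508002ee00a4b00a4c00cbf00a46006bd00c3200a490102400a4000ef100bc200b0c00a44)) (.node (.leaf 0xaf2011390067c0067d006780082e006790067b006770018700f8a003240068e0081300444006e000a650066d0066e00d4e00a710066a0066000666006cc0066800a770066100806006c700664006690065f007e6009c500770006590065a0065b000dc001e5009520065500651000ef010640065400500001240008100ffd006480064b006b2010830064c006450117e00647011570064300a8b0063b002a9) (.leaf 0xe7c00e7d00e7e00e7f00e80000150068a0075600e6d00e7500e7600e72000e800e7400d0c00e6e0060500e7000e7700aff0030f0068b007020054d00e5400e64008c300e6600dbe00e5c00437000e3006ff00cc2001ea00e6200c8600755005ed00e5500e5600e5700e5800e6700ea7002d3008db00e50010a400fba00e4400698008e80069700e450043900a690038700e4900e4d000a700e3d00e4000e41))))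 (.node (.node (.node (.node (.leaf 0x8be0017900e390017c0017a0017b0017e001840049b009600017500a0400ed900164006310016e00ba90017000383007b10110700143000c800165001660016700168001720110d0015d0015f00e1a001610035b00162003960015b0014d0061a0015300fc200155001560057d00158001cb00d2c00ce3000090014e0015a00148003c70074f001490014c004cf0044a00194001410016a00daa0014401043) (.leaf 0x26b006460058c0085301180011880116d01172008970116500b8d01173011740117800af4007870116f0116c011790116e0116b00ae8007cf00eb500fbb01150011760115e005b5008550103700f7d001c00116400f780058d0115100c3e0115801159006440115200800009fd006dd011560115b011660118e011ad0114800428002ff00090002780114d00c7e0024a0113e00d04011400114200a8201143)) (.leaf 0xc780097d0097e0097900ead00c180097c010bd010590096f00de101110009b4009710097200922009760074a00f2d000140053700959009680096900c9f005380096200ad700963009650095f00176009610095a002ea010d5010ff0095e0096a009af00213000ec0119400eed00953006560109d00a92006860093f00ebc0094c0094a0094b00949010df009400094401191009460094100c660094300947))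 (.node (.leaf 0x10b2000ea001540035a00578009b200e0a0057b0055600574006da005760058000afe001fe0056d00752001ed00570006fc00569010090056b0013d008040038e00561005570056200563005650055c0055e0055f0019f00560005420055800c1b0055a00564005770034e0011200bf4007980079500bed0049600d9c00e68006fb005290046c0054400cc1005450070c0054700549005240055b004970053c) (.leaf 0xf7a00d7d00d7e00d84007cc0044d00d7800d7900d75011b600d7700d39001de0109900c020106900da2007a6001a300492004ec00d6900d6a0018000ee600f98003f100d6300d6400ef600d6100d5d00d5f00d5e00d60007ce007050063f002750046200d530029300b53009a300d5700d5000bce00d5200d4d0066c00d4f00d3a004fa0082a00d470036300d4900485006820084a00d4300d3f00066001b9))) (.node (.node (.leaf 0x360006800037d008d9001070038d000e2000ca00ce6007b2000cb011980042c0013400371003670013600be20028c003f700f420026c003de003680037000daf0035e0053100d480038a003610037f00a0e0036500a76011920015e0057c00e9200351003560035700352007df00f9d00355003580012f003e600555005b00118a0030400085006f2005c8002fd00327006f800f890103e003410034200c30)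 (.leaf 0xb7d00b7e00b7f011ef0023f00b8100b880060d00bba00b7500b760011100a3d00a27007ff0045e0030100b6e006e100b630043500ccf00777002fa00b2600b4f00060006db00b6c00b5d00b61007b60069900a0000b62002f70013e00dd90112b00b5100b5500e9800b5700ba300d5500dd400b580059200b6600b0e0098000ec40058300b4100b49004b000b45009d700b470024c00b4200b4300b4a00b3d)) (.node (.leaf 0xc4f00e96004a90077900a3c0102a0077c00fb000b69003d400441007880118b01186004e20065c009bf0076d0076e00a0200b37007e2010ca00768007620007d00763000d500765007670004c0093800b06000e900c1c011a00111f008200074d010070106300e7800e5a0111d0032d0056f003fe0011d0014a0074e007590071b002ca0096e00dd2010f70074600747008930073e00da500e1100982004d1) (.leaf 0xb8000ac10116000f8200c3700d7f009900115d0073f00c6a00f720091800c5d00f7500f5100ae2005d900f8700c6b00f5d00c28010d2007d900f6800f6600f6700e9d003cf00f5e00463003ce00c9400b1a00f6300f6c0072200c46000cf00aab00c9000f5200ad900f5400f5500ea200f5700f7100fb60108900f4e011c200e3100f4a00f4b008c000f4500dd70072b00f4800f33005f40036b01036008ed)))))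

/-- A part of a store. -/
def st51 : Store :=
  (.node (.node (.node (.node (.node (.leaf 0x7c60007900100009330107a00334000aa0023b0089e00ce7000f4000f500fae0011a000f10028500653000de00212009560105b0057e0075e00e7300df5000df000e4000e500e600037900690008e5000e6000ee00eea0065800490000a1000b200d8800d8a0060f0076401111008f9005a600f83005b300f5a00de0000c9002dc0037500378000cd00169000c7000c4011b4000c6007ac000c2000bb00037) (.leaf 0x95b0018f001ac010fb010fc010c600a9b010f600748010f8010f4010f5002d800472001c9010ec004700093200caa010f0010cc010ea010e000325010e6010e7010e4010e5010e2010e3010e1010e900948010db001ca00c06010de003a90105e010cd010d4002700095c010d70063e00f6a00be7005e400c19010ce010d8010eb00fcc00769010c9010c8001ab010fa010c300af8010c5005d2010be010c0)) (.leaf 0xac2008f700aa700894008fa008fb000d3011ee008fe00115005ad00789008f1000bd008f300899008e9008ec00f40008ee00de40022c008ef00e4b008e6008e7000e0007ef007ec0090600a61008da00ef300aaf008dd0060400e51008e00037c008d300878008d5008d6005d3008d8001eb00c91008cb008ce008cf00380011a3008d0009010083e008bf00ea5008c5008c6008c400e650048e008a600f49))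 (.node (.leaf 0xd96010260109a009fe0080e00d4b004f8004f9004ee00781004f5008b2004ef0025c000480040c004f3004f70108f00d6b00d870058a0031c0102c004e400bb500fa6004e700ff900771004d9004dd0052800cac004e0004da00b3a004dc004e1002cb004b90022b004d5004d4005cc004c700740004ce00147004d0011d700873004c20041c004c8004c9004d20089f004ba004c0011f3004cb00fe1004c4) (.leaf 0xcf600cfc00e8b00cfe00cfb007f600cf900cf8009c300cff00d0600d1300d1f0027200cef00a5100cf1010bc0022a00ce800d17000ae00b1900cec000f6003770079a00ce00015000ce100ce200ce400cdf00cde00cdb011e000cdd001c80091a011e8010b600cd500cd600c7000cd300c9e00ccb00ccc00b6a00c2700bf800cd000cd100efc00084007c100cb200b9f000240070000cc300e5e0054800797))) (.node (.node (.leaf 0x114b00ac90034700937006fd00b68002f90030b00b5c002f2006b700a860005b002f600afb0033e00de600a4d009bd002e4002e50095d002e6003dc001f9002e9002eb002ec00336002de00b20003a700331002e20019c000cc00468005b200ee3010f3002b300b9d00c6400a5d00e52002cc009e40113c00bd4011ab00aea002d2004d80074b0109f002c5002c6002c7002c800b32007c800c790000800088)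 (.leaf 0xe6c0057200afd00b01002f1009ff00edd010c400822007b300aee011710062d0067f007c400aef00af000af50090d00aec00bd8002cd00ae70116a00ae900ae600ae500adf00f8f00f7000ae000ae100ae400ad20111900d8100d80008ae00f5600ad3009640062f0049c00f2000ad800ade00ad100ad000acf00b8f0020b00fc1002140020d002fe005cd00aad00fa200abf00ac000ac3008ff00f7e00ac4)) (.node (.leaf 0xe5f00431002fb0056c0054c00bb7006f4003450051c001ba000a3006f900714003490041e006e50084c006eb008490006f006ee009b800848006e8006e700693006f0011e100594005ec00b6d00670007c9009a401153006c600b6400575010500005f0104100f2300799006d200c87006d40062b003db0040800448006cd00667006c80083d00051006cb00662006dc006c4006c5004a701138006bf00123) (.leaf 0xdc6000a4001e300cca00ed800ef500ef800ef90005600d6200efa00f01008df00ef200a4300ef00024300baa0095400eec002ae000dd002710009800ee000d67011d30033a002d900ede011e900ee70033900ee200af900edc00ebe004890017300efb00ecb00fc000d9a00ca20042a00ecc0093000ecf00ed00108400d8900ed200ed700ec80007300eca00ff20004400ebf00b4c00ec000ec100ec200ec3))))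 (.node (.node (.node (.node (.leaf 0x6c00571001ec001c4001f700dbd002e700188001fb0109e01075006ac00a72006ab00900005f700a70004b20056e001fd008d200e5d001e4001e7001e80047b00657001e900efd0046e0027e006a9001dd00d73001df001d800b29001da001d9001dc0069600067001d1007f300d28001d2001d5004830012e00a0a001c70108b00152010dd010f100cda001cd007bf00934001fc005bf00713010b90115f) (.leaf 0x11f700f3f011ea011f2004c3011f400f3d011eb00b7c008f8011ed011ec011f0011f500ee100cd8011df011e5011e600e8a001080012b006e400cdc011e70113d00223011da00f13011dc00c3c011d4004cd010ad00a2c011d800ee50099c00d8200d85011c600f15011ca011cc00b96011cd008a3011c7011c8011cf00f1e005f5007d300f4d011ba00da6)) (.leaf 0xafa004fc01154009f8009f900735009fb009fc00199009f60059a003ea003f00062600eb900ffb0086d009ee0080b00fe600e3e009ca009e600f1a0079d009e9009e5002d10062800dfb00920011170020e009d900df6003000041f0081a009de009d500b4601112009d80030e009d1009cb009d3009ce00471009d00038800290009d2009ea003ae00074004b60087c0065d0108600cf700a1900e23009a6))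 (.node (.leaf 0x5fe005ff00730005fa00d10005fc0060000607001f0007cd011c400f4300eb70101a00f38011a5005de0111e00e59006e2005d60119501057005e7005e800d9701021010d000455005e0005e1005e201115005ef00f8100a6e005d7005d800f6f005da005db005eb0063a005d4008d4010c2005d100c290078a005ba00ac8004d3005c9004bc005cb00348005c6005c7005c20048c00a24005c50061400515) (.leaf 0x60c0108d00a4f0007c009e20007200e0700df800a06009dd000e70105f007340018100e3600def00df000de800dec00ded00deb00dea00de900dee00da7002ef00de5008eb0063000ddc00975000ce0088800d0a00b8900de200e350047a00b5a00dd300f470118500d8300b5200dd80074900dd000dd10002100dc500b98003e00025300dc900dca004600003b00eff00dce0069e004270046900ba400da8))) (.node (.node (.leaf 0x40000751003fc003fd003fb003f80006a003fa0036c00c08003f2003f4003f3003f500d65009f3003ef0058800a5700c9b003e7009f40008901087003eb0034f0044200b2e003d000fad0085100dcc003df00369003d9002e8006d000390003dd003d600db7003d8007c000776003d2003d300d3c003e300f6400f61010b70041100e9b003c200392003c50014b003c6003c80045d0045b003ca00bef003b8)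 (.leaf 0xbfa00bfe00bfb00bfc00bfd00bff009be00ccd0069500bf60011f0055300bf10032e00bf300045003c100be00055000beb00bec0040100faa00030010d100be100be30082100be50036e00be600bee00c0a00c4b00bdd00bdb00bdc00c3b0119d00aeb00bc60078d00876002cf00bd200bd300bd000bd1003af00d510005800e1600bc70005e00a6300bc800bcb00bd700bbf00ca0000b300a42001b500033)) (.node (.leaf 0xb71007fe00201007f20038f007f9007fa007f8007f700cfa00dad00839001d4007fc0084f0092e008e4007e800fb1008e30011e0085600075007ee007e70065e007d1007de0108e0076a001380031900354007e4007dc007dd00f0a00b8c00f6900b3f007d2006060111600f8c011c3007d7007e500e180116900d5c005f600d7b00d260021a006df002c3007bc000ff007c200af100db1007c500cc8003d5) (.leaf 0xfff00ffc0064d00ffe009f0004bb004e3000b800ff5001a400ff700ff300ff400ec7002880024e002ab010b100fce00fea005b900fec00fe4000b9008aa009ec0053d00fe90081b00fdb004c1001bc009b500fdd00fde0052c00fe200fda002600025a008b100fcf0058400599002bb00fd200fd000fd100fd600fed01016010cb00fc900c4100fcb00c4c00fc700fc4011bf00fc6010ab0015700acc00ed6)))))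

/-- A part of a store. -/
def st52 : Store :=
  (.node (.node (.node (.node (.node (.leaf 0x19b000b200042011910003a0003b002ba000320026f0058b00a93002c20046100038000450002b00ff4000e20057f001d50003000043009db00c3600166004220059b0078400012006bb007f7004a500fe300f47007fc0001a00b730001c00013003c4009730001500016008130001900023006d701041000050014c002bb00c5f000080038a003660000b006b1011b90000f00063000f2002e300ace0114e) (.leaf 0x103a00cdb00a7700e73003e50103f0104e00fcd00f1100f46008a7010330103400ca20102100caf007d40102c0076f0102e01016007fe010230028b009ec000fb0027c009760102900fef010310101d009290097e01020001020065c00a5d0009d01017010180102b01012010130101401015007ce00f3800fff005f000d1b00efc00f340014f0007f0048c008440100000e570100101002010030100401006)) (.leaf 0x8400083c003c70083e002b600586000470013f0084100cb40104700c26008270082f008300083100832003010041a008280044200842000e10082c0083300c3300ec1006d5008160081f0082000821008220081c00e850081e00817009170041c003df0081b00823008560065e00014010880080b0080d00270000ad00810007e30081100427008070030c008090080500806004350066c00674007e700619))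 (.node (.leaf 0x43e0043f0043b00c1a0043d004410042d0058a00436004370080400426004320043300cfd00131002fb00a5e004390079900e8b002a700a5f0084f0080a0043400a8900f99006e800026005370040e0041d006710041f00819011a70082d00a7000742006a200c2f00e2f006c10040f00a56006e000c8900413004200034f0040a001320040c001db0069600e5a001da006a50015500eec003e60029d00946) (.leaf 0xd0800ac10029500c4200c3800ac500ba700c3b00c320002800f36011f60082600c37004db00d6d00416010f2009af00c4300c670036500c2500c2700c280083400c2900c2400c1f0078d010a30087500c23009cf00c17006c000f630043c0110600b9800c1d00bdf008d600c1300c1400aeb008ce0035c0036100c0a011a300f9100e1400c0e007090016f00ad600797006b40094800bf90028f001f500bfa))) (.node (.node (.leaf 0x1053005d10023900945007f8011560023d0021600882009080022e00b8e002320023300e8100a9700fbb0023500bef00217005a300f3d0064600227002280022600a4e0017c0074500d070021e0089700e0400221002180011201183008d000e900021d0022c00238002b3002e1004c200ead004bd00ea900ea80093d0033100ffa005cc00a4f0034700afb00bfb00177001ec00e02001fd0092e00369001ff)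 (.leaf 0x77c00d460005a00a3b00a3c00775009ed00fb200a35003c200a3700a140038000a2e00a2f003cd00a3100a3200a2500a29009150016300a2c0077a007770049d00a2d004b300ab60050800f280073a005c300a1500050001b7001d700ed2007010096b00d9700dba00a1e00a3400a1200a1300bb600da10095d0088b00a0200a0b00a0c00a0800e4200a0a00a0600a0700b12005640112300a0d00108007f6)) (.node (.leaf 0x38c006400077e00694006450065700190006330104f010fd005e500602006380028400ce70062a00605011da00fa2003da002bd0063000d6a0062100d8200aab00c5d0027b00b46010b20062800c9400971002e801192006120037500618008000061a00c4f0018900a7a00e6a0053a0061c004a3009c6009d0008d400ab8006080053b0011300d7a0060c00607006030062f00d90006060063400d3e00d26) (.leaf 0x106000cb500e3600dc400d7900e3a005a700f1300bb800e3d00f73005f60090b005e20038600de10041500e22010840045900e29003d300e2b00e26006b200e2800e230014b00e2500e2e00d630087b00e9d00e1d00e1e00e1300e1800e1900e1a00e1b008eb00e1500e1600c0b00e1c00e440052d00e0700384003c10064d00e0800e6600fd800e7500e0c00e100118a0098c0021f011db0020400941011eb))))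 (.node (.node (.node (.node (.leaf 0x8380014000148006e1001580067a010b700d7600130000ea001330006a001350040b004300013700164001eb008d80011a0012b00127010640017b0012a010c100e890079f000b70011b00b4c00e4700daf0011c006d00011e001220012c00c9a00c99000860010b0011000f0f0060a0021c00678001150010c00b2b001530010f00116001010010600a0100861001090010400105007290101c0010a00f8f) (.leaf 0x28e01148010af0113b0113c0112400675011090113000a7b01134011350113100e5f0113301137011030112d0112e011290112a0112b0112c0067b0111c007be00d230113a00a030111d00b56005a5006b900e5801122011270111800e7400dca0111b011040033501113005e101115011100089c01112006a10110500565006620110a0110b01138006cb00a6700c190110e011170112f00fcc00f8900a75)) (.leaf 0x90d003450020e009370045700d0100fa9010b10093c00198004fb007440028d00fa10092d01159006d40020200931002ae0092300ee00101f0116f009a000fe500773007cd0092b001f30091900f9800b6200cef0091b011710091d004e200921009740081a0090f00a2b011d000f7500910005d90091200916007b70093f0090600e3300ee9001a900236001aa0090c000d200957008f7008fe00147008ff))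 (.node (.leaf 0x53d0084c0053f010d40060b006130067d006cf004210052a00533010750053500691010cf003950052e0052f00e110059c0057000536004b800f8500525004de005270052300524007d800dfb010e20050b003760051300ff3005f90054600cf700fc9007c20051400060005160051d00d7200cdd0050c007de00322001c1005100051f005090050a00a2200a44008ef000b300cab0018f002e2004ee009bc) (.leaf 0xd3b00601000e4002e600d3f00d5b00d9200e5300f5000d09006c900d3100880007da00d3400f1600477000ff0035300bf600d200037100895002a5000c700600008f400d240112500352007e900d2b00ad20114300f4b009e80100d00cf400d1400d1800f6500fc600c6000d1900f33008b500d0f003bb00d110057a007a400b8400cf500d0600d3600c3f0022200d0a005b90084601160011d50093a00093))) (.node (.node (.leaf 0x3400094a0108d0079d00337004ed0108100ef10033b00a90011160107c0078200d650020d000cc0049000e6500f6a000e8003b2003d60030700320009d8006f90064c006af011440050e003fc00328009f0005ca0031c0031d006e2003190031a0030800d7300e7900bea003d9005fb002e9000f600e7600d4100b5500d5d008080030900dc10030b00318003290064200b4a005c0010dc002f10082e002fc)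 (.leaf 0xa4a009f400b3800cc100e5000f1b00bac00b3d00b3600b37004da005a80057200b3100b3200b0f0035f00b25008e700e430010e00b5c002bc009eb00e5d0065400b2e0117b003db00fe2008e500b1d0115f002e000b200085800c6100dd400b1000b16006f700b180054500b11002f900a0500b1400b1900b3000b4100b0c00b0d00bd200aed00b070019f00b09001990045500afc003cc0045c011e100e49)) (.node (.leaf 0xcff0071c0073200ef90026000a2000df10073300b7e0099d00243008be007380073d0109900e990046e0015a00af3008ed0071d007270010300fa30072a00eeb007240072500ec50071e005ea001f100990007220072b0073e007740071400fe1007150071600717007180071a01076007070070f00d57007110070d0070e009b1010720070800c090070a00712003ff00055009fd006fb006fe00a1900d4f) (.leaf 0xf5700f3c0022a00f3e00f3b00ce2002b70101000ae400c35011400100b00d1300f4a0025700be300f1f00094006f200ad70089300f2900f2a00a21011820115c00f20005ae00cc40007a003ac00f2500f2f00ebd0024e005b400b3a00f1900f1a0026d00f0400d3000f1400f1500e3800f050103700f0e0011400f10008b800eef00bbc009fa00f06008fb00ac200f0900f1200f17000f10024000d8a004fc)))))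

/-- A part of a store. -/
def st53 : Store :=
  (.node (.node (.node (.node (.node (.leaf 0xc0000bc011ed000be00ec0000de00ff600dd2001230024900173000ac005050003e001c9008aa000ae000af0080e000b400e52000a400eb8005ad00de500d8600241000aa000990009f00eaa001ea000a201042010190009a004460009c000a300ee60099f00af40008b00f2e00d0000891008b6002790025c0008c0018d0008e00095007aa0086d011a00004c001170008200ab700d8800085002e500071) (.leaf 0x10c0010c2010c301093005f2011e8011b4011b200139010b00095c0048f00d980062200938010b60113d010ac00c4a010ae010a000f4e010a700187010a9010a100d49010a200c21010a4010a6010ab007480096c0109500549007e40054f007310045f0046700c9d0109d00746010bc00f7a003e3010850108c00fe60033d0108f0108a0108b004e00081200e8300ef20109000e2d0037b01070003390079e)) (.leaf 0xfbd00734008bd008c0008b9003a8008bb00f0d008b70009100d12008ab008b000b970038f008b30074000a9d011cf008e9008b4000b000ff100cb101035008cb00bad008a3008a4004e500edc0088e0089b00dea004b6011110089f005540088f00ad9002200087200d2900ac300f2b00890000920089200899008a0008e200a5300a0e001c8008860096400f7400889008840088500870002370087e00d33))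 (.node (.leaf 0xac4005a400211002ca00bd300a9a004d900529001a00089d010de004b200a24004b4004b1004ae00b49004b000d9100e4c0018800d84009b5007c000e6b007f400020008570061100464000cd007d9004c50049900a2600bc90025800fa70049e004820057d009e200492000c500cf100495000d40032f010b400c76004830100800485001cb0117c00bfd00f9e00c8a0048b0016e0048d0049800ca40047f) (.leaf 0xcbc0024c0107700cbf0058300cb80084500cba0035d008e400e3e008360045e00c71008a8007d50103000a4900c9800ca70050400ca8005df00caa00cac00ca3007b50048100ca60103200c9e001a4004f200ca10109600764000c6001190011800cad00c92004fd009c90062000b6000c970119900c8e00fc400c90009b30069800c83004860041000c8700c8800c840075200c8600c8b00c4d0074300588))) (.node (.node (.leaf 0x4f0005ed0062b00b290000d00039002b50067900f390083b002b9002c10021500954002af00aa0002b10092c002ab00a9c002ad002a30039f0054d0042a008c900d2800a76002aa0027e002910029f002a00029900401005c4006ed003cb0029e01185004d50057500c3d003c6003d700440002a10075b00c020113f0093300cf901028007d60027f0046d0065600473002820063200850002850028000281)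 (.leaf 0xac600abc00cd600abe00b5e00ab500ab90060d0008400a2300aba00aca00e820079300a9e00e4f002d600aa900183008db00626009d700aae00e4e00ed70058100aa500aa300aa400ddb00a9f002b000aa100ab1008ae002ac002fd004ba011c200b7f0023000a91005f5009f10003500c5800a960033600a8d001e000a8f00a8a00ad500a8c004250039d00a72001b40004000a54003ed00ccf005e900a79)) (.node (.leaf 0x6c2006c4006b800d510002200ed50111f006bd00dc600aea0069d00c050016900e2700007006ab00324011540019600f97006b00068400d530069f006ec0094900405004d300f5e004170110f001b6006a80069c006b50069e0069a0069b002e700c8c0044800408003630063c00692006930053200a7e00af00068700688003a100379006890068a0068d0068e005ef00685006aa00681009cc0068300dbb) (.leaf 0xec800ef400f1e00ea7003eb001e300eb6000a9009fc00eb900eb20107e0087600eb5010c5002dd00eac00eea0021200eaf00bc5000a1002100020f00ebc00e9400ea3002ff00ea500ea0008cf00ea200e9c009fb00e1f00e9f00e95000530073000df700a7800db000e9b00ea600e8600e8e005530021900ae300e9200e8d011bf0042b00e870012500cda00e8a00e930081d00e800108700ab30023100e84))))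 (.node (.node (.node (.node (.leaf 0xa50001c6005e40077f00bb1002ea00444001b100a1c006a000c6c00a86001b2001b3001b800472001ad00cc0001af001e8001a30090700909001a5009e1010d6001a800ca0001ab001c70019e004b700b08001a10019a003a70003f0019d00b060093600d4e006ad00f95003b400d8c00d96001780063900503001840008d009a800185000fe00616004ab010a800d600018b0018e00aad010f70017900df6) (.leaf 0xe8c011bb001f2005e3011be011ae0000600d9f00e7b011e9007e5010b9011b0010b800b63011b300ffc011ba011ea011aa011a8011ac00c53011ab0041b0119b011a2011a400c0d011a50119f00088011a10119e0119d00f9f011a60114f00c91005930118f011930119401195011960061d0003c011900119700c4c011880118b0118c00e06004470118d007ac00c6400298011570021b00f270059d003f6)) (.leaf 0x9c80017e009ba00500003e8009bd009b000563010df01056004a9009b200c8d009b40070c009b900c2d006f500bb4010ef00985009a10055a0018c0046c009a2005bd010e7001c3009a6009aa009270009700bf000736004df00992009990099a00c480076d009630099300561009950099b004f30071f0098e0098f0098d00e050098a0098b001f000f8c011c0005d8009ab005da00b58009770097d00067))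 (.node (.leaf 0x1050005c1009a500970005c20055500d050105f00b7700de2005b200f1c0104a005b5005a1005ab00cea00f24000a8002d5005b0010ee0046f00b3400e390087301120004be0022b00cf6005b1010e80059e0059f011810052c0002500590005cb005910097b0095e0059200d420119800595005980059a0058c001d4000d00058f0003600438005d300c80005560083a00b680015600cbb0057700aa60067f) (.leaf 0xdff0084d000e500db80068000a160064a00dbc00db100db500db60006f0057e00c7900db700e960011f00da900dac00dad00389002c000dae00dc500df900da400cca00da600da200da300a1000dd1011b80064400d9300d99001540087d00d9c010b300a1700192004710056b00d9d00d39004ad00604009f6009d60006d0019300d7400f0100e780008300341000a600d7c004aa00d80006270054700d83))) (.node (.node (.leaf 0x266003b90038e004ff00d1000667003be003c500af100f96007c4001940036c0032b003a3003ad003ae003af003b000f2100359001ca003a4008ba0019c0104c00af6003a9003b100be80068c00393002a90039a00a880039b0039c0039e0039800399008e3003940053000396003a0003d00038d0075d008b1003bd003910063f003850000a00dab003870038800e310038b00e0f0037f006e30057800a33)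 (.leaf 0xbb9010c40077200f0b00d7000a4c00bbf00e3700a4100a1100bb3009ad00bb5007dd001bb007ad0086300ee1008a500b39009d900e6e00355007bc00c3900ba200f5500b6a00bfc00ba600b9000b9b00b9e00b9f00b9c00b9d00ba000ec600b9100c18008b200b9400ef000b9600df00106a00b9900ba100bc60023400b8c00b8d00b7900b8800c4700b8a007d0000ce0095500d0c00b7a0105d004cf00b7d)) (.node (.leaf 0x47b01126007cb00ba8002ef0074900378001750090e00fe000ca5001e100bcd00cc3007ab006c300dc8004ea00bb001187007b10008a0026700eca000eb007a0007a100d0d0105a0047d007a5007a600124010800033c0106800791007960042c007ca00c060079a000720079200ab2007940079b007d1007880078c00c220078e002c700b670087f0078f0078300263004dd000240078700333000ec00b75) (.leaf 0xfbc00552008bf00fbf0022f00d5c00fb900a4700fc000fc800fa400fb300fb400a3800faf0044300fb100fa5010f400fab00fac000d800939005dc0049a007c700fae00fb5007280062d009320114a0119c00487003fa00f94001fb003d10042400920006ac003b60019500f9c00f510086400c0c004ce0010000f710006900988009dd00f880110100f8a00d6400b7c0052800f7c0116d00cfb0006200866)))))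

/-- A part of a store. -/
def st54 : Store :=
  (.node (.node (.node (.node (.node (.leaf 0x100900077011e300f4f0007800f22005590007b0007e0007400dee00076009ea007950008000ed000db4003c900d8d00068003540013400f8d0006c0098000afe0104000ce50000400f810066e005150005e0005f005fe0004a0005600a3d0005800059000570005b007050004f00e9a003d800c6f00a1d000540004b0037c000870004e0005c00356000cb0083900bc100031002590002a0003d007eb00a85) (.leaf 0x11c300eb40107b003340107d010790107a003f000cbd007130053401071008490070b0107401082007c501069011f100de000cc800b920106e0079c01059010610024f0012901062010630106600e3f005b80105b00b820065d0105e007a30106700a6e00d40009b600a620055e0023f00343010e3005bf006370103900add003a6010d0005b301046001df0083501049010440104500f640009e0001000065)) (.leaf 0x7890088100d9a0087900e20008780087c0087a0087100eb300c2000e7d005a60089600877008830094b002eb000890086800f7d004cb007710086c000d500f800085d00f9200baf006500010700bec008f6004f400865002c90085a0085b00b4e00b1c004a400815008540085500847007f000df500283004280084b00dbe0053e0084e001490107300e560085300d0400cb901007006c50082a008370083f))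 (.node (.leaf 0x4800046a007a200474007bf001c500ff20047500d2f00c50004780047c00286001b000d950046b005a90072f00288009a7004700047e00ce900466010970046800cd5004a2002f700458000330016a0109800cb30055f00b020014500a5700e2c004620093b0045400b05004560044500450000d6004520044c0044d0044e0044f00168007c8004c900697011890009b00453001b900fb00082b0043a00292) (.leaf 0xc7200c7c007d700c7e00c7300c7700db200e7100c7a0048e005fd007fa00c7b00c7f00cb200cde0005100c6a000f0001b500c6b00c6e00f4400c6200c2b005e600c630118600c6500c6800b1b00d150000c00c570062500c5c00e7c005dd00bf700a9200c5e00bde00c5400c55011a900c4b00f6d004760061700c4e00c820118e00c52010ad00c440099800b8900c4500c4600c4900c2c00c3c00eee00dd6))) (.node (.node (.leaf 0x289002a2008c3010250062400d750009000274002f300acc000ca002780024500d77002640080f000370024b00f180114c0026500ef70026800269007a9003bf0026b0027100786002540025f0073b002610076e011d30008f0025500bf2000440049b00f3100de90025b002620025200253010c70054b0106500f1d0024600cbe0026e00247000b600be60024a0024d00273002420073500244000a500f02)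 (.leaf 0xa7d0069000a7f003e4011360061500a8000e970103d002a40110000a6b00a6500a870096d00419007570105800b57001ed00a7400a5c00a64010f50110700e7200a7300a6900a6001055010e500a63004290042e0101a00a6a0036d006ca00a55008f30045a0041200a5900a840088c00a5100a52001bf0020a0022500a4b00bba00a4d00b3f00cae003cf00fb80096a00a400050700a4200a4300bb700a45)) (.node (.leaf 0x5800067c005390067e011280013a002b8001110066000560011390080200669006700041e006720066d000610066f008030066a0066b00673010e4003ba006610066400665002c40110c0066600677006f3008140105c0101b009c7008ee000fa009ff0063a002870065100b2600652006530065500862001500064800e0d003250064900db90064b0064e00944002290063b00d9e00d5500306010e10063e) (.leaf 0xe7f005500087400c5b011b700e770031600d8900e7a0031000e090111a0103c00a6600c780117e011f400baa00e5400e67004a70061400e6800e6900e6c00e0b0032e00e5c00e6200e630014300e5e0113200e6000b2700e6400e5500407006da0111e010050084800e5b00e6d00d38000ab00e4d00b3b00ab000aa800e51004ac00ef600e4500b0000e460012000e4800e4a00e1200b2c00a09011d8011cb))))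 (.node (.node (.node (.node (.leaf 0xdd7009be0017a00224001280017d00181001910020600172007b800ef8000b500176001700017100c08004840016c0016d0016500460006b30044b00d54000270016b0012f00a2a00bf5000c8005fc009d2001590014d0015b0015c0072e0015e0013b00dcd005840040400d9b0010d003d40014e0064f0100a001510015d0000e00e240077b0084a0013d00901001410045b010dd00e61008f2001460013e) (.leaf 0x117d00e700117f0048900b240115000f4000feb00de4007db0116201174011cd011660091c002d800928004cd00f830116a00ee50116c005e8011670116801172011640116501161011750116300d0300b1f011510115b00f260115d00b7b0093001152011840023a01153006ae01155011580115e0117a0119a00000005510026c003f100fa00097a0113e0114500969011470032300d1e000f8007fd00f35)) (.leaf 0x9420101e00981004f600597011490097800979009820102400f59009180001700d520061f005bc0095900cd200a710109e00a1800a460114600962009650057600967008880099600968002df000e70095a0059600a0f010b500f690095f0096f009ca009040094e00b85002b200ac900951009520094f00950009560094c0094d0086f0033e006a600c040056a004000023c00647009c20097f00e01006cd))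 (.node (.leaf 0x2d00db300497007ee007ef00d0e00fd2003810058200966002960056d006de00b33001d90052b0056e0056f005740056900d94009470056c002f6011e5005570110d00a04009b80055c00994006760045d0105400b470056200558009a9000790055b0056600587005ba0089a00e9100fbe0114d00e7e0109a0054c002a80054e00250005440109c007d300d810051a00b150054a00540009d3001ee00543) (.leaf 0xd7d00bd600d7f00d8500d780060900e3b00d7b00272001380027a00d8b003170051200d6c00bbb00d6e00d6f00c3000d7100cd70062900f7200f4300edf00b400033200f8700e2100d6100d620018600fd1003440030d00fba00d3a00d4c003e0003c800710006ee0064300167006a900972006bc0037e007000019700afd00d5a00f5f00d47010a5006d300d4a00a3e00d43010ea00d45005940030f01057))) (.node (.node (.leaf 0x38300d500035a0004d01083003500068b007b9003670051e0061b00370003720037300d2a003740036e0036f00a5b003b3003f400368002010036a003770000900c2a009cd00695009d100c0f00f5400b2f0035100cb700c10003580037d003ab0035b011e60004900ba90006b00d2d00d220035e0037a0040d005d50034a00ae800b6d0034d006d800cdc0020900fe90093e00d5e0105200ee200d870033f)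 (.leaf 0xa980073700b8000f860115a00b8300b8b00b76005b700b780078000eff0001b00b7100b7200b4f00b6600b6c0034b00b6e00b6900ba400b6b005850078a00b6f001f400b5d011b10091f00b5f00c9300b6100abb00b6400b2a00b51000e300ffe0098300a6d011210030e00b5200aff00b5400b5b008f100b700085900b4b0012100b4d00305004af001e70055d00623001e6000ef00b43010e900b0e00d66)) (.node (.leaf 0x1bc0063d0077900a3f0014a00a280077d0077600a270077800a3a0071b0092500bbd008690074c0102d0025e00997007410076700bc200fd4009e70076b004c6004dc00c9c010ca000da0075f000d700761003dc003900074d00290003fd00bfe0075400a6f0075500756007580075100c85007530074e003f7007500075c0077000747009d5007ba0109f0074b01094002230093400c81004180076c008af) (.leaf 0xf7e00f7f0086b00f8400f760109200f77004cc00f7900f7b009130088700e3500d6900f8e00f6c005ff008de00c5100f7000f680032d0095b00f6b005d0007c600d170104300c1b00f6100f62004f100d4b006a300f5d00f5a004d600f5c0097500f5800f3f008c700ba50036000f5300ed600f9300d370007c010aa00f4c00f4d00d1d00f3200f4800f490001e0103600dd500c6900d6800f4100f4201179)))))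

/-- A part of a store. -/
def st55 : Store :=
  (.node (.node (.node (.node (.node (.leaf 0xd2e0018a000f3000f90102600659000fc01142000f40031100bf8000f7000fd0000300f0300c6d00b4400edd00bdc00781007a700136000df0032c0096000ec200dbd00d3d00b5a0002e00829003f5000e9000ba000d9000db000dc00762000dd00faa00760004510086700491000d100905000d30058d00ad400b86004a1003300004800275000c40016100d2700c9b00494000c9000c1001d8000c3000bf) (.leaf 0x10fb010fc00636010fe010ff010cb010f8010f900182010cc00a6800fad010eb00c2e010ec00bc4009ac005aa00ef3010f1010f300d4400b42005a0009a400cf800a6100668010510052000641005c6009b7004b50014400303010cd00be4010d8010d900cf0001a6004ec0053c010ce010d1010d20104b00531010d3010db010f6010fa0076300cd000ae00025100cd300eb100bbe010bd010be00126010bf)) (.leaf 0x90000902008fd008fa00f08008fc008f8008f9009030085f008f000d2500a580014200b50008f5005060065a0072c004c300e1700ce4008ac003d500b2d00bc000b2100cb6003970088d009c100af8008dd00f6e008df009f900aac008d2008d30012d008d500c15008d70060e008d9008da00ae10021a00ea100c11008cc008cd008a6008c8002a6008ca00f5600bf3008c1008c20027d008c4008c5008bc))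 (.node (.leaf 0x3bc004f700c9600f0000935004f8006e7004fa004fe0097c004ef0085e0099100c9f00f60002bf004f5005010033a010d5004e3007ae001e5004e400efe00ee7008a2004e8004eb0091a011e7010890099c00526007850076500c3100b35004b9004d7004d800f5b00297004c7006a4002fe004d0004d100b8100f900116e00f780086a004c800449004ca004d4007660049f00acd008ec0021300be700acb) (.leaf 0x73f009c500431005cf00f82001fe0028c010e600519005a200d0b00d1a00bdd00fec00493010d70091e00cd100cec00ced00dec005af0046900cdf0063100dc200064008ea00ce100f3a00ce3007c100ce800c7000511003480103e00e88011df00cd400d6b00abd0046500cd8010c60096e00cee010c900a8200ccd00cce00ae7011de00da500deb0106b009dc00cc500cc600f23007b2007ea00b3c001ae))) (.node (.node (.leaf 0xea4004d200a9b003000042f002f200b13006ff004630056800bce007c300277002fa00302002e4007bb002ed002ee002c50086e001ba003120061e0069900d3c00081002f000002005020021400b1e00961002d700eb0002db002dc011cc00ec701170002de00aaf005ac002cc002d2002d3009f2002cf002d0002cd002ce002d4002c8004bc0085c002cb0078b009f8002ec0066300ed900034002b400daa)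 (.leaf 0xb530006600d4d00b040020800aee00af5008e0001dc003a500af9000960072d00aef003b70068f00af200afa00b0a00ae900c12006b600aec0034c00ccc00acf00ade00f3700e8f00ae2008d1010c800ecb00ae50104d00fd500ad300ad80089800ada00f2c00c0700a8b000cf00adb00d1f00ad000ad100ae600001004c400276004c000ab40095300ac700ac800abf00c3a004bf0089400f0700c3e011c8)) (.node (.leaf 0x2f800702006fc006fd00703006f400326006f600b17006f8009ae006fa0065f00f2d009da00bff006eb00d560029b006a7006ef006e6003e200423004f9006ea006c6006dc003820031b0013c00411006dd00573006df006e4009ce00e59006d10034900011006d2008240092f00d48006d6006d90011d00538006c700940006c80110800a5a00d35006cc006ce006e500843006be007b0006bf0041400c1c) (.leaf 0xb74004e7009c40100c00ef5001de0073c001740026a00e4b00efb00ebe010ed010860033800b9500f0c00c4100edb004030072600eae0090a00ee4004e6000980116b00ee800ede0034200bae0092a00d6700ee3000ee008a100eed00ed8002c300eda00aa700f52006ba005d400ecc00a1a00ecf0007000ed100ecd00ece00ed300adf007a800fe800ebf002d900b9a0072300ec300ec4000e600825000bb))))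 (.node (.node (.node (.node (.leaf 0x20000cfa00203001f700f9b00fdc001f8001f9001fc001ef00c0100b6500922011bd0072000989001f60054100a6c002050012e000a0001e9001ac00b4800b45004e9001cf00eba001cc007b400a8e0104800efa001d000af7004090040600571000c200a1b001d10002c0058e001d2001d3001d6001dd001e4001cd001ce001e20048a003aa000b10088a001a2001be0047a001c2009a3001c40050d00fca) (.leaf 0x11f500c34011f700e6f011ef011f00106d011f2011f3011ec000bd011ee00e00011ad011b6010ba004e1003570056700ffb0007d011e000b01011e200cd900ccb011dc011dd00e030062e011c500e41011d6011d700d02011c60025d011d1011d200914008ad011ca01173002da00e40011ce011c700ac0011c9011d4011d9011c10107f00a99011c400987)) (.leaf 0x658009ee0070400eb700e9e00f0a008dc002c6009f500d8f009f700b3e009ef002d100a940031f009f3009fe00a390102700b2800073009e400d1c00768009e0009e3009e9009e500496001a7009e6009de009df00f8b00cc700029006f100bab0032700aaa00d8e0074a009cb005420015f003620060f00c1e006db0036400682009d40095800c95009bf0065b0061000cfe00efd009c000943008e1009c3))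 (.node (.leaf 0xf6f0005d00c750016000313003d20051b007e6005f400e3400a95005f700df8010bb005d60100e00686005ec002be005ee005eb0072100a8101169005e000c6600635001bd011bc00e3201114005e700ca9005d700c5a00fa8005db009840091100986005de005f10034e00ed400589005ce0023e00f6700cfc005d2005c90020b005990031e005cd005c7005c8010e0003ef0029c00a1f005bb005be00304) (.leaf 0xdbf00dfa00dfc00dfd0052100dfe00da7005f300e98001800085100ffd00fcb00de70073900b9300de80007500ded00ceb00cc90089e0025600def00df200bc3000a70117700ddc005b600e300106c00dde00ddf00ddd00de300aa200dd8003dd00dda0017f00c4000f4500b1a00dd0000b800da000dd300dce00dcf0015700be200dc90111900dcb007af00fde006b700da800e3c00dc000ce60030a00dc3))) (.node (.node (.leaf 0x706003fb0075a00321003fe00f9d00fd9003f20074f01180000e00036b00fd7003f80114b01078005c5003e700a83003ec00ebb003e9003ea009bb003ee004020103b00a7c01091006e9003de00d5900818003e100dd90075e00b230062c0031400052002930032a008e80015200e2a005fa00f9a0039200a48003ca00a3000b030029a003ce0006e00d580083d00294003b800018003c000a3600e0e003c3)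 (.leaf 0x6f0007590048800ba30020700c0000c03000f500c5900d2c0016200be0008c60025a00bee0099e0022d00bf100beb0086000bed0031500be1003a2004c10024800bcc010da00f3000dcc00be900bf400c1600c5600cf3000ed00bd700fe700bd800bd900bdb00d7e00bd400bd5004bb00b0b007c900bc700bcb002f5007b300be500bcf00bc80049c00bca00bd000b8f00eab010f000de60076a00046008e6)) (.node (.leaf 0x7f20102a011410001d007f900c74007fb0023b0002100a00007f3004a6007f5007ff007e8008520057b0057c007ec007ed0004100cc200d21007f100801005f8011b50109b0080c007e1007e2007df007e00050f00bb2007d20117600d32004a00052200c7d0028a00cb00102f00548007dc0079000b87007cc0101100924007cf007bd0079800bd10044a00fa600f660106f003b5002f40051700ce0004a8) (.leaf 0x100f00b5900df4011af011e40020c00fce00ff700ff8000b900fed0002f0051c00479008a900fee0102200ff000ff500cf20117800fe40034600ec900bda0108e0092600fea0001f00b2200719007b600fdd00dc700fdf001fa00fcf00fd6003f900e0a003f300fda00adc0076900fd00057900d5f00fd300fdb00ff9010380110200df3001c00051800fb600fc300d1600fc500c8f00fc700fc100fc200fb7)))))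

/-- The table. -/
def tab : Tab where
  size := 4600
  gens := 6
  cols := [(.node (.node st32 st33) (.node st34 st35)), (.node (.node st36 st37) (.node st38 st39)), (.node (.node st40 st41) (.node st42 st43)), (.node (.node st44 st45) (.node st46 st47)), (.node (.node st48 st49) (.node st50 st51)), (.node (.node st52 st53) (.node st54 st55))]

/-- A subtree. -/
def wt0 : WTree :=
  (.node (.node (.node (.node (.node (.node (.node (.node (.node (.word []) (.word [0,3,0,3])) (.word [0,1,5,3,5,0,3])) (.node (.word [1,2,3,4,2,0,5,3,0]) (.word [5,0,3,0,2,1]))) (.node (.node (.word [2,0,4,5,3,0,4,0]) (.word [0,2,5,0,3,4,0])) (.node (.word [4,2,1,5,2,0]) (.word [3,5,3,0,2])))) (.node (.node (.node (.node (.word [2,4,0,4,2,0,3]) (.word [3,5,0,5,4,3])) (.word [0,1,2,0,2,5,4,5,2,0,1])) (.node (.word [2,5,4,2,3,2,0]) (.word [0,3,0,4,2,4,2]))) (.node (.node (.word [1,4,5,2,4,0]) (.word [0,5,3,0,3,5,0])) (.node (.word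 [3,4,5,0,3,5,1,4,0,5,3,0]) (.word [2,3,5,0,3,2]))))) (.node (.node (.node (.node (.node (.word [5,1,2,0,1]) (.word [2,4,3,5,0,3])) (.word [3,2,3,4,5,3,0])) (.node (.word [2,4,0,1,2,0,3]) (.word [0,5,2,0,3,1]))) (.node (.node (.word [0,1,3,4,0,1]) (.word [5,4,0,5,4,0])) (.node (.word [0,1,3,0,4,5,2]) (.word [4,1,5,0,2])))) (.node (.node (.node (.node (.word [1,4,1,4,2,0,2]) (.word [0,5,0,2,4,5])) (.word [4,5,0,4,5,2,5,0])) (.node (.word [3,4,0,4,2,0]) (.word [3,2,4,2,0,2]))) (.node (.node (.word [0,2,5,0,1,2,0]) (.word [5,2,0,2,3,5,0])) (.node (.word [1,5,1,3,0]) (.word [3,2,4,0,5,2])))))) (.node (.node (.node (.node (.node (.node (.word [1,4,3,0,2,0,1]) (.word [2,0,5,0,3])) (.word [3,0,4,0,5,0,2])) (.node (.word [3,4,5,0,3,0]) (.word [1,3,0,1,2,3,2]))) (.node (.node (.word [1,2,0,2,4,5,0]) (.word [1,5,3,4,0])) (.node (.word [5,2,0,4,5,2,0]) (.word [3,5,3,4,0,2])))) (.node (.node (.node (.node (.word [0,1,3,5,0,3,1])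 (.word [3,0,2,5,3])) (.word [0,5,1,4,0])) (.node (.word [4,1,5,3,2,0]) (.word [0,5,0,1,2,0,2]))) (.node (.node (.word [0,5,0,3,0,3,0]) (.word [2,3,0,2,4,5,0])) (.node (.word [2,0,5,2,1,3,0]) (.word [1,2,4,0,4,3,5]))))) (.node (.node (.node (.node (.node (.word [5,2,0,4,2,0,1]) (.word [5,0,3,0,5,2,3])) (.word [0,2,3,0,4,0,2])) (.node (.word [3,0,1,3,2,0]) (.word [2,5,0,3,1]))) (.node (.node (.word [0,4,0,5,4,0,1]) (.word [3,2,4,5,4,0])) (.node (.word [5,2,0,5,0,5,3,2,5,0,5,2,0]) (.word [0,1,2,0,3])))) (.node (.node (.node (.node (.word [0,4,5,2,0,3,5]) (.word [3,2,5,0,4,5])) (.word [0,3,4,2,4,0])) (.node (.word [0,3,4,2,0,2,1]) (.word [4,0,3,0,2]))) (.node (.node (.word [4,3,2,0,2,0]) (.word [0,5,3,4,5,0])) (.node (.word [0,2,1,4,2,3,0]) (.word [5,0,4,5,2]))))))) (.node (.node (.node (.node (.node (.node (.node (.word [3,4,3,0,5,0,3]) (.word [5,1,4,0,3])) (.word [0,4,0,1,5,3,0])) (.node (.word [5,0,5,0,2,0])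 (.word [0,2,5,0,2,1]))) (.node (.node (.word [1,2,0,4,5,3,0]) (.word [1,2,3,4,0])) (.node (.word [4,5,0,2,5,2,0]) (.word [4,5,0,4,0,2])))) (.node (.node (.node (.node (.word [0,1,5,0,3,0,1]) (.word [0,3,0,3,0,5,3])) (.word [3,4,1,2,1,4,0])) (.node (.word [0,5,4,3,2,0]) (.word [0,4,5,1]))) (.node (.node (.word [2,0,5,2,3]) (.word [3,5,4,5,4,5,0])) (.node (.word [2,5,4,2,0,3,5]) (.word [2,0,5,3,2]))))) (.node (.node (.node (.node (.node (.word [0,1,5,2,0,3,1]) (.word [3,2,3])) (.word [5,0,1,4,0])) (.node (.word [1,5,4,5,4,5,0]) (.word [3,1,4,0,3,1]))) (.node (.node (.word [1,3,2,1,5,4,1,3,0]) (.word [2,0,3,5,4,0])) (.node (.word [0,4,2,0,3,0]) (.word [2,3,5,0,2])))) (.node (.node (.node (.node (.word [1,2,5,3,0,4,0]) (.word [0,3,0,5,3,5])) (.word [0,4,2,3,2,4,0])) (.node (.word [1,5,1,4,2,0]) (.word [3,2,0,4,5]))) (.node (.node (.word [0,2,4,5,2,0]) (.word [5,3,0,4,5,0])) (.node (.word [1,2,3,0]) (.word [3,1,5,0,5,2]))))))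 (.node (.node (.node (.node (.node (.node (.word [2,5,4,0,2,0,1]) (.word [4,2,1,5,0,3])) (.word [1,4,0,2,5,0,3])) (.node (.word [1,2,4,5,0,2,0]) (.word [1,5,0,5,3,5]))) (.node (.node (.word [0,3,2,3,1,2,0]) (.word [3,2,0,5,4,0])) (.node (.word [0,1,3,0]) (.word [3,4,0,5,0,5,3])))) (.node (.node (.node (.node (.word [2,3,0,2,4,0,2,3,4,2,4,0]) (.word [1,5,2,0,3,5])) (.word [0,5,2,0,2,4,0])) (.node (.word [4,3,0,1,4,2,0]) (.word [1,3,0,5,4,0,2]))) (.node (.node (.word [1,5,2,0,1,2,0]) (.word [3,2,3,0,3,5,0])) (.node (.word [3,1,4,1,3,0]) (.word [2,0,3,0,5,2]))))) (.node (.node (.node (.node (.node (.word [0,1,5,4,2,0,1]) (.word [3,0,4,3])) (.word [4,5,3,0,4,0])) (.node (.word [4,3,5,0,3,2,0]) (.word [2,0,5,3,1]))) (.node (.node (.word [2,4,2,5,4,3,0,4,5,3,2]) (.word [2,0,2,5,3,5])) (.node (.word [1,4,3,0,3,0]) (.word [0,2,1,4,0,3,2])))) (.node (.node (.node (.node (.word [3,2,4,5,0,1,3,5,0]) (.word [2,0,3,4,5]))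 (.word [3,5,2,4,0])) (.node (.word [3,0,5,2,0]) (.word [1,2,3,0,2]))) (.node (.node (.word [2,3,5,2,0,2,0]) (.word [2,0,2,1])) (.node (.word [5,0,3,5,2,3,0]) (.word [0,2,5,2,0,3])))))))) (.node (.node (.node (.node (.node (.node (.node (.node (.word [1,5,0,1,2,0,1]) (.word [3,5,3,0,3])) (.word [3,4,5,0,2,1])) (.node (.word [2,0,1,5,0,2,0]) (.word [3,0,3,0,5,3,5]))) (.node (.node (.word [0,1,5,4,5,4,0]) (.word [1,4,5,3,4,5,0])) (.node (.word [4,2,4,1,5,2,0]) (.word [4,5,3,0,5,3])))) (.node (.node (.node (.node (.word [3,2,5,2,0,1]) (.word [1,2,0,5,3])) (.word [0,1,2,1,4,0])) (.node (.word [5,0,4,3,2,0]) (.word [0,4,5,0,1,3,5]))) (.node (.node (.word [0,3,5,2,0,2,0]) (.word [2,0,2,5,0])) (.node (.word [4,2,3,5,0,3,0]) (.word [5,4,0,2,3,2]))))) (.node (.node (.node (.node (.node (.word [0,1,2,4,0,2,3]) (.word [5,4,5,0,3])) (.word [1,2,0,1,4,0])) (.node (.word [1,4,1,2,0]) (.word [5,1,3,0,3,1]))) (.node (.node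 (.word [0,2,1,3,4,0,1]) (.word [1,5,4,0])) (.node (.word [3,5,1,2,0,3,0]) (.word [2,3,2,5,0,2])))) (.node (.node (.node (.node (.word [1,2,5,3,5,2,0]) (.word [3,0,4,3,5])) (.word [3,2,5,3,5,4,0])) (.node (.word [1,4,2,0]) (.word [4,5,4,2,0,2]))) (.node (.node (.word [0,1,3,2,0,3,2,5,0,5,4,0]) (.word [0,4,5,0])) (.node (.word [2,3,0]) (.word [2,5,4,0,5,2])))))) (.node (.node (.node (.node (.node (.node (.word [2,1,4,0,2,0,1]) (.word [1,5,0,5,0,3])) (.word [0,3,4,0,5,3,0])) (.node (.word [3,5,0,3,0,3]) (.word [2,3,0,2,4,2,1]))) (.node (.node (.word [0,2,3,2,0]) (.word [4,5,3,4,0])) (.node (.word [2,5,1,4,5,2,0]) (.word [3,4,5,4,0,2])))) (.node (.node (.node (.node (.word [2,0,5,1,3,0,1,0,1,5,2,0,3,1]) (.word [0,3,5])) (.word [3,2,0,4,0,5,2])) (.node (.word [0,1,4,5,0,3,1]) (.word [1,4,0,2,0,2]))) (.node (.node (.word [0,1,2,0]) (.word [0,1,3,5,0])) (.node (.word [0,4,2,0,1,4,0]) (.word [5,2]))))) (.node (.node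 (.node (.node (.node (.word [0,1,2,4,2,0,1]) (.word [0,2,0,2,0,4,3])) (.word [4,5,2,0,4,0])) (.node (.word [2,5,4,0,1,3,5]) (.word [3,5,4,5,2]))) (.node (.node (.word [0,2,0,3,5,4,0]) (.word [0,1,5,0])) (.node (.word [0,5,2,4,0,5,2]) (.word [0,3,4,0,4,5,2])))) (.node (.node (.node (.node (.word [0,1,2,5,0]) (.word [0,4,0,2,4,5])) (.word [1,4,0,5,2,4,0])) (.node (.word [3,2,4,5,4,2,0]) (.word [1,3,0,2]))) (.node (.node (.word [5,2,0,2,0]) (.word [5,0,5,4,5,0])) (.node (.word [2,1,4,2,4,0]) (.word [2,0,2,0,3]))))))) (.node (.node (.node (.node (.node (.node (.node (.word [1,4,3,2,0,2,0]) (.word [1,3,5,4,0,3])) (.word [1,4,2,0,5,3,0])) (.node (.word [1,5,0,2,0,3]) (.word [3,1,2,0,3,1]))) (.node (.node (.word [2,0,3,0,4,0,1]) (.word [3,0,4,2,3,4,0])) (.node (.word [1,2,4,2,3,0]) (.word [1,2,4,0,2])))) (.node (.node (.node (.node (.word [0,1,3,0,1]) (.word [0,5,0,5,3])) (.word [0,4,1,3,0,2,0,1,5,0,2,3,2])) (.node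 (.word [3,0,5,3,2,0]) (.word [1,2,4,5]))) (.node (.node (.word [1,2,5,3,5,0,1]) (.word [0,3,4,0,2])) (.node (.word [0,2,3,2,1,3,0]) (.word [0,5,0,5,3,2]))))) (.node (.node (.node (.node (.node (.word [1,4,3,2,0,1]) (.word [0,4,2,3])) (.word [4,0,4,2,0,3])) (.node (.word [1,5,3,5,2,0]) (.word [3,5,4,0,3,1]))) (.node (.node (.word [0,3,5,3,4,0,1]) (.word [0,5,0,3,0,2,1])) (.node (.word [5,0,5,2,0,3,0]) (.word [0,2,0,2,0,3,4,2,1,2,0,2,0])))) (.node (.node (.node (.node (.word [3,2,3,0,1]) (.word [0,3,0,4,5])) (.word [0,4,2,4,0])) (.node (.word [0,3,0,5,2,0]) (.word [4,5,0,1,3,0,2]))) (.node (.node (.word [3,0,3,0,4,5,1]) (.word [0,4,0,2,4,5,0])) (.node (.word [2,3,4,0,3,5,0]) (.word [0,1,5,0,3,5,2])))))) (.node (.node (.node (.node (.node (.node (.word [2,0,2,0,3,5,2]) (.word [3,5,0,3])) (.word [4,5,3,0])) (.node (.word [5,0,3,1,2,0]) (.word [3,1]))) (.node (.node (.word [1,3,4,2,4,0,1]) (.word [2,3,0,5,4,0]))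 (.node (.word [3,4,0,1,3,0]) (.word [0,2,0,5,0,5,3])))) (.node (.node (.node (.node (.word [4,2,5,0,3,0,1]) (.word [0,3,4,0,3,5])) (.word [0,5,0,2,4,0])) (.node (.word [0,3,4,0,5,3]) (.word [2,3,2,0,2]))) (.node (.node (.word [4,3,0,1,2,0]) (.word [5,0,3,5,0])) (.node (.word [5,4,1,3,0]) (.word [5,4,3,0,5,2]))))) (.node (.node (.node (.node (.node (.word [4,5,3,2,3,5,3,0,2,3,0,1]) (.word [4,2,4,0,4,3])) (.word [2,5,0,4,0])) (.node (.word [0,2,3,2,3,0]) (.word [2,0,2,5,3,1]))) (.node (.node (.word [1,5,1,5,0]) (.word [4,0,2,1,5,0])) (.node (.word [4,5,3,0,3,0]) (.word [2,0,5,4,0,3,2])))) (.node (.node (.node (.node (.word [0,2,0,5,3,0,1]) (.word [4,0,5,4,5])) (.word [2,0,1,3,4,0])) (.node (.word [3,4,0,5,2,0]) (.word [4,5,0,4,3,0,2]))) (.node (.node (.word [1,5,0,4,0,2,0]) (.word [0,5,3,2,5,0,2])) (.node (.word [2,1,5,2,4,0,4,2,0]) (.word [5,2,4,2,0,3])))))))))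

/-- A subtree. -/
def wt1 : WTree :=
  (.node (.node (.node (.node (.node (.node (.node (.node (.node (.word [3,2,0,1,2,0,1]) (.word [0,1,5,0,3,0,3])) (.word [0,3,5,0,4,3,0])) (.node (.word [3,2,4,2,0,5,0,5,3,1]) (.word [0,1,5,0,2,3,2]))) (.node (.node (.word [1,5,3,0,1]) (.word [1,2,1,3,4,0])) (.node (.word [0,4,1,5,2,0]) (.word [0,4,5,3,0,2])))) (.node (.node (.node (.node (.word [1,5,1,4,5,2,0]) (.word [0,2,0,2,0,5,3])) (.word [0,5,0,3,5,0,2])) (.node (.word [3,1,3,4,0,3,2,0,2,1]) (.word [2,4,0,1,3,5]))) (.node (.node (.word [0,3,5,0,1]) (.word [2,3,4,0,5,3])) (.node (.word [0,3,5,0,3,0]) (.word [1,2,3,0,2,4,5]))))) (.node (.node (.node (.node (.node (.word [0,4,5,1,2,0,1]) (.word [1,4,5,0,3])) (.word [3,5,4,5,3,5,0,2,4,0])) (.node (.word [5,0,2,0,2,1,3,1,4,2,0,5,2]) (.word [3,0,1,2,0,5,3]))) (.node (.node (.word [0,1,2,4,1,2,0]) (.word [2,5,0,5,4,0])) (.node (.word [4,1,2,0,3,0]) (.word [0,1,2,5,0,2]))))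 (.node (.node (.node (.node (.word [1,4,1,2,0,4,2,4,0]) (.word [4,5,0,3,5])) (.word [2,0,1,3,2,4,0])) (.node (.word [0,5,0,4,2,0]) (.word [0,3,4,2,0,2]))) (.node (.node (.word [1,3,5,3,5,3,1,4,3,0,2,0,1]) (.word [4,2,3,5,0])) (.node (.word [4,5,1,3,0]) (.word [0,3,4,0,5,2])))))) (.node (.node (.node (.node (.node (.node (.word [5,3,1,2,4,0,1,2,5,2,0]) (.word [1,4,3,0,5,0,3])) (.word [0,4,0,5,3,0])) (.node (.word [2,1,3,5,0,2,0]) (.word [0,1,2,4,0,3,2]))) (.node (.node (.word [0,3,0,2,4,0,1]) (.word [0,2,5,0,5,3,5])) (.node (.word [1,4,5,2,0]) (.word [0,1,2,0,4,2,3])))) (.node (.node (.node (.node (.word [5,2,0,3,0,1]) (.word [5,0,2,5,3])) (.word [1,4,0,5,1,4,0])) (.node (.word [0,4,5,0,4,0]) (.word [0,1,3,0,2,0,2]))) (.node (.node (.word [1,2,0,5,2,0,3]) (.word [3,5,2,5,0])) (.node (.word [0,3,1,3,4,0]) (.word [2,1,5,0,3,5]))))) (.node (.node (.node (.node (.node (.word [1,5,4,3,2,0,5,3,5,2,4,0]) (.word [3,0,2,5,2,3]))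 (.word [3,4,2,0,4,0])) (.node (.word [0,3,0,3,2,0]) (.word [0,4,5,0,3,1]))) (.node (.node (.word [2,5,3,2,0,3]) (.word [5,3,4,5,4,0])) (.node (.word [2,0,3,0,3,0]) (.word [5,1,2,0,3])))) (.node (.node (.node (.node (.word [2,0,5,4,0,3]) (.word [4,2,0,2,4,5])) (.word [5,3,4,2,4,0])) (.node (.word [5,4,1,5,4,2,0]) (.word [1,5,0,3,0,2]))) (.node (.node (.word [2,1,5,0,4,2,0]) (.word [3,0,5,4,5,0])) (.node (.word [0,3,4,2,3,0]) (.word [5,4,5,2]))))))) (.node (.node (.node (.node (.node (.node (.node (.word [3,0,3,0,5,4,0,1,3,0,3]) (.word [3,1,2,4,0,3])) (.word [1,2,0,5,3,0])) (.node (.word [0,2,1,5,0,2,0]) (.word [1,5,4,3,5,0,2]))) (.node (.node (.word [0,1,2,0,5,3,0]) (.word [0,5,3,0,2,4,5])) (.node (.word [5,3,2,5,2,0]) (.word [5,2,0,2,4,0,2])))) (.node (.node (.node (.node (.word [1,4,2,0,2,4,5]) (.word [0,5,3,0,5,3])) (.word [2,3,2,1,4,0])) (.node (.word [4,1,5,1,0,5,0,3,5,4,2,4,0,4,5,0,3]) (.word [2,0,3,0,4,5,1])))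 (.node (.node (.word [5,2,0,5,2,3]) (.word [1,4,0,2,5,0])) (.node (.word [0,4,0,2,1,3,0]) (.word [1,3,0,5,3,2]))))) (.node (.node (.node (.node (.node (.word [0,4,5,0,3,0,2]) (.word [3,0,5,0,3,2,3])) (.word [2,0,2,0,4,0])) (.node (.word [0,4,1,5,2,4,0]) (.word [0,3,4,0,3,1]))) (.node (.node (.word [4,0,5,3,4,0,1]) (.word [0,2,1,5,0,2])) (.node (.word [5,4,2,0,3,0]) (.word [0,4,5,0,2])))) (.node (.node (.node (.node (.word [3,0,2,3,0,1]) (.word [4,5,0,5,3,5])) (.word [2,4,3,2,4,0])) (.node (.word [3,2,4,2,0]) (.word [0,3,0,2]))) (.node (.node (.word [3,4,0,5,4,0,1,4,5,0,4,3,4,0,1,5,4,5]) (.word [2,5,0,4,5,0])) (.node (.word [3,5,1,2,3,0]) (.word [3,0,2,0,3,5,2])))))) (.node (.node (.node (.node (.node (.node (.word [2,5,0,2,0,1]) (.word [4,5,1,5,0,3])) (.word [2,5,3,0])) (.node (.word [5,1,4,0,4,3]) (.word [0,4,0,5,3]))) (.node (.node (.word [2,0,4,5,2,4,0]) (.word [3,4,2,0,5,4,0])) (.node (.word [4,5,3,0,1,3,0])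 (.word [0,4,0,5,0,2])))) (.node (.node (.node (.node (.word [1,2,0,2,1,5,0]) (.word [5,0,4,0,3,5])) (.word [5,3,0,2,4,0])) (.node (.word [2,0,4,2,0]) (.word [1,4,1,2,0,2]))) (.node (.node (.word [0,3,0,1,2,0]) (.word [1,4,0,3,5,0])) (.node (.word [0,4,0,5,0,5,0]) (.word [2,3,0,5,2]))))) (.node (.node (.node (.node (.node (.word [3,2,0,5,3,5,1,5,0,5,0,5,3]) (.word [1,3,0,4,3])) (.word [0,1,2,4,0,5,3,0,4,5])) (.node (.word [2,5,1,4,0,3]) (.word [5,0,5,3,1]))) (.node (.node (.word [1,5,2,0,1,4,2,4,5,2,0,2,0]) (.word [0,1,5,3,2,3])) (.node (.word [1,2,5,3,0,3,0]) (.word [5,2,4,0,3,2])))) (.node (.node (.node (.node (.word [0,4,0,2,5,3,1]) (.word [2,3,4,5])) (.word [3,5,3,5,2,4,0])) (.node (.word [2,4,5,4,5,0,2]) (.word [0,4,3,0,2]))) (.node (.node (.word [1,3,1,5,0,3]) (.word [3,4,0,2,0,2,1])) (.node (.word [2,0,4,3,0]) (.word [1,4,3,2,0,3])))))))) (.node (.node (.node (.node (.node (.node (.node (.node (.word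 [0,1,2,3,0,1,4,1,4,5,4,0]) (.word [0,1,4,0,3])) (.word [0,1,4,2,4,5,0])) (.node (.word [1,2,0,2,0,4,5]) (.word [2,0,5,0,2,1]))) (.node (.node (.word [0,2,0,4,0,1]) (.word [2,0,2,3,4,0])) (.node (.word [4,0,2,5,2,0]) (.word [3,0,4,0,2])))) (.node (.node (.node (.node (.word [4,3,5,2,0,1]) (.word [0,2,4,0,5,3])) (.word [1,3,4,0,4,3,5])) (.node (.word [3,2,4,3,2,0]) (.word [4,0,4,1,3,5]))) (.node (.node (.word [5,0,3,5,0,1]) (.word [5,4,2,0,2,5,0])) (.node (.word [0,5,4,2,0,4,5]) (.word [0,2,5,3,2]))))) (.node (.node (.node (.node (.node (.word [1,4,2,3,2,3,0]) (.word [0,2,0,4,0,2,3])) (.word [2,4,2,0,1,4,0])) (.node (.word [5,4,1,2,0]) (.word [4,0,3,1]))) (.node (.node (.word [3,2,4,2,4,0,2]) (.word [0,1,3,1,2,5,0,5,0,2,0])) (.node (.word [4,3,0,3,4,0,1,5,3,2,0]) (.word [1,3,0,3,5,0,2])))) (.node (.node (.node (.node (.word [5,0,5,0,5,3,0,2,5,0]) (.word [0,5,0,4,3,5])) (.word [0,1,2,3,2,4,0])) (.node (.word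 [1,5,4,1,3,0]) (.word [1,3,0,2,0,4,5]))) (.node (.node (.word [3,0,4,5,1,2,0]) (.word [0,4,2,0,4,5,0])) (.node (.word [3,4,0,2,3,0]) (.word [0,2,0,5,0,5,2])))))) (.node (.node (.node (.node (.node (.node (.word [0,4,1,5,2,0,1]) (.word [4,5,0,5,0,3])) (.word [2,5,0,5,3,0])) (.node (.word [4,5,0,2,0]) (.word [3,0,5,2,1]))) (.node (.node (.word [3,2,5,2,3,2,0,1,3,1,5,0]) (.word [3,4,0,1,5,4,0])) (.node (.word [1,5,4,5,2,0]) (.word [4,0,1,5,0,2])))) (.node (.node (.node (.node (.word [4,2,3,0,3,0,1]) (.word [5,0,2,0,3,5])) (.word [2,4,0])) (.node (.word [2,0,1,4,2,0]) (.word [3,4,0,2,0,2]))) (.node (.node (.word [4,2,0,1,2,0]) (.word [4,0,5,3,0,2])) (.node (.word [4,0,5,0,3,0,3]) (.word [1,4,2,0,5,2]))))) (.node (.node (.node (.node (.node (.word [0,3,2,4,2,0,1]) (.word [4,2,0,4,3])) (.word [4,2,3,0,4,0])) (.node (.word [5,4,0,3,2,0]) (.word [1,5,4,3]))) (.node (.node (.word [1,4,5,4,0,1]) (.word [4,0,1,5,4,5]))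 (.node (.word [1,3,2,3,0,3,0]) (.word [0,4,2,3,0,3])))) (.node (.node (.node (.node (.word [3,0,1,2,5,0]) (.word [4,5,0,2,4,5])) (.word [4,1,5,2,4,0])) (.node (.word [3,0,1,5,2,0]) (.word [4,5,1,3,0,2]))) (.node (.node (.word [0,2,0,4,1,3,0]) (.word [0,4,5,4,5,0])) (.node (.word [1,4,0,5,2,3,0]) (.word [0,1,3,0,2,0,3]))))))) (.node (.node (.node (.node (.node (.node (.node (.word [1,2,0,5,0,4,0]) (.word [5,0,3])) (.word [0,3,0,5,3,0])) (.node (.word [4,5,1,5,0,2,0]) (.word [4,0,3,2,1]))) (.node (.node (.word [5,0,4,0,1]) (.word [3,5,2,3,4,0])) (.node (.word [5,3,5,2,0]) (.word [0,2,3,4,0,2])))) (.node (.node (.node (.node (.word [0,5,0,1,3,0,1]) (.word [1,5,0,5,0,5,3])) (.word [0,3,1,4,0])) (.node (.word [1,2,0,5,2,3,2,0,2,3,2,3]) (.word [0,2]))) (.node (.node (.word [0,1,4,5,0,1]) (.word [2,3,2,5,0])) (.node (.word [4,1,3,2,0,4,0]) (.word [3,0,2,4,2]))))) (.node (.node (.node (.node (.node (.word [2,1,3,4,2,0,3])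 (.word [2,0,5,0,4,2,3])) (.word [4,0,3,2,0,4,0])) (.node (.word [3,2,0]) (.word [3,0,5,0,3,1]))) (.node (.node (.word [0,2,0,5,0,4,0]) (.word [4,0,4,5,4,0])) (.node (.word [3,5,2,0,3,0]) (.word [3,2,4,5,0,2])))) (.node (.node (.node (.node (.word [5,0,3,2,3,0,1]) (.word [2,4,0,4,5])) (.word [2,3,0,4,2,4,0])) (.node (.word [1,4,2,3,5,0]) (.word [3,0,3,0,2]))) (.node (.node (.word [3,2,0,2,0]) (.word [2,4,2,4,5,0])) (.node (.word [0,4,3,2,3,0]) (.word [2,0,4,5,2])))))) (.node (.node (.node (.node (.node (.node (.word [0,2,5,2,3,0]) (.word [2,1,3,5,0,3])) (.word [1,5,0,4,5,3,0])) (.node (.word [1,3,2,0,1,3,5]) (.word [1,4,0,2,0,3,1]))) (.node (.node (.word [4,0,5,0,2,5,3]) (.word [4,5,3,0,5,4,0])) (.node (.word [0,5,0,1,3,0]) (.word [3,2,0,5,0,5,3])))) (.node (.node (.node (.node (.word [1,3,0,1]) (.word [4,5,4,0,3,5])) (.word [2,1,2,4,0])) (.node (.word [0,5,0,3,4,0]) (.word [1,4,2,0,2]))) (.node (.node (.word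 [0,5,3,0,1,2,0]) (.word [0,4,1,5,0,2])) (.node (.word [1,2,5,0,3,0,2]) (.word [1,2,1,4,0,5,2]))))) (.node (.node (.node (.node (.node (.word [5,1,4,0,3,5,0,1,5,4,3]) (.word [4,5,0,4,3])) (.word [0,3,5,0,4,0])) (.node (.word [0,4,2,3,2,0]) (.word [0,1,2,0,1,3,5]))) (.node (.node (.word [5,4,2,4,3,5,1,4,2,3,1,0,5,0,5,3]) (.word [1,4,2,1,5,0])) (.node (.word [0,1,4,3,5,0,3]) (.word [3,0,5,0,3,2])))) (.node (.node (.node (.word [1,3,0,5,3,0,1]) (.word [3,0,3,4,0])) (.node (.word [1,5,2,0]) (.word [2,3,5,4,3,0,2]))) (.node (.node (.word [5,1,4,0,2,0]) (.word [2,5,2,0,2,1])) (.node (.word [1,3,0,4,3,0]) (.word [5,4,5,4,2,0,3])))))))))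

/-- A subtree. -/
def wt2 : WTree :=
  (.node (.node (.node (.node (.node (.node (.node (.node (.node (.word [0,2,0,1]) (.word [0,1,2,0,3,5])) (.word [1,5,0,4,3,0])) (.node (.word [1,5,4,0,2,0]) (.word [0,5,3,0,2,1]))) (.node (.node (.word [1,4,0,2,5,0,3,4,0,4,3,0,2]) (.word [0,2,1,3,4,0])) (.node (.word [2,0,3,1,5,2,0]) (.word [2,1,3,5,3,0,2])))) (.node (.node (.node (.node (.word [4,3,1,5,2,0,1]) (.word [2,0,5,3])) (.word [2,5,3,5,0,4,0])) (.node (.word [2,5,2,3,2,0]) (.word [0,2,3,0,1,3,5]))) (.node (.node (.word [0,1,2,1,5,2,0]) (.word [5,0,3,1,5,0])) (.node (.word [1,2,3,0,5,3,0]) (.word [2,3,2]))))) (.node (.node (.node (.node (.node (.word [1,3,2,5,2,0,1]) (.word [0,2,5,3,5,0,3])) (.word [2,5,4,5,3,0])) (.node (.word [0,1,4,1,2,0]) (.word [2,0,3,0,3,1]))) (.node (.node (.word [1,5,4,0,3,5,2]) (.word [5,0,5,4,0])) (.node (.word [2,0,3,0]) (.word [5,4,1,5,0,2])))) (.node (.node (.node (.node (.word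 [4,1,3,0,1]) (.word [0,1,4,5,0,3,5])) (.word [0,4,2,0,5,3])) (.node (.word [1,5,4,0,4,2,0]) (.word [4,2,4,2,0,2]))) (.node (.node (.word [0,3,0,5,0,5,1,3,0,1]) (.word [0,5,0,2,3,5,0])) (.node (.word [0,2,5,1,3,0]) (.word [5,2,4,0,5,2])))))) (.node (.node (.node (.node (.node (.node (.word [0,5,3,0,2,0,1]) (.word [4,2,0,5,0,3])) (.word [0,1,5,0,1,3,5])) (.node (.word [3,4,0,5,1,3,0]) (.word [0,1,5,3,2]))) (.node (.node (.word [0,3,0,5,3,2,0]) (.word [1,3,5,3,4,0])) (.node (.word [0,1,5,4,2,0,2]) (.word [5,4,0,2])))) (.node (.node (.node (.node (.word [4,0,5,4,5,2,0]) (.word [0,2,5,0,4,3,5])) (.word [2,0,5,1,4,0])) (.node (.word [2,5,3,2,0]) (.word [0,2,3,2,0,2]))) (.node (.node (.word [3,5,2,1,3,4,3,2,5,1,2,0,3,0,3,0]) (.word [2,3,4,5,2,5,0])) (.node (.word [3,1,2,0,4,5]) (.word [4,2,4,2]))))) (.node (.node (.node (.node (.node (.word [1,4,2,0,1]) (.word [2,5,0,5,2,3])) (.word [2,0,3,0,4,2,3])) (.node (.word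 [4,3,0,1,3,2,0]) (.word [3,0,3,5,0,3,1]))) (.node (.node (.word [3,5,0,5,4,0,1]) (.word [0,1,2,4,0,5,2])) (.node (.word [2,3,0,2,4,0,2]) (.word [0,1,5,0,2,5,3])))) (.node (.node (.node (.node (.word [4,3,2,0,4,3,2,3,0,1,2,5,0]) (.word [5,4,5,0,4,5])) (.word [1,3,4,2,4,0])) (.node (.word [2,0,4,0,2,0,2]) (.word [3,5,4,0,3,0,2]))) (.node (.node (.word [5,3,2,3,0,5,0,4,3,2,0]) (.word [2,5,3,4,5,0])) (.node (.word [3,0,2,4,2,3,0]) (.word [0,2,4,5,2]))))))) (.node (.node (.node (.node (.node (.node (.node (.word [0,5,2,0,2,0,1]) (.word [0,2,4,0,3])) (.word [1,5,0,1,5,3,0])) (.node (.word [0,4,0,4,5,4,0]) (.word [1,4,2,3,5,0,2]))) (.node (.node (.word [2,3,2,0,4,0,1]) (.word [0,2,3,0,4,0,3])) (.node (.word [0,2,3,2,5,2,0]) (.word [3,0,1,2,4,0,2])))) (.node (.node (.node (.node (.word [3,4,2,5,3,4,5,0,4,3,0]) (.word [3,1,3,0,5,3])) (.word [0,3,2,1,4,0])) (.node (.word [1,4,0,4,2,0,2]) (.word [0,3,2,0,4,5,1]))) (.node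 (.node (.word [4,2,4,0,2,0,4,1,2,0]) (.word [4,3,0,2,5,0])) (.node (.word [0,1,5,3,2,0,3]) (.word [4,0,2,0,5,3,2]))))) (.node (.node (.node (.node (.node (.word [2,3,2,0,1]) (.word [1,5,0,3,2,3])) (.word [5,3,5,0,1,4,0])) (.node (.word [0,1,2,5,2,0]) (.word [2,3,4,0,3,1]))) (.node (.node (.word [0,1,5,3,4,0,1]) (.word [5,1,3,5,4,0])) (.node (.word [0,3,4,2,0,3,0]) (.word [3,4,3,5,0,2])))) (.node (.node (.node (.node (.word [0,1,2,3,0,1]) (.word [1,4,0,5,3,5])) (.word [0,4,3,0,4,0,3])) (.node (.word [0,2,0,2,4,2,0]) (.word [4,2,0,4,5]))) (.node (.node (.word [2,1,2,0,2,0]) (.word [0,4,0,4,3,0,2])) (.node (.word [2,4,1,2,3,0]) (.word [3,5,2])))))) (.node (.node (.node (.node (.node (.node (.word [0,5,0,2,0,1]) (.word [2,3,1,5,0,3])) (.word [0,2,3,5,3,4,0])) (.node (.word [1,2,0]) (.word [3,0,3,5,2,1]))) (.node (.node (.word [4,2,4,0,1]) (.word [4,2,0,5,4,0])) (.node (.word [0,4,2,0,3,5]) (.word [5,3,0,5,0,2]))))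 (.node (.node (.node (.node (.word [5,0,3,0,1]) (.word [4,5,2,0,3,5])) (.word [0,4,2,0,4,5,2])) (.node (.word [0,4,1,3,5,0]) (.word [4,1,2,0,2]))) (.node (.node (.word [5,0,5,3,0,1,2,0,4,0,1]) (.word [5,3,0,3,5,0])) (.node (.word [1,2,0,1,5,4,3]) (.word [2,4,0,3,0,5,2]))))) (.node (.node (.node (.node (.node (.word [3,0,5,4,2,0,1]) (.word [2,0,3,0,4,3])) (.word [0,1,5,0,4,0])) (.node (.word [2,1,3,2,0]) (.word [4,2,0,5,3,1]))) (.node (.node (.word [0,5,0,1]) (.word [1,5,4,0,5,2])) (.node (.word [5,4,3,0,3,0]) (.word [2,4,0,3,2])))) (.node (.node (.node (.node (.word [5,1,2,5,0]) (.word [3,0,3,4,5])) (.word [0,2,3,5,2,4,0])) (.node (.word [0,3,5,2,0,2,3,5,0,2,3,0]) (.word [0,5,2,3,0,2]))) (.node (.node (.word [0,4,5,2,0,2,0]) (.word [2,3,0,2,0,2,1])) (.node (.word [4,3,5,2,3,0]) (.word [3,2,0,3])))))))) (.node (.node (.node (.node (.node (.node (.node (.node (.word [0,1,2,0,2,0,1]) (.word [5,2,4,5,3,0,3]))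 (.word [5,3,0])) (.node (.word [5,0,2,4,0,5,3,4,0,5,1,4,2,0]) (.word [2,3,2,3,0,4,5]))) (.node (.node (.word [3,1,5,4,5,4,0]) (.word [2,3,4,0])) (.node (.word [2,3,0,2,5,2,0]) (.word [2,0,4,0,2])))) (.node (.node (.node (.node (.word [0,5,3,2,1,4,0]) (.word [2,4,2,0,5,3])) (.word [1,2,0,2,1,4,0])) (.node (.word [0,2,4,3,2,0]) (.word [0,4,1,3,5]))) (.node (.node (.word [3,0,3,5,0,1]) (.word [1,5,0,5,3,0,2])) (.node (.word [4,5,0,3,0]) (.word [4,5,0,2,3,2]))))) (.node (.node (.node (.node (.node (.word [4,2,0,5,3,5,4,2,0,2,1]) (.word [0,2,3])) (.word [1,2,3,2,0,4,0])) (.node (.word [1,2,4,1,2,0]) (.word [2,0,4,3,0,3,1]))) (.node (.node (.word [4,0,2,3,4,0,1]) (.word [2,3,5,3,0,3])) (.node (.word [2,3,2,0,3,0]) (.word [3,5,0,2])))) (.node (.node (.node (.node (.word [3,0,1,2,0,2,3,0,1,4,0]) (.word [2,4,0,4,3,5])) (.word [0,3,0,4,5,0,3])) (.node (.word [0,5,4,2,0,5,3]) (.word [2,0,2,0,4,5]))) (.node (.node (.word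 [0,1,2,0,2,0]) (.word [3,2,0,4,5,0])) (.node (.word [0,5,1,2,3,0]) (.word [0,5,0,5,2])))))) (.node (.node (.node (.node (.node (.node (.word [4,0,2,3,5,4,0]) (.word [3,2,5,0,5,0,3])) (.word [0,2,0,3,0,4,5])) (.node (.word [1,2,4,0,5,0,2]) (.word [0,4,5,4,2,1]))) (.node (.node (.word [3,2,4,0,1]) (.word [0,5,4,0])) (.node (.word [4,2,4,5,2,0]) (.word [0,5,0,2])))) (.node (.node (.node (.node (.word [0,2,3,0,3,0,1]) (.word [3,2,0,2,0,3,5])) (.word [1,2,4,5,4,0])) (.node (.word [2,3,4,5,3,2,0]) (.word [0,2,4,0,2,0,2]))) (.node (.node (.word [0,4,2,5,2,5,0]) (.word [2,0,5,0,5,3,2])) (.node (.word [3,0,4,1,3,0]) (.word [0,3,2,0,5,2]))))) (.node (.node (.node (.node (.node (.word [1,2,4,2,0,1]) (.word [3,2,0,4,3])) (.word [0,2,3,0,4,0])) (.node (.word [5,3,0,3,2,0]) (.word [1,4,3]))) (.node (.node (.word [5,3,5,4,0,1]) (.word [2,0,1,5,4,5])) (.node (.word [4,0,3,0,2,3,0]) (.word [0,5,0,2,3,0,3])))) (.node (.node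 (.node (.node (.word [0,3,0,3,0,4,3]) (.word [5,0,2,4,5])) (.word [5,0,5,2,4,0])) (.node (.word [0,4,3,5,0,5,2]) (.word [0,5,1,3,0,2]))) (.node (.node (.word [2,3,2,0,5,0,3]) (.word [3,5,4,5,0])) (.node (.word [3,0,5,2,3,0]) (.word [0,5,2,0,2,0,3]))))))) (.node (.node (.node (.node (.node (.node (.node (.word [1,3,5,0,1,5,0,3,2,3]) (.word [0,2,1,4,5,0,3])) (.word [0,5,2,0,5,3,0])) (.node (.word [5,1,5,0,2,0]) (.word [1,3,0,3,2,1]))) (.node (.node (.word [4,3,0,4,0,1]) (.word [5,2,3,4,0])) (.node (.word [2,3,5,2,0]) (.word [2,4,2,4,0,2])))) (.node (.node (.node (.node (.word [1,4,2,0,2,0,3]) (.word [3,0,5,0,5,3])) (.word [2,4,2,1,4,0])) (.node (.word [4,5,0,1,5,0,5,3,5]) (.word [2,1,4,0,3,5]))) (.node (.node (.word [2,4,5,3,5,0,1]) (.word [3,2,5,0])) (.node (.word [0,1,3,2,0,2,1]) (.word [0,2,4,2]))))) (.node (.node (.node (.node (.node (.word [1,3,4,2,0,3]) (.word [3,0,2,0,4,2,3])) (.word [5,0,4,2,0,3]))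 (.node (.word [2,5,0,4,2,4,0]) (.word [0,1,5,0,3,1]))) (.node (.node (.word [0,5,4,0,1]) (.word [4,5,4,0])) (.node (.word [2,5,0,2,3,4,0,4,5,4,5]) (.word [3,1,4,5,0,2])))) (.node (.node (.node (.node (.word [2,1,3,0,5,0,2]) (.word [2,3,0,4,5])) (.word [5,0,3,5,3,0,3])) (.node (.word [2,5,1,4,2,0,2]) (.word [1,2,0,3,0,2]))) (.node (.node (.word [0,5,1,2,0,5,4,2,0,5,3,0]) (.word [2,3,2,4,5,0])) (.node (.word [1,3,2,3,0]) (.word [5,3,5,0,3,5,2])))))) (.node (.node (.node (.node (.node (.node (.word [1,2,1,3,2,0]) (.word [5,0,3,5,0,3])) (.word [1,2,3,4,5,3,0])) (.node (.word [4,3,1,2,0]) (.word [3,0,2,0,3,1]))) (.node (.node (.word [0,5,2,4,0,1]) (.word [5,3,0,5,4,0])) (.node (.word [1,5,4,0,1,3,0]) (.word [4,2,5,0,5,0,2])))) (.node (.node (.node (.node (.word [0,4,2,5,2,4,0]) (.word [4,1,5,4,0,3,5])) (.word [3,5,0,2,4,0])) (.node (.word [0,1,2,0,4,5]) (.word [4,2,0,2]))) (.node (.node (.word [4,0,5,0,4,3,5])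 (.word [3,1,5,0,3,5,0])) (.node (.word [5,1,3,0]) (.word [2,0,4,0,5,2]))))) (.node (.node (.node (.node (.node (.word [0,1,5,2,0,1]) (.word [0,5,4,0,4,3])) (.word [1,2,5,0,4,0])) (.node (.word [0,4,2,3,2,3,0]) (.word [1,3,5]))) (.node (.node (.word [0,2,4,5,2,4,0]) (.word [0,3,2,1,5,0])) (.node (.word [0,5,0,3,0]) (.word [5,0,3,2])))) (.node (.node (.node (.node (.word [2,4,5,4,1,5,2,0,3,0]) (.word [4,5,4,0,5,4,5])) (.word [1,5,0,1,3,4,0])) (.node (.word [3,5,0,5,2,0]) (.word [2,5,4,3,0,2]))) (.node (.node (.word [0,2,4,0,3,0,2]) (.word [5,2,0,2,1])) (.node (.word [0,1,3,0,4,3,0]) (.word [4,0,3,4,2,0,3])))))))))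

/-- A subtree. -/
def wt3 : WTree :=
  (.node (.node (.node (.node (.node (.node (.node (.node (.node (.word [0,1,5,4,5,0]) (.word [3,1,3,0,3])) (.word [0,3,4,3,0])) (.node (.word [4,0,2,3,2,3,0]) (.word [4,2,4,0,2,1]))) (.node (.node (.word [2,5,3,0,1]) (.word [1,4,2,1,3,4,0])) (.node (.word [0,3,0,5,3,0,2]) (.word [2,0,3,0,3,4,5])))) (.node (.node (.node (.node (.word [0,2,5,2,0,1]) (.word [4,0,2,0,5,3])) (.word [5,4,5,0,4,0])) (.node (.word [0,4,3,2,0]) (.word [0,5,0,1,3,5]))) (.node (.node (.word [2,4,5,4,0,3,5,0,1]) (.word [0,4,5,1,5,0])) (.node (.word [3,1,3,5,0,3,0]) (.word [2,0,2,3,2,3]))))) (.node (.node (.node (.node (.node (.word [0,1,3,2,0,1]) (.word [3,4,5,0,3])) (.word [4,0])) (.node (.word [2,5,0,5,2,3,0,1,5,0,5,3]) (.word [1,5,0,3,0,3,1]))) (.node (.node (.word [0,5,3,0,1,0,2,4,0,3]) (.word [2,0,1,3,1,5,0])) (.node (.word [3,4,1,2,0,3,0]) (.word [1,2,5,0,2])))) (.node (.node (.node (.node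 (.word [1,3,4,1,3,0]) (.word [2,3,2,5,0,4,5])) (.word [3,0,3,2,4,0])) (.node (.word [3,5,0,4,2,0]) (.word [0,5,4,2,0,2]))) (.node (.node (.word [4,0,2,3,4,0,1,0,4,0,4,1,3,0]) (.word [0,5,2,3,5,0])) (.node (.word [3,4,5,1,3,0]) (.word [2,3,4,0,5,2])))))) (.node (.node (.node (.node (.node (.node (.word [1,4,5,1,2,5,0]) (.word [2,5,3,0,5,0,3])) (.word [1,2,4,0,5,3,0])) (.node (.word [2,3,5,0,2,0]) (.word [2,4,2,1]))) (.node (.node (.word [2,4,0,2,4,0,1]) (.word [4,3,5,3,4,0])) (.node (.word [4,1,4,5,2,0]) (.word [1,2,0,1,5,0,3])))) (.node (.node (.node (.node (.word [2,0,4,2,4,0,1]) (.word [0,3,5,0,2,5,3])) (.word [3,5,1,4,0])) (.node (.word [0,4,5,3,2,0]) (.word [4,0,2,0,2]))) (.node (.node (.word [1,5,3,0,2,4,5]) (.word [2,0,4,5,2,5,0])) (.node (.word [4,1,3,0]) (.word [0,4,5,4,2]))))) (.node (.node (.node (.node (.node (.word [1,3,2,5,3,0,1]) (.word [0,4,3])) (.word [2,5,2,0,4,0])) (.node (.word [0,3,0,2,0,3,1])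 (.word [3,1,2,3]))) (.node (.node (.word [3,5,4,0,1]) (.word [0,3,5,4,5,4,0])) (.node (.word [5,2,0,3,0,3,0]) (.word [0,2,3,0,3])))) (.node (.node (.node (.node (.word [2,3,0,5,4,0,3]) (.word [2,3,0,2,4,5])) (.word [0,1,5,2,4,0])) (.node (.word [3,0,4,2,5,3,0]) (.word [3,5,0,3,0,2]))) (.node (.node (.word [4,5,0,5,0,4,0,5,0,2,1]) (.word [0,4,0,5,4,5,0])) (.node (.word [0,5,4,2,3,0]) (.word [3]))))))) (.node (.node (.node (.node (.node (.node (.node (.word [0,2,5,2,3,0,2]) (.word [2,5,4,0,3])) (.word [0,3,2,0,5,0,3])) (.node (.word [4,2,3,0,3,5,0,3,5]) (.word [3,2,1]))) (.node (.node (.word [5,2,0,4,0,1]) (.word [1,4,5,0,2,4,5])) (.node (.word [1,2,0,3,2,3,0]) (.word [4,0,2,4,0,2])))) (.node (.node (.node (.node (.word [5,4,5,2,0,1]) (.word [5,4,0,5,3])) (.word [4,2,1,4,0])) (.node (.word [3,0,1,5,3,2,0]) (.word [0,5,0,4,5,1]))) (.node (.node (.word [2,0,5,1,3,4,1,4,0,2,3]) (.word [0,2,4,0,2,5,0])) (.node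 (.word [1,5,0,2,1,3,0]) (.word [2,4,0,5,3,2]))))) (.node (.node (.node (.node (.node (.word [4,3,2,0,1]) (.word [0,5,3,2,3])) (.word [0,1,4,0,3,2])) (.node (.word [0,4,0,4,5,3,0,2,3,2,3,4,0]) (.word [5,3,4,0,3,1]))) (.node (.node (.word [1,3,2,0,2,5,3]) (.word [1,4,3,5,4,0])) (.node (.word [0,1,5,2,0,3,0]) (.word [3,0,4,5,0,2])))) (.node (.node (.node (.node (.word [0,4,0,2,5,2,3]) (.word [5,0,4,5,3,5])) (.word [1,5,3,2,4,0])) (.node (.word [1,2,3,0,2,1]) (.word [4,0,1,3,0,2]))) (.node (.node (.word [4,3,1,2,0,2,0]) (.word [0,2,4,5,0])) (.node (.word [0,1,3,2,3,0]) (.word [5,4,0,3,5,2])))))) (.node (.node (.node (.node (.node (.node (.word [0,5,0,1,5,0,3]) (.word [3,2,5,0,3])) (.word [5,2,5,3,0])) (.node (.word [0,1,3,1,2,0]) (.word [0,3,0,4,5,2,1]))) (.node (.node (.word [0,2,4,0,3,2,5,0,2,0,1]) (.word [0,3,0,5,4,0])) (.node (.word [2,4,5,4,0,3,1,4,5,2,0]) (.word [5,4,0,5,0,2])))) (.node (.node (.node (.node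 (.word [1,5,0,3,0,1]) (.word [5,1,4,0,3,5])) (.word [0,1,4,0,2,4,0])) (.node (.word [4,2,1,5,0,3,0]) (.word [3,2,0,2]))) (.node (.node (.word [5,3,1,2,1,3,2,5,2,0,1,3,0,2]) (.word [3,4,0,3,5,0])) (.node (.word [3,4,1,3,0]) (.word [4,3,0,5,2]))))) (.node (.node (.node (.node (.node (.word [2,5,4,2,0,1]) (.word [2,4,0,4,3])) (.word [3,1,5,0,4,0])) (.node (.word [1,5,1,3,2,0]) (.word [4,5,0,5,3,1]))) (.node (.node (.word [4,0,5,0,1]) (.word [5,2,4,5,2,1])) (.node (.word [1,3,5,3,0,3,0]) (.word [2,3,4,0,3,2])))) (.node (.node (.node (.node (.word [0,5,3,0,1]) (.word [2,0,5,4,5])) (.word [2,4,5,2,4,0])) (.node (.word [0,4,0,5,2,0]) (.word [3,0,4,3,0,2]))) (.node (.node (.word [1,4,0,4,5,4,0]) (.word [4,1,2,0,2,1])) (.node (.word [1,5,0,5,3,0]) (.word [4,5,3,2,0,3])))))))) (.node (.node (.node (.node (.node (.node (.node (.node (.word [0,3,2,3,0,3,0]) (.word [0,4,0,4,3])) (.word [3,0,1,5,3,0])) (.node (.word [5,0,2,0,2,5,3,0,4,3,0,4,0,3])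 (.word [3,4,0,5,0,2,1]))) (.node (.node (.word [3,4,1,5,3,0,2]) (.word [2,3,0,2,3,4,0])) (.node (.word [5,0,2,5,2,0]) (.word [5,0,4,0,2])))) (.node (.node (.node (.node (.word [0,1,4,5,2,0,1]) (.word [3,0,5,3])) (.word [1,2,1,3,2,4,0])) (.node (.word [0,2,5,2,1,5,0]) (.word [4,0,5,1,3,5]))) (.node (.node (.word [1,3,5,0,1]) (.word [3,0,2,5,0])) (.node (.word [2,1,3,0]) (.word [0,2,1,2,4,0,3]))))) (.node (.node (.node (.node (.node (.word [0,5,0,2,4,0,1]) (.word [3,2,4,0,2,3])) (.word [0,3,0,1,4,0])) (.node (.word [4,2,4,0,1,0,2,0,2,0,4,3]) (.word [0,3,0,4,0,3,1]))) (.node (.node (.word [4,5,0,5,0,3,5,2,3,0,2,0,1]) (.word [2,4,1,5,4,0])) (.node (.word [4,3,2,0,3,0]) (.word [1,3,5,0,2])))) (.node (.node (.node (.node (.word [2,5,3,5,2,0,1,2,3,5,2,4,0]) (.word [2,0,5,3,5])) (.word [3,1,2,3,2,4,0])) (.node (.word [0,1,5,1,4,2,0]) (.word [5,4,0,2,0,4,5]))) (.node (.node (.word [4,1,5,1,2,1,5,1,4,5,3,0,4,5,0,2,3,0,2,4,1,5,4,2,4,5,3,2,3,5,1,2,5,4,2,3,0,2,4,0,3,2,4,1,5,4,0])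 (.word [0,3,0,4,5,0])) (.node (.word [0,5,0,2,3,0]) (.word [5,0,5,0,5,2])))))) (.node (.node (.node (.node (.node (.node (.word [5,4,0,2,0,1]) (.word [2,0,2,1,5,0,3])) (.word [1,2,0,3,2,5,0])) (.node (.word [0,4,2,0,5,0,3]) (.word [4,0,5,2,1]))) (.node (.node (.word [1,3,2,4,0,1]) (.word [2,0,5,4,0])) (.node (.word [1,4,5,2,5,0]) (.word [3,0,5,0,2])))) (.node (.node (.node (.node (.word [1,3,2,5,2,0,1,0,4,2,0,3,0]) (.word [1,4,2,0,3,5])) (.word [2,1,2,5,2,0,3])) (.node (.word [3,0,1,4,2,0]) (.word [0,5,0,2,0,2]))) (.node (.node (.word [4,1,3,5,0,3,0,5,0,5,3,0,2]) (.word [0,5,4,0,5,0,2])) (.node (.word [3,0,3,1,5,0]) (.word [5,2,4,2,0,5,2]))))) (.node (.node (.node (.node (.node (.word [0,4,5,0,5,3,1]) (.word [2,5,2,0,4,3])) (.word [2,0,5,3,0,4,0])) (.node (.word [4,1,5,0,3,2,0]) (.word [3,0,1,5,4,3]))) (.node (.node (.word [0,2,0,4,5,0,3]) (.word [0,5,0,1,5,4,5])) (.node (.word [4,3,0,3,0]) (.word [0,4,0,3,2]))))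 (.node (.node (.node (.node (.word [2,0,2,3,4,0,1]) (.word [4,0,5,2,4,5])) (.word [1,2,5,2,4,0])) (.node (.word [0,1,3,0,2,4,2]) (.word [2,3,0,2]))) (.node (.node (.word [1,5,0,1,4,2,0]) (.word [4,5,4,5,4,5,0])) (.node (.word [3,4,0,2,5,3]) (.word [0,5,0,2,0,3]))))))) (.node (.node (.node (.node (.node (.node (.node (.word [0,4,5,0,2,4,5]) (.word [4,3,0,1,5,0,3])) (.word [1,3,0,5,3,0])) (.node (.word [0,4,3,5,3,4,0]) (.word [1,2,3,2]))) (.node (.node (.word [0,5,2,4,0,4,3]) (.word [5,0,1,5,3,4,0])) (.node (.word [0,1,4,5,2,0]) (.word [0,1,2,4,0,5,3])))) (.node (.node (.node (.node (.word [0,2,1,3,0,1,4,0,5,0,3,4,0]) (.word [5,4,5,0,5,3])) (.word [5,3,1,4,0])) (.node (.word [1,5,3,2,0]) (.word [2,0,1,2,0,2]))) (.node (.node (.word [2,3,5,4,0,3,1]) (.word [1,3,5,0,3,2])) (.node (.word [0,5,1,5,0,2,5,4,2,3,0]) (.word [0,4,0,2,4,2]))))) (.node (.node (.node (.node (.node (.word [0,1,4,2,0,1]) (.word [5,2,3]))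 (.word [4,3,2,0,4,0])) (.node (.word [0,1,4,2,5,3,0]) (.word [1,5,0,3,1]))) (.node (.node (.word [2,5,3,0,2,0,3]) (.word [1,4,5,4,0])) (.node (.word [3,0,5,3,0,5,3]) (.word [5,4,5,0,2])))) (.node (.node (.node (.node (.word [0,3,4,2,4,0,2]) (.word [4,0,5,0,4,5])) (.word [2,3,1,4,2,4,0])) (.node (.word [0,1,5,4,2,0]) (.word [5,3,0,3,0,2]))) (.node (.node (.word [0,4,2,0,4,0,5,4,0,4,3]) (.word [0,3,0,5,0,3])) (.node (.word [0,4,2,0,2,1]) (.word [4,0,4,5,2])))))) (.node (.node (.node (.node (.node (.node (.word [3,2,5,2,3,0]) (.word [4,2,3,5,0,3])) (.word [5,2,4,5,3,0])) (.node (.word [2,0,2,3,4,5]) (.word [3,2,0,3,1]))) (.node (.node (.word [3,5,2,4,2,0]) (.word [3,2,4,0,5,4,0])) (.node (.word [1,5,0,1,3,0]) (.word [2,1,5,0,2])))) (.node (.node (.node (.node (.word [1,2,5,3,2,3,5,2,1,5,2,4,5,3,0]) (.word [0,1,5,0,3,5])) (.word [0,2,1,3,5,0,2])) (.node (.word [2,4,0,4,2,0]) (.word [2,4,2,0,2]))) (.node (.node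 (.word [0,1,5,0,1,2,0]) (.word [2,0,1,2,3,5,0])) (.node (.word [0,1,5,1,3,4,0]) (.word [2,4,0,5,2]))))) (.node (.node (.node (.node (.node (.word [5,3,0,5,2,0,1]) (.word [4,0,5,4,3])) (.word [5,1,3,5,0,4,0])) (.node (.word [2,4,2,3,2,0]) (.word [3,2,0,1,3,5]))) (.node (.node (.word [1,3,2,5,0]) (.word [0,3,1,5,0])) (.node (.word [2,1,5,0,3,0]) (.word [1,5,0,3,2])))) (.node (.node (.node (.word [0,4,5,0,3,2,0]) (.word [4,3,0,3,4,0])) (.node (.word [0,2,0,4,5,4,0]) (.word [3,2,5,3,0,2]))) (.node (.node (.word [0,3,4,0,2,0]) (.word [0,1,3,0,3,2,1])) (.node (.word [4,3,0,4,3,0]) (.word [2,5,2,0,3])))))))))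

/-- A subtree. -/
def wt4 : WTree :=
  (.node (.node (.node (.node (.node (.node (.node (.node (.node (.word [0,1]) (.word [4,0,1,3,0,3])) (.word [0,5,0,4,3,0])) (.node (.word [5,4,0,2,0]) (.word [1,3,0,2,1]))) (.node (.node (.word [0,3,4,0,4,3,5,3,2,5,0]) (.word [1,3,4,0])) (.node (.word [3,1,5,2,0]) (.word [4,0,3,5,3,0,2])))) (.node (.node (.node (.node (.word [3,1,5,2,0,1]) (.word [5,3])) (.word [2,3,0,4,2,4,2])) (.node (.word [0,5,2,3,2,0]) (.word [0,3,0,1,3,5]))) (.node (.node (.word [0,5,1,2,0]) (.word [0,2,1,3,5,0,3])) (.node (.word [5,3,1,5,0,3,0]) (.word [0,4,5,0,3,2]))))) (.node (.node (.node (.node (.node (.word [1,2,5,2,0,1]) (.word [5,3,5,0,3])) (.word [1,5,3,4,5,3,0])) (.node (.word [4,1,2,0]) (.word [3,0,3,1]))) (.node (.node (.word [3,0,3,4,0,1]) (.word [0,1,2,0,5,3,2])) (.node (.word [1,4,0,2,0,4,5]) (.word [2,4,1,5,0,2])))) (.node (.node (.node (.node (.word [0,2,4,3,0]) (.word [1,5,0,3,5]))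 (.word [5,1,2,4,0])) (.node (.word [5,4,0,4,2,0]) (.word [1,3,2,4,2,0,2]))) (.node (.node (.word [1,3,2,5,0,2,0]) (.word [3,0,4,2,3,0,2])) (.node (.word [4,1,5,1,3,0]) (.word [4,2,4,0,5,2])))))) (.node (.node (.node (.node (.node (.node (.word [2,0,4,2,0,4,0]) (.word [2,1,2,0,5,0,3])) (.word [1,5,3,0,5,3,0])) (.node (.word [0,4,0,5,1,3,0]) (.word [2,1,5,3,2]))) (.node (.node (.word [0,2,3,1,5,0]) (.word [2,3,5,3,4,0])) (.node (.word [2,4,0,4,5,2,0]) (.word [4,5,3,4,0,2])))) (.node (.node (.node (.node (.word [0,1,5,4,5,2,0]) (.word [2,0,3,0,2,5,3])) (.word [2,0,1,5,1,4,0])) (.node (.word [3,0,2,4,0,1,2,0,4,0,1,3,5,4,0,3,2]) (.word [0,4,2,4,2,0,2]))) (.node (.node (.word [4,0,1,2,4,0]) (.word [0,5,2,5,0])) (.node (.word [0,3,5,2,1,3,0]) (.word [5,2,4,0,2,4,2]))))) (.node (.node (.node (.node (.node (.word [1,2,5,0,3,5,0]) (.word [5,3,0,5,2,3])) (.word [0,4,2,0,4,0])) (.node (.word [1,3,0,1,3,2,0]) (.word [0,3,5,0,3,1])))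 (.node (.node (.word [1,5,0,5,4,0,1]) (.word [1,3,2,4,5,4,0])) (.node (.word [2,4,5,3,5,4,2,5,2,1,0,2,0,4,5,1,2,0,5,0,4,5,3,0,5,0,5,3]) (.word [1,4,0,1,2,0,3])))) (.node (.node (.node (.node (.word [0,2,3,2,4,0,2]) (.word [2,4,5,0,4,5])) (.word [3,0,3,4,2,4,0])) (.node (.word [5,0,5,4,2,0]) (.word [3,4,0,3,0,2]))) (.node (.node (.word [0,3,1,5,0,3,2]) (.word [1,5,3,4,5,0])) (.node (.word [2,4,2,3,0]) (.word [5,0,5,0,4,5,2]))))))) (.node (.node (.node (.node (.node (.node (.node (.word [4,2,0,3,0,3,1,5,0,3]) (.word [3,5,2,0,3,5])) (.word [2,0,5,1,2,4,0])) (.node (.word [1,5,0,5,0,2,0]) (.word [3,2,5,0,2,1]))) (.node (.node (.word [3,2,0,4,0,1]) (.word [0,5,4,0,5,3,5])) (.node (.word [0,3,2,5,2,0]) (.word [0,2,4,0,2])))) (.node (.node (.node (.node (.word [0,2,5,0,2,0,3]) (.word [5,0,3,0,5,3])) (.word [0,5,1,2,1,4,0])) (.node (.word [1,3,1,2,0,3,1]) (.word [0,2,0,4,5,1]))) (.node (.node (.word [0,1,2,0,5,2,3])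 (.word [2,3,0,2,5,0])) (.node (.word [0,3,0,3,5,0,3]) (.word [2,0,2,0,5,3,2]))))) (.node (.node (.node (.node (.node (.word [2,0,3,1,3,0,3]) (.word [4,0,3,2,3])) (.word [2,5,0,1,4,0])) (.node (.word [5,1,2,0]) (.word [0,3,5,4,0,3,2]))) (.node (.node (.word [5,3,4,0,1]) (.word [2,3,2,5,2,5,0])) (.node (.word [0,5,3,0,3,0]) (.word [4,3,2,0,5,2])))) (.node (.node (.node (.node (.word [2,3,0,1]) (.word [4,0,5,3,5])) (.word [0,4,3,2,4,0])) (.node (.word [0,2,4,2,0]) (.word [1,3,4,0,5,3]))) (.node (.node (.word [5,2,5,4,0,3,0,5,2]) (.word [0,5,0,4,5,0])) (.node (.word [0,4,1,2,3,0]) (.word [1,2,0,2,5,3])))))) (.node (.node (.node (.node (.node (.node (.word [1,2,5,0,5,0,2]) (.word [0,3,1,5,0,3])) (.word [0,2,4,1,5,3,0])) (.node (.word [0,5,1,3,2,0]) (.word [3,5,2,1]))) (.node (.node (.word [0,2,0,4,5,0]) (.word [1,3,2,0,5,4,0])) (.node (.word [2,3,0,1,3,0]) (.word [4,3,0,5,0,2])))) (.node (.node (.node (.node (.word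 [2,0,2,0,5,2,3]) (.word [1,2,5,2,0,3,5])) (.word [3,0,2,4,0])) (.node (.word [5,3,0,1,4,2,0]) (.word [4,0,1,5,0,3,2]))) (.node (.node (.word [1,4,0,5,2,0,3,0,2,0,1]) (.word [4,3,0,3,5,0])) (.node (.word [0,5,0,5,0]) (.word [5,3,0,3,0,5,2]))))) (.node (.node (.node (.node (.node (.word [4,0,3,1,5,1,4,2,4,0,1]) (.word [0,1,3,0,4,3])) (.word [5,0,4,0])) (.node (.word [1,3,2,3,0,5,2]) (.word [4,0,2,0,5,3,1]))) (.node (.node (.word [2,5,4,2,1,5,0]) (.word [3,0,2,5,3,5])) (.node (.word [1,4,0,5,0,2]) (.word [4,1,4,0,3,2])))) (.node (.node (.node (.node (.word [0,1,3,4,3,0]) (.word [5,2,0,3,4,5])) (.word [1,2,0,4,5,0,3])) (.node (.word [4,3,0,5,2,0]) (.word [4,2,3,0,2]))) (.node (.node (.word [4,5,0,2,5,0,4,5,0,4,3]) (.word [1,2,0,2,0,3])) (.node (.word [2,4,1,3,5,0,3]) (.word [4,5,0,2,0,3])))))))) (.node (.node (.node (.node (.node (.node (.node (.node (.word [2,0,2,0,1]) (.word [4,5,3,0,3])) (.word [1,5,0,2,4,0]))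 (.node (.word [3,5,0,3,5,0,2]) (.word [1,3,0,4,5,2,1]))) (.node (.node (.word [0,1,2,1,4,0,3]) (.word [3,5,1,3,4,0])) (.node (.word [0,2,5,2,0]) (.word [4,0,2])))) (.node (.node (.node (.node (.word [1,3,4,5,3,0,2]) (.word [3,2,3,0,4,5])) (.word [0,3,4,0,5,0,2])) (.node (.word [2,5,0,4,3,2,0]) (.word [0,1,2,3,2,0,3]))) (.node (.node (.word [2,0,2,5,2,4,0]) (.word [0,1,2,0,2,5,0])) (.node (.word [5,3,5,0,3,0]) (.word [5,0,2,3,2]))))) (.node (.node (.node (.node (.node (.word [0,5,4,0,4,5,2]) (.word [1,4,2,0,5,3])) (.word [3,0,4,5,4,0,2])) (.node (.word [2,4,1,2,0]) (.word [4,3,0,3,1]))) (.node (.node (.word [0,2,3,4,0,1]) (.word [1,3,0,4,3,5])) (.node (.word [0,3,2,0,3,0]) (.word [5,3,2,5,0,2])))) (.node (.node (.node (.node (.word [0,5,1,3,0,1]) (.word [3,0,3,0,4,3,5])) (.word [2,1,3,2,4,0])) (.node (.word [0,4,1,4,2,0]) (.word [2,0,4,5]))) (.node (.node (.word [2,0,2,0]) (.word [0,3,2,4,5,0])) (.node (.word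 [0,1,2,3,0]) (.word [4,3,5,4,0,5,2])))))) (.node (.node (.node (.node (.node (.node (.word [3,1,4,0,2,0,1]) (.word [2,5,0,5,0,3])) (.word [2,3,4,0,5,3,0])) (.node (.word [2,0,1,3,5,0,3]) (.word [5,4,2,1]))) (.node (.node (.word [0,2,5,4,2,3,0]) (.word [1,2,0,4,5,0,2])) (.node (.word [1,2,4,5,2,0]) (.word [1,5,4,5,4,0,2])))) (.node (.node (.node (.node (.word [1,2,1,2,5,2,0,4,3,2,5,0,2]) (.word [0,2,0,3,5])) (.word [5,1,4,5,1,4,0])) (.node (.word [1,4,1,2,0,2,1]) (.word [4,1,4,0,2,0,2]))) (.node (.node (.word [0,2,0,1,2,0]) (.word [0,1,5,3,0,2])) (.node (.word [0,2,0,5,2,0,3]) (.word [2,0,5,2]))))) (.node (.node (.node (.node (.node (.word [1,4,5,2,5,1,4,0,3,5]) (.word [5,3,0,2,0,4,3])) (.word [3,0,4,0])) (.node (.word [4,3,0,3,2,0]) (.word [0,4,1,2,3]))) (.node (.node (.word [0,1,4,0,3,5]) (.word [1,5,4,5])) (.node (.word [0,3,0,2,3,0]) (.word [4,0,2,3,0,3])))) (.node (.node (.node (.node (.word [0,2,0,1,2,5,0])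 (.word [1,3,0,5,2,4,5])) (.word [4,0,5,2,4,0])) (.node (.word [5,4,5,4,2,0]) (.word [2,4,1,3,0,2]))) (.node (.node (.word [0,1,5,2,0,2,0]) (.word [1,5,4,5,0])) (.node (.word [0,5,2,3,0]) (.word [0,4,2,0,2,0,3]))))))) (.node (.node (.node (.node (.node (.node (.node (.word [1,3,0,2,0,1]) (.word [1,2,3,5,4,0,3])) (.word [5,4,2,0,5,3,0])) (.node (.word [1,2,5,0,2,0,3]) (.word [3,0,3,2,1]))) (.node (.node (.word [2,3,0,4,0,1]) (.word [1,4,2,3,4,0])) (.node (.word [2,3,1,4,2,3,0]) (.word [4,2,4,0,2])))) (.node (.node (.node (.node (.word [0,5,3,1,3,4,0]) (.word [0,4,0,5,0,4,5])) (.word [1,4,2,1,4,0])) (.node (.word [1,4,5,0,3,0]) (.word [1,2,0,5,3,2]))) (.node (.node (.word [0,2,5,3,5,0,1]) (.word [2,0,1,3,5,0,2])) (.node (.word [3,2,0,2,1]) (.word [4,2]))))) (.node (.node (.node (.node (.node (.word [3,4,3,2,0,1]) (.word [0,2,0,4,2,3])) (.word [1,4,0,4,2,0,3])) (.node (.word [0,4,5,1,2,0]) (.word [5,0,3,1])))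 (.node (.node (.word [3,2,0,2,5,3]) (.word [0,5,3,5,4,0])) (.node (.word [2,1,5,2,0,3,0]) (.word [1,4,5,0,2])))) (.node (.node (.node (.node (.word [2,0,3,2,3,0,1]) (.word [4,0,3,0,4,5])) (.word [0,3,5,3,0,3])) (.node (.word [0,5,2,4,2,0]) (.word [0,2,0,3,0,2]))) (.node (.node (.word [0,4,3,5,2,3,0]) (.word [1,5,0,4,2,3])) (.node (.word [1,5,0,3,2,3,0]) (.word [1,5,0,3,5,2])))))) (.node (.node (.node (.node (.node (.node (.word [3,1,2,0,1]) (.word [0,1,3,5,0,3])) (.word [2,0,4,5,3,0])) (.node (.word [1,3,1,2,0]) (.word [2,0,3,1]))) (.node (.node (.word [0,2,3,4,2,0,3]) (.word [1,2,3,0,5,4,0])) (.node (.word [0,4,0,5,0,3,0]) (.word [2,5,0,5,0,2])))) (.node (.node (.node (.node (.word [4,5,0,3,0,1]) (.word [5,4,0,3,5])) (.word [4,0,5,2,4,0,2,0,2])) (.node (.word [2,0,3,4,0,5,3]) (.word [2,5,3,2,0,2]))) (.node (.node (.word [0,3,0,5,0,2,1]) (.word [5,0,5,0,3,5,0])) (.node (.word [2,5,4,1,3,0]) (.word [0,4,0,5,2])))))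 (.node (.node (.node (.node (.node (.word [5,2,0,1]) (.word [3,4,0,4,3])) (.word [1,5,3,0,2,0,3])) (.node (.word [1,2,3,2,3,0]) (.word [0,3,2,5,3,0,2]))) (.node (.node (.word [0,1,4,3,0]) (.word [5,0,2,1,5,0])) (.node (.word [3,4,5,3,0,3,0]) (.word [2,5,4,0,3,2])))) (.node (.node (.node (.node (.word [1,2,0,5,3,0,1]) (.word [5,4,0,5,4,5])) (.word [1,2,3,0,3,4,0])) (.node (.word [2,5,0,5,2,0]) (.word [5,4,3,0,2]))) (.node (.node (.word [1,4,0,2,0]) (.word [0,5,4,2,0,2,1])) (.node (.word [3,0,4,3,0]) (.word [3,4,2,0,3])))))))))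

/-- A subtree. -/
def wt5 : WTree :=
  (.node (.node (.node (.node (.node (.node (.node (.node (.node (.word [4,0,3,0,5,1,5,0,3,0,3]) (.word [1,5,0,3,0,3])) (.word [4,5,0,4,3,0])) (.node (.word [4,5,4,0,2,0]) (.word [4,0,2,1]))) (.node (.node (.word [4,0,2,5,3,0,1]) (.word [1,3,0,3,5,2,1])) (.node (.word [0,5,0,1,3,4,0]) (.word [3,0,4,5,3,0,2])))) (.node (.node (.node (.node (.word [1,2,0,5,0,1]) (.word [0,2,0,2,5,3])) (.word [3,4,5,0,4,0])) (.node (.word [1,5,4,5,0,2,1]) (.word [5,4,0,1,3,5]))) (.node (.node (.word [0,5,2,0,4,3,0]) (.word [5,1,5,0])) (.node (.word [1,4,3,5,3,0,2]) (.word [2,3,5,4,2,0,3]))))) (.node (.node (.node (.node (.node (.word [3,2,0,1]) (.word [3,1,4,5,0,3])) (.word [4,5,4,5,3,0])) (.node (.word [5,2,0,5,1,4,5,2,0,3,1]) (.word [2,4,0,3,0,3,1]))) (.node (.node (.word [0,5,0,3,4,0,1]) (.word [3,5,0,5,4,0])) (.node (.word [4,5,4,2,0,3,0,2,3,0,2,0,1]) (.word [4,3,0,3,4,5])))) (.node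 (.node (.node (.node (.word [0,5,2,3,5,0,3]) (.word [2,4,5,0,3,5])) (.word [2,0,3,2,4,0])) (.node (.word [1,5,0,4,2,0]) (.word [2,3,4,2,0,2]))) (.node (.node (.word [4,2,3,4,0,3,5,3,4,0,2]) (.word [4,3,0,3,5,2])) (.node (.word [2,4,5,1,3,0]) (.word [5,0,3,4,0,5,2])))))) (.node (.node (.node (.node (.node (.node (.word [4,0,2,0,1]) (.word [0,5,3,0,5,0,3])) (.word [1,4,0,5,3,0])) (.node (.word [1,2,0,3,0,4,5]) (.word [1,3,5,3,0,5,3]))) (.node (.node (.word [1,2,0,4,5,0,1]) (.word [0,3,4,0,3,2,1])) (.node (.word [0,2,1,4,5,2,0]) (.word [2,0,1,5,0,3])))) (.node (.node (.node (.node (.word [0,3,5,0,3,0,5,1,2,0,3,0]) (.word [1,5,0,2,5,3])) (.word [1,5,1,4,0])) (.node (.word [3,0,3,4,3,0]) (.word [5,0,3,0,2,0,2]))) (.node (.node (.word [2,1,5,2,0,3]) (.word [4,5,2,5,0])) (.node (.word [0,4,3,5,0,3]) (.word [5,4,2]))))) (.node (.node (.node (.node (.node (.word [0,5,1,4,2,0,1]) (.word [0,3,2,5,2,3])) (.word [5,3,4,2,0,4,0]))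 (.node (.word [5,0,3,0,3,2,0]) (.word [1,4,5,0,3,1]))) (.node (.node (.word [1,3,4,5,4,5,0]) (.word [5,4,5,4,0])) (.node (.word [0,4,5,1,5,4,2,1,4,3,1,5,2,0,2,0]) (.word [2,0,4,5,0,3])))) (.node (.node (.node (.node (.word [0,3,0,5,4,0,3]) (.word [3,0,2,4,5])) (.word [5,2,4,0])) (.node (.word [3,0,3,4,5,0]) (.word [0,3,2,0,5,3,5]))) (.node (.node (.word [3,4,2,0,2,0]) (.word [5,3,0,5,4,5,0])) (.node (.word [1,3,4,2,3,0]) (.word [2,0,5,4,5,2]))))))) (.node (.node (.node (.node (.node (.node (.node (.word [3,0,2,0,1]) (.word [0,5,2,4,0,3])) (.word [3,1,2,0,5,3,0])) (.node (.word [3,1,5,0,2,0]) (.word [0,5,4,5,0,2,1]))) (.node (.node (.word [0,2,4,2,4,5,0]) (.word [0,4,3,2,3,4,0])) (.node (.word [4,2,5,2,0]) (.word [0,3,0,2,4,0,2])))) (.node (.node (.node (.node (.word [0,1,5,2,5,3,0]) (.word [3,4,0,5,3])) (.word [1,4,3,2,1,4,0])) (.node (.word [0,5,3,2,0]) (.word [4,0,3,0,4,5,1]))) (.node (.node (.word [0,5,3,5,0,1])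 (.word [0,4,2,3,5,0,3])) (.node (.word [4,2,3,2,0,4,0]) (.word [1,5,1,4,0,3,5]))))) (.node (.node (.node (.node (.node (.word [2,5,4,0,3,1]) (.word [4,3,2,3])) (.word [2,0,2,5,3,2])) (.node (.word [1,3,2,5,2,0]) (.word [4,0,2,4,0,4,3]))) (.node (.node (.word [1,4,5,0,5,0,3]) (.word [0,4,3,5,4,0])) (.node (.word [5,2,0,3,0]) (.word [3,0,4,0,2,4,2])))) (.node (.node (.node (.node (.word [0,1,4,5,0,3,2]) (.word [0,4,5,3,5])) (.word [1,2,4,0,3,1])) (.node (.word [4,3,2,4,2,0]) (.word [2,0,1,3,0,2]))) (.node (.node (.word [3,1,2,0,2,0]) (.word [2,4,0,5,2,1])) (.node (.word [3,2,3,0]) (.word [0,3,0,3,5,2])))))) (.node (.node (.node (.node (.node (.node (.word [0,1,5,0,2,4,5]) (.word [0,2,5,0,3])) (.word [3,4,2,5,3,0])) (.node (.word [3,1,2,0]) (.word [0,4,5,2,1]))) (.node (.node (.word [4,0,4,2,4,0,1]) (.word [5,2,0,5,4,0])) (.node (.word [1,4,0,1,3,0]) (.word [3,4,0,5,0,2])))) (.node (.node (.node (.node (.word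 [1,5,2,1,3,1,4,5,0,2,0]) (.word [1,4,0,3,5])) (.word [4,0,2,4,0])) (.node (.word [0,2,0,2,1,5,0]) (.word [3,4,2,5,2,0,3]))) (.node (.node (.word [5,0,3,0,1,2,0]) (.word [0,2,4,0,3,5,0])) (.node (.word [0,4,3,2,0,4,3]) (.word [0,3,2,3,0,5,2]))))) (.node (.node (.node (.node (.node (.word [2,4,3,2,0,5,1,3,0,1]) (.word [0,2,5,0,4,3])) (.word [2,1,5,0,4,0])) (.node (.word [0,2,5,1,5,0]) (.word [1,5,0,5,3,1]))) (.node (.node (.word [1,3,2,1,5,0]) (.word [0,2,4,5,2,1])) (.node (.word [5,2,5,3,0,3,0]) (.word [0,3,4,0,3,2])))) (.node (.node (.node (.node (.word [1,4,2,3,5,0,3]) (.word [5,4,5])) (.word [4,5,2,4,0])) (.node (.word [3,2,0,5,3,0,1,4,0,1]) (.word [0,2,0,4,3,0,2]))) (.node (.node (.word [1,2,3,5,0,3,2]) (.word [2,5,0,2,0,2,1])) (.node (.word [0,2,4,0,2,1]) (.word [5,3,2,0,3])))))))) (.node (.node (.node (.node (.node (.node (.node (.node (.word [1,2,0,2,0,1]) (.word [0,3,0,4,0,3])) (.word [0,4,2,1,3,4,0]))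 (.node (.word [0,4,0,2,4,0,2]) (.word [4,0,5,0,2,1]))) (.node (.node (.word [0,5,4,5,0,4,0]) (.word [3,0,2,3,4,0])) (.node (.word [0,3,0,5,0,3,1]) (.word [5,0,3,0,4,0,2])))) (.node (.node (.node (.node (.word [4,5,2,0,1]) (.word [4,0,2,4,0,5,3])) (.word [0,3,5,2,5,0])) (.node (.word [1,4,0,5,4,5,0,3,4,2,0,3,0]) (.word [5,1,3,5]))) (.node (.node (.word [2,4,0,2,5,4,3,0,3,0]) (.word [0,2,0,5,0,2,1])) (.node (.word [5,4,5,0,3,0]) (.word [5,3,0,2,5,3,2]))))) (.node (.node (.node (.node (.node (.word [1,2,3,1,2,0]) (.word [0,2,4,0,2,3])) (.word [0,4,0,5,2,4,5])) (.node (.word [0,2,0,2,3,5,0]) (.word [0,1,4,0,3,1]))) (.node (.node (.word [0,4,2,3,4,0,1]) (.word [4,1,5,4,0])) (.node (.word [4,2,3,2,0,3,0]) (.word [0,4,0,3,5,0,2])))) (.node (.node (.node (.node (.word [2,5,1,3,0,1]) (.word [5,3,5])) (.word [2,3,5,2,5,2,3,0,4,5,2])) (.node (.word [5,1,4,2,0]) (.word [0,4,0,2,0,4,5]))) (.node (.node (.word [3,0,2,0,2,0])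 (.word [0,1,4,0,2,3,2])) (.node (.word [4,3,0,5,3,1]) (.word [3,0,5,0,5,2])))))) (.node (.node (.node (.node (.node (.node (.word [1,3,0,1,5,0,2]) (.word [2,1,5,0,3])) (.word [0,2,5,3,0])) (.node (.word [2,0,4,5,0,2,0]) (.word [0,4,0,5,0,5,3]))) (.node (.node (.word [0,1,3,1,5,2,0,4,5,4,0]) (.word [2,5,0,2,0,3,1])) (.node (.word [1,4,2,0,1,3,5]) (.word [0,5,2,4,5,0,2])))) (.node (.node (.node (.node (.word [1,3,4,0,2,0]) (.word [1,2,0,3,5])) (.word [2,0,2,4,0])) (.node (.word [2,0,4,3,2,3,0]) (.word [5,4,0,2,0,2]))) (.node (.node (.word [0,5,3,0,5,0,2]) (.word [0,4,1,5,3,0,2])) (.node (.word [2,4,0,4,1,3,0]) (.word [2,4,2,0,5,2]))))) (.node (.node (.node (.node (.node (.word [1,3,4,2,0,1]) (.word [0,5,4,2,0,4,3])) (.word [5,3,0,4,0])) (.node (.word [1,5,0,3,2,0]) (.word [2,0,1,5,4,3]))) (.node (.node (.word [0,4,5,3,2,0,3]) (.word [5,4,0,1,5,4,5])) (.node (.word [0,5,2,3,0,3,0]) (.word [5,0,4,2,3,0,3]))))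 (.node (.node (.node (.node (.word [1,3,0,1,2,5,0]) (.word [0,5,2,4,5])) (.word [0,2,5,2,4,0])) (.node (.word [1,3,4,0,2,4,2]) (.word [1,4,5,1,3,0,2]))) (.node (.node (.word [0,4,5,0,4,3,0]) (.word [2,4,5,4,5,0])) (.node (.word [1,5,4,2,0,3,5]) (.word [5,3,0,2,0,3]))))))) (.node (.node (.node (.node (.node (.node (.node (.word [0,2,3,0,2,0,1]) (.word [0,1,5,0,3])) (.word [2,0,3,0,5,3,0])) (.node (.word [2,5,0,2,0]) (.word [1,4,0,3,2,1]))) (.node (.node (.word [0,1,5,0,4,0,1]) (.word [0,5,3,4,0])) (.node (.word [4,5,2,0]) (.word [4,0,2,3,4,0,2])))) (.node (.node (.node (.node (.word [5,3,5,3,4,2,0,2,0,5,3]) (.word [1,5,0,5,3])) (.word [3,2,3,1,4,0])) (.node (.word [2,4,0,4,2,4,0]) (.word [0,2,0,2]))) (.node (.node (.word [2,0,4,5,0,1]) (.word [3,0,2,3,2,5,0])) (.node (.word [1,3,0,5,3,1]) (.word [3,0,3,0,2,4,2]))))) (.node (.node (.node (.node (.node (.word [4,2,0,1]) (.word [2,4,2,3])) (.word [0,2,3,2,0,4,0]))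 (.node (.word [0,1,3,2,0]) (.word [0,1,4,0,2,0,2]))) (.node (.node (.word [2,0,5,4,0,1]) (.word [2,0,5,0,4,3])) (.node (.word [5,0,3,0,2,1,4,2,0,4,3]) (.word [3,4,5,0,2])))) (.node (.node (.node (.node (.word [1,3,2,3,0,1]) (.word [5,0,4,5])) (.word [1,4,2,4,0])) (.node (.word [5,4,2,0]) (.word [4,3,0,3,0,2]))) (.node (.node (.word [3,0,3,2,0,2,0]) (.word [1,3,4,5,0])) (.node (.word [1,4,3,2,3,0]) (.word [3,0,4,5,2])))))) (.node (.node (.node (.node (.node (.node (.word [0,4,2,0,4,3,2,4,2,0]) (.word [5,4,1,3,5,0,3])) (.word [3,2,4,5,3,0])) (.node (.word [2,1,4,3,1,2,0]) (.word [1,5,0,1,5,0,2]))) (.node (.node (.word [2,5,2,4,0,1]) (.word [0,4,0,5,4,0])) (.node (.word [2,0,5,0,1,3,0]) (.word [5,2,0,5,0,5,3])))) (.node (.node (.node (.node (.word [0,2,1,3,0,1]) (.word [5,0,3,5])) (.word [0,5,2,1,2,4,0])) (.node (.word [3,0,5,0,3,4,0]) (.word [0,4,1,4,2,0,2]))) (.node (.node (.word [5,0,1,2,0]) (.word [0,2,3,5,0]))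 (.node (.word [1,2,0,5,1,3,0]) (.word [3,1,4,0,5,2]))))) (.node (.node (.node (.node (.node (.word [0,3,0,5,2,0,1]) (.word [5,4,3])) (.word [1,3,5,0,4,0])) (.node (.word [2,4,0,1,5,3,0]) (.word [2,3,5,0,5,0,3]))) (.node (.node (.word [1,3,0,5,0,2]) (.word [5,2,1,5,0])) (.node (.word [5,0,5,0,3,0]) (.word [4,0,5,0,3,2])))) (.node (.node (.node (.word [2,3,0,5,3,0,1]) (.word [2,0,5,4,3,0,2])) (.node (.word [0,2,1,5,2,0]) (.word [2,5,3,0,2]))) (.node (.node (.word [0,3,0,4,1,3,5]) (.word [0,3,0,2,1])) (.node (.word [4,2,3,0,4,3,0]) (.word [0,5,2,0,3])))))))))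

/-- A subtree. -/
def wt6 : WTree :=
  (.node (.node (.node (.node (.node (.node (.node (.node (.node (.word [2,0,1,2,0,1]) (.word [5,0,3,0,3])) (.word [0,2,0,2,0,3,5])) (.node (.word [1,4,5,0,2,0]) (.word [1,5,3,0,2,1]))) (.node (.node (.word [1,2,0,2,0,5,3]) (.word [2,1,5,0,5,0,2])) (.node (.word [5,0,3,1,5,2,0]) (.word [4,3,5,3,0,2])))) (.node (.node (.node (.node (.word [4,1,5,2,0,1]) (.word [0,1,2,0,5,3])) (.word [4,5,0,4,0])) (.node (.word [1,2,4,5,0,4,0]) (.word [4,0,1,3,5]))) (.node (.node (.word [0,4,0,5,1,2,0]) (.word [1,3,1,5,0])) (.node (.word [0,2,5,0,3,0]) (.word [2,0,2,3,2]))))) (.node (.node (.node (.node (.node (.word [0,3,5,2,0,1]) (.word [0,4,5,0,3])) (.word [3,5,4,5,3,0])) (.node (.word [0,2,0,4,1,2,0]) (.word [4,5,0,1,5,0,2]))) (.node (.node (.word [1,5,2,3,2,0]) (.word [2,0,5,0,5,4,0])) (.node (.word [0,1,2,0,3,0]) (.word [2,5,0,2])))) (.node (.node (.node (.node (.word [3,0,4,1,3,0,1])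 (.word [3,5,0,3,5])) (.word [0,3,2,4,0])) (.node (.word [0,3,4,5,2,5,0]) (.word [2,3,2,1,5,0,2]))) (.node (.node (.word [0,3,5,0,1,2,0]) (.word [1,2,3,5,0])) (.node (.word [0,4,2,5,1,3,0]) (.word [4,5,2,4,0,5,2])))))) (.node (.node (.node (.node (.node (.node (.word [0,3,4,2,3,4,0]) (.word [3,0,5,0,3])) (.word [4,5,3,0,5,3,0])) (.node (.word [0,3,5,0,2,0]) (.word [0,5,3,4,0,3,1]))) (.node (.node (.word [0,2,4,0,1]) (.word [2,5,3,4,0])) (.node (.word [0,2,1,2,0,3,0]) (.word [3,0,5,4,0,2])))) (.node (.node (.node (.node (.word [3,5,0,5,4,5,0]) (.word [2,4,0,2,5,3])) (.word [4,2,0,5,1,4,0])) (.node (.word [2,0,4,2,3,4,0]) (.word [3,0,2,0,2]))) (.node (.node (.word [1,5,2,0,3]) (.word [3,2,5,2,5,0])) (.node (.word [2,4,3,0]) (.word [1,2,0,5,4,5]))))) (.node (.node (.node (.node (.node (.word [2,5,0,5,4,3]) (.word [2,5,2,3])) (.word [4,1,4,2,0,4,0])) (.node (.word [1,4,5,4,5,3,0]) (.word [5,2,3,5,0,3,1]))) (.node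 (.node (.word [1,3,5,4,5,0]) (.word [5,2,4,5,4,0])) (.node (.word [3,0,3,0]) (.word [0,2,3,2,0,3])))) (.node (.node (.node (.node (.word [5,3,2,4,0,2]) (.word [0,2,4,5])) (.word [2,3,4,2,4,0])) (.node (.word [1,5,4,2,0]) (.word [0,5,0,3,0,2]))) (.node (.node (.word [1,4,0,4,1,3,0]) (.word [5,4,5,0])) (.node (.word [0,4,2,4,2,3,0]) (.word [1,4,0,4,3,5]))))))) (.node (.node (.node (.node (.node (.node (.node (.word [1,3,2,0,2,0,4,5]) (.word [2,0,2,4,0,3])) (.word [0,1,2,0,3,0,2])) (.node (.word [1,5,0,2,0]) (.word [0,4,5,0,2,1]))) (.node (.node (.word [0,2,3,0,5,4,5,0,3,0]) (.word [0,3,2,3,4,0])) (.node (.word [0,1,2,4,2,0,2]) (.word [2,0,2,4,0,2])))) (.node (.node (.node (.node (.word [0,3,0,4,3,0,2]) (.word [4,3,0,5,3])) (.word [1,3,2,1,4,0])) (.node (.word [1,3,5,4,3,2,0]) (.word [3,0,4,5,1]))) (.node (.node (.word [0,2,3,0,2,4,0]) (.word [0,4,0,2,5,0])) (.node (.word [0,2,4,5,3,0,3]) (.word [0,5,2,0,2,4,5])))))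 (.node (.node (.node (.node (.node (.word [2,0,2,3,2,0,1]) (.word [5,0,3,2,3])) (.word [2,0,4,0])) (.node (.word [5,3,5,1,3,5,2,3,4,0,5,4,5,0]) (.word [5,2,4,0,3,1]))) (.node (.node (.word [2,0,5,3,4,0,1]) (.word [0,2,3,5,4,0])) (.node (.word [1,2,4,0,3,5,0]) (.word [0,5,3,5,2])))) (.node (.node (.node (.node (.word [2,0,2,3,0,1]) (.word [5,0,5,3,5])) (.word [2,3,4,0,5,0,2])) (.node (.word [1,2,0,2,4,2,0]) (.word [5,4,2,0,4,5]))) (.node (.node (.word [4,2,1,2,0,2,0]) (.word [5,0,5,0,4,5,0])) (.node (.word [5,1,2,3,0]) (.word [2,0,3,5,2])))))) (.node (.node (.node (.node (.node (.node (.word [1,5,0,2,0,4,3]) (.word [5,3,1,5,0,3])) (.word [0,3,5,3,0,4,0])) (.node (.word [1,4,0,4,3]) (.word [0,5,0,3,5,2,1]))) (.node (.node (.word [0,1,4,2,4,0,1]) (.word [1,4,2,0,5,4,0])) (.node (.word [5,3,0,1,3,0]) (.word [4,5,3,0,5,0,2])))) (.node (.node (.node (.node (.word [2,0,5,0,3,0,1]) (.word [4,0,3,5])) (.word [0,4,3,0,2,4,0]))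 (.node (.word [5,0,1,4,2,0]) (.word [0,1,4,1,2,0,2]))) (.node (.node (.word [4,0,4,2,0,4,5,2,0,1,2,0]) (.word [4,0,3,5,0])) (.node (.word [1,4,2,0,4,3]) (.word [1,2,3,0,5,2]))))) (.node (.node (.node (.node (.node (.word [4,0,5,4,2,0,1]) (.word [3,0,3,0,4,3])) (.word [2,0,5,0,4,0])) (.node (.word [3,2,1,3,2,0]) (.word [0,3,0,5,3,1]))) (.node (.node (.word [0,2,0,5,0,1]) (.word [5,0,5,0])) (.node (.word [2,5,3,0,3,0]) (.word [1,3,2,4,0,4,3])))) (.node (.node (.node (.node (.word [1,2,5,2,5,0]) (.word [4,0,3,0,3,4,5])) (.word [5,3,5,2,4,0])) (.node (.word [4,2,4,2,0,2,1,5,0]) (.word [2,5,2,3,0,2]))) (.node (.node (.word [4,0,2,0]) (.word [4,0,2,0,2,1])) (.node (.word [4,3,0]) (.word [0,1,3,2,0,3])))))))) (.node (.node (.node (.node (.node (.node (.node (.node (.word [0,4,0,5,0,1,3,0]) (.word [4,0,3])) (.word [0,1,5,3,0])) (.node (.word [2,0,5,0,2,0]) (.word [5,0,2,1]))) (.node (.node (.word [0,4,0,1]) (.word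 [0,1,2,3,4,0])) (.node (.word [4,3,0,2,5,2,0,3,1]) (.word [5,0,2,0,4,0,2])))) (.node (.node (.node (.node (.word [2,0,5,2,5,0]) (.word [2,5,4,2,0,5,3])) (.word [3,4,0,4,3,5])) (.node (.word [0,4,5,0,2,4,0]) (.word [2,0,5,2,0,3,5]))) (.node (.node (.word [3,2,3,0,4,2,0,5,2,3]) (.word [4,2,0,2,5,0])) (.node (.word [0,2,4,5,0,3,0]) (.word [2,3,2,3]))))) (.node (.node (.node (.node (.node (.word [0,3,4,0,5,3,2]) (.word [0,4,0,2,3])) (.word [4,2,0,1,4,0])) (.node (.word [3,0,5,1,4,0,3]) (.word [0,5,4,5,4,5]))) (.node (.node (.word [0,2,4,0,2,3,2]) (.word [5,3,1,5,4,0])) (.node (.word [5,0,4,5,3,5,4,5,1,4,5,0,1]) (.word [0,1,3,5,0,2])))) (.node (.node (.node (.node (.word [0,3,0,2,4,0,2,3,0,3,0,5,3]) (.word [4,0,4,5,3,5])) (.word [2,3,2,4,0])) (.node (.word [0,5,0,5,4,3]) (.word [3,0,2,0,4,5]))) (.node (.node (.word [5,0,1,2,0,2,0]) (.word [2,1,5,0,2,3,2])) (.node (.word [4,0,2,3,0]) (.word [4,0,1,5,0,5,2]))))))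 (.node (.node (.node (.node (.node (.node (.word [3,4,0,2,0,1]) (.word [3,5,0,5,0,3])) (.word [5,0,5,3,0])) (.node (.word [2,4,5,2,1,2,4,0,3,0,3,1]) (.word [5,2,1]))) (.node (.node (.word [0,1,3,2,4,0,1]) (.word [4,0,1,5,4,0])) (.node (.word [0,2,5,3,0,4,0]) (.word [3,0,1,5,0,2])))) (.node (.node (.node (.node (.word [1,3,4,2,0,3,5,2,1,3,0]) (.word [4,0,2,0,3,5])) (.word [0,2,1,4,0,3])) (.node (.word [0,4,2,0]) (.word [3,2,4,0,2,0,2]))) (.node (.node (.word [3,2,0,1,2,0]) (.word [0,2,0,1,2,3,2])) (.node (.word [1,2,0,2,5,3,2,0,1,5,4,3]) (.word [2,3,2,0,5,2]))))) (.node (.node (.node (.node (.node (.word [1,4,5,3,2,0,2,0,2,5,0]) (.word [2,3,2,0,4,3])) (.word [3,5,4,5,0,5,3])) (.node (.word [0,5,0,5,0,2,1]) (.word [1,4,0,2,3]))) (.node (.node (.word [2,5,3,5,4,0,1]) (.word [3,0,1,5,4,5])) (.node (.word [3,0,2,3,5,4,0]) (.word [1,2,3,0,3])))) (.node (.node (.node (.node (.word [2,0,3,0,1,2,0]) (.word [2,5,0,2,4,5]))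 (.word [1,4,2,0,4,5])) (.node (.word [0,5,2,0]) (.word [1,3,5,1,3,0,2]))) (.node (.node (.word [1,5,2,0,2,0]) (.word [2,5,3,5,4,5,0])) (.node (.word [0,3,5,0,2,4,0]) (.word [3,0,2,0,3]))))))) (.node (.node (.node (.node (.node (.node (.node (.word [0,4,5,1,2,5,0]) (.word [3,4,5,4,0,3])) (.word [4,5,2,0,5,3,0])) (.node (.word [0,1,4,3,2,3,0]) (.word [0,2,3,0,3,2,1]))) (.node (.node (.word [2,5,0,4,3,0,2]) (.word [2,0,5,2,3,4,0])) (.node (.word [2,5,3,5,2,0]) (.word [3,4,0,2])))) (.node (.node (.node (.node (.word [0,5,3,4,2,5,0,4,0,2,4,5,0]) (.word [4,0,5,0,5,3])) (.word [0,3,4,2,1,4,0])) (.node (.word [4,0,4,2,4,0]) (.word [4,2,1,4,0,3,5]))) (.node (.node (.word [4,5,0,1]) (.word [2,0,3,2,5,0])) (.node (.word [4,0,3,2,0,2,1]) (.word [0,2,0,2,4,2]))))) (.node (.node (.node (.node (.node (.word [3,4,0,2,5,3,0,5,2,0,4,3,0]) (.word [5,0,4,2,3])) (.word [3,2,0,4,0])) (.node (.word [0,4,0,2,1,5,0]) (.word [0,5,0,2,3,2])))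 (.node (.node (.word [2,0,1,5,4,0,1]) (.word [2,0,4,5,4,0])) (.node (.word [0,2,5,2,0,3,0]) (.word [2,4,5,0,2])))) (.node (.node (.node (.node (.word [0,4,2,5,2,0,3]) (.word [2,4,3,0,4,5])) (.word [3,0,4,2,4,0])) (.node (.word [1,5,2,4,2,0]) (.word [5,0,1,3,0,3,0,2,0,1]))) (.node (.node (.word [3,2,3,0,1,4,0,2,4,2,4,0]) (.word [4,2,4,5,0])) (.node (.word [0,2,1,3,2,3,0]) (.word [4,5,2])))))) (.node (.node (.node (.node (.node (.node (.word [0,2,5,4,0,3,1]) (.word [1,5,0,3,5,0,3])) (.word [1,4,5,3,5,4,0])) (.node (.word [0,4,1,5,1,3,0]) (.word [4,3,0,2,0,3,1]))) (.node (.node (.word [1,5,0,3,0,1,5,0,3,0,3]) (.word [0,5,4,2,1,5,0])) (.node (.word [3,5,4,0,1,3,0]) (.word [4,3,5,0,5,0,2])))) (.node (.node (.node (.node (.word [5,4,5,0,3,0,1]) (.word [1,2,5,4,0,3,5])) (.word [4,5,0,2,4,0])) (.node (.word [0,4,0,2,0,5,3]) (.word [0,1,4,2,0,2]))) (.node (.node (.word [3,2,3,0,2,1,3,1,4,0]) (.word [4,1,3,5,0])) (.node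 (.word [0,1,5,1,3,0]) (.word [1,4,0,5,2]))))) (.node (.node (.node (.node (.node (.word [0,2,1,0,4,0,3,0,4,1,5,2,5,0,2,1]) (.word [5,0,4,3])) (.word [0,4,5,3,4,5,0])) (.node (.word [0,5,2,3,2,3,0]) (.word [2,0,1,3,5]))) (.node (.node (.word [4,0,1,4,3,0]) (.word [0,4,2,1,5,0])) (.node (.word [1,5,1,2,4,0]) (.word [0,1,5,0,3,2])))) (.node (.node (.node (.node (.word [3,0,1,2,0,3,5]) (.word [0,4,5,4,5])) (.word [3,2,0,3,4,0])) (.node (.word [0,4,0,1,2,4,5]) (.word [3,5,4,3,0,2]))) (.node (.node (.word [2,4,1,4,0,2,0]) (.word [0,2,3,0,2,4,5])) (.node (.word [5,0,2,4,0,1,3,0,5,0,2]) (.word [1,5,4,2,0,3])))))))))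

/-- A subtree. -/
def wt7 : WTree :=
  (.node (.node (.node (.node (.node (.node (.node (.node (.node (.word [1,2,0,5,0,3,2]) (.word [1,3,0,4,2,3])) (.word [1,2,3,4,3,0])) (.node (.word [0,5,0,2,0]) (.word [1,5,0,2,1]))) (.node (.node (.word [0,3,2,5,3,0,1]) (.word [0,5,1,3,4,0])) (.node (.word [2,4,1,5,2,0]) (.word [3,4,5,3,0,2])))) (.node (.node (.node (.node (.word [0,3,4,2,0,4,5]) (.word [5,0,2,0,5,3])) (.word [2,1,4,0])) (.node (.word [0,2,0,4,3,2,0]) (.word [0,3,5,0,1,3,5]))) (.node (.node (.word [0,2,0,3,5,0,1]) (.word [2,5,0])) (.node (.word [2,0,1,5,4,0,3,0,3]) (.word [4,0,2,3,2]))))) (.node (.node (.node (.node (.node (.word [2,3,2,4,0,2,3]) (.word [1,3,4,5,0,3])) (.word [0,1,4,0])) (.node (.word [2,0,4,2,3,2,0]) (.word [1,3,0,3,1]))) (.node (.node (.word [1,3,4,0,1]) (.word [0,4,5,0,5,4,0])) (.node (.word [5,1,2,0,3,0]) (.word [3,2,5,0,2])))) (.node (.node (.node (.node (.word [5,4,1,3,0,1]) (.word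 [4,3,5])) (.word [2,5,3,5,4,0])) (.node (.word [1,3,5,0,4,2,0]) (.word [1,5,4,2,0,2]))) (.node (.node (.word [2,4,5,0,1,2,0]) (.word [2,5,2,3,5,0])) (.node (.word [2,1,5,4,2,0,2]) (.word [5,4,0,5,2])))))) (.node (.node (.node (.node (.node (.node (.word [0,2,4,2,5,2,0]) (.word [5,0,5,0,3])) (.word [4,0,5,0,4,0,2])) (.node (.word [0,1,5,2,4,0,2,0,2,5,2,3,0]) (.word [3,0,2,4,2,1]))) (.node (.node (.word [0,4,5,4,2,0,3]) (.word [0,5,3,5,3,4,0])) (.node (.word [5,1,4,5,2,0]) (.word [0,4,5,4,0,2])))) (.node (.node (.node (.node (.word [0,3,0,3,0,1]) (.word [5])) (.word [4,5,1,4,0])) (.node (.word [2,0,3,4,0,5,2]) (.word [1,3,5,0,5,0,3]))) (.node (.node (.word [2,0]) (.word [3,5,0])) (.node (.word [0,1,4,1,3,0]) (.word [2,4,5,4,2]))))) (.node (.node (.node (.node (.node (.word [2,4,2,0,1]) (.word [0,2,0,4,3])) (.word [0,4,3,5,0,2])) (.node (.word [2,3,0,3,2,0]) (.word [5,0,3,1,2,3]))) (.node (.node (.word [1,2,3,5,0,4,0])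 (.word [5,0])) (.node (.word [5,0,3,0,3,0]) (.word [5,2,0,2,3,0,3])))) (.node (.node (.node (.node (.word [2,1,5,0,4,2,3]) (.word [5,3,0,2,4,5])) (.word [3,0,5,2,4,0])) (.node (.word [4,5,4,2,0]) (.word [4,5,0,3,0,2]))) (.node (.node (.word [0,2,5,2,5,3,0]) (.word [2,4,0,5,4,5,0])) (.node (.word [0,2,4,1,5,0,2]) (.word [2,0,3]))))))) (.node (.node (.node (.node (.node (.node (.node (.word [0,4,2,0,1,5,3,4,3,0]) (.word [5,2,5,4,0,3])) (.word [0,2,3,0,5,3,0])) (.node (.word [1,3,1,5,0,2,0]) (.word [1,2,0,3,1]))) (.node (.node (.word [3,0,4,0,1]) (.word [4,2,3,4,0])) (.node (.word [3,4,2,5,2,0]) (.word [5,0,2,4,0,2])))) (.node (.node (.node (.node (.word [3,0,1]) (.word [5,0,5,4,0,5,3])) (.word [3,0,4,2,1,4,0])) (.node (.word [2,0,5,3,2,0]) (.word [4,5,0,4,5,1]))) (.node (.node (.word [2,0,5,1,3,5,0,2,3,0,2,4,2]) (.word [5,4,0,2,5,0])) (.node (.word [0,3,2,1,3,0]) (.word [3,2,4,2,0,5,3]))))) (.node (.node (.node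 (.node (.node (.word [1,4,5,0,4,5,1]) (.word [5,0,5,3,2,3])) (.word [0,1,3,2,0,4,0])) (.node (.word [0,3,5,2,0]) (.word [1,5,4,0,3,1]))) (.node (.node (.word [2,5,3,4,0,1]) (.word [5,4,3,5,4,0])) (.node (.word [3,0,5,2,0,3,0]) (.word [0,5,0,5,0,5,2])))) (.node (.node (.node (.node (.word [1,2,3,0,4,5]) (.word [0,4,5])) (.word [1,4,5,0,3,2])) (.node (.word [0,3,2,3,0,2,1]) (.word [5,0,1,3,0,2]))) (.node (.node (.word [0,3,5,0,5,3,0]) (.word [3,0,2,4,5,0])) (.node (.word [2,0,3,2,3,0]) (.word [5,0,3,5,2])))))) (.node (.node (.node (.node (.node (.node (.word [3,5,0,2,0,1]) (.word [2,3,0,5,3])) (.word [2,5,2,5,3,0])) (.node (.word [3,0,3,1,2,0]) (.word [2,1,3,0,3,1]))) (.node (.node (.word [3,4,2,4,0,1]) (.word [1,3,0,5,4,0])) (.node (.word [0,2,0,1,2,0,2]) (.word [0,5,0,5,0,2])))) (.node (.node (.node (.node (.word [2,5,0,3,0,1]) (.word [2,4,5,4,0,3,5])) (.word [1,4,0,2,4,0])) (.node (.word [0,3,0,4,2,0]) (.word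 [1,3,2,0,2]))) (.node (.node (.word [1,3,0,1,2,0]) (.word [5,3,4,0,3,5,0])) (.node (.word [0,4,5,2,5,3,0]) (.word [3,4,3,0,5,2]))))) (.node (.node (.node (.node (.node (.word [4,5,4,2,0,1]) (.word [1,2,4,0,4,3])) (.word [1,5,2,0,5,4,5])) (.node (.word [2,3,2,0]) (.word [2,5,3,1]))) (.node (.node (.word [1,4,2,4,5,4,0]) (.word [2,1,5,0])) (.node (.word [4,3,5,3,0,3,0]) (.word [0,5,4,0,3,2])))) (.node (.node (.node (.node (.word [3,0,1,5,3,0,1]) (.word [5,2,0,5,4,5])) (.word [0,3,4,0])) (.node (.word [4,0,1,3,0,5,3]) (.word [4,0,4,3,0,2]))) (.node (.node (.word [5,0,4,0,2,0]) (.word [4,2,0,2,1])) (.node (.word [3,5,0,5,3,0]) (.word [2,4,2,0,3])))))))) (.node (.node (.node (.node (.node (.node (.node (.node (.word [0,1,3,0,5,0,3]) (.word [2,1,4,0,3])) (.word [2,0,1,2,3,4,0])) (.node (.word [0,1,2,0,5,0,3]) (.word [3,5,0,5,0,2,1]))) (.node (.node (.word [1,2,0,4,0,1]) (.word [5,0,2,3,4,0])) (.node (.word [0,3,0,3,0,2,1])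 (.word [5,0,5,0,4,0,2])))) (.node (.node (.node (.node (.word [0,2,4,0,3,2,4,1,5,4,0]) (.word [0,1,3,0,5,3])) (.word [4,1,2,1,4,0])) (.node (.word [0,2,4,2,3,5,0]) (.word [0,3,5,3,5,2]))) (.node (.node (.word [0,1,2,5,3,0,2]) (.word [0,1,3,0,2,5,0])) (.node (.word [2,0,2,1,3,0]) (.word [5,3,2]))))) (.node (.node (.node (.node (.node (.word [0,2,1,5,1,5,0]) (.word [0,5,4,0,2,3])) (.word [3,2,3,0,1,4,0])) (.node (.word [5,0,5,4,1,2,0]) (.word [1,4,0,3,1]))) (.node (.node (.word [1,4,2,3,4,0,1]) (.word [3,5,4,0])) (.node (.word [2,0,5,4,0,2,3]) (.word [2,0,4,0,2,4,5])))) (.node (.node (.node (.node (.word [4,5,1,3,0,1]) (.word [4,2,0,5,3,5])) (.word [0,2,3,2,3,4,0])) (.node (.word [4,0,5,1,4,2,0]) (.word [2,0,2,4,0,5,3]))) (.node (.node (.word [0,5,3,5,2,4,0]) (.word [2,3,0,4,5,0])) (.node (.word [3,5,0,2,3,0]) (.word [4,5,0,5,0,5,2])))))) (.node (.node (.node (.node (.node (.node (.word [0,5,3,2,5,2,0]) (.word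 [4,5,4,2,0,4,3])) (.word [0,4,1,5,3,0])) (.node (.word [2,4,5,0,2,0]) (.word [2,3,0,3,1]))) (.node (.node (.word [1,4,2,3,2,4,0]) (.word [0,5,4,5,0,2])) (.node (.word [3,0]) (.word [2,3,0,5,0,2])))) (.node (.node (.node (.node (.word [0,5,0,3,2,3,0]) (.word [5,2,0,3,5])) (.word [0,5,0,5,2,3])) (.node (.word [0,2,4,0,2,3,0]) (.word [2,1,5,0,2,0,2]))) (.node (.node (.word [5,2,0,1,2,0]) (.word [0,3,0,3,5,0])) (.node (.word [2,3,0,3,1,5,0]) (.word [0,3,0,5,2]))))) (.node (.node (.node (.node (.node (.word [5,4,2,0,1]) (.word [4,5,2,0,4,3])) (.word [2,3,5,3,0,4,0])) (.node (.word [2,3,5,0,3,2,0]) (.word [5,3,1]))) (.node (.node (.word [2,5,4,5,4,0]) (.word [2,5,3,5])) (.node (.word [2,5,2,0,5,4,0]) (.word [1,4,0,3,2])))) (.node (.node (.node (.node (.word [0,5,0,1,2,5,0]) (.word [3,4,5])) (.word [4,2,5,2,4,0])) (.node (.word [1,5,0,5,2,0]) (.word [0,1,2,3,0,2]))) (.node (.node (.word [3,5,2,0,2,0]) (.word [2,1]))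 (.node (.word [3,5,2,3,0]) (.word [3,0,2,4,0,4,5]))))))) (.node (.node (.node (.node (.node (.node (.node (.word [0,4,3,0,2,0,1]) (.word [0,4,0,1,5,0,3])) (.word [2,5,4,0,5,0,2])) (.node (.word [3,2,5,0,2,0]) (.word [2,0,1,2,3,2]))) (.node (.node (.word [1,5,0,4,0,1]) (.word [4,0,5,3,4,0])) (.node (.word [2,0,4,5,2,0]) (.word [0,5,3,4,0,2])))) (.node (.node (.node (.node (.word [0,2,0,3,0,1]) (.word [0,2,5,3])) (.word [2,5,3,1,4,0])) (.node (.word [0,2,1,5,3,2,0]) (.word [1,4,0,1,2,0,2]))) (.node (.node (.word [1,4,5,0,1]) (.word [0,1,3,4,5,0,2])) (.node (.word [5,2,1,3,0]) (.word [5,0,4,0,2,4,2]))))) (.node (.node (.node (.node (.node (.word [0,2,5,0,3,0,1]) (.word [3,0,5,2,3])) (.word [2,4,3,2,0,4,0])) (.node (.word [1,5,4,1,3,0,5,0,3,5,0]) (.word [2,1,5,3,5,0,3]))) (.node (.node (.word [0,1,2,4,0,4,5]) (.word [0,5,4,5,4,0])) (.node (.word [0,5,3,1,4,0]) (.word [0,3,2])))) (.node (.node (.node (.node (.word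 [3,2,4,0,2]) (.word [5,0,5,0,4,5])) (.word [2,4,2,4,0])) (.node (.word [4,0,5,4,2,0]) (.word [3,5,3,0,3,0,2]))) (.node (.node (.word [5,0,3,2,0,2,0]) (.word [2,4,1,5,3,0,2])) (.node (.word [1,4,2,3,0]) (.word [3,4,0,4,5,2])))))) (.node (.node (.node (.node (.node (.node (.word [4,3,0,4,5,0]) (.word [4,3,5,0,3])) (.word [3,4,5,3,0])) (.node (.word [5,3,1,2,0]) (.word [0,1,3,2,0,2]))) (.node (.node (.word [3,4,0,1]) (.word [0,1,3,0,4,2,3])) (.node (.word [0,3,0,1,5,0,3]) (.word [1,3,4,0,4,5,2])))) (.node (.node (.node (.node (.word [2,1,3,0,5,3]) (.word [0,2,0,5,0,3,5])) (.word [4,3,1,2,4,0])) (.node (.word [1,2,4,0,4,2,0]) (.word [4,0,2,4,2,0,2]))) (.node (.node (.word [1,4,0,5,0,4,5]) (.word [1,2,0,2,3,5,0])) (.node (.word [3,0,5,1,3,0]) (.word [1,2,4,0,5,2]))))) (.node (.node (.node (.node (.node (.word [0,5,0,5,2,0,1]) (.word [5,4,0,5,4,3])) (.word [4,3,5,0,4,0])) (.node (.word [5,4,2,3,2,0]) (.word [4,3,2,0,1,3,5])))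 (.node (.node (.word [0,2,0,5,3,2,0]) (.word [2,0,3,1,5,0])) (.node (.word [3,1,5,0,3,0]) (.word [3,5,0,3,2])))) (.node (.node (.node (.word [1,4,0,5,3,0,1]) (.word [5,0,3,4,0])) (.node (.word [3,2,1,5,2,0]) (.word [5,2,5,3,0,2]))) (.node (.node (.word [5,3,4,0,2,0]) (.word [3,0,3,0,2,1])) (.node (.word [0,2,3,4,2,4,0]) (.word [4,2,5,2,0,3])))))))))

/-- A subtree. -/
def wt8 : WTree :=
  (.node (.node (.node (.node (.node (.node (.node (.node (.node (.word [0]) (.word [0,1,3,0,3])) (.word [5,0,4,3,0])) (.node (.word [1,5,3,4,0,2,0]) (.word [2,4,0,5,0,5,3]))) (.node (.node (.word [3,4,0,5,3,0,1]) (.word [1,2,5,0,3,4,0])) (.node (.word [0,4,2,1,5,2,0]) (.word [0,3,5,3,0,2])))) (.node (.node (.node (.node (.word [1,5,2,0,1]) (.word [0,3,5,0,5,4,3])) (.word [2,4,3,5,0,4,0])) (.node (.word [5,2,3,2,0]) (.word [3,0,1,3,5]))) (.node (.node (.word [0,1,4,5,2,4,0]) (.word [4,0,3,1,5,0])) (.node (.word [0,4,2,4,0,4,3])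 (.word [4,5,0,3,2]))))) (.node (.node (.node (.node (.node (.word [1,5,1,2,0,1]) (.word [3,4,3,5,0,3])) (.word [5,3,4,5,3,0])) (.node (.word [1,2,5,3,2,0]) (.word [3,2,0,3,4,5]))) (.node (.node (.word [0,3,0,5,2,3,0]) (.word [1,5,4,0,5,4,0])) (.node (.word [0,2,0,2,4,5]) (.word [1,4,1,5,0,2])))) (.node (.node (.node (.node (.word [1,5,2,1,3,0]) (.word [2,0,5,0,2,4,5])) (.word [5,3,1,2,4,0])) (.node (.word [2,3,4,0,4,2,0]) (.word [0,3,2,4,2,0,2]))) (.node (.node (.word [1,2,5,0,1,2,0]) (.word [0,4,2,3,0,2])) (.node (.word [0,2,4,5,3,0]) (.word [0,3,2,4,0,5,2])))))) (.node (.node (.node (.node (.node (.node (.word [0,3,1,3,0,5,1,3,0]) (.word [1,2,0,5,0,3])) (.word [5,3,0,5,3,0])) (.node (.word [4,0,5,1,3,0]) (.word [0,5,0,5,0,3,2]))) (.node (.node (.word [2,5,0,4,0,1]) (.word [2,1,5,3,4,0])) (.node (.word [4,0,4,5,2,0]) (.word [4,3,5,3,4,0,2])))) (.node (.node (.node (.node (.word [0,5,4,5,2,0]) (.word [0,3,0,2,5,3]))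 (.word [0,1,5,1,4,0])) (.node (.word [0,4,1,5,3,2,0]) (.word [1,5,0,1,2,0,2]))) (.node (.node (.word [0,1,2,4,0]) (.word [5,2,5,0])) (.node (.word [3,5,2,1,3,0]) (.word [2,4,0,2,4,2]))))) (.node (.node (.node (.node (.node (.word [2,5,0,3,5,0]) (.word [1,2,0,3,4,5])) (.word [4,2,0,4,0])) (.node (.word [0,3,0,1,3,2,0]) (.word [3,5,0,3,1]))) (.node (.node (.word [5,0,5,4,0,1]) (.word [0,3,2,4,5,4,0])) (.node (.word [4,0,5,2,4,5,2,5,2,1,5,0]) (.word [3,0,1,2,0,3])))) (.node (.node (.node (.node (.word [2,3,2,4,0,2]) (.word [4,5,0,4,5])) (.word [1,3,0,2,4,0,2])) (.node (.word [1,5,0,1,5,0,3]) (.word [0,4,0,3,0,2]))) (.node (.node (.word [0,4,3,2,0,2,0]) (.word [0,1,5,3,4,5,0])) (.node (.word [3,1,4,2,3,0]) (.word [0,5,0,4,5,2]))))))) (.node (.node (.node (.node (.node (.node (.node (.word [4,2,5,3,0,3,0,1,2,0,5,0,3,5]) (.word [3,5,1,4,0,3])) (.word [5,2,0,2,5,1,2,0,1])) (.node (.word [0,5,0,5,0,2,0]) (.word [1,5,0,3,1,2,3])))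 (.node (.node (.word [2,0,4,0,5,3,5]) (.word [1,5,0,1,3,5])) (.node (.word [3,2,5,2,0]) (.word [2,4,0,2])))) (.node (.node (.node (.node (.word [1,3,4,0,3,0,2]) (.word [2,3,0,3,0,5,3])) (.word [5,1,2,1,4,0])) (.node (.word [1,5,4,3,2,0]) (.word [2,0,4,5,1]))) (.node (.node (.word [0,2,0,5,2,3]) (.word [1,3,0,2,5,0])) (.node (.word [4,2,0,2,1,3,0]) (.word [0,2,0,5,3,2]))))) (.node (.node (.node (.node (.node (.word [0,1,3,4,0,3,2]) (.word [0,3,2,3])) (.word [1,5,0,1,4,0])) (.node (.word [4,5,4,1,2,0]) (.word [0,5,4,0,3,1]))) (.node (.node (.word [1,2,3,2,0,2]) (.word [2,1,4,2,0,2])) (.node (.word [0,4,0,2,5,0,2]) (.word [4,2,3,5,0,2])))) (.node (.node (.node (.node (.word [4,1,5,3,5,0,1]) (.word [5,3,0,5,3,5])) (.word [4,3,2,4,0])) (.node (.word [2,4,2,0]) (.word [0,3,2,0,4,5]))) (.node (.node (.word [2,0,2,4,5,2,0]) (.word [5,0,4,5,0])) (.node (.word [4,1,2,3,0]) (.word [3,5,0,5,2])))))) (.node (.node (.node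 (.node (.node (.node (.word [4,1,5,1,0,4,2,1,5,0,3,1,4,2,4,1,3,0,4,3,0]) (.word [3,1,5,0,3])) (.word [2,4,1,5,3,0])) (.node (.word [3,4,5,0,2,0]) (.word [0,1,5,0,5,3,5]))) (.node (.node (.word [1,2,3,4,0,3,2]) (.word [0,3,2,0,5,4,0])) (.node (.word [3,0,1,3,0]) (.word [3,2,5,2,3,0,1,4,0,4,2,4,0])))) (.node (.node (.node (.node (.word [0,1,3,0,5,2,5,4,3,5,4,0]) (.word [2,5,2,0,3,5])) (.word [0,4,5,0,4,5,1])) (.node (.word [5,2,3,0,2,3,0,2,5,2,3]) (.word [0,4,2,0,4,3]))) (.node (.node (.word [2,5,2,0,1,2,0]) (.word [0,3,0,5,0,5,2])) (.node (.word [5,1,4,1,3,0]) (.word [3,0,3,0,5,2]))))) (.node (.node (.node (.node (.node (.word [2,0,5,3,2,4,1,3,0,1]) (.word [0,3,0,4,3])) (.word [0,4,5,3,0,4,0])) (.node (.word [4,5,0,3,2,0]) (.word [0,2,0,5,3,1]))) (.node (.node (.word [3,2,5,4,5,4,0]) (.word [3,1,3,4,0,5,2])) (.node (.word [2,1,4,3,0,3,0]) (.word [1,4,0,2,5,3])))) (.node (.node (.node (.node (.word [1,3,4,3,0])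 (.word [0,2,0,3,4,5])) (.word [0,3,5,2,4,0])) (.node (.word [0,1,3,5,4,0]) (.word [1,2,4,0,4,5]))) (.node (.node (.word [3,1,3,0,5,3,0]) (.word [0,2,0,2,1])) (.node (.word [1,3,5,2,3,0]) (.word [1,2,0,5,0,3,5])))))))) (.node (.node (.node (.node (.node (.node (.node (.node (.word [2,5,0,1,2,0,1]) (.word [4,3,5,3,0,3])) (.word [5,3,4,3,0])) (.node (.word [0,4,5,0,2,0,3]) (.word [2,1,5,0,2,1]))) (.node (.node (.word [3,1,4,2,4,5,3,0,4,0]) (.word [0,5,2,4,5,2])) (.node (.word [2,5,2,0]) (.word [0,4,5,3,0,5,3])))) (.node (.node (.node (.node (.word [0,3,2,5,2,0,1]) (.word [3,1,2,0,5,3])) (.word [0,3,1,4,5,0,3])) (.node (.word [0,5,0,4,3,2,0]) (.word [2,4,5,0,1,3,5]))) (.node (.node (.word [0,5,4,0,2,0,1,4,2,3,2,0]) (.word [0,2,0,2,5,0])) (.node (.word [2,4,2,0,5,0,3]) (.word [2,5,4,0,2,3,2]))))) (.node (.node (.node (.node (.node (.word [3,0,3,2,0,1]) (.word [0,5,4,5,0,3])) (.word [0,1,2,4,5,4,0])) (.node (.word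 [1,2,3,1,5,0]) (.word [2,5,1,3,0,3,1]))) (.node (.node (.word [2,3,4,0,1]) (.word [3,1,5,4,0])) (.node (.word [3,2,0,3,0]) (.word [4,3,2,5,0,2])))) (.node (.node (.node (.node (.word [5,1,3,0,1]) (.word [0,3,0,4,3,5])) (.word [1,3,2,4,0])) (.node (.word [4,1,4,2,0]) (.word [2,4,5,4,2,0,2]))) (.node (.node (.word [0,4,3,2,5,0,2]) (.word [2,0,4,5,0])) (.node (.word [0,2,3,0]) (.word [3,5,4,0,5,2])))))) (.node (.node (.node (.node (.node (.node (.word [3,4,5,2,0,1,0,5,3,0,2,0,1]) (.word [2,1,5,0,5,0,3])) (.word [1,3,4,0,5,3,0])) (.node (.word [0,3,5,0,3,0,3]) (.word [0,5,4,3,0,5,2]))) (.node (.node (.word [2,5,4,2,3,0]) (.word [1,4,5,3,4,0])) (.node (.word [2,4,5,2,0]) (.word [5,4,5,4,0,2])))) (.node (.node (.node (.node (.word [4,0,5,0,4,5,1]) (.word [2,0,3,5])) (.word [1,4,5,1,4,0])) (.node (.word [2,4,5,3,2,0]) (.word [3,1,4,0,2,0,2]))) (.node (.node (.word [2,0,1,2,0]) (.word [0,5,3,0,2])) (.node (.word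 [2,0,4,1,3,0]) (.word [0,5,2]))))) (.node (.node (.node (.node (.node (.word [2,0,2,4,2,0,1]) (.word [3,0,2,0,4,3])) (.word [2,0,4,2,3,0,2])) (.node (.word [0,5,0,2,3,2,0,4,0,5,4,0,1]) (.word [4,1,2,3]))) (.node (.node (.word [4,2,0,5,3,5,4,5,0,4,0]) (.word [1,5,0,5,0])) (.node (.word [2,3,0,3,0]) (.word [5,3,0,2,3,0,3])))) (.node (.node (.node (.node (.word [2,0,1,2,5,0]) (.word [2,4,0,2,4,5])) (.word [4,5,1,2,5,4,0,3,2,0,5,2])) (.node (.word [3,4,5,4,2,0]) (.word [4,1,3,0,2]))) (.node (.node (.word [0,5,2,0,2,0]) (.word [4,5,0,5,4,5,0])) (.node (.word [5,2,3,0]) (.word [4,2,0,2,0,3]))))))) (.node (.node (.node (.node (.node (.node (.node (.word [2,0,3,0,3,0,5,0,3,2]) (.word [2,3,5,4,0,3])) (.word [0,2,0,2,0,3,5,1,3,4,2,0,1])) (.node (.word [0,1,5,0,2,0,3]) (.word [4,1,2,0,3,1]))) (.node (.node (.word [1,5,2,4,5,0,2]) (.word [0,5,1,4,2,0,2])) (.node (.word [0,1,2,4,2,3,0]) (.word [2,1,2,4,0,2])))) (.node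 (.node (.node (.node (.word [2,0,1,3,0,1]) (.word [0,1,5,0,5,3])) (.word [0,5,0,1,5,0,2])) (.node (.word [1,3,0,5,3,2,0]) (.word [0,1,2,4,5]))) (.node (.node (.word [2,5,3,5,0,1]) (.word [0,2,5,2,5,0])) (.node (.word [3,4,2,0,2,1]) (.word [4,5,0,5,3,2]))))) (.node (.node (.node (.node (.node (.word [1,3,2,0,3,4,5]) (.word [2,0,4,2,3])) (.word [0,4,0,4,2,0,3])) (.node (.word [4,5,1,2,0]) (.word [4,5,4,0,3,1]))) (.node (.node (.word [1,2,4,1,5,4,0]) (.word [5,3,5,4,0])) (.node (.word [1,5,2,0,3,0]) (.word [4,0,4,5,0,2])))) (.node (.node (.node (.node (.word [0,3,2,3,0,1]) (.word [3,0,3,0,4,5])) (.word [0,1,4,2,4,0])) (.node (.word [5,2,4,2,0]) (.word [2,0,3,0,2]))) (.node (.node (.word [5,1,2,0,2,0]) (.word [1,2,4,5,0])) (.node (.word [5,0,3,2,3,0]) (.word [5,0,5,0,3,5,2])))))) (.node (.node (.node (.node (.node (.node (.word [1,2,0,1]) (.word [0,3,5,0,3])) (.word [0,4,5,3,0])) (.node (.word [0,5,0,3,1,2,0])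 (.word [0,3,1]))) (.node (.node (.word [2,3,4,2,0,3]) (.word [0,2,3,0,5,4,0])) (.node (.word [0,3,4,0,1,3,0]) (.word [1,5,0,5,0,2])))) (.node (.node (.node (.node (.word [5,0,4,5,1,0,4,5,4,5,0]) (.word [1,3,4,0,3,5])) (.word [2,0,5,0,2,4,0])) (.node (.word [0,1,3,4,0,5,3]) (.word [5,3,2,0,2]))) (.node (.node (.word [0,4,3,0,1,2,0]) (.word [0,5,0,3,5,0])) (.node (.word [0,5,4,1,3,0]) (.word [4,0,5,2]))))) (.node (.node (.node (.node (.node (.word [3,4,5,4,2,0,1]) (.word [5,2,4,0,4,3])) (.word [0,2,5,0,4,0])) (.node (.word [0,1,2,3,2,3,0]) (.word [4,0,2,5,3,1]))) (.node (.node (.word [1,4,3,0]) (.word [3,4,0,2,1,5,0])) (.node (.word [2,4,5,3,0,3,0]) (.word [1,5,4,0,3,2])))) (.node (.node (.node (.node (.word [3,2,0,5,3,5,2,4,0,2,1]) (.word [0,4,0,5,4,5])) (.word [0,4,3,0,5,3])) (.node (.word [5,0,5,2,0]) (.word [3,4,3,0,2]))) (.node (.node (.word [0,1,3,5,0,2,0]) (.word [5,4,2,0,2,1])) (.node (.word [5,2,0,4,3,0])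 (.word [1,5,2,4,2,0,3])))))))))

/-- A subtree. -/
def wt9 : WTree :=
  (.node (.node (.node (.node (.node (.node (.node (.node (.node (.word [2,3,1,4,3,2,3,4,0,1,5,4,0]) (.word [2,0,5,0,3,0,3])) (.word [0,5,1,4,5,0,2])) (.node (.word [1,4,5,0,2,0,3]) (.word [1,4,5,0,2,3,2]))) (.node (.node (.word [0,2,5,3,0,1]) (.word [1,4,5,3,4,0,2])) (.node (.word [2,0,4,1,5,2,0]) (.word [0,1,4,5,3,0,2])))) (.node (.node (.node (.node (.word [1,3,4,5,2,5,0]) (.word [3,2,0,2,0,5,3])) (.word [2,4,5,0,4,0])) (.node (.word [0,2,3,5,0,2]) (.word [1,5,4,5,0,3,5]))) (.node (.node (.word [0,1,3,5,0,1]) (.word [1,5,2,3,5,0])) (.node (.word [0,1,3,5,0,3,0]) (.word [3,5,4,2,0,3]))))) (.node (.node (.node (.node (.node (.word [0,4,0,4,1,3,0]) (.word [2,1,4,5,0,3])) (.word [2,1,3,4,0,5,2])) (.node (.word [0,5,3,0,1,3,0]) (.word [4,0,3,0,3,1]))) (.node (.node (.word [5,0,3,4,0,1]) (.word [3,2,5,0,5,4,0])) (.node (.word [1,4,1,2,0,3,0])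 (.word [4,0,2,5,0,2])))) (.node (.node (.node (.node (.word [2,0,5,3,0,5,0,3,2,3]) (.word [0,4,5,0,3,5])) (.word [2,5,1,3,5,4,0])) (.node (.word [0,1,5,0,4,2,0]) (.word [2,0,3,0,2,4,2]))) (.node (.node (.word [1,3,0,4,1,3,0]) (.word [0,4,2,3,5,0])) (.node (.word [0,4,5,1,3,0]) (.word [0,1,3,4,0,5,2])))))) (.node (.node (.node (.node (.node (.node (.word [0,4,0,1,2,0,3]) (.word [5,3,0,5,0,3])) (.word [0,1,4,0,5,3,0])) (.node (.word [0,3,0,4,0,3,0,2,4,2,4,0,2]) (.word [3,5,3,0,5,3]))) (.node (.node (.word [1,5,4,1,3,0,1,4,5,0,2,3,2]) (.word [3,4,0,3,2,1])) (.node (.word [2,1,4,5,2,0]) (.word [4,0,5,4,0,2])))) (.node (.node (.node (.node (.word [2,5,2,0,3,0,1]) (.word [0,5,0,2,5,3])) (.word [3,4,0,5,1,4,0])) (.node (.word [0,4,5,3,4,0]) (.word [4,0,3,0,2,0,2]))) (.node (.node (.word [0,3,2,1,4,1,4,2,5,3,0]) (.word [2,3,5,2,5,0])) (.node (.word [0,2,3,5,4,0,3]) (.word [5,2,1,5,0,3,5]))))) (.node (.node (.node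 (.node (.node (.word [5,1,4,2,0,1]) (.word [3,2,5,2,3])) (.word [0,3,4,2,0,4,0])) (.node (.word [1,2,1,2,0,3,0]) (.word [2,0,4,5,0,3,1]))) (.node (.node (.word [0,2,5,3,2,0,3]) (.word [3,5,3,4,5,4,0])) (.node (.word [1,2,0,3,0,3,0]) (.word [0,5,1,2,0,3])))) (.node (.node (.node (.node (.word [3,0,5,4,0,3]) (.word [5,2,0,2,4,5])) (.word [0,5,3,4,2,4,0])) (.node (.word [0,3,4,5,0]) (.word [2,5,0,3,0,2]))) (.node (.node (.word [4,2,0,2,0]) (.word [0,3,0,5,4,5,0])) (.node (.word [0,4,2,0,5,3,0]) (.word [0,5,4,5,2]))))))) (.node (.node (.node (.node (.node (.node (.node (.word [0,2,5,2,4,2,0]) (.word [5,2,4,0,3])) (.word [2,1,2,0,5,3,0])) (.node (.word [2,4,0,5,4,0,2]) (.word [5,4,5,0,2,1]))) (.node (.node (.word [5,1,5,4,5,2,4,0,5,2]) (.word [4,3,2,3,4,0])) (.node (.word [2,5,3,2,5,2,0]) (.word [3,0,2,4,0,2])))) (.node (.node (.node (.node (.word [1,5,2,3,5,0,3]) (.word [4,0,5,3])) (.word [4,3,2,1,4,0])) (.node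 (.word [5,3,2,0]) (.word [0,3,4,0,5,3,5,0,2,0,2]))) (.node (.node (.word [5,3,5,0,1]) (.word [0,1,3,5,0,3,2])) (.node (.word [2,4,3,2,5,0,2]) (.word [4,3,0,5,3,2]))))) (.node (.node (.node (.node (.node (.word [1,2,3,2,0,1]) (.word [2,0,2,4,0,4,5])) (.word [0,3,4,5,0,3,5])) (.node (.word [2,4,0,4,1,3,2,4,0,2,4,5]) (.word [2,0,3,4,0,3,1]))) (.node (.node (.word [0,2,1,3,0,3,1,4,0,3,5]) (.word [4,3,5,4,0])) (.node (.word [3,5,4,2,0,3,0]) (.word [0,1,4,5,0,2])))) (.node (.node (.node (.node (.word [1,3,0,2,3,0,1]) (.word [4,5,3,5])) (.word [0,2,4,3,2,4,0])) (.node (.word [2,3,2,4,2,0]) (.word [0,1,3,0,2]))) (.node (.node (.word [1,4,0,3,0,4,5]) (.word [0,2,5,0,4,5,0])) (.node (.word [0,3,5,1,2,3,0]) (.word [3,0,3,5,2])))))) (.node (.node (.node (.node (.node (.node (.word [0,2,4,3,0,4,5]) (.word [2,5,0,3])) (.word [4,2,5,3,0])) (.node (.word [0,5,1,4,0,4,3]) (.word [4,5,2,1]))) (.node (.node (.word [2,4,1,5,0,5,1,4,2,1,2,3,0,1,4,0])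 (.word [0,3,5,0,3,5,2])) (.node (.word [4,0,1,3,0]) (.word [5,0,4,0,5,0,2])))) (.node (.node (.node (.node (.word [1,4,3,1,2,0,4,0,5,1,3,0,1]) (.word [2,5,0,4,0,3,5])) (.word [1,3,0,4,5,0,3])) (.node (.word [2,0,2,1,5,0]) (.word [2,4,1,2,0,2]))) (.node (.node (.word [0,1,3,0,1,2,0]) (.word [2,4,0,3,5,0])) (.node (.word [0,3,5,4,5,3,0]) (.word [3,2,3,0,5,2]))))) (.node (.node (.node (.node (.node (.word [5,0,5,4,2,0,1]) (.word [2,5,0,4,3])) (.word [1,5,0,4,0])) (.node (.word [2,5,1,5,0]) (.word [0,5,0,5,3,1]))) (.node (.node (.word [0,2,3,5,0,3,1]) (.word [2,4,5,2,1])) (.node (.word [0,4,0,4,5,3,0]) (.word [3,4,0,3,2])))) (.node (.node (.node (.node (.word [4,5,1,2,5,0]) (.word [0,2,3,4,5])) (.word [2,0,4,0,4,5,2])) (.node (.word [1,5,0,3,5,0,4,0,5,3,4,0]) (.word [2,0,4,3,0,2]))) (.node (.node (.word [0,4,0,1,3,0]) (.word [5,0,2,0,2,1])) (.node (.word [0,2,0,4,3,0]) (.word [4,3,2,0,3])))))))) (.node (.node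 (.node (.node (.node (.node (.node (.node (.word [1,5,0,5,4,2,0]) (.word [3,0,4,0,3])) (.word [2,5,0,3,4,0,5,4,3,0,3,1])) (.node (.word [3,0,5,0,2,0]) (.word [3,0,5,0,2,1]))) (.node (.node (.word [0,1,2,0,4,0,1]) (.word [0,2,0,2,3,4,0])) (.node (.word [0,5,4,5,0,3,5]) (.word [0,3,0,4,0,2])))) (.node (.node (.node (.node (.word [0,4,3,5,2,0,1]) (.word [3,0,2,4,0,5,3])) (.word [1,2,1,4,0])) (.node (.word [0,3,2,4,3,2,0]) (.word [5,0,4,1,3,5]))) (.node (.node (.word [1,5,0,3,5,0,1]) (.word [5,2,0,2,5,0])) (.node (.word [5,2,0,5,3,0,4,5]) (.word [3,0,2,5,3,2]))))) (.node (.node (.node (.node (.node (.word [1,3,2,0,1]) (.word [2,4,0,2,3])) (.word [4,2,5,0,4,0])) (.node (.word [0,5,4,1,2,0]) (.word [0,4,0,3,1]))) (.node (.node (.word [4,2,3,4,0,1]) (.word [1,5,4,5,0,5,3])) (.node (.word [0,2,5,4,1,3,0]) (.word [4,0,3,5,0,2])))) (.node (.node (.node (.node (.word [1,5,1,3,0,1]) (.word [4,5,0,4,3,5])) (.word [2,5,3,0,2,4,5]))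 (.node (.word [0,1,5,4,1,3,0]) (.word [4,0,2,0,4,5]))) (.node (.node (.word [3,5,2,4,1,5,2,0,5,0,5,3]) (.word [5,2,0,4,5,0])) (.node (.word [0,3,4,0,2,3,0]) (.word [1,2,0,5,0,5,2])))))) (.node (.node (.node (.node (.node (.node (.word [1,5,2,0,1,3,0,5,1,5,3,2]) (.word [1,5,0,3])) (.word [1,5,3,0])) (.node (.word [0,4,5,0,2,0]) (.word [0,3,0,5,2,1]))) (.node (.node (.word [3,2,3,0,4,0,3]) (.word [5,0,1,5,4,0])) (.node (.word [2,5,4,5,2,0]) (.word [1,4,0,1,5,0,2])))) (.node (.node (.node (.node (.word [0,4,5,2,4,0,3,0,3,0,2,4,2]) (.word [4,5,0,2,0,3,5])) (.word [0,2,4,0])) (.node (.word [0,3,0,2,5,3,5]) (.word [0,3,4,1,2,0,2]))) (.node (.node (.word [0,4,2,0,1,2,0]) (.word [0,4,0,5,3,0,2])) (.node (.word [4,0,4,1,3,0]) (.word [3,1,4,2,0,5,2]))))) (.node (.node (.node (.node (.node (.word [3,4,2,0,1]) (.word [5,4,2,0,4,3])) (.word [3,2,0,5,3,2])) (.node (.word [5,0,3,2,0]) (.word [0,1,5,4,3]))) (.node (.node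 (.word [2,4,5,4,0,1]) (.word [0,4,0,1,5,4,5])) (.node (.word [5,2,3,0,3,0]) (.word [2,0,4,2,3,0,3])))) (.node (.node (.node (.node (.word [0,3,0,1,2,5,0]) (.word [5,2,4,5])) (.word [2,5,2,4,0])) (.node (.word [2,3,0,1,5,2,0]) (.word [0,4,5,1,3,0,2]))) (.node (.node (.word [2,5,2,0,2,0]) (.word [1,3,0,4,3,0,2])) (.node (.word [2,4,0,5,2,3,0]) (.word [1,3,0,2,0,3]))))))) (.node (.node (.node (.node (.node (.node (.node (.word [2,3,0,2,0,1]) (.word [0,5,0,3])) (.word [0,1,3,0,5,3,0])) (.node (.word [5,4,1,3,0,2,1,3,4,0]) (.word [0,4,0,3,2,1]))) (.node (.node (.word [0,5,0,4,0,1]) (.word [5,3,4,0])) (.node (.word [0,4,0,3,4,5]) (.word [2,0,2,3,4,0,2])))) (.node (.node (.node (.node (.word [2,5,0,1,3,0,1]) (.word [2,5,0,5,0,5,3])) (.word [2,3,1,4,0])) (.node (.word [1,4,0,4,2,4,0]) (.word [2,0,2]))) (.node (.node (.word [0,2,4,0,2,5,3]) (.word [0,2,3,2,5,0])) (.node (.word [1,3,2,0,2,1]) (.word [0,3,0,2,4,2])))))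 (.node (.node (.node (.node (.node (.word [3,1,3,4,2,0,3]) (.word [2,5,0,4,2,3])) (.word [2,3,2,0,4,0])) (.node (.word [0,3,2,0]) (.word [4,3,0,5,0,3,1]))) (.node (.node (.word [0,5,0,4,5,3,5]) (.word [1,4,5,2,0,4,3])) (.node (.word [0,3,5,2,0,3,0]) (.word [5,2,4,5,0,2])))) (.node (.node (.node (.node (.word [3,2,4,0,2,3,4,2,0,1,2,0]) (.word [0,2,4,0,4,5])) (.word [5,0,4,2,4,0])) (.node (.word [0,1,4,2,3,5,0]) (.word [0,3,0,3,0,2]))) (.node (.node (.word [0,3,2,0,2,0]) (.word [3,4,5,0])) (.node (.word [0,4,5,0,2,3,2]) (.word [4,2,0,4,5,2])))))) (.node (.node (.node (.node (.node (.node (.word [2,0,2,5,2,3,0]) (.word [4,1,3,5,0,3])) (.word [2,4,5,3,0])) (.node (.word [1,4,3,1,2,0]) (.word [3,4,0,2,0,3,1]))) (.node (.node (.word [1,5,2,4,0,1]) (.word [4,0,5,4,0])) (.node (.word [0,1,5,0,1,3,0]) (.word [4,0,3,4,5,2,4,0,5,2,1])))) (.node (.node (.node (.node (.word [2,1,3,0,1]) (.word [3,4,5,4,0,3,5])) (.word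 [5,2,1,2,4,0])) (.node (.word [2,0,5,0,3,4,0]) (.word [4,1,4,2,0,2]))) (.node (.node (.word [0,3,0,2,5,3,2]) (.word [2,3,5,0])) (.node (.word [2,0,5,1,3,0]) (.word [5,2,1,4,0,5,2]))))) (.node (.node (.node (.node (.node (.word [3,0,5,2,0,1]) (.word [5,4,5,0,4,3])) (.word [5,0,3,5,0,4,0])) (.node (.word [3,0,4,2,0,4,0]) (.word [2,0,2,0,1,3,5]))) (.node (.node (.word [1,4,3,0,4,3,0]) (.word [5,4,2,1,5,0])) (.node (.word [4,0,5,0,3,0]) (.word [3,0,5,2,4,0,3])))) (.node (.node (.node (.word [5,1,3,0,3,5,3,0,1]) (.word [2,3,0,3,4,0])) (.node (.word [2,1,5,2,0]) (.word [5,3,0,2]))) (.node (.node (.word [2,5,1,4,0,2,0]) (.word [3,0,2,1])) (.node (.word [2,3,0,4,3,0]) (.word [5,2,0,3])))))))))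

/-- A subtree. -/
def wt10 : WTree :=
  (.node (.node (.node (.node (.node (.node (.node (.node (.node (.word [0,1,2,0,1]) (.word [2,1,5,0,3,0,3])) (.word [2,5,0,4,3,0])) (.node (.word [1,4,0,5,3,4,0]) (.word [0,1,5,3,0,2,1]))) (.node (.node (.word [5,0,5,3,0,1]) (.word [2,0,2,1,3,4,0])) (.node (.word [5,1,2,0,2,5,3,0,4,2,0,4,0]) (.word [2,3,5,3,0,2])))) (.node (.node (.node (.node (.word [2,5,3,1,2,3,5,2,4,0,2,3,2,0,3]) (.word [0,2,0,5,3])) (.word [4,5,3,5,0,4,0])) (.node (.word [1,2,5,2,3,2,0]) (.word [2,5,0,1,3,5]))) (.node (.node (.word [4,0,5,1,2,0]) (.word [0,5,0,2,4,0,2])) (.node (.word [2,5,0,3,0]) (.word [0,2,3,2]))))) (.node (.node (.node (.node (.node (.word [0,5,4,2,0,3,0]) (.word [4,5,0,3])) (.word [3,2,0,1,2,3,2])) (.node (.word [2,0,4,1,2,0]) (.word [3,2,0,3,0,3,1]))) (.node (.node (.word [0,5,0,5,3,0,2]) (.word [0,5,0,5,4,0])) (.node (.word [0,2,0,3,0]) (.word [0,5,4,1,5,0,2])))) (.node (.node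 (.node (.node (.word [0,4,1,3,0,1]) (.word [2,1,4,5,0,3,5])) (.word [3,2,4,0])) (.node (.word [2,5,4,0,4,2,0]) (.word [0,4,0,5,3,2]))) (.node (.node (.word [3,5,0,1,2,0]) (.word [4,5,0,2,3,5,0])) (.node (.word [4,2,5,1,3,0]) (.word [3,5,2,4,0,5,2])))))) (.node (.node (.node (.node (.node (.node (.word [2,4,5,2,1,5,2,0,4,5,0]) (.word [5,4,2,0,5,0,3])) (.word [3,5,3,0,5,3,0])) (.node (.word [3,5,0,2,0]) (.word [1,2,0,2,4,5]))) (.node (.node (.word [2,4,0,1]) (.word [4,0,2,4,0,3])) (.node (.word [2,1,2,0,3,0]) (.word [0,5,4,0,2])))) (.node (.node (.node (.node (.word [0,2,0,5,2,0,3,5,0,1,3,0]) (.word [4,0,2,5,3])) (.word [3,2,0,5,1,4,0])) (.node (.word [0,2,5,3,2,0]) (.word [5,2,0,2,0,2]))) (.node (.node (.word [1,4,0,1,2,4,0]) (.word [2,5,2,5,0])) (.node (.word [0,3,1,2,0,4,5]) (.word [0,4,2,4,2]))))) (.node (.node (.node (.node (.node (.word [2,1,4,2,0,1]) (.word [4,5,0,5,2,3])) (.word [1,4,2,0,4,0])) (.node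 (.word [4,0,1,3,2,0]) (.word [2,3,5,0,3,1]))) (.node (.node (.word [1,5,4,0,1]) (.word [4,2,4,5,4,0])) (.node (.word [5,0,1,5,0,3,0,4,3,0]) (.word [2,3,2,0,3])))) (.node (.node (.node (.node (.word [1,2,3,2,4,0,2]) (.word [2,4,5])) (.word [2,1,3,4,2,4,0])) (.node (.word [4,5,0,5,4,2,0]) (.word [5,0,3,0,2]))) (.node (.node (.word [5,3,2,0,2,0]) (.word [4,5,3,4,5,0])) (.node (.word [4,2,4,2,3,0]) (.word [2,0,4,0,3,5]))))))) (.node (.node (.node (.node (.node (.node (.node (.word [1,5,2,0,2,0,1]) (.word [0,1,2,4,0,3])) (.word [2,5,0,1,5,3,0])) (.node (.word [2,4,2,0,5,3,4,0,2,4,0,3]) (.word [4,5,0,2,1]))) (.node (.node (.word [2,0,1,2,3,0,2]) (.word [3,2,3,4,0])) (.node (.word [1,2,4,2,0,2]) (.word [5,0,1,2,4,0,2])))) (.node (.node (.node (.node (.word [1,4,5,2,0,1]) (.word [4,1,3,0,5,3])) (.word [4,0,3,2,1,4,0])) (.node (.word [3,5,4,3,2,0]) (.word [4,2,0,4,5,1]))) (.node (.node (.word [1,2,0,5,2,3]) (.word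 [4,0,2,5,0])) (.node (.word [5,4,5,0,2,1,5,0,2,3,2]) (.word [5,2,0,5,3,2]))))) (.node (.node (.node (.node (.node (.word [0,2,3,2,0,1]) (.word [0,1,5,0,3,2,3])) (.word [4,5,0,1,4,0])) (.node (.word [2,0,1,2,5,2,0]) (.word [4,2,4,0,3,1]))) (.node (.node (.word [5,1,2,0,3,2,1,4,3,0,5,2]) (.word [2,3,5,4,0])) (.node (.word [0,3,4,2,5,3,0]) (.word [5,4,3,5,0,2])))) (.node (.node (.node (.node (.word [0,1,2,3,2,5,0]) (.word [5,4,0,5,3,5])) (.word [1,2,0,2,3,4,0])) (.node (.word [0,5,3,0,4,2,5,3,0]) (.word [3,4,2,0,4,5]))) (.node (.node (.word [2,0,3,0,5,3,5]) (.word [4,0,5,0,4,5,0])) (.node (.word [2,4,0,2,4,0]) (.word [0,3,5,2])))))) (.node (.node (.node (.node (.node (.node (.word [0,2,3,1,4,0]) (.word [4,3,1,5,0,3])) (.word [5,4,1,5,3,0])) (.node (.word [0,1,2,3]) (.word [5,0,3,5,2,1]))) (.node (.node (.word [0,4,2,4,0,1]) (.word [0,4,2,0,5,4,0])) (.node (.word [3,5,2,3,0,3,0]) (.word [2,5,3,0,5,0,2])))) (.node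 (.node (.node (.node (.word [0,5,0,3,0,1]) (.word [5,4,5,2,0,3,5])) (.word [4,3,0,2,4,0])) (.node (.word [1,5,0,5,0,5,2]) (.word [0,4,1,2,0,2]))) (.node (.node (.word [4,5,2,0,1,2,0]) (.word [2,5,3,0,3,5,0])) (.node (.word [1,2,1,4,5,0,3]) (.word [1,3,0,5,2]))))) (.node (.node (.node (.node (.node (.word [1,5,4,5,0,4,5,2,0,1,5,0,3]) (.word [1,5,0,2,0,5,3])) (.word [2,0,1,5,0,4,0])) (.node (.word [0,2,1,3,2,0]) (.word [3,0,5,3,1]))) (.node (.node (.word [2,0,5,0,1]) (.word [5,2,5,3,5])) (.node (.word [5,3,0,3,0]) (.word [0,2,4,0,3,2])))) (.node (.node (.node (.node (.word [1,5,1,2,5,0]) (.word [0,3,0,3,4,5])) (.word [0,1,4,3,5,4,0])) (.node (.word [1,3,2,4,0,5,2]) (.word [1,2,3,2,5,0,2]))) (.node (.node (.word [0,1,2,5,0,4,0]) (.word [0,3,0,5,0,3,2])) (.node (.word [4,5,2,3,0]) (.word [0,3,2,0,3])))))))) (.node (.node (.node (.node (.node (.node (.node (.node (.word [1,5,4,5,0,3,0]) (.word [5,4,5,3,0,3]))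 (.word [0,5,3,0])) (.node (.word [5,2,0,2,5,0,3,0,3,0,2]) (.word [1,4,3,5,0,2]))) (.node (.node (.word [4,0,1]) (.word [0,2,3,4,0])) (.node (.word [4,3,0,2,5,2,0]) (.word [0,2,0,4,0,2])))) (.node (.node (.node (.node (.word [3,2,5,2,1,5,0]) (.word [5,4,2,0,5,3])) (.word [3,2,0,2,1,4,0])) (.node (.word [0,1,2,4,3,2,0]) (.word [2,0,4,1,3,5]))) (.node (.node (.word [2,3,0,3,5,0,1]) (.word [1,2,0,2,5,0])) (.node (.word [2,4,5,0,3,0]) (.word [1,2,4,5,0,3,5]))))) (.node (.node (.node (.node (.node (.word [3,4,0,5,3,2]) (.word [4,0,2,3])) (.word [5,0,5,0,2,0,1,2,4,0,5,3])) (.node (.word [0,5,1,4,0,3]) (.word [2,3,0,3,0,5,2]))) (.node (.node (.word [2,4,0,2,3,2]) (.word [1,2,3,5,3,0,3])) (.node (.word [0,2,3,2,0,3,0]) (.word [0,3,5,0,2])))) (.node (.node (.node (.node (.word [2,0,5,1,3,0,1]) (.word [5,2,4,0,4,3,5])) (.word [1,3,1,2,4,0,3])) (.node (.word [5,0,4,1,4,2,0]) (.word [3,2,0,2,0,4,5]))) (.node (.node (.word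 [0,3,4,2,5,2,0]) (.word [2,3,2,0,4,5,0])) (.node (.word [3,0,2,3,0]) (.word [0,1,5,0,5,2])))))) (.node (.node (.node (.node (.node (.node (.word [2,4,0,2,0,1]) (.word [4,2,5,0,5,0,3])) (.word [3,4,5,0,3,0,1,5,3,5,0,3])) (.node (.word [3,0,3,5,2,0,3,0,3,2,0]) (.word [2,1,4,3,0,5,2]))) (.node (.node (.word [0,3,2,4,0,1]) (.word [0,1,5,4,0])) (.node (.word [2,5,3,0,4,0]) (.word [0,1,5,0,2])))) (.node (.node (.node (.node (.word [1,2,3,0,3,0,1]) (.word [5,2,0,2,0,3,5])) (.word [3,1,2,4,5,4,0])) (.node (.word [4,2,0]) (.word [1,2,4,0,2,0,2]))) (.node (.node (.word [4,0,2,0,1,2,0]) (.word [3,0,5,3,0,2])) (.node (.word [0,3,0,4,1,3,0]) (.word [4,0,3,2,0,5,2]))))) (.node (.node (.node (.node (.node (.word [1,3,5,0,5,4,3]) (.word [1,3,2,0,4,3])) (.word [0,4,1,3,0,2])) (.node (.word [0,5,3,0,3,2,0]) (.word [0,1,4,3]))) (.node (.node (.word [0,5,3,5,4,0,1]) (.word [0,2,0,1,5,4,5])) (.node (.word [5,4,0,3,0,3,2,0,5,3,2])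 (.word [0,4,3,5,4,0,3])))) (.node (.node (.node (.node (.word [4,2,0,1,2,5,0]) (.word [1,5,0,2,4,5])) (.word [1,5,2,4,0])) (.node (.word [5,2,0]) (.word [3,5,1,3,0,2]))) (.node (.node (.word [1,4,5,3,5,2,0,2,0,3]) (.word [5,3,5,4,5,0])) (.node (.word [1,3,0,5,2,3,0]) (.word [1,5,2,0,2,0,3]))))))) (.node (.node (.node (.node (.node (.node (.node (.word [1,3,0,5,4,5,0]) (.word [4,5,4,0,3])) (.word [2,5,2,0,5,3,0])) (.node (.word [0,5,1,5,0,2,0]) (.word [2,3,0,3,2,1]))) (.node (.node (.word [0,3,4,3,0,2]) (.word [0,5,2,3,4,0])) (.node (.word [0,2,3,5,2,0]) (.word [1,2,4,2,4,0,2])))) (.node (.node (.node (.node (.word [5,4,0,1,3,0,1]) (.word [5,3,0,5,0,5,3])) (.word [3,4,2,1,4,0])) (.node (.word [1,4,1,5,2,0,4,5,2,0]) (.word [0,2,1,4,0,3,5]))) (.node (.node (.word [3,4,5,3,5,0,1]) (.word [0,3,2,5,0])) (.node (.word [3,0,3,2,0,2,1]) (.word [2,0,2,4,2]))))) (.node (.node (.node (.node (.node (.word [0,1,3,4,2,0,3])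 (.word [1,2,0,4,2,3])) (.word [0,4,0,5,1,3,5])) (.node (.word [1,4,5,1,2,0]) (.word [4,0,1,5,0,3,1]))) (.node (.node (.word [0,1,5,4,0,1]) (.word [0,4,5,4,0])) (.node (.word [2,5,2,0,3,0]) (.word [5,1,4,5,0,2])))) (.node (.node (.node (.node (.word [3,5,4,5,1,3,0,3,4,2,0,2]) (.word [4,3,0,4,5])) (.word [5,0,2,0,3,4,1,5,2,0])) (.node (.word [5,0,5,2,4,2,0]) (.word [3,1,2,0,3,0,2]))) (.node (.node (.word [3,5,1,2,0,2,0]) (.word [5,3,2,4,5,0])) (.node (.word [2,1,3,2,3,0]) (.word [5,3,5,2])))))) (.node (.node (.node (.node (.node (.node (.word [0,1,2,1,3,2,0]) (.word [0,5,0,3,5,0,3])) (.word [4,0,4,5,3,0])) (.node (.word [0,4,3,1,2,0]) (.word [1,3,0,2,0,3,1]))) (.node (.node (.word [0,1,5,2,4,0,1]) (.word [0,5,3,0,5,4,0])) (.node (.word [2,5,4,0,1,3,0]) (.word [3,5,0,5,0,2])))) (.node (.node (.node (.node (.word [0,1,4,2,1,5,0]) (.word [2,5,4,0,3,5])) (.word [1,3,5,0,2,4,0])) (.node (.word [1,5,2,0,2,0,2]) (.word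 [0,4,2,0,2]))) (.node (.node (.word [0,4,0,5,1,2,0,2,0,5,3]) (.word [1,3,5,0])) (.node (.word [0,5,1,3,0]) (.word [0,4,0,4,5,2]))))) (.node (.node (.node (.node (.node (.word [2,4,3,2,0,5,2]) (.word [4,0,5,4,0,4,3])) (.word [1,4,2,0,2,1])) (.node (.word [5,2,3,2,3,0]) (.word [0,1,3,5]))) (.node (.node (.word [1,5,2,0,5,4,5,1,2,5,0]) (.word [4,2,1,5,0])) (.node (.word [0,1,5,0,3,0]) (.word [0,5,0,3,2])))) (.node (.node (.node (.node (.word [0,5,4,0,2,0,3,1]) (.word [4,5,4,5])) (.word [2,0,3,4,0])) (.node (.word [0,3,5,0,5,2,0]) (.word [0,2,5,4,3,0,2]))) (.node (.node (.word [4,1,4,0,2,0]) (.word [0,5,2,0,2,1])) (.node (.word [5,0,3,0,4,3,0]) (.word [5,4,2,0,3])))))))))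

/-- A subtree. -/
def wt11 : WTree :=
  (.node (.node (.node (.node (.node (.node (.node (.node (.node (.word [2,0,1,5,4,5,0]) (.word [3,0,4,2,3])) (.word [2,3,4,3,0])) (.node (.word [5,0,2,0]) (.word [2,4,2,4,0,2,1]))) (.node (.node (.word [3,2,5,3,0,1]) (.word [5,1,3,4,0])) (.node (.word [1,4,1,5,2,0]) (.word [1,4,5,3,0,2])))) (.node (.node (.node (.node (.word [1,5,1,4,0,2,0]) (.word [2,4,0,2,0,5,3])) (.word [1,4,0])) (.node (.word [2,0,4,3,2,0]) (.word [3,5,0,1,3,5]))) (.node (.node (.word [2,0,3,5,0,1]) (.word [1,2,3,4,5,0,2])) (.node (.word [4,1,3,5,0,3,0]) (.word [1,4,0,2,3,2]))))) (.node (.node (.node (.node (.node (.word [0,2,5,4,5,4,0]) (.word [0,3,4,5,0,3])) (.word [0,4,0])) (.node (.word [5,0,4,1,2,0]) (.word [4,5,0,3,0,3,1]))) (.node (.node (.word [2,5,2,3,5,0,3]) (.word [4,5,0,5,4,0])) (.node (.word [2,5,0,3,0,2,1]) (.word [1,3,5,3,0,3])))) (.node (.node (.node (.node (.word [0,1,3,4,1,3,0])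 (.word [5,4,5,0,3,5])) (.word [4,3,0,3,2,4,0])) (.node (.word [0,3,5,0,4,2,0]) (.word [4,0,5,4,2,0,2]))) (.node (.node (.word [4,5,0,1,2,0]) (.word [4,2,5,4,0,3,5])) (.node (.word [2,3,4,5,1,3,0]) (.word [0,2,3,4,0,5,2])))))) (.node (.node (.node (.node (.node (.node (.word [0,2,5,0,3,5,0]) (.word [3,5,3,0,5,0,3])) (.word [3,2,4,0,5,3,0])) (.node (.word [0,2,3,5,0,2,0]) (.word [0,2,4,2,1]))) (.node (.node (.word [5,0,2,4,0,1]) (.word [5,3,5,3,4,0])) (.node (.word [1,4,5,3,0,5,3]) (.word [4,5,4,0,2])))) (.node (.node (.node (.node (.word [3,0,3,0,1]) (.word [4,5,0,2,5,3])) (.word [4,5,4,5,0,2])) (.node (.word [0,4,0,4,5,0,2]) (.word [0,4,0,2,0,2]))) (.node (.node (.word [1,2,4,1,2,3,0]) (.word [5,0,4,5,2,5,0])) (.node (.word [0,4,1,3,0]) (.word [5,0,4,5,4,2]))))) (.node (.node (.node (.node (.node (.word [0,4,3,0,5,3,1]) (.word [2,0,4,3])) (.word [0,5,3,4,5,0,3])) (.node (.word [0,3,0,3,0,2,0,3,1]) (.word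 [0,3,1,2,3]))) (.node (.node (.word [0,3,5,4,0,1]) (.word [1,3,5,4,5,4,0])) (.node (.word [0,2,0,2,0,3]) (.word [2,0,2,3,0,3])))) (.node (.node (.node (.node (.word [2,3,0,5,3,1]) (.word [4,3,0,2,4,5])) (.word [0,2,4,5,0,3,5])) (.node (.word [5,0,3,4,5,0]) (.word [1,3,5,0,3,0,2]))) (.node (.node (.word [1,3,4,2,0,2,0]) (.word [1,4,0,5,4,5,0])) (.node (.word [0,2,5,0,5,3,2]) (.word [0,3]))))))) (.node (.node (.node (.node (.node (.node (.node (.word [2,0,4,2,0,3,0]) (.word [1,2,5,4,0,3])) (.word [2,3,0,5,3,0])) (.node (.word [3,4,2,1,0,2,4,3,0,1,0,4,1,3,0,2,0,1,5,0,2,3,2]) (.word [0,3,2,1]))) (.node (.node (.word [0,1,4,0,5,3,5]) (.word [5,3,2,3,4,0])) (.node (.word [2,4,2,5,2,0]) (.word [1,4,0,2,4,0,2])))) (.node (.node (.node (.node (.word [0,4,1,4,0,2,0]) (.word [0,5,4,0,5,3])) (.word [0,4,2,1,4,0])) (.node (.word [0,1,4,5,3,2,0]) (.word [0,4,0,1,3,0,2]))) (.node (.node (.word [3,0,5,3,5,0,1]) (.word [4,2,4,0,2,5,0]))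 (.node (.word [3,2,1,3,0]) (.word [0,2,4,0,5,3,2]))))) (.node (.node (.node (.node (.node (.word [0,4,3,2,0,1]) (.word [3,0,5,3,2,3])) (.word [1,3,2,0,4,0])) (.node (.word [2,1,4,1,2,0,2]) (.word [5,4,0,3,1]))) (.node (.node (.word [1,2,4,2,5,2,0]) (.word [1,5,4,0,2,3])) (.node (.word [0,4,5,0,4,3,5]) (.word [0,3,0,4,5,0,2])))) (.node (.node (.node (.node (.word [1,2,3,0,1]) (.word [4,5])) (.word [2,5,3,2,4,0])) (.node (.word [3,2,3,0,2,1]) (.word [0,3,0,3,0,4,5]))) (.node (.node (.word [0,5,0,1,4,0]) (.word [2,0,2,4,5,0])) (.node (.word [2,0,1,3,2,3,0]) (.word [0,5,4,0,3,5,2])))))) (.node (.node (.node (.node (.node (.node (.word [0,2,3,0,5,0,2,4,0]) (.word [0,3,2,5,0,3])) (.word [0,5,2,5,3,0])) (.node (.word [0,3,1,4,0,3,1]) (.word [0,2,1,5,0,3,5]))) (.node (.node (.word [1,4,2,4,0,1]) (.word [2,0,3,0,5,4,0])) (.node (.word [2,4,0,1,3,0]) (.word [5,0,5,0,2])))) (.node (.node (.node (.node (.word [0,3,0,2,0,2,0])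 (.word [2,5,1,4,0,3,5])) (.word [0,1,3,5,3,0,2])) (.node (.word [3,0,4,2,0]) (.word [0,3,2,0,2]))) (.node (.node (.word [0,5,2,0,2,0,4,5,4,0,3]) (.word [1,3,4,0,3,5,0])) (.node (.word [0,3,4,1,3,0]) (.word [1,4,3,0,5,2]))))) (.node (.node (.node (.node (.node (.word [1,2,5,1,3,0,1]) (.word [0,2,4,0,4,3])) (.word [0,3,1,5,0,4,0])) (.node (.word [1,5,2,4,0,3]) (.word [0,5,0,1,3,0,2]))) (.node (.node (.word [0,4,0,5,0,1]) (.word [1,5,0])) (.node (.word [0,4,0,2,5,0,3]) (.word [5,4,0,3,2])))) (.node (.node (.node (.node (.word [0,1,5,3,0,1]) (.word [0,2,0,5,4,5])) (.word [3,4,0])) (.node (.word [0,1,4,0,5,2,0]) (.word [3,0,2,0,2,4,2]))) (.node (.node (.word [3,2,5,2,0,1,4,2,0,3,0]) (.word [1,2,0,4,5,1])) (.node (.word [2,4,2,0,5,3,0]) (.word [4,2,0,3])))))))) (.node (.node (.node (.node (.node (.node (.node (.node (.word [1,3,0,5,0,3]) (.word [1,4,0,3])) (.word [1,3,0,1,5,3,0])) (.node (.word [0,2,0,5,0,3]) (.word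 [5,0,5,0,2,1]))) (.node (.node (.word [2,0,4,5,1,3,0]) (.word [4,3,0,2,3,4,0])) (.node (.word [0,4,5,2,0,4,0]) (.word [0,5,0,4,0,2])))) (.node (.node (.node (.node (.word [2,4,0,2,5,0,3,0,1]) (.word [0,3,0,5,3])) (.word [2,3,1,4,0,3,5])) (.node (.word [2,4,2,3,5,0]) (.word [3,5,3,5,2]))) (.node (.node (.word [0,2,0,4,2,0]) (.word [0,3,0,2,5,0])) (.node (.word [0,2,1,3,0]) (.word [3,2,1,2,4,0,3]))))) (.node (.node (.node (.node (.node (.word [2,1,5,1,5,0]) (.word [5,4,0,2,3])) (.word [2,3,0,1,4,0])) (.node (.word [1,4,0,1,3,0,2]) (.word [0,1,4,0,2,3]))) (.node (.node (.word [5,2,0,1,5,4,2,0,4,5,2,4,0]) (.word [0,2,4,1,5,4,0])) (.node (.word [2,4,3,2,0,3,0]) (.word [2,1,3,5,0,2])))) (.node (.node (.node (.node (.word [2,4,5,3,0,4,0]) (.word [3,2,0,5,3,5])) (.word [2,3,2,3,4,0])) (.node (.word [0,2,0,2,1,3,0]) (.word [5,0,2,0,4,5]))) (.node (.node (.word [4,3,0,2,0,2,0]) (.word [5,0,3,0,4,5,0])) (.node (.word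 [3,0,5,0,2,3,0]) (.word [3,5,0,5,0,5,2])))))) (.node (.node (.node (.node (.node (.node (.word [0,5,4,0,2,0,1]) (.word [2,3,5,4,0,3,5])) (.word [4,1,5,3,0])) (.node (.word [1,5,0,5,2,0,1,5,0,3,0,3,0]) (.word [0,4,0,5,2,1]))) (.node (.node (.word [0,2,4,0,3,1]) (.word [0,2,0,5,4,0])) (.node (.word [2,1,4,5,2,5,0]) (.word [0,3,0,5,0,2])))) (.node (.node (.node (.node (.word [5,3,0,3,0,1]) (.word [5,4,2,0,3,5])) (.word [3,2,0,2,4,0])) (.node (.word [0,3,0,1,4,2,0]) (.word [1,5,0,2,0,2]))) (.node (.node (.word [4,2,4,2,1,4,5,0,5,0,3]) (.word [3,0,3,5,0])) (.node (.word [0,3,0,3,1,5,0]) (.word [3,0,5,2]))))) (.node (.node (.node (.node (.node (.word [2,4,1,3,0,1]) (.word [0,2,5,2,0,4,3])) (.word [3,5,3,0,4,0])) (.node (.word [3,5,0,3,2,0]) (.word [0,3,0,1,5,4,3]))) (.node (.node (.word [4,5,0,3,2,0,3,5,1,2,3,0]) (.word [4,0,3,2,0,1,3,5,4,0,3])) (.node (.word [0,4,3,0,3,0]) (.word [3,0,4,0,3,2])))) (.node (.node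 (.node (.node (.word [5,0,1,2,5,0]) (.word [5,4,0,5,2,4,5])) (.word [3,2,5,2,4,0])) (.node (.word [4,0,4,1,3,1,5,4,0,3,2]) (.word [0,2,3,0,2]))) (.node (.node (.word [2,5,2,0,2,5,0]) (.word [1])) (.node (.word [2,1,5,3,1,4,0]) (.word [2,5,0,2,0,3]))))))) (.node (.node (.node (.node (.node (.node (.node (.word [4,3,0,2,0,1]) (.word [4,0,1,5,0,3])) (.word [2,1,3,0,5,3,0])) (.node (.word [0,5,3,4,5,3,0]) (.word [0,1,2,3,2]))) (.node (.node (.word [1,5,2,0,3,0,2]) (.word [3,0,5,3,4,0])) (.node (.word [0,1,4,3,0,3,0]) (.word [5,3,4,0,2])))) (.node (.node (.node (.node (.word [2,0,3,0,1]) (.word [2,5,3])) (.word [1,5,3,1,4,0])) (.node (.word [2,1,5,3,2,0]) (.word [4,0,1,2,0,2]))) (.node (.node (.word [2,3,0,4,5,0,2]) (.word [1,3,4,5,0,2])) (.node (.word [5,3,2,0,2,1]) (.word [0,1,4,0,2,4,2]))))) (.node (.node (.node (.node (.node (.word [3,0,1,4,2,0,1]) (.word [0,5,2,3])) (.word [1,4,3,2,0,4,0])) (.node (.word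 [3,1,4,2,5,3,0]) (.word [1,5,3,5,0,3]))) (.node (.node (.word [3,0,5,4,0,1]) (.word [4,1,4,5,4,0])) (.node (.word [2,5,0,3,0,4,5]) (.word [3,2])))) (.node (.node (.node (.node (.word [2,5,4,1,3,0,5,0,5,3,5]) (.word [2,4,0,5,0,4,5])) (.word [0,3,1,3,0,3])) (.node (.word [1,4,0,3,0,2,1]) (.word [0,5,3,0,3,0,2]))) (.node (.node (.word [4,0,3,2,0,2,0]) (.word [4,1,5,3,0,2])) (.node (.word [4,2,3,0]) (.word [2,4,0,4,5,2])))))) (.node (.node (.node (.node (.node (.node (.word [1,2,5,0,5,2,3]) (.word [5,2,3,5,0,3])) (.word [0,5,2,4,5,3,0])) (.node (.word [2,1,2,4,2,0,3]) (.word [1,3,2,0,3,1]))) (.node (.node (.word [0,3,5,2,4,2,0]) (.word [0,3,0,4,2,3])) (.node (.word [4,1,5,0,1,3,0]) (.word [3,2,1,5,0,2])))) (.node (.node (.node (.node (.word [5,0,2,1,3,0,1]) (.word [2,0,5,0,3,5])) (.word [3,1,2,4,0])) (.node (.word [0,2,4,0,4,2,0]) (.word [0,2,4,2,0,2]))) (.node (.node (.word [1,5,0,1,2,0]) (.word [2,0,2,3,5,0]))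 (.node (.word [0,1,5,0,5,4,0]) (.word [0,2,4,0,5,2]))))) (.node (.node (.node (.node (.node (.word [5,0,5,2,0,1]) (.word [0,4,0,5,4,3])) (.word [2,3,5,0,4,0])) (.node (.word [3,4,2,3,2,0]) (.word [0,3,2,0,1,3,5]))) (.node (.node (.word [0,1,3,2,5,0]) (.word [0,1,3,1,5,0])) (.node (.word [0,5,4,5,0,4,3]) (.word [3,1,5,0,3,2])))) (.node (.node (.node (.word [4,0,5,3,0,1]) (.word [0,4,3,0,3,4,0])) (.node (.word [2,3,0,2,4,3,2,0,3,0,2,0,4,5,1]) (.word [5,3,2,5,3,0,2]))) (.node (.node (.word [3,0,4,0,5,4,0]) (.word [2,5,0,3,0,5,3])) (.node (.word [0,4,3,0,4,3,0]) (.word [1,2,5,2,0,3])))))))))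

/-- A subtree. -/
def wt12 : WTree :=
  (.node (.node (.node (.node (.node (.node (.node (.node (.node (.word [2,0,1]) (.word [5,4,0,1,3,0,3])) (.word [0,1,5,0,4,3,0])) (.node (.word [0,5,4,0,2,0]) (.word [5,3,0,2,1]))) (.node (.node (.word [1,2,5,0,5,0,3]) (.word [2,1,3,4,0])) (.node (.word [0,3,1,5,2,0]) (.word [1,3,5,3,0,2])))) (.node (.node (.node (.node (.word [0,3,1,5,2,0,1]) (.word [0,5,3])) (.word [5,3,5,0,4,0])) (.node (.word [1,4,5,2,5,3,0]) (.word [2,3,0,1,3,5]))) (.node (.node (.word [1,2,1,5,2,0]) (.word [1,2,0,2,3,0,3])) (.node (.word [5,1,5,0,3,0]) (.word [3,2,4,5,3,0,3]))))) (.node (.node (.node (.node (.node (.word [0,1,2,5,2,0,1]) (.word [2,5,3,5,0,3])) (.word [5,4,5,3,0])) (.node (.word [0,4,1,2,0]) (.word [0,3,0,3,1]))) (.node (.node (.word [0,3,4,5,4,5,0]) (.word [3,0,3,0,5,2,1])) (.node (.word [5,0,2,0,2,4,5]) (.word [3,4,1,5,0,2])))) (.node (.node (.node (.node (.word [0,4,5,0,4,3])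 (.word [1,4,5,0,3,5])) (.word [0,5,1,2,4,0])) (.node (.word [0,5,4,0,4,2,0]) (.word [2,3,2,4,2,0,2]))) (.node (.node (.word [5,2,5,0,1,2,0]) (.word [5,0,2,3,5,0])) (.node (.word [2,5,1,3,0]) (.word [2,4,2,4,0,5,2])))))) (.node (.node (.node (.node (.node (.node (.word [5,3,0,2,0,1]) (.word [3,2,0,5,0,3])) (.word [2,5,3,2,0,3,0,2,3,0,3])) (.node (.word [1,4,0,5,1,3,0]) (.word [1,5,3,2]))) (.node (.node (.word [0,1,2,3,1,5,0]) (.word [1,5,3,5,3,4,0])) (.node (.word [2,4,0,1,4,3,0,2,5,0,3,1]) (.word [3,4,5,3,4,0,2])))) (.node (.node (.node (.node (.word [4,5,4,5,3,0,1,2,3,0,3,0,1]) (.word [2,5,0,4,3,5])) (.word [4,0,1,5,1,4,0])) (.node (.word [5,4,1,5,3,2,0]) (.word [2,0,2,0,2]))) (.node (.node (.word [0,4,0,1,2,4,0]) (.word [3,4,5,2,5,0])) (.node (.word [0,5,0,2,3,4,0]) (.word [3,4,0,2,4,2]))))) (.node (.node (.node (.node (.node (.word [0,1,5,1,3,2,0]) (.word [5,0,5,2,3])) (.word [0,1,4,2,0,4,0])) (.node (.word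 [2,3,0,1,3,2,0]) (.word [2,0,3,5,0,3,1]))) (.node (.node (.word [0,4,0,2,0,2,1]) (.word [2,3,2,4,5,4,0])) (.node (.word [0,3,2,3,0,4,5]) (.word [4,0,1,2,0,3])))) (.node (.node (.node (.node (.word [2,1,5,2,0,2,0,2,0,3,4,5]) (.word [3,4,5,0,4,5])) (.word [4,0,2,0,1,3,5])) (.node (.word [0,3,5,0,5,3,2]) (.word [5,4,0,3,0,2]))) (.node (.node (.word [0,2,0,2,5,3,1]) (.word [2,1,5,3,4,5,0])) (.node (.word [0,2,4,2,3,0]) (.word [2,4,5,2]))))))) (.node (.node (.node (.node (.node (.node (.node (.word [5,2,0,2,0,1]) (.word [2,4,0,3])) (.word [5,0,1,5,3,0])) (.node (.word [2,5,0,5,0,2,0]) (.word [5,2,5,0,2,1]))) (.node (.node (.word [0,3,2,0,4,0,1]) (.word [2,3,0,4,0,3])) (.node (.word [2,3,2,5,2,0]) (.word [0,1,2,4,0,2])))) (.node (.node (.node (.node (.word [2,4,0,5,4,5,0,4,2,3,1,3,4,2,4,1,5,0,5,0,5,1,0,2,3,2,0,3,0,3,2,0,3,4,2,5,0,3,1]) (.word [1,3,0,5,3])) (.word [3,2,1,4,0])) (.node (.word [0,2,1,5,3,2]) (.word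 [3,2,0,4,5,1]))) (.node (.node (.word [2,5,4,0,5,4,0]) (.word [4,2,3,0,2,5,0])) (.node (.word [1,5,3,2,0,3]) (.word [3,0,2,0,5,3,2]))))) (.node (.node (.node (.node (.node (.word [1,5,3,4,3,0]) (.word [0,4,0,3,2,3])) (.word [3,5,0,1,4,0])) (.node (.word [1,2,5,2,0]) (.word [2,4,0,3,1]))) (.node (.node (.word [0,5,3,4,0,1]) (.word [1,3,5,4,0])) (.node (.word [3,4,2,0,3,0]) (.word [4,3,5,0,2])))) (.node (.node (.node (.node (.word [0,2,3,0,1]) (.word [0,4,0,5,3,5])) (.word [0,1,4,3,2,4,0])) (.node (.word [2,0,2,4,2,0]) (.word [3,2,4,0,5,3,2]))) (.node (.node (.word [1,2,0,2,0]) (.word [0,1,5,0,4,5,0])) (.node (.word [0,4,5,4,0,3]) (.word [4,3,5,0,5,2])))))) (.node (.node (.node (.node (.node (.node (.word [5,0,2,0,1]) (.word [5,0,3,1,5,0,3])) (.word [0,3,4,5,3,0])) (.node (.word [0,1,5,2,4,0,3]) (.word [0,3,5,2,1]))) (.node (.node (.word [0,1,3,2,1,5,0]) (.word [5,3,2,0,5,4,0])) (.node (.word [0,2,3,0,1,3,0])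 (.word [5,4,3,0,5,0,2])))) (.node (.node (.node (.node (.word [0,2,4,0,2,0,5,2,0]) (.word [2,1,5,4,0,3,5])) (.word [2,3,0,2,4,0])) (.node (.word [1,3,2,5,0,4,0,4,5,4,0]) (.word [1,2,0,2]))) (.node (.node (.word [3,5,2,0,1,2,0]) (.word [2,0,5,0,3,2,3])) (.node (.word [0,1,5,0,5,0]) (.word [4,0,3,0,5,2]))))) (.node (.node (.node (.node (.node (.word [2,0,5,4,2,0,1]) (.word [4,0,1,3,0,4,3])) (.word [0,5,0,4,0])) (.node (.word [1,3,2,0]) (.word [3,0,3,1,5,0,3]))) (.node (.node (.word [5,0,1]) (.word [0,1,4,0,5,4,5])) (.node (.word [3,1,4,0,5,0,2]) (.word [5,1,4,0,3,2])))) (.node (.node (.node (.node (.word [2,1,3,4,3,0]) (.word [0,5,2,0,3,4,5])) (.word [2,3,5,2,4,0])) (.node (.word [0,4,3,0,5,2,0]) (.word [5,2,3,0,2]))) (.node (.node (.word [4,5,2,0,2,0]) (.word [3,0,2,0,2,1])) (.node (.word [2,3,5,2,3,0]) (.word [2,4,5,0,2,0,3])))))))) (.node (.node (.node (.node (.node (.node (.node (.node (.word [0,2,0,2,0,1])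 (.word [2,4,5,3,0,3])) (.word [0,1,5,0,2,4,0])) (.node (.word [0,5,2,4,0,3,1]) (.word [1,5,4,0,5,3]))) (.node (.node (.word [1,4,3,0,3,4,0,3,5]) (.word [5,3,5,1,3,4,0])) (.node (.word [3,0,2,5,2,0]) (.word [0,4,0,2])))) (.node (.node (.node (.node (.word [2,5,0,1,2,0,1,5,1,2,0,3]) (.word [4,2,0,5,3])) (.word [2,0,2,1,4,0])) (.node (.word [2,4,3,2,0]) (.word [4,1,3,5]))) (.node (.node (.word [5,4,5,4,2,0,1,5,0,3,5,0,3]) (.word [2,0,2,0,2,5,0])) (.node (.word [0,5,3,5,0,3,0]) (.word [2,5,0,2,3,2]))))) (.node (.node (.node (.node (.node (.word [1,3,4,2,5,2,0]) (.word [2,3])) (.word [0,2,4,5,4,0])) (.node (.word [0,2,4,1,2,0]) (.word [0,4,3,0,3,1]))) (.node (.node (.word [2,0,3,0,4,3,0]) (.word [0,1,3,0,4,3,5])) (.node (.word [4,2,5,3,0,3,0]) (.word [2,5,0,5,3])))) (.node (.node (.node (.node (.word [0,1,5,1,3,0,1]) (.word [4,0,4,3,5])) (.word [3,0,4,5,0,3])) (.node (.word [0,5,0,2,1,3,0]) (.word [0,2,0,4,5])))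 (.node (.node (.word [0,2,0,2,0]) (.word [2,0,3,2,5,0,2])) (.node (.word [2,5,2,3,4,0]) (.word [5,0,5,2])))))) (.node (.node (.node (.node (.node (.node (.word [1,4,0,1,5,4,0,4,0,2]) (.word [0,2,5,0,5,0,3])) (.word [2,0,3,0,4,5])) (.node (.word [2,4,0,5,0,2]) (.word [4,5,4,2,1]))) (.node (.node (.word [3,0,4,1,2,0,1,3,0,2,0,1]) (.word [5,4,0])) (.node (.word [0,4,2,3,0,4,0]) (.word [5,0,2])))) (.node (.node (.node (.node (.word [2,3,0,3,0,1]) (.word [2,0,2,0,3,5])) (.word [2,1,5,0,3,0,5,0,5,0,3,5,2])) (.node (.word [3,4,5,3,2,0]) (.word [2,4,0,2,0,2]))) (.node (.node (.word [0,1,2,0,2,0,2]) (.word [3,0,1,5,3,0,2])) (.node (.word [0,5,4,3,5,0,2]) (.word [3,2,0,5,2]))))) (.node (.node (.node (.node (.node (.word [4,5,3,2,3,5,4,2,0,2,4,2]) (.word [5,0,2,0,4,3])) (.word [2,3,0,4,0])) (.node (.word [1,4,3,0,3,2,0]) (.word [2,4,1,2,3]))) (.node (.node (.word [0,2,1,4,2,4,0]) (.word [0,1,5,4,5])) (.node (.word [2,0,3,0,2,3,0])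 (.word [5,0,2,3,0,3])))) (.node (.node (.node (.node (.word [4,5,2,1,3,4,0,4,2,4,0]) (.word [3,4,0,2,4,5])) (.word [2,0,5,0,3,5,0])) (.node (.word [2,5,4,5,4,2,0]) (.word [5,1,3,0,2]))) (.node (.node (.word [5,0,4,3,2,0,1,4,2,0,3,5]) (.word [3,4,5,4,5,0])) (.node (.word [2,0,5,2,3,0]) (.word [5,2,0,2,0,3]))))))) (.node (.node (.node (.node (.node (.node (.node (.word [2,1,3,0,2,0,1]) (.word [4,3,5,4,0,3])) (.word [5,2,0,5,3,0])) (.node (.word [0,1,5,4,0,3,2,4,0,4,1,3,0]) (.word [0,3,0,3,2,1]))) (.node (.node (.word [0,5,0,3,5,0,1]) (.word [3,4,2,3,4,0])) (.node (.word [3,5,2,0]) (.word [0,4,2,4,0,2])))) (.node (.node (.node (.node (.word [4,0,1,3,0,1]) (.word [5,0,1,5,0,5,3])) (.word [3,1,4,2,1,4,0])) (.node (.word [0,5,3,0,2,0,3]) (.word [4,0,1,2,4,5]))) (.node (.node (.word [4,5,3,5,0,1]) (.word [2,5,0,2,0,2])) (.node (.word [0,3,2,0,2,1]) (.word [2,4,2]))))) (.node (.node (.node (.node (.node (.word [0,3,4,3,2,0,1])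 (.word [2,0,2,0,4,2,3])) (.word [0,2,0,3,0,5,2])) (.node (.word [0,3,2,0,5,3,2]) (.word [0,5,0,3,1]))) (.node (.node (.word [5,4,0,1]) (.word [4,5,3,5,4,0])) (.node (.word [0,4,3,2,1,4,0]) (.word [0,4,5,0,4,5])))) (.node (.node (.node (.node (.word [2,5,1,5,0,2,0,1,3,5]) (.word [5,0,3,0,4,5])) (.word [0,1,3,5,3,0,3])) (.node (.word [0,1,5,2,4,2,0]) (.word [4,0,2,0,3,0,2]))) (.node (.node (.word [0,4,3,5,3,0,2]) (.word [3,2,4,5,0])) (.node (.word [3,5,0,3,2,3,0]) (.word [3,5,0,3,5,2])))))) (.node (.node (.node (.node (.node (.node (.word [1,3,1,2,0,1]) (.word [3,0,3,5,0,3])) (.word [3,2,0,4,5,3,0])) (.node (.word [2,3,1,2,0]) (.word [0,2,0,3,1]))) (.node (.node (.word [5,2,4,0,1]) (.word [4,3,0,5,4,0])) (.node (.word [5,4,0,1,3,0]) (.word [2,0,5,4,0,4,3])))) (.node (.node (.node (.node (.word [0,4,5,0,3,0,1]) (.word [1,5,4,0,3,5])) (.word [3,0,5,0,2,4,0])) (.node (.word [3,0,3,4,0,5,3]) (.word [0,2,5,3,2,0,2])))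 (.node (.node (.word [0,2,4,2,5,2,0,1,5,0,1,2,0,2]) (.word [1,5,0,3,5,0])) (.node (.word [0,2,0,2,3,0,3]) (.word [0,1,4,0,5,2]))))) (.node (.node (.node (.node (.node (.word [0,5,2,0,1]) (.word [5,4,0,4,3])) (.word [4,0,2,5,0,4,0])) (.node (.word [4,2,3,2,3,0]) (.word [5,1]))) (.node (.node (.word [0,4,3,2,0,3]) (.word [3,2,1,5,0])) (.node (.word [5,0,3,0]) (.word [3,5,4,0,3,2])))) (.node (.node (.node (.node (.word [3,2,0,5,3,0,1]) (.word [2,5,4,0,5,4,5])) (.word [5,0,1,3,4,0])) (.node (.word [1,2,5,0,5,2,0]) (.word [0,5,4,3,0,2]))) (.node (.node (.word [2,4,0,3,0,2]) (.word [4,5,4,2,0,2,1])) (.node (.word [0,3,0,4,3,0]) (.word [0,3,4,2,0,3])))))))))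

/-- A subtree. -/
def wt13 : WTree :=
  (.node (.node (.node (.node (.node (.node (.node (.node (.node (.word [5,0,1,5,3,1,3,0,2,3,0,2,0,1]) (.word [1,3,0,3])) (.word [3,4,3,0])) (.node (.word [1,4,5,4,0,2,0]) (.word [2,4,0,2,1]))) (.node (.node (.word [4,5,2,4,0,1,2,0,3,0,4,5]) (.word [4,2,1,3,4,0])) (.node (.word [0,1,3,0,5,4,0]) (.word [0,5,3,4,0,5,3])))) (.node (.node (.node (.node (.word [2,5,2,0,1]) (.word [5,0,2,0,2,5,3])) (.word [2,3,4,5,0,4,0])) (.node (.word [4,3,2,0]) (.word [5,0,1,3,5]))) (.node (.node (.word [2,5,0,1,5,0,3]) (.word [4,5,1,5,0])) (.node (.word [1,3,5,0,3,0]) (.word [0,2,3,2,3]))))) (.node (.node (.node (.node (.node (.word [0,3,2,0,1]) (.word [5,3,1,4,5,0,3])) (.word [0,4,5,4,5,3,0])) (.node (.word [5,2,0,4,1,2,0]) (.word [5,0,3,0,3,1]))) (.node (.node (.word [2,3,5,1,2,3,0]) (.word [0,5,0,4,1,3,5])) (.node (.word [2,4,1,2,0,3,0]) (.word [0,4,3,0,3,4,5])))) (.node (.node (.node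 (.node (.word [2,0,2,0,4,5,1]) (.word [3,4,5,0,3,5])) (.word [1,2,3,4,0,5,2])) (.node (.word [2,5,0,4,2,0]) (.word [5,4,2,0,2]))) (.node (.node (.word [5,3,5,0,1,2,0]) (.word [5,2,3,5,0])) (.node (.word [3,2,4,5,1,3,0]) (.word [1,3,4,0,5,2])))))) (.node (.node (.node (.node (.node (.node (.word [0,4,0,2,0,1]) (.word [1,5,3,0,5,0,3])) (.word [2,4,0,5,3,0])) (.node (.word [0,4,0,1,2,0,2]) (.word [4,2,1]))) (.node (.node (.word [4,0,2,4,0,1]) (.word [3,5,3,4,0])) (.node (.word [1,2,3,0,1,4,0]) (.word [0,2,0,1,5,0,3])))) (.node (.node (.node (.node (.word [1,3,0,3,0,4,5]) (.word [3,5,0,2,5,3])) (.word [1,3,4,5,4,0])) (.node (.word [4,5,3,2,0]) (.word [1,3,0,2,0,2]))) (.node (.node (.word [0,2,1,5,2,0,3]) (.word [0,4,5,2,5,0])) (.node (.word [5,3,1,3,4,0]) (.word [4,5,4,2]))))) (.node (.node (.node (.node (.node (.word [5,0,2,5,3,0,2,0,1]) (.word [4,3])) (.word [5,2,0,4,0])) (.node (.word [1,3,0,3,2,0]) (.word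 [1,2,3]))) (.node (.node (.word [0,3,0,3,4,3,0]) (.word [3,5,4,5,4,0])) (.node (.word [2,0,3,0,3,5,0]) (.word [2,3,0,3])))) (.node (.node (.node (.node (.word [3,5,0,3,1,5,0,2,1]) (.word [1,3,0,2,4,5])) (.word [0,5,2,4,0])) (.node (.word [0,4,2,5,3,0]) (.word [3,0,3,5,0,3,2]))) (.node (.node (.word [0,3,4,2,0,2,0]) (.word [4,0,5,4,5,0])) (.node (.word [5,4,2,3,0]) (.word [1,4,0,5,4,5]))))))) (.node (.node (.node (.node (.node (.node (.node (.word [0,3,0,2,0,1]) (.word [5,4,0,3])) (.word [2,3,0,2,0,3,1])) (.node (.word [0,3,1,5,0,2,0]) (.word [1,5,4,5,0,4,5]))) (.node (.node (.word [2,0,4,2,3,5,0]) (.word [2,4,3,2,3,4,0])) (.node (.word [0,4,2,5,2,0]) (.word [5,3,0,2,4,0,2])))) (.node (.node (.node (.node (.word [3,4,5,2,0,1]) (.word [5,3,4,0,5,3])) (.word [5,3,2,1,4,0])) (.node (.word [0,1,5,3,2,0]) (.word [5,0,4,5,1]))) (.node (.node (.word [0,1,5,3,5,0,1]) (.word [2,4,0,2,5,0])) (.node (.word [5,0,2,1,3,0])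 (.word [4,0,5,3,2]))))) (.node (.node (.node (.node (.node (.word [0,2,4,5,0,4,5]) (.word [5,3,2,3])) (.word [0,4,2,0,3])) (.node (.word [0,1,3,2,5,2,0]) (.word [1,3,4,0,3,1]))) (.node (.node (.word [1,5,3,4,0,1]) (.word [0,4,1,3,0,5,3])) (.node (.word [0,5,2,0,3,0]) (.word [2,0,4,5,0,2])))) (.node (.node (.node (.node (.word [4,0,2,5,2,3]) (.word [2,0,4,5,3,5])) (.word [5,3,2,4,0])) (.node (.word [2,3,0,2,1]) (.word [0,1,2,3,0,3]))) (.node (.node (.word [0,3,1,2,0,2,0]) (.word [2,4,5,0])) (.node (.word [0,3,2,3,0]) (.word [4,0,3,5,2])))))) (.node (.node (.node (.node (.node (.node (.word [2,0,2,0,5,0,3]) (.word [4,0,2,5,0,3])) (.word [2,3,4,2,5,3,0])) (.node (.word [0,3,1,2,0]) (.word [3,0,4,5,2,1]))) (.node (.node (.word [2,3,1,2,0,2,0]) (.word [3,0,5,4,0])) (.node (.word [3,1,5,0,5,0,3]) (.word [1,3,4,0,5,0,2])))) (.node (.node (.node (.node (.word [0,3,2,1,5,2,0]) (.word [3,1,4,0,3,5])) (.word [0,4,0,2,4,0]))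 (.node (.word [1,4,3,0,3,0,2]) (.word [3,4,1,2,0,2]))) (.node (.node (.word [3,2,0,5,4,0,1,2,0,4,5,0,2,0,2,4,5,4,0]) (.word [5,2,4,0,3,5,0])) (.node (.word [5,4,0,5,0,5,0]) (.word [5,2,3,0,5,2]))))) (.node (.node (.node (.node (.node (.word [1,5,4,2,0,1]) (.word [4,0,4,3])) (.word [1,2,1,5,0,4,0])) (.node (.word [5,1,3,2,0]) (.word [2,5,0,5,3,1]))) (.node (.node (.word [2,5,2,4,2,0]) (.word [2,0,4,0,2,4,2])) (.node (.word [3,5,3,0,3,0]) (.word [1,3,4,0,3,2])))) (.node (.node (.node (.node (.word [5,3,0,1]) (.word [0,5,4,5])) (.word [0,4,5,2,4,0])) (.node (.word [4,0,5,2,0]) (.word [1,2,0,4,3,0,2]))) (.node (.node (.word [0,4,0,4,2,0]) (.word [1,2,0,2,1])) (.node (.word [1,5,0,5,0,3,2]) (.word [0,5,3,2,0,3])))))))) (.node (.node (.node (.node (.node (.node (.node (.node (.word [0,5,1,5,0,3,0]) (.word [4,3,0,4,0,3])) (.word [5,0,4,2,4,5,0])) (.node (.word [4,3,0,5,0,2,0]) (.word [1,4,0,5,0,2,1]))) (.node (.node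 (.word [3,0,2,0,4,0,1]) (.word [1,3,0,2,3,4,0])) (.node (.word [0,2,3,5,3,4,3,0,2,5,3,5]) (.word [3,5,0,5,3,2])))) (.node (.node (.node (.node (.word [0,4,5,2,0,1]) (.word [5,0,2,4,0,5,3])) (.word [0,2,4,2,0,3])) (.node (.word [2,5,2,1,5,0]) (.word [0,5,1,3,5]))) (.node (.node (.word [0,2,5,2,3,5,0]) (.word [3,5,2,0,2,5,0])) (.node (.word [1,3,0]) (.word [2,1,2,4,0,3]))))) (.node (.node (.node (.node (.node (.word [1,3,5,0,2,5,3]) (.word [1,2,4,0,2,3])) (.word [3,0,1,4,0])) (.node (.word [3,0,5,4,1,2,0]) (.word [3,0,4,0,3,1]))) (.node (.node (.word [4,5,1,2,5,4,0,3,0,5,0,3,1]) (.word [0,4,1,5,4,0])) (.node (.word [0,4,5,0,1,2,4,0,5,3]) (.word [5,0,3,5,0,2])))) (.node (.node (.node (.node (.word [0,1,3,4,0,3,5]) (.word [0,5,3,5])) (.word [1,2,3,2,4,0])) (.node (.word [0,5,1,4,2,0]) (.word [0,1,2,0,3,4,5]))) (.node (.node (.word [0,4,5,0,5,3,2]) (.word [3,0,4,5,0])) (.node (.word [5,0,2,3,0]) (.word [4,3,0,5,0,5,2]))))))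 (.node (.node (.node (.node (.node (.node (.word [2,5,0,3,2,3,0]) (.word [0,2,1,5,0,3])) (.word [1,5,2,5,3,0])) (.node (.word [3,0,4,5,0,2,0]) (.word [0,4,5,0,5,3]))) (.node (.node (.word [5,0,3,2,4,0,1]) (.word [4,5,0,1,5,4,0])) (.node (.word [2,3,4,2,1,4,0]) (.word [5,0,1,5,0,2])))) (.node (.node (.node (.node (.word [0,1,3,4,0,2,0]) (.word [4,2,0,3,5])) (.word [0,2,0,2,4,0])) (.node (.word [0,1,2,0,4,5,1]) (.word [5,0,2,0,2]))) (.node (.node (.word [0,4,3,0,3,0,2]) (.word [5,0,5,3,0,2])) (.node (.word [0,5,4,5,0,4,5]) (.word [1,2,4,2,0,5,2]))))) (.node (.node (.node (.node (.node (.word [1,4,1,4,2,0]) (.word [5,2,0,4,3])) (.word [0,5,3,0,4,0])) (.node (.word [2,1,5,0,3,2,0]) (.word [0,2,0,1,5,4,3]))) (.node (.node (.word [1,4,5,4,5,0]) (.word [5,0,1,5,4,5])) (.node (.word [2,5,2,3,0,3,0]) (.word [4,0,3,2])))) (.node (.node (.node (.node (.word [2,3,0,1,2,5,0]) (.word [3,0,5,2,4,5])) (.word [0,1,2,5,2,4,0]))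 (.node (.word [1,3,0,2,4,2]) (.word [3,4,5,1,3,0,2]))) (.node (.node (.word [1,2,3,2,4,0,4,2,4,0,1]) (.word [5,4,5,4,5,0])) (.node (.word [3,2,1,0,4,2,4,5,0,3,5,3,0,1,4,0]) (.word [5,0,2,0,3]))))))) (.node (.node (.node (.node (.node (.node (.node (.word [2,0,5,2,3,0,2,1,3,0,3,1]) (.word [3,0,1,5,0,3])) (.word [3,4,3,0,2,5,0])) (.node (.word [1,2,5,0,2,0]) (.word [2,3,4,5,0,2]))) (.node (.node (.word [0,3,0,2,3,0,3]) (.word [0,1,5,3,4,0])) (.node (.word [0,4,5,2,0]) (.word [1,2,4,0,5,3])))) (.node (.node (.node (.node (.word [0,1,2,1,3,4,0]) (.word [4,5,0,5,3])) (.word [0,3,2,3,1,4,0])) (.node (.word [3,4,0,4,2,4,0]) (.word [0,1,2,0,2]))) (.node (.node (.word [5,0,4,5,0,1]) (.word [1,2,3,2,5,0])) (.node (.word [0,1,3,0,5,3,1]) (.word [4,0,2,4,2]))))) (.node (.node (.node (.node (.node (.word [0,4,2,0,1]) (.word [0,2,4,2,3])) (.word [5,2,3,2,0,4,0])) (.node (.word [1,4,2,5,3,0]) (.word [4,0,5,0,3,1]))) (.node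 (.node (.word [0,2,0,5,4,0,1]) (.word [0,2,0,5,0,4,3])) (.node (.word [1,3,5,2,0,3,0]) (.word [0,3,4,5,0,2])))) (.node (.node (.node (.node (.word [3,4,2,4,0,2]) (.word [0,5,0,4,5])) (.word [3,1,4,2,4,0])) (.node (.word [0,5,4,2,0]) (.word [2,4,3,0,3,0,2]))) (.node (.node (.word [2,3,4,0,3,2,3,2,0,4,3]) (.word [1,5,3,0,2])) (.node (.word [2,4,3,2,3,0]) (.word [0,4,0,4,3,5])))))) (.node (.node (.node (.node (.node (.node (.word [4,0,1,4,1,2,0]) (.word [2,3,5,0,3])) (.word [4,3,2,4,5,3,0])) (.node (.word [1,4,2,5,2,0]) (.word [5,0,2,0,3,1]))) (.node (.node (.word [0,2,5,2,4,0,1]) (.word [2,4,0,5,4,0])) (.node (.word [3,0,5,3,0,3,0]) (.word [1,5,0,2])))) (.node (.node (.node (.node (.word [0,5,0,4,5,0,1]) (.word [0,5,0,3,5])) (.word [1,5,4,0,5,4,3])) (.node (.word [4,0,5,0,3,4,0]) (.word [5,1,4,2,0,2]))) (.node (.node (.word [0,5,0,1,2,0]) (.word [0,1,2,3,5,0])) (.node (.word [0,1,3,4,2,3,0]) (.word [1,4,5,3,0,3])))))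 (.node (.node (.node (.node (.node (.word [1,3,0,5,2,0,1]) (.word [0,5,4,3])) (.word [0,5,2,0,5,3,2])) (.node (.word [1,4,2,3,2,0]) (.word [1,2,0,1,3,5]))) (.node (.node (.word [0,4,0,1,5,4,0]) (.word [3,1,5,0])) (.node (.word [1,5,0,3,0]) (.word [5,0,5,0,3,2])))) (.node (.node (.node (.word [4,3,0,5,3,0,1]) (.word [4,2,3,0,3,4,0])) (.node (.word [1,2,0,5,0,5,3]) (.word [1,2,5,3,0,2]))) (.node (.node (.word [3,4,0,2,0]) (.word [0,1,3,0,2,1])) (.node (.word [3,0,5,1,3,0,2]) (.word [2,0,5,2,0,3])))))))))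

/-- A subtree. -/
def wt14 : WTree :=
  (.node (.node (.node (.node (.node (.node (.node (.node (.node (.word [0,2,0,1,2,0,1]) (.word [0,5,0,3,0,3])) (.word [3,5,0,4,3,0])) (.node (.word [0,1,4,5,0,2,0]) (.word [1,5,0,2,3,2]))) (.node (.node (.word [2,0,3,0,5,2,1]) (.word [3,4,0,2,3,1,5,4,5,4,0])) (.node (.word [4,1,5,2,0]) (.word [4,5,3,0,2])))) (.node (.node (.node (.node (.word [1,5,2,4,5,3,0]) (.word [2,0,2,0,5,3])) (.word [1,4,5,0,4,0])) (.node (.word [4,2,5,2,3,2,0]) (.word [1,4,0,1,3,5]))) (.node (.node (.word [3,5,0,1]) (.word [2,3,1,5,0])) (.node (.word [3,5,0,3,0]) (.word [1,2,0,2,3,2]))))) (.node (.node (.node (.node (.node (.word [4,5,1,2,0,1]) (.word [0,1,4,5,0,3])) (.word [0,3,1,2,0,3,1])) (.node (.word [1,4,3,4,0,5,0,4,5,1]) (.word [3,0,3,0,3,1]))) (.node (.node (.word [0,1,5,2,3,2,0]) (.word [1,5,0,5,4,0])) (.node (.word [1,2,0,3,0]) (.word [0,2,5,0,2])))) (.node (.node (.node (.node (.word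 [0,5,1,2,0,5,2,3,0,3,0]) (.word [0,3,5,0,3,5])) (.word [0,1,3,2,4,0])) (.node (.word [5,0,4,2,0]) (.word [3,4,2,0,2]))) (.node (.node (.word [0,5,0,4,5,4,2]) (.word [2,3,0,4,0,2])) (.node (.word [5,2,5,1,3,0]) (.word [3,4,0,5,2])))))) (.node (.node (.node (.node (.node (.node (.word [2,5,3,0,2,0,1]) (.word [4,3,0,5,0,3])) (.word [4,0,5,3,0])) (.node (.word [1,3,5,0,2,0]) (.word [2,5,0,5,3,2]))) (.node (.node (.word [3,0,2,4,0,1]) (.word [2,5,0,5,3,5])) (.node (.word [0,1,4,2,0,3,5]) (.word [0,3,0,5,4,0,2])))) (.node (.node (.node (.node (.word [2,5,2,3,0,2,0,1,5,0,3,1]) (.word [5,4,0,2,5,3])) (.word [4,0,5,1,4,0])) (.node (.word [0,4,0,5,3,4,0]) (.word [0,3,0,2,0,2]))) (.node (.node (.word [0,1,5,2,0,3]) (.word [4,2,5,2,5,0])) (.node (.word [3,1,3,4,0]) (.word [3,0,4,2,4,2]))))) (.node (.node (.node (.node (.node (.word [0,2,5,0,5,4,3]) (.word [0,2,5,2,3])) (.word [2,4,2,0,4,0])) (.node (.word [3,0,3,2,0])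 (.word [4,5,0,3,1]))) (.node (.node (.word [0,1,4,0,4,3,5]) (.word [3,4,5,4,0])) (.node (.word [0,3,0,3,0]) (.word [1,2,3,2,0,3])))) (.node (.node (.node (.node (.word [0,5,4,0,3]) (.word [2,0,2,4,5])) (.word [1,2,3,4,2,4,0])) (.node (.word [4,1,5,4,2,0]) (.word [0,4,2,3,5,0,2]))) (.node (.node (.word [0,2,0,3,0,3,1]) (.word [0,5,4,5,0])) (.node (.word [3,4,2,3,0]) (.word [5,2,4,5,2]))))))) (.node (.node (.node (.node (.node (.node (.node (.word [1,4,5,0,5,4,0]) (.word [1,2,4,0,3])) (.word [2,0,5,3,0])) (.node (.word [2,1,5,0,2,0]) (.word [2,4,5,0,2,1]))) (.node (.node (.word [0,2,0,5,3,0]) (.word [2,0,3,2,3,4,0])) (.node (.word [3,1,2,4,2,0,2]) (.word [1,2,0,2,4,0,2])))) (.node (.node (.node (.node (.word [2,4,5,2,0,1]) (.word [5,3,0,5,3])) (.word [3,2,0,2,4,0,3])) (.node (.word [2,0,1,4,5,0,2]) (.word [0,3,0,4,5,1]))) (.node (.node (.word [3,2,0,5,2,3]) (.word [0,1,4,0,2,5,0])) (.node (.word [4,0,2,1,3,0])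 (.word [3,0,5,3,2]))))) (.node (.node (.node (.node (.node (.word [5,0,1,5,0,4,5,3,0]) (.word [0,5,0,3,2,3])) (.word [0,2,0,4,0])) (.node (.word [0,4,5,0,5,0,3]) (.word [3,4,0,3,1]))) (.node (.node (.word [2,3,2,0,5,4,0]) (.word [3,2,3,5,4,0])) (.node (.word [5,0,4,3,0,4,2,5,3,0]) (.word [4,5,0,2])))) (.node (.node (.node (.node (.word [2,0,2,4,1,2,0]) (.word [0,5,0,5,3,5])) (.word [1,4,3,2,4,0])) (.node (.word [4,2,0,2,4,2,0]) (.word [3,0,2]))) (.node (.node (.word [1,4,5,1,2,0,5,0,5,0,2]) (.word [1,5,0,4,5,0])) (.node (.word [1,3,0,5,2,3]) (.word [0,2,0,3,5,2])))))) (.node (.node (.node (.node (.node (.node (.word [3,1,4,0,3,1,5,2,0,3,0,2]) (.word [5,1,5,0,3])) (.word [1,4,5,3,0,4,0])) (.node (.word [0,1,4,0,4,3]) (.word [1,2,4,1,5,0,2]))) (.node (.node (.word [4,0,5,4,0,1,0,4,3,5,0,5,2]) (.word [2,4,2,0,5,4,0])) (.node (.word [2,5,3,0,1,3,0]) (.word [4,0,5,0,2])))) (.node (.node (.node (.node (.word [4,5,1,2,5,0,1,3,4,0,5,3])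 (.word [0,4,0,3,5])) (.word [4,2,1,4,0,3,1])) (.node (.word [0,5,0,1,4,2,0]) (.word [3,0,4,1,2,0,2]))) (.node (.node (.word [3,0,1,2,0]) (.word [0,4,0,3,5,0])) (.node (.word [4,0,5,0,5,0]) (.word [4,1,2,3,0,5,2]))))) (.node (.node (.node (.node (.node (.word [0,3,5,2,0,1,3,0,2,0,2,0]) (.word [4,3,0,3,0,4,3])) (.word [0,1,5,4,0,4,3])) (.node (.word [1,3,5,0,3,1]) (.word [2,0,3,0,5,3,1]))) (.node (.node (.word [1,5,0,3,0,3,0]) (.word [1,5,3,2,3])) (.node (.word [0,2,5,3,0,3,0]) (.word [1,2,4,0,3,2])))) (.node (.node (.node (.node (.word [0,2,1,2,4,0]) (.word [4,0,3,4,5])) (.word [0,5,2,0,2,0,2])) (.node (.word [5,3,0,5,2,0]) (.word [4,3,0,2]))) (.node (.node (.word [0,4,0,2,0]) (.word [2,4,0,2,0,2,1])) (.node (.word [0,4,3,0]) (.word [1,3,2,0,3])))))))) (.node (.node (.node (.node (.node (.node (.node (.node (.word [0,1,3,4,2,4,0]) (.word [0,4,0,3])) (.word [0,4,2,4,5,0])) (.node (.word [0,2,0,5,0,2,0]) (.word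 [0,5,0,2,1]))) (.node (.node (.word [2,0,4,0,1]) (.word [0,1,4,2,3,4,0])) (.node (.word [4,5,1,2,5,4,0,4,5,2,5,0]) (.word [4,2,0,4,0,2])))) (.node (.node (.node (.node (.word [3,5,2,0,1]) (.word [2,4,0,5,3])) (.word [0,3,4,0,4,3,5])) (.node (.word [1,2,4,3,2,0]) (.word [3,0,4,1,3,5]))) (.node (.node (.word [1,4,0,1,5,3,0]) (.word [0,4,2,0,2,5,0])) (.node (.word [5,0,3,5,2,3,0,2,0,1]) (.word [2,5,3,2]))))) (.node (.node (.node (.node (.node (.word [0,3,4,0,2,4,5]) (.word [2,0,4,0,2,3])) (.word [1,4,2,0,1,4,0])) (.node (.word [3,0,2,0,1,5,0,1,3,0]) (.word [5,4,3,0,3,1]))) (.node (.node (.word [4,5,0,5,3,4,5,1,3,0]) (.word [2,5,3,1,5,4,0])) (.node (.word [1,2,3,2,0,3,0]) (.word [3,0,3,5,0,2])))) (.node (.node (.node (.node (.word [4,0,5,1,3,0,1]) (.word [5,0,4,3,5])) (.word [0,2,3,2,4,0])) (.node (.word [0,4,5,0,5,2,3]) (.word [0,3,0,2,0,4,5]))) (.node (.node (.word [0,2,0,2,0,2]) (.word [4,2,0,4,5,0])) (.node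 (.word [2,4,0,2,3,0]) (.word [2,0,5,0,5,2])))))) (.node (.node (.node (.node (.node (.node (.word [0,3,4,0,2,0,1]) (.word [0,3,5,0,5,0,3])) (.word [0,5,0,5,3,0])) (.node (.word [1,2,0,3,0,3,1]) (.word [0,5,2,1]))) (.node (.node (.word [1,4,5,0,1,3,5]) (.word [1,4,0,1,5,4,0])) (.node (.word [5,4,5,2,0]) (.word [4,3,0,1,5,0,2])))) (.node (.node (.node (.node (.word [0,2,4,0,2,4,5]) (.word [3,4,0,2,0,3,5])) (.word [2,0,5,0,5,0,2])) (.node (.word [0,1,4,2,0]) (.word [4,2,4,0,2,0,2]))) (.node (.node (.word [4,3,2,0,1,2,0]) (.word [0,3,4,3,5,0,3])) (.node (.word [1,5,2,0,5,4,0]) (.word [4,2,0,5,2]))))) (.node (.node (.node (.node (.node (.word [3,2,4,2,0,1]) (.word [4,3,2,0,4,3])) (.word [5,0,4,1,3,0,2])) (.node (.word [4,0,3,2,0]) (.word [2,1,4,0,2,3]))) (.node (.node (.word [4,5,4,0,1]) (.word [1,3,0,1,5,4,5])) (.node (.word [3,2,3,0,3,0]) (.word [4,2,3,0,3])))) (.node (.node (.node (.node (.word [3,0,2,0,3,1,3,4,0,5,1,3,0])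 (.word [5,2,5,0,2,4,5])) (.word [2,1,4,2,0,4,5])) (.node (.word [0,1,5,2,0]) (.word [2,3,5,1,3,0,2]))) (.node (.node (.word [2,1,5,2,0,2,0]) (.word [4,5,4,5,0])) (.node (.word [4,0,5,2,3,0]) (.word [0,3,0,2,0,3]))))))) (.node (.node (.node (.node (.node (.node (.node (.word [3,0,4,3,4,0,3,4,0,2,5,2,3]) (.word [2,3,4,5,4,0,3])) (.word [3,0,5,3,0])) (.node (.word [1,5,0,2,4,5,2,5,0,3,0,5,3]) (.word [5,3,0,3,2,1]))) (.node (.node (.word [4,0,5,4,5,0,4,0,4,3]) (.word [2,4,2,0,2,0,3])) (.node (.word [0,2,5,3,5,2,0]) (.word [2,3,4,0,2])))) (.node (.node (.node (.node (.word [5,0,1,3,0,1]) (.word [5,0,5,0,5,3])) (.word [3,1,4,0])) (.node (.word [0,4,0,4,2,4,0]) (.word [2]))) (.node (.node (.word [0,4,5,0,1]) (.word [0,2,1,5,0,2,1])) (.node (.word [0,1,4,0,5,0,1,2,3,2]) (.word [4,2,0,2,4,2]))))) (.node (.node (.node (.node (.node (.word [0,5,0,3,2,0,4,5,3,0]) (.word [0,5,0,4,2,3])) (.word [0,3,2,0,4,0])) (.node (.word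 [2,4,5,1,2,0]) (.word [3,0,5,0,2,3,2]))) (.node (.node (.word [3,0,1,5,4,0,1]) (.word [3,2,0,4,5,4,0])) (.node (.word [0,4,2,1,5,0,3]) (.word [1,2,4,5,0,2])))) (.node (.node (.node (.node (.word [4,5,2,0,4,3,5,3,4,0,1]) (.word [4,0,4,5])) (.word [0,3,1,4,2,4,0])) (.node (.word [2,1,4,3,2,4,0]) (.word [5,2,0,3,0,2]))) (.node (.node (.word [0,1,5,3,4,0,2]) (.word [1,4,2,4,5,0])) (.node (.word [4,3,2,3,0]) (.word [0,4,5,2])))))) (.node (.node (.node (.node (.node (.node (.word [2,5,2,3,0]) (.word [1,3,5,0,3])) (.word [5,0,4,5,3,0])) (.node (.word [0,1,5,1,0,3,0,2]) (.word [4,0,2,0,3,1]))) (.node (.node (.word [2,0,5,2,4,0,1]) (.word [2,5,3,0,5,4,0])) (.node (.word [5,0,1,3,0]) (.word [2,0,5,0,5,3])))) (.node (.node (.node (.node (.word [5,0,2,0,2,5,0,5,3,0,1]) (.word [3,5,4,0,3,5])) (.word [1,2,4,0])) (.node (.word [4,0,4,2,0]) (.word [4,0,4,2,0,2]))) (.node (.node (.word [5,3,0,1,2,0]) (.word [3,4,1,3,5,0]))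 (.node (.word [3,0,1,5,1,3,0]) (.word [2,1,4,0,5,2]))))) (.node (.node (.node (.node (.node (.word [5,0,1,5,2,0,1]) (.word [0,5,0,4,3])) (.word [3,5,0,4,0])) (.node (.word [4,2,3,2,0]) (.word [0,2,0,1,3,5]))) (.node (.node (.word [2,4,0,1,4,3,0]) (.word [0,5,3,0,5,2,3])) (.node (.word [0,1,5,1,2,4,0]) (.word [2,0,5,0,3,2])))) (.node (.node (.node (.node (.word [3,0,5,3,0,1]) (.word [5,4,5,4,5])) (.word [5,2,0,3,4,0])) (.node (.word [5,3,5,0,5,2,0]) (.word [0,3,5,4,3,0,2]))) (.node (.node (.word [0,2,0,2,1,3,0,5,0,5,4,1,2,0]) (.word [3,0,5,2,0,2,1])) (.node (.word [1,2,4,3,0,4,2,1,2,5,1,5,0,2,0,1,3,5]) (.word [4,5,4,2,0,3])))))))))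

/-- A subtree. -/
def wt15 : WTree :=
  (.node (.node (.node (.node (.node (.node (.node (.node (.node (.word [5,0,1,2,0,1]) (.word [5,3,0,3])) (.word [4,2,3,4,3,0])) (.node (.word [0,1,5,0,2,0]) (.word [0,1,5,0,2,1]))) (.node (.node (.word [1,5,4,5,4,0]) (.word [1,5,1,3,4,0])) (.node (.word [0,2,4,1,5,2,0]) (.word [0,3,4,5,3,0,2])))) (.node (.node (.node (.node (.word [0,5,0,5,4,2,0]) (.word [4,5,0,2,0,5,3])) (.word [0,2,1,4,0])) (.node (.word [3,4,1,4,2,0]) (.word [4,5,0,1,3,5]))) (.node (.node (.word [1,2,0,3,5,0,1]) (.word [0,2,5,0])) (.node (.word [2,3,5,0,3,0]) (.word [0,4,0,2,3,2]))))) (.node (.node (.node (.node (.node (.word [2,0,3,2,0,1]) (.word [5,3,4,5,0,3])) (.word [2,0,1,4,0])) (.node (.word [3,0,4,2,3,2,0]) (.word [4,1,3,0,3,1]))) (.node (.node (.word [2,1,3,4,0,1]) (.word [1,2,0,2,0,4,3])) (.node (.word [2,5,1,2,0,3,0]) (.word [0,3,2,5,0,2])))) (.node (.node (.node (.node (.word [0,5,4,1,3,0,1])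 (.word [0,4,3,5])) (.word [1,2,5,3,5,4,0])) (.node (.word [0,3,5,1,3,0,2]) (.word [2,5,4,2,0,2]))) (.node (.node (.word [5,4,1,4,0,2,5,0,5,3,0,2,0,1]) (.word [4,5,0])) (.node (.word [5,4,5,1,3,0]) (.word [0,5,4,0,5,2])))))) (.node (.node (.node (.node (.node (.node (.word [1,4,0,2,0,1]) (.word [0,5,0,5,0,3])) (.word [3,4,0,5,3,0])) (.node (.word [2,3,5,0,4,3,0]) (.word [0,3,0,2,4,2,1]))) (.node (.node (.word [2,0,5,4,0,3,1]) (.word [2,5,3,5,3,4,0])) (.node (.word [0,5,1,4,5,2,0]) (.word [0,5,2,0,4,3])))) (.node (.node (.node (.node (.word [1,5,0,2,0,3,5]) (.word [3,5])) (.word [0,4,5,1,4,0])) (.node (.word [1,4,5,3,2,0]) (.word [0,4,0,4,2,0,2]))) (.node (.node (.word [0,2,0]) (.word [0,3,5,0])) (.node (.word [2,0,1,4,1,3,0]) (.word [0,2,4,5,4,2]))))) (.node (.node (.node (.node (.node (.word [0,2,4,2,0,1]) (.word [2,0,2,0,4,3])) (.word [1,3,0,2,4,2,1])) (.node (.word [1,2,3,0,3,2,0]) (.word [0,5,0,3,1,2,3])))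 (.node (.node (.word [1,3,5,4,0,1]) (.word [0,5,0])) (.node (.word [0,4,2,0,2,4,5]) (.word [3,0,2,3,0,3])))) (.node (.node (.node (.node (.word [1,2,5,0]) (.word [4,0,2,4,5])) (.word [2,3,0,5,2,4,0])) (.node (.word [2,4,5,4,2,0]) (.word [1,3,0,3,5,0,3]))) (.node (.node (.word [3,0,3,0,1,4,5,0,2,3,2]) (.word [5,4,0,5,4,5,0])) (.node (.word [5,0,5,4,2,3,0]) (.word [0,2,0,3]))))))) (.node (.node (.node (.node (.node (.node (.node (.word [0,1,5,0,5,3,1]) (.word [3,5,4,0,3])) (.word [4,2,0,5,3,0])) (.node (.word [0,3,4,0,2,4,2]) (.word [0,1,2,0,3,1]))) (.node (.node (.word [0,3,0,4,0,1]) (.word [0,4,2,3,4,0])) (.node (.word [2,3,4,2,5,2,0]) (.word [2,5,0,2,4,0,2])))) (.node (.node (.node (.node (.word [0,3,0,1]) (.word [5,0,5,3])) (.word [4,0,4,2,1,4,0])) (.node (.word [0,3,0,1,5,0,2]) (.word [2,4,5,0,4,5,1]))) (.node (.node (.word [1,5,3,5,0,1]) (.word [2,5,4,0,2,5,0])) (.node (.word [2,3,2,1,3,0]) (.word [5,0,5,3,2])))))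 (.node (.node (.node (.node (.node (.word [5,0,3,0,3,1,2,0,2,3,0,1]) (.word [4,2,3])) (.word [1,3,4,2,0,4,0])) (.node (.word [4,0,3,5,2,0]) (.word [1,3,5,4,0,3,2]))) (.node (.node (.word [3,5,3,4,0,1]) (.word [2,5,4,3,5,4,0])) (.node (.word [0,2,4,5,4,5,0,2,3,0,3]) (.word [0,3,1,2,4,0,3])))) (.node (.node (.node (.node (.word [1,5,1,2,3,0]) (.word [3,0,4,5])) (.word [4,2,4,0])) (.node (.word [2,3,2,3,0,2,1]) (.word [1,5,0,1,3,0,2]))) (.node (.node (.word [3,0,1,2,0,3,2,5,3,0,4,0]) (.word [4,0,2,4,5,0])) (.node (.word [0,2,0,3,2,3,0]) (.word [0,5,0,3,5,2])))))) (.node (.node (.node (.node (.node (.node (.word [0,4,5,0,5,3,5]) (.word [1,2,3,0,5,3])) (.word [4,5,2,5,3,0])) (.node (.word [1,3,0,3,1,2,0]) (.word [0,2,1,3,0,3,1]))) (.node (.node (.word [0,3,4,2,4,0,1]) (.word [2,1,3,0,5,4,0])) (.node (.word [0,3,0,3,5,2,1]) (.word [3,0,5,0,5,0,2])))) (.node (.node (.node (.node (.word [3,2,5,0,3,0,1]) (.word [3,4,0,3,5]))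 (.word [5,0,2,4,0])) (.node (.word [2,5,4,3,0,3,0]) (.word [5,1,3,2,0,2]))) (.node (.node (.word [5,1,3,0,1,2,0]) (.word [5,4,0,3,5,0])) (.node (.word [2,3,4,1,3,0]) (.word [2,3,4,3,0,5,2]))))) (.node (.node (.node (.node (.node (.word [2,4,5,4,2,0,1]) (.word [3,2,4,0,4,3])) (.word [0,1,2,4,5,0])) (.node (.word [2,3,2,3,0]) (.word [0,2,5,3,1]))) (.node (.node (.word [0,2,3,1,2,0]) (.word [0,2,1,5,0])) (.node (.word [2,0,5,1,3,4,0]) (.word [0,1,5,4,0,3,2])))) (.node (.node (.node (.node (.word [2,0,5,3,0,1]) (.word [2,5,2,0,5,4,5])) (.word [0,1,3,4,0])) (.node (.word [1,4,0,5,2,0]) (.word [5,0,4,3,0,2]))) (.node (.node (.word [0,5,0,4,0,2,0]) (.word [2,4,2,0,2,1])) (.node (.word [1,3,5,0,5,3,0]) (.word [1,2,4,2,0,3])))))))) (.node (.node (.node (.node (.node (.node (.node (.node (.word [2,1,3,0,5,0,3]) (.word [1,2,1,4,0,3])) (.word [4,0,1,5,3,0])) (.node (.word [0,1,4,2,5,2,0]) (.word [2,5,0,2,1]))) (.node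 (.node (.word [1,3,2,0,4,0,1]) (.word [2,5,0,2,3,4,0])) (.node (.word [3,5,0,2,5,2,0]) (.word [2,5,0,4,0,2])))) (.node (.node (.node (.node (.word [2,0,4,5,2,0,1]) (.word [3,0,3,0,5,3])) (.word [0,4,1,2,1,4,0])) (.node (.word [5,4,3,2,0]) (.word [4,5,1]))) (.node (.node (.word [4,0,2,0,4,2,0]) (.word [2,0,3,0,2,5,0])) (.node (.word [1,2,0,2,1,3,0]) (.word [0,5,3,2]))))) (.node (.node (.node (.node (.node (.word [1,5,2,0,3,1]) (.word [1,5,4,0,4,3])) (.word [5,3,0,1,4,0])) (.node (.word [0,2,5,3,0,2]) (.word [2,1,4,0,3,1]))) (.node (.node (.word [2,4,2,4,2,0,2]) (.word [0,3,5,4,0])) (.node (.word [4,2,0,3,0]) (.word [5,1,3,5,0,2])))) (.node (.node (.node (.node (.word [0,4,5,1,3,0,1]) (.word [3,0,5,3,5])) (.word [4,2,3,2,4,0])) (.node (.word [4,1,4,0,3,2,4,0,4,5,4,0]) (.word [1,2,0,4,5]))) (.node (.node (.word [4,5,1,2,5,0,2,3,2,5,2,0]) (.word [2,4,3,0,4,0,3])) (.node (.word [0,3,5,0,2,3,0]) (.word [1,5,0,5,2]))))))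 (.node (.node (.node (.node (.node (.node (.word [2,0,5,1,3,4,3,1,2,0,2,0]) (.word [3,2,1,5,0,3])) (.word [2,0,4,1,5,3,0])) (.node (.word [0,2,4,5,0,2,0]) (.word [0,2,3,0,3,1]))) (.node (.node (.word [3,2,3,1,2,0]) (.word [4,0,5,4,5,0,2])) (.node (.word [0,3,0]) (.word [3,2,3,0,5,0,2])))) (.node (.node (.node (.node (.word [1,5,3,0,3,0,2]) (.word [0,5,2,0,3,5])) (.word [5,2,0,2,4,0])) (.node (.word [5,3,2,1,3,5,1,0,5,2,4,0]) (.word [2,0,1,2,0,3,5]))) (.node (.node (.word [0,5,2,0,1,2,0]) (.word [2,3,0,3,5,0])) (.node (.word [1,4,1,3,0]) (.word [0,1,3,0,5,2]))))) (.node (.node (.node (.node (.node (.word [0,5,4,2,0,1]) (.word [0,4,5,2,0,4,3])) (.word [2,3,4,0,4,3,5])) (.node (.word [5,1,2,3,0,5,0,2,0,1]) (.word [0,5,3,1]))) (.node (.node (.word [0,3,1,4,0,3,5]) (.word [0,2,5,3,5])) (.node (.word [1,2,4,0,2,5,0]) (.word [2,1,4,0,3,2])))) (.node (.node (.node (.node (.word [0,3,4,2,3,2,0]) (.word [0,3,4,5]))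 (.word [0,5,4,5,4,5,0])) (.node (.word [2,0,1,4,0,5,2]) (.word [2,0,5,3,2,0,3]))) (.node (.node (.word [1,3,5,2,0,2,0]) (.word [0,2,1])) (.node (.word [0,3,5,2,3,0]) (.word [5,2,5,0,2,0,3]))))))) (.node (.node (.node (.node (.node (.node (.node (.word [5,2,4,5,3,0,2,3,0,1,4,0]) (.word [5,0,1,5,0,3])) (.word [1,2,0,2,0,2])) (.node (.word [5,3,2,5,0,2,0]) (.word [3,0,1,2,3,2]))) (.node (.node (.word [1,2,4,5,3,0,3]) (.word [2,4,0,5,3,4,0])) (.node (.word [1,2,0,4,5,2,0]) (.word [1,5,3,4,0,2])))) (.node (.node (.node (.node (.word [0,1,4,5,2,5,0]) (.word [2,0,2,5,3])) (.word [5,1,4,0])) (.node (.word [0,2,1,4,0,3,1]) (.word [5,0,1,2,0,2]))) (.node (.node (.word [1,3,4,0,4,3]) (.word [0,1,5,4,0,3,1])) (.node (.word [0,5,2,1,3,0]) (.word [1,4,0,2,4,2]))))) (.node (.node (.node (.node (.node (.word [2,0,4,2,0,1]) (.word [0,3,0,5,2,3])) (.word [2,3,5,4,5,4,0])) (.node (.word [5,0,2,0,5,2,4,2,4,0,2,1]) (.word [5,1,5,0,3,1])))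 (.node (.node (.word [4,0,5,4,0,1]) (.word [2,4,5,4,0])) (.node (.word [0,1,5,3,1,4,0]) (.word [1,2,0,3])))) (.node (.node (.node (.node (.word [0,3,2,4,0,2]) (.word [2,5,0,4,5])) (.word [3,4,2,4,0])) (.node (.word [1,4,0,5,4,2,0]) (.word [1,5,4,0,5,0,2]))) (.node (.node (.word [0,2,0,2,3,2]) (.word [5,3,4,5,0])) (.node (.word [2,1,4,2,3,0]) (.word [5,4,0,4,5,2])))))) (.node (.node (.node (.node (.node (.node (.word [0,4,3,0,4,5,0]) (.word [1,4,3,5,0,3])) (.word [2,3,4,5,3,0])) (.node (.word [0,5,3,1,2,0]) (.word [5,2,0,3,1]))) (.node (.node (.word [0,3,4,0,1]) (.word [4,5,3,0,5,0,3])) (.node (.word [0,3,0,4,5,2]) (.word [1,3,0,4,5,2])))) (.node (.node (.node (.node (.word [0,2,1,3,0,5,3]) (.word [5,2,0,5,0,3,5])) (.word [0,4,3,1,2,4,0])) (.node (.word [3,2,4,0,4,2,0]) (.word [0,5,0,4,0,3,5]))) (.node (.node (.word [2,5,0,1,2,0]) (.word [0,4,0,1,3,0,3])) (.node (.word [1,3,0,5,1,3,0]) (.word [0,4,3,0,5,0,3])))))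 (.node (.node (.node (.node (.node (.word [1,5,0,5,2,0,1]) (.word [5,0,5,4,3])) (.word [0,4,3,5,0,4,0])) (.node (.word [0,5,4,2,3,2,0]) (.word [4,2,0,1,3,5]))) (.node (.node (.word [0,2,3,4,3,0]) (.word [0,2,0,3,1,5,0])) (.node (.word [0,3,1,5,0,3,0]) (.word [0,3,5,0,3,2])))) (.node (.node (.node (.word [1,2,4,0,5,4,0]) (.word [2,5,0,3,4,0])) (.node (.word [1,2,3,5,2,4,0]) (.word [0,5,2,5,3,0,2]))) (.node (.node (.word [0,5,3,4,0,2,0]) (.word [4,0,3,0,2,1])) (.node (.word [0,5,3,5,0,3]) (.word [3,0,3])))))))))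

/-- Points. -/
def levX0pts0 : List ℕ := [0,1,2,3,4,5,6,7,8,9,10,11,12,13,14,15,16,17,18,19,20,21,22,23,24,25,26,27,28,29,30,31,32,33,34,35,36,37,38,39,40,41,42,43,44,45,46,47,48,49,50,51,52,53,54,55,56,57,58,59,60,61,62,63,64,65,66,67,68,69,70,71,72,73,74,75,76,77,78,79,80,81,82,83,84,85,86,87,88,89,90,91,92,93,94,95,96,97,98,99,100,101,102,103,104,105,106,107,108,109,110,111,112,113,114,115,116,117,118,119,120,121,122,123,124,125,126,127,128,129,130,131,132,133,134,135,136,137,138,139,140,141,142,143,144,145,146,147,148,149,150,151,152,153,154,155,156,157,158,159,160,161,162,163,164,165,166,167,168,169,170,171,172,173,174,175,176,177,178,179,180,181,182,183,184,185,186,187,188,189,190,191,192,193,194,195,196,197,198,199]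

/-- Points. -/
def levX0pts1 : List ℕ := [200,201,202,203,204,205,206,207,208,209,210,211,212,213,214,215,216,217,218,219,220,221,222,223,224,225,226,227,228,229,230,231,232,233,234,235,236,237,238,239,240,241,242,243,244,245,246,247,248,249,250,251,252,253,254,255,256,257,258,259,260,261,262,263,264,265,266,267,268,269,270,271,272,273,274,275,276,277,278,279,280,281,282,283,284,285,286,287,288,289,290,291,292,293,294,295,296,297,298,299,300,301,302,303,304,305,306,307,308,309,310,311,312,313,314,315,316,317,318,319,320,321,322,323,324,325,326,327,328,329,330,331,332,333,334,335,336,337,338,339,340,341,342,343,344,345,346,347,348,349,350,351,352,353,354,355,356,357,358,359,360,361,362,363,364,365,366,367,368,369,370,371,372,373,374,375,376,377,378,379,380,381,382,383,384,385,386,387,388,389,390,391,392,393,394,395,396,397,398,399]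

/-- Points. -/
def levX0pts2 : List ℕ := [400,401,402,403,404,405,406,407,408,409,410,411,412,413,414,415,416,417,418,419,420,421,422,423,424,425,426,427,428,429,430,431,432,433,434,435,436,437,438,439,440,441,442,443,444,445,446,447,448,449,450,451,452,453,454,455,456,457,458,459,460,461,462,463,464,465,466,467,468,469,470,471,472,473,474,475,476,477,478,479,480,481,482,483,484,485,486,487,488,489,490,491,492,493,494,495,496,497,498,499,500,501,502,503,504,505,506,507,508,509,510,511,512,513,514,515,516,517,518,519,520,521,522,523,524,525,526,527,528,529,530,531,532,533,534,535,536,537,538,539,540,541,542,543,544,545,546,547,548,549,550,551,552,553,554,555,556,557,558,559,560,561,562,563,564,565,566,567,568,569,570,571,572,573,574,575,576,577,578,579,580,581,582,583,584,585,586,587,588,589,590,591,592,593,594,595,596,597,598,599]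

/-- Points. -/
def levX0pts3 : List ℕ := [600,601,602,603,604,605,606,607,608,609,610,611,612,613,614,615,616,617,618,619,620,621,622,623,624,625,626,627,628,629,630,631,632,633,634,635,636,637,638,639,640,641,642,643,644,645,646,647,648,649,650,651,652,653,654,655,656,657,658,659,660,661,662,663,664,665,666,667,668,669,670,671,672,673,674,675,676,677,678,679,680,681,682,683,684,685,686,687,688,689,690,691,692,693,694,695,696,697,698,699,700,701,702,703,704,705,706,707,708,709,710,711,712,713,714,715,716,717,718,719,720,721,722,723,724,725,726,727,728,729,730,731,732,733,734,735,736,737,738,739,740,741,742,743,744,745,746,747,748,749,750,751,752,753,754,755,756,757,758,759,760,761,762,763,764,765,766,767,768,769,770,771,772,773,774,775,776,777,778,779,780,781,782,783,784,785,786,787,788,789,790,791,792,793,794,795,796,797,798,799]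

/-- Points. -/
def levX0pts4 : List ℕ := [800,801,802,803,804,805,806,807,808,809,810,811,812,813,814,815,816,817,818,819,820,821,822,823,824,825,826,827,828,829,830,831,832,833,834,835,836,837,838,839,840,841,842,843,844,845,846,847,848,849,850,851,852,853,854,855,856,857,858,859,860,861,862,863,864,865,866,867,868,869,870,871,872,873,874,875,876,877,878,879,880,881,882,883,884,885,886,887,888,889,890,891,892,893,894,895,896,897,898,899,900,901,902,903,904,905,906,907,908,909,910,911,912,913,914,915,916,917,918,919,920,921,922,923,924,925,926,927,928,929,930,931,932,933,934,935,936,937,938,939,940,941,942,943,944,945,946,947,948,949,950,951,952,953,954,955,956,957,958,959,960,961,962,963,964,965,966,967,968,969,970,971,972,973,974,975,976,977,978,979,980,981,982,983,984,985,986,987,988,989,990,991,992,993,994,995,996,997,998,999]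

/-- Points. -/
def levX0pts5 : List ℕ := [1000,1001,1002,1003,1004,1005,1006,1007,1008,1009,1010,1011,1012,1013,1014,1015,1016,1017,1018,1019,1020,1021,1022,1023,1024,1025,1026,1027,1028,1029,1030,1031,1032,1033,1034,1035,1036,1037,1038,1039,1040,1041,1042,1043,1044,1045,1046,1047,1048,1049,1050,1051,1052,1053,1054,1055,1056,1057,1058,1059,1060,1061,1062,1063,1064,1065,1066,1067,1068,1069,1070,1071,1072,1073,1074,1075,1076,1077,1078,1079,1080,1081,1082,1083,1084,1085,1086,1087,1088,1089,1090,1091,1092,1093,1094,1095,1096,1097,1098,1099,1100,1101,1102,1103,1104,1105,1106,1107,1108,1109,1110,1111,1112,1113,1114,1115,1116,1117,1118,1119,1120,1121,1122,1123,1124,1125,1126,1127,1128,1129,1130,1131,1132,1133,1134,1135,1136,1137,1138,1139,1140,1141,1142,1143,1144,1145,1146,1147,1148,1149,1150,1151,1152,1153,1154,1155,1156,1157,1158,1159,1160,1161,1162,1163,1164,1165,1166,1167,1168,1169,1170,1171,1172,1173,1174,1175,1176,1177,1178,1179,1180,1181,1182,1183,1184,1185,1186,1187,1188,1189,1190,1191,1192,1193,1194,1195,1196,1197,1198,1199]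

/-- Points. -/
def levX0pts6 : List ℕ := [1200,1201,1202,1203,1204,1205,1206,1207,1208,1209,1210,1211,1212,1213,1214,1215,1216,1217,1218,1219,1220,1221,1222,1223,1224,1225,1226,1227,1228,1229,1230,1231,1232,1233,1234,1235,1236,1237,1238,1239,1240,1241,1242,1243,1244,1245,1246,1247,1248,1249,1250,1251,1252,1253,1254,1255,1256,1257,1258,1259,1260,1261,1262,1263,1264,1265,1266,1267,1268,1269,1270,1271,1272,1273,1274,1275,1276,1277,1278,1279,1280,1281,1282,1283,1284,1285,1286,1287,1288,1289,1290,1291,1292,1293,1294,1295,1296,1297,1298,1299,1300,1301,1302,1303,1304,1305,1306,1307,1308,1309,1310,1311,1312,1313,1314,1315,1316,1317,1318,1319,1320,1321,1322,1323,1324,1325,1326,1327,1328,1329,1330,1331,1332,1333,1334,1335,1336,1337,1338,1339,1340,1341,1342,1343,1344,1345,1346,1347,1348,1349,1350,1351,1352,1353,1354,1355,1356,1357,1358,1359,1360,1361,1362,1363,1364,1365,1366,1367,1368,1369,1370,1371,1372,1373,1374,1375,1376,1377,1378,1379,1380,1381,1382,1383,1384,1385,1386,1387,1388,1389,1390,1391,1392,1393,1394,1395,1396,1397,1398,1399]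

/-- Points. -/
def levX0pts7 : List ℕ := [1400,1401,1402,1403,1404,1405,1406,1407,1408,1409,1410,1411,1412,1413,1414,1415,1416,1417,1418,1419,1420,1421,1422,1423,1424,1425,1426,1427,1428,1429,1430,1431,1432,1433,1434,1435,1436,1437,1438,1439,1440,1441,1442,1443,1444,1445,1446,1447,1448,1449,1450,1451,1452,1453,1454,1455,1456,1457,1458,1459,1460,1461,1462,1463,1464,1465,1466,1467,1468,1469,1470,1471,1472,1473,1474,1475,1476,1477,1478,1479,1480,1481,1482,1483,1484,1485,1486,1487,1488,1489,1490,1491,1492,1493,1494,1495,1496,1497,1498,1499,1500,1501,1502,1503,1504,1505,1506,1507,1508,1509,1510,1511,1512,1513,1514,1515,1516,1517,1518,1519,1520,1521,1522,1523,1524,1525,1526,1527,1528,1529,1530,1531,1532,1533,1534,1535,1536,1537,1538,1539,1540,1541,1542,1543,1544,1545,1546,1547,1548,1549,1550,1551,1552,1553,1554,1555,1556,1557,1558,1559,1560,1561,1562,1563,1564,1565,1566,1567,1568,1569,1570,1571,1572,1573,1574,1575,1576,1577,1578,1579,1580,1581,1582,1583,1584,1585,1586,1587,1588,1589,1590,1591,1592,1593,1594,1595,1596,1597,1598,1599]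

/-- Points. -/
def levX0pts8 : List ℕ := [1600,1601,1602,1603,1604,1605,1606,1607,1608,1609,1610,1611,1612,1613,1614,1615,1616,1617,1618,1619,1620,1621,1622,1623,1624,1625,1626,1627,1628,1629,1630,1631,1632,1633,1634,1635,1636,1637,1638,1639,1640,1641,1642,1643,1644,1645,1646,1647,1648,1649,1650,1651,1652,1653,1654,1655,1656,1657,1658,1659,1660,1661,1662,1663,1664,1665,1666,1667,1668,1669,1670,1671,1672,1673,1674,1675,1676,1677,1678,1679,1680,1681,1682,1683,1684,1685,1686,1687,1688,1689,1690,1691,1692,1693,1694,1695,1696,1697,1698,1699,1700,1701,1702,1703,1704,1705,1706,1707,1708,1709,1710,1711,1712,1713,1714,1715,1716,1717,1718,1719,1720,1721,1722,1723,1724,1725,1726,1727,1728,1729,1730,1731,1732,1733,1734,1735,1736,1737,1738,1739,1740,1741,1742,1743,1744,1745,1746,1747,1748,1749,1750,1751,1752,1753,1754,1755,1756,1757,1758,1759,1760,1761,1762,1763,1764,1765,1766,1767,1768,1769,1770,1771,1772,1773,1774,1775,1776,1777,1778,1779,1780,1781,1782,1783,1784,1785,1786,1787,1788,1789,1790,1791,1792,1793,1794,1795,1796,1797,1798,1799]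

/-- Points. -/
def levX0pts9 : List ℕ := [1800,1801,1802,1803,1804,1805,1806,1807,1808,1809,1810,1811,1812,1813,1814,1815,1816,1817,1818,1819,1820,1821,1822,1823,1824,1825,1826,1827,1828,1829,1830,1831,1832,1833,1834,1835,1836,1837,1838,1839,1840,1841,1842,1843,1844,1845,1846,1847,1848,1849,1850,1851,1852,1853,1854,1855,1856,1857,1858,1859,1860,1861,1862,1863,1864,1865,1866,1867,1868,1869,1870,1871,1872,1873,1874,1875,1876,1877,1878,1879,1880,1881,1882,1883,1884,1885,1886,1887,1888,1889,1890,1891,1892,1893,1894,1895,1896,1897,1898,1899,1900,1901,1902,1903,1904,1905,1906,1907,1908,1909,1910,1911,1912,1913,1914,1915,1916,1917,1918,1919,1920,1921,1922,1923,1924,1925,1926,1927,1928,1929,1930,1931,1932,1933,1934,1935,1936,1937,1938,1939,1940,1941,1942,1943,1944,1945,1946,1947,1948,1949,1950,1951,1952,1953,1954,1955,1956,1957,1958,1959,1960,1961,1962,1963,1964,1965,1966,1967,1968,1969,1970,1971,1972,1973,1974,1975,1976,1977,1978,1979,1980,1981,1982,1983,1984,1985,1986,1987,1988,1989,1990,1991,1992,1993,1994,1995,1996,1997,1998,1999]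

/-- Points. -/
def levX0pts10 : List ℕ := [2000,2001,2002,2003,2004,2005,2006,2007,2008,2009,2010,2011,2012,2013,2014,2015,2016,2017,2018,2019,2020,2021,2022,2023,2024,2025,2026,2027,2028,2029,2030,2031,2032,2033,2034,2035,2036,2037,2038,2039,2040,2041,2042,2043,2044,2045,2046,2047,2048,2049,2050,2051,2052,2053,2054,2055,2056,2057,2058,2059,2060,2061,2062,2063,2064,2065,2066,2067,2068,2069,2070,2071,2072,2073,2074,2075,2076,2077,2078,2079,2080,2081,2082,2083,2084,2085,2086,2087,2088,2089,2090,2091,2092,2093,2094,2095,2096,2097,2098,2099,2100,2101,2102,2103,2104,2105,2106,2107,2108,2109,2110,2111,2112,2113,2114,2115,2116,2117,2118,2119,2120,2121,2122,2123,2124,2125,2126,2127,2128,2129,2130,2131,2132,2133,2134,2135,2136,2137,2138,2139,2140,2141,2142,2143,2144,2145,2146,2147,2148,2149,2150,2151,2152,2153,2154,2155,2156,2157,2158,2159,2160,2161,2162,2163,2164,2165,2166,2167,2168,2169,2170,2171,2172,2173,2174,2175,2176,2177,2178,2179,2180,2181,2182,2183,2184,2185,2186,2187,2188,2189,2190,2191,2192,2193,2194,2195,2196,2197,2198,2199]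

/-- Points. -/
def levX0pts11 : List ℕ := [2200,2201,2202,2203,2204,2205,2206,2207,2208,2209,2210,2211,2212,2213,2214,2215,2216,2217,2218,2219,2220,2221,2222,2223,2224,2225,2226,2227,2228,2229,2230,2231,2232,2233,2234,2235,2236,2237,2238,2239,2240,2241,2242,2243,2244,2245,2246,2247,2248,2249,2250,2251,2252,2253,2254,2255,2256,2257,2258,2259,2260,2261,2262,2263,2264,2265,2266,2267,2268,2269,2270,2271,2272,2273,2274,2275,2276,2277,2278,2279,2280,2281,2282,2283,2284,2285,2286,2287,2288,2289,2290,2291,2292,2293,2294,2295,2296,2297,2298,2299,2300,2301,2302,2303,2304,2305,2306,2307,2308,2309,2310,2311,2312,2313,2314,2315,2316,2317,2318,2319,2320,2321,2322,2323,2324,2325,2326,2327,2328,2329,2330,2331,2332,2333,2334,2335,2336,2337,2338,2339,2340,2341,2342,2343,2344,2345,2346,2347,2348,2349,2350,2351,2352,2353,2354,2355,2356,2357,2358,2359,2360,2361,2362,2363,2364,2365,2366,2367,2368,2369,2370,2371,2372,2373,2374,2375,2376,2377,2378,2379,2380,2381,2382,2383,2384,2385,2386,2387,2388,2389,2390,2391,2392,2393,2394,2395,2396,2397,2398,2399]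

/-- Points. -/
def levX0pts12 : List ℕ := [2400,2401,2402,2403,2404,2405,2406,2407,2408,2409,2410,2411,2412,2413,2414,2415,2416,2417,2418,2419,2420,2421,2422,2423,2424,2425,2426,2427,2428,2429,2430,2431,2432,2433,2434,2435,2436,2437,2438,2439,2440,2441,2442,2443,2444,2445,2446,2447,2448,2449,2450,2451,2452,2453,2454,2455,2456,2457,2458,2459,2460,2461,2462,2463,2464,2465,2466,2467,2468,2469,2470,2471,2472,2473,2474,2475,2476,2477,2478,2479,2480,2481,2482,2483,2484,2485,2486,2487,2488,2489,2490,2491,2492,2493,2494,2495,2496,2497,2498,2499,2500,2501,2502,2503,2504,2505,2506,2507,2508,2509,2510,2511,2512,2513,2514,2515,2516,2517,2518,2519,2520,2521,2522,2523,2524,2525,2526,2527,2528,2529,2530,2531,2532,2533,2534,2535,2536,2537,2538,2539,2540,2541,2542,2543,2544,2545,2546,2547,2548,2549,2550,2551,2552,2553,2554,2555,2556,2557,2558,2559,2560,2561,2562,2563,2564,2565,2566,2567,2568,2569,2570,2571,2572,2573,2574,2575,2576,2577,2578,2579,2580,2581,2582,2583,2584,2585,2586,2587,2588,2589,2590,2591,2592,2593,2594,2595,2596,2597,2598,2599]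

/-- Points. -/
def levX0pts13 : List ℕ := [2600,2601,2602,2603,2604,2605,2606,2607,2608,2609,2610,2611,2612,2613,2614,2615,2616,2617,2618,2619,2620,2621,2622,2623,2624,2625,2626,2627,2628,2629,2630,2631,2632,2633,2634,2635,2636,2637,2638,2639,2640,2641,2642,2643,2644,2645,2646,2647,2648,2649,2650,2651,2652,2653,2654,2655,2656,2657,2658,2659,2660,2661,2662,2663,2664,2665,2666,2667,2668,2669,2670,2671,2672,2673,2674,2675,2676,2677,2678,2679,2680,2681,2682,2683,2684,2685,2686,2687,2688,2689,2690,2691,2692,2693,2694,2695,2696,2697,2698,2699,2700,2701,2702,2703,2704,2705,2706,2707,2708,2709,2710,2711,2712,2713,2714,2715,2716,2717,2718,2719,2720,2721,2722,2723,2724,2725,2726,2727,2728,2729,2730,2731,2732,2733,2734,2735,2736,2737,2738,2739,2740,2741,2742,2743,2744,2745,2746,2747,2748,2749,2750,2751,2752,2753,2754,2755,2756,2757,2758,2759,2760,2761,2762,2763,2764,2765,2766,2767,2768,2769,2770,2771,2772,2773,2774,2775,2776,2777,2778,2779,2780,2781,2782,2783,2784,2785,2786,2787,2788,2789,2790,2791,2792,2793,2794,2795,2796,2797,2798,2799]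

/-- Points. -/
def levX0pts14 : List ℕ := [2800,2801,2802,2803,2804,2805,2806,2807,2808,2809,2810,2811,2812,2813,2814,2815,2816,2817,2818,2819,2820,2821,2822,2823,2824,2825,2826,2827,2828,2829,2830,2831,2832,2833,2834,2835,2836,2837,2838,2839,2840,2841,2842,2843,2844,2845,2846,2847,2848,2849,2850,2851,2852,2853,2854,2855,2856,2857,2858,2859,2860,2861,2862,2863,2864,2865,2866,2867,2868,2869,2870,2871,2872,2873,2874,2875,2876,2877,2878,2879,2880,2881,2882,2883,2884,2885,2886,2887,2888,2889,2890,2891,2892,2893,2894,2895,2896,2897,2898,2899,2900,2901,2902,2903,2904,2905,2906,2907,2908,2909,2910,2911,2912,2913,2914,2915,2916,2917,2918,2919,2920,2921,2922,2923,2924,2925,2926,2927,2928,2929,2930,2931,2932,2933,2934,2935,2936,2937,2938,2939,2940,2941,2942,2943,2944,2945,2946,2947,2948,2949,2950,2951,2952,2953,2954,2955,2956,2957,2958,2959,2960,2961,2962,2963,2964,2965,2966,2967,2968,2969,2970,2971,2972,2973,2974,2975,2976,2977,2978,2979,2980,2981,2982,2983,2984,2985,2986,2987,2988,2989,2990,2991,2992,2993,2994,2995,2996,2997,2998,2999]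

/-- Points. -/
def levX0pts15 : List ℕ := [3000,3001,3002,3003,3004,3005,3006,3007,3008,3009,3010,3011,3012,3013,3014,3015,3016,3017,3018,3019,3020,3021,3022,3023,3024,3025,3026,3027,3028,3029,3030,3031,3032,3033,3034,3035,3036,3037,3038,3039,3040,3041,3042,3043,3044,3045,3046,3047,3048,3049,3050,3051,3052,3053,3054,3055,3056,3057,3058,3059,3060,3061,3062,3063,3064,3065,3066,3067,3068,3069,3070,3071,3072,3073,3074,3075,3076,3077,3078,3079,3080,3081,3082,3083,3084,3085,3086,3087,3088,3089,3090,3091,3092,3093,3094,3095,3096,3097,3098,3099,3100,3101,3102,3103,3104,3105,3106,3107,3108,3109,3110,3111,3112,3113,3114,3115,3116,3117,3118,3119,3120,3121,3122,3123,3124,3125,3126,3127,3128,3129,3130,3131,3132,3133,3134,3135,3136,3137,3138,3139,3140,3141,3142,3143,3144,3145,3146,3147,3148,3149,3150,3151,3152,3153,3154,3155,3156,3157,3158,3159,3160,3161,3162,3163,3164,3165,3166,3167,3168,3169,3170,3171,3172,3173,3174,3175,3176,3177,3178,3179,3180,3181,3182,3183,3184,3185,3186,3187,3188,3189,3190,3191,3192,3193,3194,3195,3196,3197,3198,3199]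

/-- Points. -/
def levX0pts16 : List ℕ := [3200,3201,3202,3203,3204,3205,3206,3207,3208,3209,3210,3211,3212,3213,3214,3215,3216,3217,3218,3219,3220,3221,3222,3223,3224,3225,3226,3227,3228,3229,3230,3231,3232,3233,3234,3235,3236,3237,3238,3239,3240,3241,3242,3243,3244,3245,3246,3247,3248,3249,3250,3251,3252,3253,3254,3255,3256,3257,3258,3259,3260,3261,3262,3263,3264,3265,3266,3267,3268,3269,3270,3271,3272,3273,3274,3275,3276,3277,3278,3279,3280,3281,3282,3283,3284,3285,3286,3287,3288,3289,3290,3291,3292,3293,3294,3295,3296,3297,3298,3299,3300,3301,3302,3303,3304,3305,3306,3307,3308,3309,3310,3311,3312,3313,3314,3315,3316,3317,3318,3319,3320,3321,3322,3323,3324,3325,3326,3327,3328,3329,3330,3331,3332,3333,3334,3335,3336,3337,3338,3339,3340,3341,3342,3343,3344,3345,3346,3347,3348,3349,3350,3351,3352,3353,3354,3355,3356,3357,3358,3359,3360,3361,3362,3363,3364,3365,3366,3367,3368,3369,3370,3371,3372,3373,3374,3375,3376,3377,3378,3379,3380,3381,3382,3383,3384,3385,3386,3387,3388,3389,3390,3391,3392,3393,3394,3395,3396,3397,3398,3399]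

/-- Points. -/
def levX0pts17 : List ℕ := [3400,3401,3402,3403,3404,3405,3406,3407,3408,3409,3410,3411,3412,3413,3414,3415,3416,3417,3418,3419,3420,3421,3422,3423,3424,3425,3426,3427,3428,3429,3430,3431,3432,3433,3434,3435,3436,3437,3438,3439,3440,3441,3442,3443,3444,3445,3446,3447,3448,3449,3450,3451,3452,3453,3454,3455,3456,3457,3458,3459,3460,3461,3462,3463,3464,3465,3466,3467,3468,3469,3470,3471,3472,3473,3474,3475,3476,3477,3478,3479,3480,3481,3482,3483,3484,3485,3486,3487,3488,3489,3490,3491,3492,3493,3494,3495,3496,3497,3498,3499,3500,3501,3502,3503,3504,3505,3506,3507,3508,3509,3510,3511,3512,3513,3514,3515,3516,3517,3518,3519,3520,3521,3522,3523,3524,3525,3526,3527,3528,3529,3530,3531,3532,3533,3534,3535,3536,3537,3538,3539,3540,3541,3542,3543,3544,3545,3546,3547,3548,3549,3550,3551,3552,3553,3554,3555,3556,3557,3558,3559,3560,3561,3562,3563,3564,3565,3566,3567,3568,3569,3570,3571,3572,3573,3574,3575,3576,3577,3578,3579,3580,3581,3582,3583,3584,3585,3586,3587,3588,3589,3590,3591,3592,3593,3594,3595,3596,3597,3598,3599]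

/-- Points. -/
def levX0pts18 : List ℕ := [3600,3601,3602,3603,3604,3605,3606,3607,3608,3609,3610,3611,3612,3613,3614,3615,3616,3617,3618,3619,3620,3621,3622,3623,3624,3625,3626,3627,3628,3629,3630,3631,3632,3633,3634,3635,3636,3637,3638,3639,3640,3641,3642,3643,3644,3645,3646,3647,3648,3649,3650,3651,3652,3653,3654,3655,3656,3657,3658,3659,3660,3661,3662,3663,3664,3665,3666,3667,3668,3669,3670,3671,3672,3673,3674,3675,3676,3677,3678,3679,3680,3681,3682,3683,3684,3685,3686,3687,3688,3689,3690,3691,3692,3693,3694,3695,3696,3697,3698,3699,3700,3701,3702,3703,3704,3705,3706,3707,3708,3709,3710,3711,3712,3713,3714,3715,3716,3717,3718,3719,3720,3721,3722,3723,3724,3725,3726,3727,3728,3729,3730,3731,3732,3733,3734,3735,3736,3737,3738,3739,3740,3741,3742,3743,3744,3745,3746,3747,3748,3749,3750,3751,3752,3753,3754,3755,3756,3757,3758,3759,3760,3761,3762,3763,3764,3765,3766,3767,3768,3769,3770,3771,3772,3773,3774,3775,3776,3777,3778,3779,3780,3781,3782,3783,3784,3785,3786,3787,3788,3789,3790,3791,3792,3793,3794,3795,3796,3797,3798,3799]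

/-- Points. -/
def levX0pts19 : List ℕ := [3800,3801,3802,3803,3804,3805,3806,3807,3808,3809,3810,3811,3812,3813,3814,3815,3816,3817,3818,3819,3820,3821,3822,3823,3824,3825,3826,3827,3828,3829,3830,3831,3832,3833,3834,3835,3836,3837,3838,3839,3840,3841,3842,3843,3844,3845,3846,3847,3848,3849,3850,3851,3852,3853,3854,3855,3856,3857,3858,3859,3860,3861,3862,3863,3864,3865,3866,3867,3868,3869,3870,3871,3872,3873,3874,3875,3876,3877,3878,3879,3880,3881,3882,3883,3884,3885,3886,3887,3888,3889,3890,3891,3892,3893,3894,3895,3896,3897,3898,3899,3900,3901,3902,3903,3904,3905,3906,3907,3908,3909,3910,3911,3912,3913,3914,3915,3916,3917,3918,3919,3920,3921,3922,3923,3924,3925,3926,3927,3928,3929,3930,3931,3932,3933,3934,3935,3936,3937,3938,3939,3940,3941,3942,3943,3944,3945,3946,3947,3948,3949,3950,3951,3952,3953,3954,3955,3956,3957,3958,3959,3960,3961,3962,3963,3964,3965,3966,3967,3968,3969,3970,3971,3972,3973,3974,3975,3976,3977,3978,3979,3980,3981,3982,3983,3984,3985,3986,3987,3988,3989,3990,3991,3992,3993,3994,3995,3996,3997,3998,3999]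

/-- Points. -/
def levX0pts20 : List ℕ := [4000,4001,4002,4003,4004,4005,4006,4007,4008,4009,4010,4011,4012,4013,4014,4015,4016,4017,4018,4019,4020,4021,4022,4023,4024,4025,4026,4027,4028,4029,4030,4031,4032,4033,4034,4035,4036,4037,4038,4039,4040,4041,4042,4043,4044,4045,4046,4047,4048,4049,4050,4051,4052,4053,4054,4055,4056,4057,4058,4059,4060,4061,4062,4063,4064,4065,4066,4067,4068,4069,4070,4071,4072,4073,4074,4075,4076,4077,4078,4079,4080,4081,4082,4083,4084,4085,4086,4087,4088,4089,4090,4091,4092,4093,4094,4095,4096,4097,4098,4099,4100,4101,4102,4103,4104,4105,4106,4107,4108,4109,4110,4111,4112,4113,4114,4115,4116,4117,4118,4119,4120,4121,4122,4123,4124,4125,4126,4127,4128,4129,4130,4131,4132,4133,4134,4135,4136,4137,4138,4139,4140,4141,4142,4143,4144,4145,4146,4147,4148,4149,4150,4151,4152,4153,4154,4155,4156,4157,4158,4159,4160,4161,4162,4163,4164,4165,4166,4167,4168,4169,4170,4171,4172,4173,4174,4175,4176,4177,4178,4179,4180,4181,4182,4183,4184,4185,4186,4187,4188,4189,4190,4191,4192,4193,4194,4195,4196,4197,4198,4199]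

/-- Points. -/
def levX0pts21 : List ℕ := [4200,4201,4202,4203,4204,4205,4206,4207,4208,4209,4210,4211,4212,4213,4214,4215,4216,4217,4218,4219,4220,4221,4222,4223,4224,4225,4226,4227,4228,4229,4230,4231,4232,4233,4234,4235,4236,4237,4238,4239,4240,4241,4242,4243,4244,4245,4246,4247,4248,4249,4250,4251,4252,4253,4254,4255,4256,4257,4258,4259,4260,4261,4262,4263,4264,4265,4266,4267,4268,4269,4270,4271,4272,4273,4274,4275,4276,4277,4278,4279,4280,4281,4282,4283,4284,4285,4286,4287,4288,4289,4290,4291,4292,4293,4294,4295,4296,4297,4298,4299,4300,4301,4302,4303,4304,4305,4306,4307,4308,4309,4310,4311,4312,4313,4314,4315,4316,4317,4318,4319,4320,4321,4322,4323,4324,4325,4326,4327,4328,4329,4330,4331,4332,4333,4334,4335,4336,4337,4338,4339,4340,4341,4342,4343,4344,4345,4346,4347,4348,4349,4350,4351,4352,4353,4354,4355,4356,4357,4358,4359,4360,4361,4362,4363,4364,4365,4366,4367,4368,4369,4370,4371,4372,4373,4374,4375,4376,4377,4378,4379,4380,4381,4382,4383,4384,4385,4386,4387,4388,4389,4390,4391,4392,4393,4394,4395,4396,4397,4398,4399]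

/-- Points. -/
def levX0pts22 : List ℕ := [4400,4401,4402,4403,4404,4405,4406,4407,4408,4409,4410,4411,4412,4413,4414,4415,4416,4417,4418,4419,4420,4421,4422,4423,4424,4425,4426,4427,4428,4429,4430,4431,4432,4433,4434,4435,4436,4437,4438,4439,4440,4441,4442,4443,4444,4445,4446,4447,4448,4449,4450,4451,4452,4453,4454,4455,4456,4457,4458,4459,4460,4461,4462,4463,4464,4465,4466,4467,4468,4469,4470,4471,4472,4473,4474,4475,4476,4477,4478,4479,4480,4481,4482,4483,4484,4485,4486,4487,4488,4489,4490,4491,4492,4493,4494,4495,4496,4497,4498,4499,4500,4501,4502,4503,4504,4505,4506,4507,4508,4509,4510,4511,4512,4513,4514,4515,4516,4517,4518,4519,4520,4521,4522,4523,4524,4525,4526,4527,4528,4529,4530,4531,4532,4533,4534,4535,4536,4537,4538,4539,4540,4541,4542,4543,4544,4545,4546,4547,4548,4549,4550,4551,4552,4553,4554,4555,4556,4557,4558,4559,4560,4561,4562,4563,4564,4565,4566,4567,4568,4569,4570,4571,4572,4573,4574,4575,4576,4577,4578,4579,4580,4581,4582,4583,4584,4585,4586,4587,4588,4589,4590,4591,4592,4593,4594,4595,4596,4597,4598,4599]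

/-- A level. -/
def levX0 : Level :=
  ⟨0, (.node (.node (.node (.node wt0 wt1) (.node wt2 wt3)) (.node (.node wt4 wt5) (.node wt6 wt7))) (.node (.node (.node wt8 wt9) (.node wt10 wt11)) (.node (.node wt12 wt13) (.node wt14 wt15)))), levX0pts0 ++ levX0pts1 ++ levX0pts2 ++ levX0pts3 ++ levX0pts4 ++ levX0pts5 ++ levX0pts6 ++ levX0pts7 ++ levX0pts8 ++ levX0pts9 ++ levX0pts10 ++ levX0pts11 ++ levX0pts12 ++ levX0pts13 ++ levX0pts14 ++ levX0pts15 ++ levX0pts16 ++ levX0pts17 ++ levX0pts18 ++ levX0pts19 ++ levX0pts20 ++ levX0pts21 ++ levX0pts22⟩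

/-- A subtree. -/
def wt16 : WTree :=
  (.node (.node (.node (.node (.node (.node (.node WTree.none (.node (.word [0,2,5,0,2,3,1,5,0,4,5]) (.node WTree.none (.word [5,0,5,4,5,0,5])))) WTree.none) (.node (.node (.node (.node (.node (.word [5,1,2,1,5]) (.word [5,3,4,1,4,2,3,5])) WTree.none) WTree.none) (.node (.node WTree.none (.word [2,4,5,0,1,5,4,1,2])) WTree.none)) (.node (.node (.node (.node WTree.none (.word [5,2,4,1,4,0,2,5])) WTree.none) (.node WTree.none (.word [3,4,3,5,2,5,4,3]))) WTree.none))) (.node (.node (.node (.node (.node WTree.none (.word [2,4,5,3,0,5,4,1,2])) WTree.none) (.node WTree.none (.node WTree.none (.word [3,2,4,3,1,2,0,5,1])))) (.node (.node (.node (.node WTree.none (.word [3,2,5,1,3,4,1,5])) (.word [5,3,0,3,0,3,5])) WTree.none) (.node WTree.none (.node WTree.none (.word [3,5,3,4,5,1,3]))))) (.node WTree.none (.word [3,5,3,5,3,4])))) (.node (.node (.node (.node (.node (.node WTree.none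 (.word [2,4,0,3,2,1,3,5])) WTree.none) (.node WTree.none (.node WTree.none (.word [5,3,4,3,2,4,1,5,3])))) (.node (.node (.node (.node WTree.none (.word [0,5,4,2,4,0,2,0,5,3,5,0])) WTree.none) WTree.none) (.node (.node WTree.none (.word [5,3,4,2,5,4,2])) WTree.none))) (.node (.word [5,4,2,3,4,2,4,1,5]) (.node (.word [5,2,5,4,5,1,2,5]) (.word [5,0,2,0,2,5])))) (.node (.node (.node (.node WTree.none (.word [1,4,5,0,4,2])) WTree.none) (.node (.node (.node (.node WTree.none (.word [3,5,4,5,1,3,4])) WTree.none) WTree.none) (.node WTree.none (.node (.word [3,4,1,3,1,2,4,3]) (.word [5,0,1,2,3,2,3,5]))))) (.node (.node (.word [5,4,1,4,0,2,5]) (.word [5,3,4,1,3,2,5,3])) (.node WTree.none (.node (.node (.word [2,3,1,3,4,0,2,5,1]) (.word [0,5,3,1,3,5,0,4,3])) (.node (.word [5,0,4,2,4,5,3,2]) (.word [2,4,3,0,2,5,1])))))))) (.node (.node (.node (.node (.node (.node WTree.none (.word [5,3,0,3,0,3,0,1,2,5])) WTree.none)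 (.node (.node (.node WTree.none (.word [2,4,3,2,5,4,3,5,1])) (.node WTree.none (.word [2,4,5,0,5,4,2,3,1,3]))) WTree.none)) (.node (.word [2,4,0,3,1,3,5]) (.node WTree.none (.node (.word [1,2,1,4,0,4,1,2,1]) (.node WTree.none (.word [3,5,1,3,4,5,3])))))) (.node (.node (.node (.node (.node (.node WTree.none (.word [2,4,5,0,2,4,3,2,5])) WTree.none) WTree.none) WTree.none) (.node (.node WTree.none (.word [3,2,4,3,1,2,4,2])) (.node WTree.none (.node WTree.none (.word [5,2,0,5]))))) (.node (.node WTree.none (.node WTree.none (.word [4,1,5,0,4,2,4]))) (.node WTree.none (.node (.node (.word [5,2,0,2,5]) (.word [5,0,5,4])) WTree.none))))) (.node (.node (.node WTree.none (.node (.node (.node (.node WTree.none (.word [5,0,5,2,1,2,4])) (.word [1,4,5,2,0,1,4,2])) (.node WTree.none (.word [5,3,2,3,2,0,5]))) (.node (.node WTree.none (.word [5,0,2,1,4,1,4,5])) (.node (.word [3,0,4,5,0,1,5,2,3,0]) (.word [2,0,5,1,3,5,0,1,2,1])))))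 (.node WTree.none (.node WTree.none (.node (.node (.word [5,2,0,5,4,5,2,5]) (.word [5,2,0,1,3,2,3,5])) WTree.none)))) (.node (.word [3,5,0,5,1,3,5,0,1,4,5]) (.node (.node (.node (.node (.node WTree.none (.word [3,4,2,3,4,1,3])) WTree.none) WTree.none) (.node WTree.none (.word [3,0,4,3,4,0,1,3]))) (.node WTree.none (.node WTree.none (.word [1,5,4,1,4,0,3,4,2,4])))))))) (.node (.node (.node (.node (.node (.node (.node WTree.none (.word [2,3,4,0,3,2,3,0,3])) (.node WTree.none (.word [1,5,0,5,2,4,3,5,4]))) (.node (.node (.node (.node (.word [5,4,5,2,0,1,5,0]) (.word [2,4,5,0,4,3,5,2,3,2])) WTree.none) WTree.none) WTree.none)) (.node (.node (.node WTree.none (.node (.word [5,2,0,2,4,2,4,5,3,2]) (.word [5,1,3,0,3,0,3,5]))) (.node (.node WTree.none (.word [1,5,0,2,1,2,4,2])) WTree.none)) (.node (.node (.node WTree.none (.word [3,5,4,1,5,3,2,1,2])) WTree.none) WTree.none))) (.node (.node (.node (.node (.node WTree.none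 (.word [0,5,0,3,2,5,3,5,4])) (.word [3,0,2,5,3,4,0,5,3,4,5])) (.word [5,4,1,4,2,0,2,5])) (.node (.node WTree.none (.node WTree.none (.word [0,2,1,4,2,4,3,2,0,2]))) WTree.none)) (.node (.node (.node (.node (.node WTree.none (.word [1,3,5,2,5,4,2,3,1])) WTree.none) WTree.none) (.node WTree.none (.node WTree.none (.word [2,4,2,5,4,1,3,5])))) (.node (.node WTree.none (.node WTree.none (.word [4,1,4,5,0,4,2]))) (.word [2,4,0,2,5,1]))))) (.node (.node (.node (.node (.node (.node (.node WTree.none (.word [3,5,3,2,3,1,4,3,5])) WTree.none) (.word [1,5,0,4,2,5,0,5,4])) (.node WTree.none (.node WTree.none (.word [5,3,5,3,5,3,0,2,5])))) (.node (.node WTree.none (.node WTree.none (.word [1,5,2,0,4,2,1,4,1]))) WTree.none)) (.node (.node (.node (.word [5,3,1,4,5,2,4,2]) (.node WTree.none (.word [3,5,4,5,3,5,1,5]))) WTree.none) (.node (.node (.node (.node WTree.none (.word [3,2,5,3,1,4,5,1])) WTree.none) WTree.none) WTree.none)))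 (.node (.node (.node WTree.none (.node WTree.none (.node WTree.none (.word [3,0,4,3,4,0,3])))) WTree.none) (.node (.node WTree.none (.word [2,1,2,4,5,0,5,4])) (.node (.node (.node (.node WTree.none (.word [4,5,1,0,5,3,1,3])) WTree.none) WTree.none) (.node WTree.none (.word [2,4,0,2,3,1,3,5]))))))) (.node (.node (.node (.node (.node (.node WTree.none (.word [3,2,1,0,4,2,4,5,0,3])) (.node WTree.none (.word [1,5,0,1,4,1,2]))) (.node (.node WTree.none (.word [5,0,5,4,5,2,0,5])) (.node (.node WTree.none (.word [2,4,1,3,5,0,5,4,2])) WTree.none))) (.node (.node WTree.none (.word [2,3,2,1,3,5,2,4,5])) (.node (.node (.node (.node WTree.none (.word [5,2,0,4,1,4,2,5])) WTree.none) (.node (.word [5,4,1,4,2,5]) (.word [1,2,4,0,1,3,4,2,4,1]))) (.node WTree.none (.word [2,4,2,1,3,1,4,2,3]))))) (.node (.node (.node (.node (.node WTree.none (.word [5,0,3,4,2,5,4,2])) (.word [4,5,0,2,5])) (.node WTree.none (.word [1,4,5,2,5,1])))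 (.node (.node (.node WTree.none (.word [2,4,1,3,4,1,2])) WTree.none) WTree.none)) (.node (.node (.node (.node WTree.none (.word [5,0,4,1,4,0,2,5])) (.node WTree.none (.word [5,0,1,5,3,1,3]))) WTree.none) (.node WTree.none (.node WTree.none (.node WTree.none (.word [2,0,5,1,3,5,0,2,1]))))))) (.node (.node (.node (.node (.node (.node (.node WTree.none (.word [1,2,5,0,2,0,5,2,1])) WTree.none) WTree.none) WTree.none) (.node (.node (.node WTree.none (.word [1,3,4,1,2,4,3])) WTree.none) WTree.none)) (.node WTree.none (.word [5,0,3,2,3,1,5]))) (.node (.node (.node (.word [2,5,0,5,4,5,0,5,1,2]) (.word [5,3,4,1,2,5,0,2,5,1])) (.node (.node (.node WTree.none (.word [1,2,1,2,4,1])) (.node WTree.none (.word [3,2,4,1,5,3,4,3,5]))) (.node (.node (.word [1,5,3,1,3,0,2,5]) (.word [1,4,1,4,5,2,5])) (.node WTree.none (.word [2,3,5,3,4,5,1,3,2]))))) (.node (.node (.node (.node (.node WTree.none (.word [3,1,3,4])) (.word [3,5,3,4,5,3]))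 (.node WTree.none (.word [3,5,0,5,3,5,0,5,3]))) WTree.none) (.node WTree.none (.node WTree.none (.word [1,5,0,3,4,1,2,4])))))))))

/-- A subtree. -/
def wt17 : WTree :=
  (.node (.node (.node (.node (.node (.node (.node (.node WTree.none (.word [1,5,4,1,4,0,4,1,2])) (.node (.node WTree.none (.word [1,4,5,0,1,4,1,2])) WTree.none)) (.node (.node (.node (.node WTree.none (.word [2,4,5,4,3,5,2,3,2])) WTree.none) WTree.none) (.word [5,4,5,4,2,5,3,0,4,2]))) (.node (.node WTree.none (.node (.node WTree.none (.word [5,0,5,1,4,1])) WTree.none)) WTree.none)) (.node (.node (.node WTree.none (.node WTree.none (.node (.word [3,2,1,0,5,3,4,1,2,0,4]) (.word [5,4,3,5,1,2,3,4])))) (.node (.node (.node WTree.none (.word [5,3,0,5,3,2,5,2,0,3,2])) WTree.none) WTree.none)) (.node WTree.none (.node (.node WTree.none (.node WTree.none (.word [3,1,3,5,0,2,1,5]))) (.word [3,2,5,1,3,4,2,0,2,5]))))) (.node (.node (.node (.node (.node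 (.node WTree.none (.word [1,5,2,0,4,2,4])) WTree.none) (.node (.node WTree.none (.word [2,1,4,0,5,4,1])) (.word [2,5,0,5,1,2,5,0,4,5,2]))) (.node (.word [1,3,0,3,2,5,0,5,2,4,1]) (.node (.word [3,2,1,0,2,0,4,0,3,0,1]) (.node WTree.none (.word [2,4,1,5,0,5,4,2]))))) (.node WTree.none (.node (.node (.node WTree.none (.word [5,4,0,4,1,3,1,3,0,2])) (.node WTree.none (.word [4,5,2,0,2,0,5]))) (.node (.node WTree.none (.word [0,2,4,3,0,1,2,1,3,1])) (.node WTree.none (.word [1,5,0,2,3,4,2,3])))))) (.node (.node (.node WTree.none (.word [4,2,1,3,4,3,2])) (.node (.node WTree.none (.node WTree.none (.word [3,5,2,1,3,4,3,2,5]))) (.node (.node (.word [0,5,2,4,3,5,0,4]) (.word [1,2,5,3,5,0,4,0,5,3])) WTree.none))) (.node (.node WTree.none (.node WTree.none (.node WTree.none (.word [1,5,2,3,2,3,5,1])))) (.word [1,5,2,5,1]))))) (.node (.node (.node (.node (.node WTree.none (.node WTree.none (.word [0,2,5,3,5,0,4,0,2,5,1,3])))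 (.node WTree.none (.node (.node WTree.none (.word [1,5,2,0,4,2])) (.node WTree.none (.word [2,5,4,3,4,2,1,5,2]))))) (.node (.node (.node WTree.none (.node WTree.none (.word [1,5,0,1,3,4,2,4]))) (.node WTree.none (.node WTree.none (.word [1,5,0,2,3,1,4,2,3])))) (.node (.node (.node WTree.none (.word [0,5,0,2,5,1,4,5,4,1])) WTree.none) (.node WTree.none (.node WTree.none (.word [2,4,3,5,0,5,4,1,2])))))) (.node (.node (.word [5,4,1,4,0,2,1,5]) (.node (.node (.node (.node WTree.none (.word [5,3,0,5,2,4,0,3,5])) WTree.none) WTree.none) (.node WTree.none (.word [5,3,5,3,5,1,3,0,4,2])))) (.node (.node (.node WTree.none (.word [3,2,4,1,5,2,5,3])) WTree.none) (.node (.node (.node WTree.none (.word [3,0,3,5,0,5,4,3,0,1,3])) WTree.none) WTree.none)))) (.node (.node (.node (.node (.node (.word [2,0,4,5,1,5,0,4,5,4]) (.node WTree.none (.word [5,3,2,3,1,5,4]))) WTree.none) (.node WTree.none (.node (.node (.word [5,2,1,5,4,5,2,5])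 (.word [3,4,3,2,4,3])) WTree.none))) (.node (.node (.node WTree.none (.word [5,0,5,4,5,1,2,5])) (.word [4,2,4,0,5,1,4])) (.node WTree.none (.word [2,3,0,2,4,3,2,0,3,2])))) (.node (.node (.node WTree.none (.node WTree.none (.word [1,0,5,4,0,3,1,4,0,3]))) (.node (.node (.word [5,3,4,2,0,5,1,4,2]) (.word [5,3,0,3,0,2,3,0,5])) (.word [5,4,0,2,5,2,0,1,2]))) (.node (.node (.node (.word [3,0,3,2,3,0,4,3,1,2]) (.node WTree.none (.word [5,0,3,2,3,5,4]))) (.node WTree.none (.node WTree.none (.word [4,2,4,0,5,1])))) (.node WTree.none (.node (.node WTree.none (.word [5,2,0,2,0,1,5])) WTree.none))))))) (.node (.node (.node (.node (.node (.node (.node (.node WTree.none (.word [5,2,4,2,4,5,3,2])) (.node WTree.none (.word [3,2,4,1,3,2,4,2]))) WTree.none) (.node (.node WTree.none (.node (.word [3,4,1,2,4,3,1]) (.word [0,5,1,0,2,3,5,4,0,5]))) (.word [2,4,5,0,3,2,1,4,3,5]))) (.node (.node (.node (.node WTree.none (.word [1,4,1]))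 (.node WTree.none (.word [0,2,0,3,0,2,0]))) WTree.none) WTree.none)) (.node (.node (.node (.node (.node (.node WTree.none (.word [2,4,2,5,2,0,4,3,2,3])) WTree.none) (.word [2,3,5,4,2,4,0,2,5])) WTree.none) (.node (.node (.node (.node WTree.none (.word [2,4,5,3,0,5,1,4,2])) WTree.none) (.word [0,2,4,3,0,2,5,1,5,3])) WTree.none)) (.node (.node WTree.none (.node (.node WTree.none (.word [3,5,2,3,2,0,5,4,2])) (.word [5,3,0,3,0,2,3,5]))) (.node (.node WTree.none (.node (.word [3,1,2,4,5,2,5,3]) (.word [5,3,0,3,0,3,1,5]))) (.node (.node WTree.none (.word [5,4,1,4,1,2,0,2,5])) WTree.none))))) (.node (.node (.node (.node (.node WTree.none (.word [5,3,2,1,3,0,4,2])) (.node (.node WTree.none (.word [3,0,3,0,2,0,3,0,3])) WTree.none)) (.node (.node (.node (.node (.word [1,4,1,5,1,2,5]) (.word [2,1,2,5,0,2,0,5])) (.word [4,2,3,4,1,3,2])) (.node WTree.none (.word [3,0,3,0,2,0,3,0,3,4]))) WTree.none)) (.node (.word [4,5,3,2,3,5])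 (.node (.node (.node (.node WTree.none (.word [3,2,5,1,3,4,5])) WTree.none) WTree.none) (.node WTree.none (.node WTree.none (.word [3,5,2,3,4,2,3,5])))))) (.node (.node (.node WTree.none (.node WTree.none (.word [1,5,0,4,2,4,5,2,5]))) (.node (.node (.word [1,5,0,4,1,2]) (.word [5,2,0,2,4,1,4,5])) (.node WTree.none (.word [3,2,0,5,2,4,3,0])))) (.node (.node (.node (.node (.node WTree.none (.word [5,4,1,3,1,5,2,3])) WTree.none) WTree.none) WTree.none) (.node WTree.none (.node (.word [1,4,5,1,2,1,5,1]) (.word [1,5,1,2,0,4,2,4]))))))) (.node (.node (.node (.node (.node (.node (.word [5,1,2,0,2,1,5]) (.word [5,3,1,4,5,2,0,5,1,4])) (.node WTree.none (.node WTree.none (.word [0,2,3,1,4,5,2,0,3])))) (.node (.node WTree.none (.word [5,3,4,2,3,0,5,4,1,2])) (.node WTree.none (.node WTree.none (.word [3,2,5,2,4,5,4,3]))))) (.node WTree.none (.node (.word [1,5,3,4,2,5,4,2,1]) (.word [0,3,1,3,5,3,4,2,0,4])))) (.node (.node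 (.word [5,4,1,4,0,1,2,1,5]) (.node (.node (.node (.word [2,0,3,1,2,3,2,4,0,4,5]) (.word [3,1,4,2,4,1,3])) WTree.none) (.node (.node (.word [5,3,5,1,5,3,2,0,2,5]) (.word [2,4,0,2,0,4,1,2])) WTree.none))) (.node (.node (.word [5,4,1,4,1,2,5]) (.node WTree.none (.node WTree.none (.word [1,5,2,0,5,0,5,4,2])))) (.node WTree.none (.word [2,3,0,3,2,3,0,3,4]))))) (.node (.node (.node (.node (.node WTree.none (.word [0,5,1,0,2,5,4,2,5])) (.node WTree.none (.word [5,3,5,1,5,0,3,0,3,5]))) (.node WTree.none (.node WTree.none (.word [5,3,0,5,2,4,0,3,0,5])))) (.node (.node (.node (.node (.node WTree.none (.word [5,0,1,2,1,2,5])) WTree.none) WTree.none) WTree.none) (.node (.node (.node (.node (.word [1,2,4,2,5,4,3,0,2,5]) (.word [5,0,5,3,2,4,3,2,4,1,2])) WTree.none) (.node WTree.none (.word [2,3,5,2,3,4,0,5,4,2]))) (.node (.node WTree.none (.word [3,2,4,3,2,3,4,2])) WTree.none)))) (.node (.node (.node WTree.none (.node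 WTree.none (.word [1,5,0,1,5,1,5,4,2]))) WTree.none) (.node (.node (.node (.node (.node WTree.none (.word [2,1,2,4])) WTree.none) WTree.none) (.node WTree.none (.word [5,0,5,3,1,3,4]))) WTree.none))))))

/-- A subtree. -/
def wt18 : WTree :=
  (.node (.node (.node (.node (.node (.node (.node WTree.none (.node (.node WTree.none (.word [3,4,2,1,4,3,1])) WTree.none)) (.node (.node (.node (.node WTree.none (.word [2,4,3,4,2,5,0,5])) WTree.none) WTree.none) WTree.none)) (.node (.node (.node WTree.none (.node WTree.none (.word [1,3,5,2,5,4,1,2,3]))) (.node WTree.none (.node (.word [3,0,3,4,2,3,0,3,2]) (.word [5,4,5,3,5,4,5])))) (.node (.node (.node (.node WTree.none (.word [3,2,4,3,2,0,5,1])) WTree.none) (.word [3,2,5,3,1,4,0,4,2])) WTree.none))) (.node (.node (.node (.node (.word [0,5,0,2,5,4,0,3,4,2]) (.node (.word [4,1,5,0,1,4,2]) (.word [3,5,4,5,3,5,0,5]))) (.node WTree.none (.word [2,4,0,5,4,5,2,5,1]))) (.node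 (.node (.node (.node WTree.none (.word [3,5,0,5,1,3,5,0,4,5])) (.word [1,3,5,0,4,0,5,3,4,1])) (.node WTree.none (.word [0,3,2,5,4,5,4,3,0,4,5]))) (.word [3,2,3,2,4,2,1,3,2]))) (.node (.node (.node WTree.none (.word [3,2,5,1,3,4,5,4])) (.node (.node WTree.none (.word [3,5,4,5,3,4])) WTree.none)) WTree.none))) (.node (.node (.node (.node WTree.none (.node WTree.none (.word [2,4,5,0,5,1,4,1,2]))) (.node (.node (.word [2,4,0,5,1,4,5,2,5]) (.node WTree.none (.word [5,0,2,0,1,2,5]))) WTree.none)) (.node (.node (.node WTree.none (.word [5,1,2,5])) WTree.none) (.node (.node (.node WTree.none (.word [0,2,1,2,5,0,3,1,4,3])) WTree.none) (.node (.node (.word [5,4,5,0,5,3,5,3,0,2]) (.word [0,5,4,1,4,0,1,4])) WTree.none)))) (.node (.node (.node (.node (.word [5,0,5,3,5,4,5,3]) (.node WTree.none (.word [0,2,1,2,0,5,3,4,0,5]))) WTree.none) (.node (.word [2,4,0,4,1,4,2,5,1]) (.node (.word [2,4,0,3,4,5,2,4,2]) (.word [0,5,4,1,4,0,1]))))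 (.node (.node (.node WTree.none (.node WTree.none (.word [3,2,4,1,3,2,0,5,1,4]))) WTree.none) (.node WTree.none (.node WTree.none (.node (.word [5,1,4,2,4,5,3,2]) (.word [1,4,1,4,5,0,2,5])))))))) (.node (.node (.node (.node (.node (.node WTree.none (.word [3,2,5,1,3,4,0,2,5])) (.node WTree.none (.word [2,0,2,5,2,0,4,0,5]))) (.node WTree.none (.node WTree.none (.node WTree.none (.word [1,3,5,2,1,4,5,2,3]))))) (.node (.node (.node WTree.none (.node WTree.none (.word [3,5,2,5,4,2,3]))) WTree.none) (.node (.node (.node (.node WTree.none (.word [0,5,0,4,0,5,0,1,4,1])) WTree.none) (.node WTree.none (.word [5,2,0,2,0,5]))) WTree.none))) (.node (.node (.node (.node WTree.none (.node WTree.none (.word [0,4,5,1,2,5,4,0]))) (.word [2,4,3,0,4,3,5,2,3])) (.node (.node (.node (.node WTree.none (.word [3,0,2,5,2,5,3,0,4,5])) WTree.none) (.word [3,2,4,1,3,1,2,4,2])) (.node WTree.none (.word [2,1,4,3,0,5,1,4])))) (.node (.node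 (.node (.node (.node WTree.none (.word [2,4,0,2,3,2,1,3,5])) WTree.none) WTree.none) WTree.none) (.node (.node WTree.none (.node WTree.none (.word [3,1,4,2,3,4,1,3]))) (.node WTree.none (.node WTree.none (.word [1,2,5,0,2,0,5,2,4,1]))))))) (.node (.node (.node (.node (.node (.node WTree.none (.word [1,5,2,0,1,4,2,4])) (.word [1,4,1,4,5,0,5,4])) (.node WTree.none (.node WTree.none (.word [3,2,4,3,2,4,1,2])))) (.node (.node WTree.none (.word [3,2,1,5,3,4,0,2,5])) WTree.none)) (.node (.node (.node (.word [3,2,1,2,3,1,4]) (.node WTree.none (.word [4,2,3,1,4,3,2]))) (.node WTree.none (.word [1,2,1,4,0,4,2,4,1]))) (.node (.node WTree.none (.node (.word [2,3,5,4,2,4,0,2,0,5]) (.word [2,1,4,5,0,5,4,2]))) (.node WTree.none (.node WTree.none (.word [3,5,2,1,3,4,2,3,1,5])))))) (.node (.node (.node (.node (.word [2,3,1,4,3,2,4]) (.word [5,3,2,3,1,5])) (.node WTree.none (.word [5,2,0,1,2,0,1,2,1,5]))) (.node (.node (.node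 WTree.none (.word [5,4,2,3,4,2,4,0,5,4])) (.node WTree.none (.word [3,2,4,5,2,4,5,3]))) WTree.none)) (.node (.node (.node (.node (.node (.word [5,2,1,5]) (.word [3,4,1,2,1,4,3])) (.word [5,0,1,5,4,5,2,5])) WTree.none) (.node (.node WTree.none (.word [5,0,2,4,1,4,5])) WTree.none)) (.node (.node WTree.none (.word [3,5,3,2,4,5,1,2,3])) WTree.none)))))) (.node (.node (.node (.node (.node (.node (.node (.node (.node WTree.none (.word [1,4,1,5,0,5,4])) WTree.none) WTree.none) WTree.none) (.node (.node (.node (.node WTree.none (.word [1,2,4,0,2,5,4,3,5,4])) WTree.none) WTree.none) (.node (.node WTree.none (.word [5,4,1,4,5])) WTree.none))) (.node (.word [5,3,2,3,5]) (.node (.node (.node WTree.none (.word [3,5,4,1,5,1,3])) (.word [2,1,4,0,1,5,1,4])) (.node (.word [1,5,2,1,2,0,4,2]) (.node (.word [2,4,5,3,2,4,3,5]) (.word [2,5,3,0,4,0,2,4,1,2,3])))))) (.node (.node (.node (.node WTree.none (.node (.word [3,1,3,5,0,2,5])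 (.word [0,2,1,2,0,2,3,4,1]))) (.node WTree.none (.word [2,4,5,0,3,5,0,5,1]))) (.node (.node (.node (.node (.word [3,1,3,5,0,1,2,5]) (.word [1,3,4,2,1,3,4,3])) WTree.none) WTree.none) (.node (.node WTree.none (.word [4,1,5,1,2,5,1])) (.node (.word [5,4,3,1,5,2,1,3]) (.word [5,3,4,2,0,5,3,4,2]))))) (.node (.node (.node (.word [1,2,1,4,0,1,4,2,1]) (.word [5,3,0,3,0,3,2,5])) (.node WTree.none (.node WTree.none (.word [5,3,5,3,5,3,2,5])))) (.node (.node WTree.none (.node WTree.none (.word [0,4,0,2,0,1,4,2,0,3]))) (.node WTree.none (.word [2,4,2,3,4,2,3])))))) (.node (.node (.node (.node WTree.none (.node WTree.none (.node WTree.none (.word [2,4,0,2,1,5,1])))) (.node (.node (.word [0,5,0,3,2,5,3,5]) (.node (.word [1,2,4,5,2,4,3,0,4,2]) (.word [2,4,5,0,1,3,5,0,5,1]))) WTree.none)) (.node (.node WTree.none (.word [2,4,5,1,5,0,5,4,1])) (.node WTree.none (.node WTree.none (.node WTree.none (.word [0,2,3,0,4,2,5,3,0,4,3]))))))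 (.node (.node (.node (.node (.node WTree.none (.word [3,2,1,5,3,4,5,4])) WTree.none) (.node (.node WTree.none (.word [5,2,0,5,1,4,1])) WTree.none)) (.node WTree.none (.node WTree.none (.node (.word [3,4,2,1,4,1,3,1]) (.word [1,5,0,1,4,1,2,4]))))) (.node (.node (.node WTree.none (.node (.word [5,2,0,3,2,3,5]) (.word [5,4,2,3,4,2,4,2,5]))) (.node (.word [5,3,1,2,3,5,1]) (.node WTree.none (.word [3,2,1,2,3,4,1])))) WTree.none)))) (.node (.node (.node (.node (.node (.node (.node (.node WTree.none (.word [5,4,5,3,5,4,1,5])) WTree.none) (.word [5,4,0,4,1,5,1,5,0,2])) (.node (.node (.word [3,2,4,3,2,4,2]) (.word [0,4,3,5,4,2,3,2,0,3,1])) WTree.none)) (.word [4,5,2,1,5])) (.node WTree.none (.node (.node WTree.none (.node WTree.none (.word [2,0,2,5,2,0,1,4,2,5]))) WTree.none))) (.node (.node (.node (.node WTree.none (.word [3,0,2,5,2,5,3,0,1,4,5])) (.word [5,3,0,3,0,3,0,2,1,5])) (.node (.node (.node WTree.none (.word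 [4,2,4,1,4,2])) WTree.none) (.node WTree.none (.node (.word [2,4,5,3,0,3,5,0,5,1]) (.word [0,5,1,0,3,4,5,4,2,5]))))) (.node (.node (.node (.node (.node WTree.none (.word [2,4,1,0,3,4,5,2,4,2])) WTree.none) WTree.none) (.word [3,5,3,5,3,4,5,1,5])) (.node WTree.none (.word [5,1,2,0,3,2,3,5]))))) (.node (.node (.node (.node (.word [2,4,1,5,0,5,1,4,2]) (.node WTree.none (.word [4,5,2,5]))) (.node (.node (.node (.node WTree.none (.word [1,2,4,5,2,4,3,5,4,1])) (.word [3,5,2,4,1,5,2,3])) WTree.none) (.word [1,5,3,1,2,3,2,5]))) (.node (.node (.node (.node WTree.none (.word [1,2,4,1,3,0,4,2,4,1])) (.node WTree.none (.word [1,5,0,1,3,1,3,4,2]))) WTree.none) WTree.none)) (.node (.node (.node (.node WTree.none (.node WTree.none (.word [5,3,1,4,2,0,4,3,2,3]))) WTree.none) (.node WTree.none (.node (.node (.word [5,0,1,2,5]) (.word [5,4,3,2,4,1,5,4,3])) WTree.none))) (.node (.node (.node (.node (.node (.word [5,2,5,4,5,2,5])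 (.word [5,0,5,3,1,3])) (.word [3,1,5,1,3,4,5,3])) (.node WTree.none (.word [2,4,5,0,5,4,1,2]))) (.node (.node WTree.none (.word [5,2,4,1,4,5])) WTree.none)) (.node (.node WTree.none (.node WTree.none (.word [3,4,1,2,1,4,1,3]))) (.node WTree.none (.word [2,4,3,5,0,5,4,2])))))))))

/-- A subtree. -/
def wt19 : WTree :=
  (.node (.node (.node (.node (.node (.node (.node (.node (.node WTree.none (.word [2,4,3,0,1,2,5,1])) WTree.none) (.node (.word [1,0,5,4,0,3,4,0,4,2,3]) (.node WTree.none (.word [2,5,3,2,3,5,2,4])))) (.node (.node (.node (.node WTree.none (.word [1,2,4,0,3,2,5,4,3,5])) WTree.none) WTree.none) WTree.none)) (.node (.node (.node (.node WTree.none (.word [3,5,4,1,5,3])) (.word [3,4,1,0,5,2,1,2,0,4])) WTree.none) (.node (.node WTree.none (.word [1,5,0,3,4,2,4])) (.word [2,4,5,2,4,3,5,4])))) (.node (.node (.node (.node (.node (.word [5,3,1,2,3,0,4,2]) (.word [0,5,1,2,1,2,0,4,3])) WTree.none) (.node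 WTree.none (.node WTree.none (.word [2,5,4,2,0,2,1,5,3,0,3])))) (.node (.node (.node (.word [5,0,5,4,5,2,5]) (.word [2,3,2,1,4,5,2,4,0,5,4])) WTree.none) (.node WTree.none (.word [2,3,1,3,1,2])))) (.node (.node (.node (.node (.node WTree.none (.word [4,5,0,5,3,1,3])) WTree.none) WTree.none) WTree.none) WTree.none))) (.node (.node (.node WTree.none (.node WTree.none (.node WTree.none (.node WTree.none (.word [1,0,2,1,2,0,2,3]))))) (.node (.node (.node (.node (.node WTree.none (.word [5,0,3,2,3,0,5])) WTree.none) WTree.none) (.node (.node WTree.none (.word [0,3,5,4,5,0,5,4,5,3,0])) WTree.none)) (.node (.node (.node (.node WTree.none (.word [3,2,1,5,3,4,5])) WTree.none) WTree.none) (.node WTree.none (.node WTree.none (.word [2,4,2,1,3,4,2,3])))))) (.node (.node (.node (.node (.node WTree.none (.word [3,5,4,5,3])) (.node (.word [5,4,1,4,5,4]) (.word [3,2,3,4,0,5,0,4,2,1]))) (.word [5,3,2,3,2,0,2,5])) (.node WTree.none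 (.word [1,4,5,0,1,4,2]))) (.node (.node (.node (.node WTree.none (.word [1,5,3,1,3,0,5,4])) WTree.none) (.node (.node (.word [1,5,0,4,2,5,2,5]) (.word [1,5,0,1,3,4,2])) (.word [1,0,3,4,2,0,1,4,3]))) (.node (.node WTree.none (.node WTree.none (.word [4,2,1,4,0,5,1]))) WTree.none))))) (.node (.node (.node (.node (.node (.node WTree.none (.node (.word [0,2,5,0,2,3,5,4,0,2]) (.word [5,0,2,0,1,5]))) (.node (.word [3,5,2,1,2,4,1,5,3]) (.node WTree.none (.word [1,4,5,0,3,0,5,1])))) WTree.none) (.node WTree.none (.node (.node WTree.none (.word [2,1,4,3,0,5,1])) (.word [5,0,1,2,0,2,5])))) (.node (.node (.node (.node WTree.none (.node WTree.none (.word [5,2,0,1,5]))) WTree.none) (.node (.node (.node (.node WTree.none (.word [2,1,2,5,0,1,2,5])) WTree.none) WTree.none) WTree.none)) (.node (.node (.node WTree.none (.node WTree.none (.word [4,2,1,2]))) (.node WTree.none (.word [5,3,2,0,3,0,3,5]))) (.word [5,3,1,3,0,3,0,5,1]))))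 (.node (.node (.node (.node (.node (.node (.node WTree.none (.word [3,5,3,5,3,2,1,2,4])) WTree.none) WTree.none) WTree.none) (.node (.node (.node (.node WTree.none (.word [2,4,2,1,2,0,1,5,4,1])) (.word [2,4,1,5,3,0,5,4,2])) WTree.none) (.word [4,5,1,5]))) (.node (.node (.node (.node (.node WTree.none (.word [1,3,4,1,2,3,4,3])) WTree.none) WTree.none) (.node WTree.none (.node WTree.none (.word [4,5,0,3,2,3,0,5])))) (.node WTree.none (.node (.node WTree.none (.word [3,4,2,3,4,3])) (.node WTree.none (.word [4,5,2,0,5])))))) (.node (.node (.node (.node (.node (.node WTree.none (.word [1,4,1,5,0,5,1,4,1])) WTree.none) WTree.none) (.node (.node WTree.none (.word [2,4,1,5,0,5,4,1,2])) (.word [5,4,5,0,3,0,5,4,5,4]))) (.node (.node WTree.none (.word [5,3,4,2,0,2,4,3,2,5])) WTree.none)) (.node (.node (.node (.node (.node WTree.none (.word [3,1,3])) WTree.none) WTree.none) WTree.none) (.node (.node WTree.none (.node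 WTree.none (.word [5,3,4,5,1,2,4,2,1]))) (.node WTree.none (.word [5,4,5,3,1,2,0,5,0,4])))))))) (.node (.node (.node (.node (.node WTree.none (.node (.node (.node WTree.none (.word [2,4,1,3,4,2])) WTree.none) (.word [5,1,2,0,1,2,1,5]))) (.node (.node (.node (.node WTree.none (.word [3,5,2,1,2,4,5,1,3])) WTree.none) WTree.none) (.node (.node (.node (.node (.word [1,5,4,1,4,2,5,1]) (.word [3,2,5,1,3,4,0,5])) WTree.none) (.word [4,5,0,1,5,4])) WTree.none))) (.node (.node (.word [5,1,2,5,4,5,2,5]) (.node (.node (.node (.node WTree.none (.word [5,0,5])) WTree.none) (.node WTree.none (.word [1,2,0,3,1,3,4,0,2,1]))) WTree.none)) (.node (.node (.node WTree.none (.node WTree.none (.word [5,0,3,2,3,0,1,5]))) (.node (.node WTree.none (.word [])) (.word [1,5,0,2,5,4,1,3,5]))) (.node (.node (.node (.node WTree.none (.word [0,3,4,2,5,0,2,3,4])) WTree.none) WTree.none) WTree.none)))) (.node (.node (.node (.node (.node WTree.none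 (.word [5,1,2,0,5,1,4,1])) (.node WTree.none (.node (.word [3,1,4,5,2,5,4,3]) (.word [2,3,5,1,4,2,4,0,4,2])))) (.node (.node (.node WTree.none (.word [3,2,4,3,2,0,5,4,1])) (.word [5,3,1,4,5,2,0,5,4,1])) (.node WTree.none (.word [3,1,3,4,5,0,5,4])))) (.word [3,5,1,2,3,4,3,5])) (.node (.node (.word [1,5,1,2,0,4,1,2]) (.node (.node (.node WTree.none (.word [5,3,4,3,2,5,3,4])) WTree.none) (.node (.node WTree.none (.word [5,0,4,5,3,5,4,5])) WTree.none))) (.node (.node (.node WTree.none (.node WTree.none (.word [4,5,1,0,2,1,2,5]))) (.node WTree.none (.word [2,4,5,1,5,0,2,5,1]))) (.node (.node (.node (.node WTree.none (.word [3,5,1,4,5,3,4])) (.word [2,4,2,1,3,5,2,5,3])) WTree.none) (.node (.node WTree.none (.word [3,5,2,3,4,3,2,5])) (.word [1,2,4,3,0,4,2,4,1]))))))) (.node (.node (.node (.node (.node (.node (.node (.node WTree.none (.word [2,3,5,1,2,5,1,2,3,2])) WTree.none) (.node (.word [1,5,0,4,5,2,5,2]) (.word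 [2,4,2,5,4,3,0,4,2]))) WTree.none) (.node (.word [4,2,4,5,0,1,5,4,2]) (.node (.node WTree.none (.word [5,3,1,4,2,5,4,2,1])) (.node WTree.none (.word [2,4,5,2,4,3,2,0,5]))))) (.node (.node WTree.none (.node WTree.none (.word [5,0,5,4,5,2,1,5]))) (.node WTree.none (.word [1,5,0,3,1,3,4,2])))) (.node (.node WTree.none (.node (.node (.node WTree.none (.word [2,4,1,4,2])) WTree.none) (.node (.word [5,2,0,1,2,5]) (.node WTree.none (.word [5,0,3,4,3,2,5,3]))))) (.node (.node (.node (.node (.node WTree.none (.word [4,1,5,2,1,5,1])) WTree.none) (.node WTree.none (.word [5,2,0,2,1,2,5]))) (.node WTree.none (.word [3,2,5,3,4,0,1,4,1,2]))) (.node (.node (.node (.node WTree.none (.word [5,0,2,1,2,5])) WTree.none) WTree.none) (.word [1,5,0,1,4,2,4]))))) (.node (.node (.node (.node (.node (.node WTree.none (.word [4,2,4,0,5,4,1])) (.word [2,1,2,5,0,2,1,5])) (.node WTree.none (.word [1,0,3,5,4,0,3,0,4,0]))) WTree.none) (.node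 WTree.none (.node (.node WTree.none (.node WTree.none (.word [2,4,0,4,3,5,2,3]))) (.node (.node (.word [5,0,1,2,0,1,2,5]) (.word [0,5,3,4,2,5,0,4])) WTree.none)))) (.node (.node (.node (.node (.node WTree.none (.word [3,4,5,3,5,2,4,3])) WTree.none) (.word [3,1,4,2,4,3])) (.node WTree.none (.node WTree.none (.node WTree.none (.word [3,5,1,3,4,5,1,3]))))) (.node (.node WTree.none (.node WTree.none (.word [2,4,5,3,0,5,4,2]))) (.node WTree.none (.node (.word [5,0,2,1,0,2,0,2,5]) (.word [5,0,2,3,2,3,1,5])))))))))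

/-- A subtree. -/
def wt20 : WTree :=
  (.node (.node (.node (.node (.node (.node (.word [1,4,1,4]) (.node (.node (.node (.node WTree.none (.word [3,2,3,4,0,1,5,4,2,1])) WTree.none) WTree.none) (.node (.word [1,5,2,0,3,4,2,4]) (.node WTree.none (.word [2,4,0,5,1]))))) (.node (.node (.node WTree.none (.node WTree.none (.word [5,3,4,1,4,2,3,1,5]))) (.node WTree.none (.node (.word [1,5,0,4,2,1,4,1]) (.word [1,4,1,5,0,2,0,5])))) (.node WTree.none (.node (.node (.word [1,2,4,0,1,4,1,2,1]) (.word [5,2,3,4,3,2,5,3])) WTree.none)))) (.node (.node (.node (.node (.node WTree.none (.word [1,2,4,0,4,2,1,5,2,5])) WTree.none) (.node WTree.none (.node WTree.none (.word [2,5,3,1,2,3,5,2,4])))) (.node (.node WTree.none (.word [1,2,4,3,0,2,5,4,3,5])) (.node (.node (.word [2,1,4,0,1,5,1]) (.word [1,5,1,2,5,1])) (.node WTree.none (.word [5,4,2,5,2,3,2,3,4,1]))))) (.node (.node (.node (.word [2,1,2,5,0,1,5,4]) (.word [2,4,0,1,5,1,4]))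 (.node (.node WTree.none (.word [3,5,1,3,5,3,4])) (.word [2,1,4,0,1,5,4,1]))) (.node (.node WTree.none (.node (.word [1,5,0,4,1,2,1,4,1]) (.word [1,4,5,2,0,4,2]))) (.node WTree.none (.node WTree.none (.word [2,5,0,2,5,1,3,0,3,2]))))))) (.node (.node (.node (.node (.node WTree.none (.word [1,2,0,5,3,1,5,0,2])) (.node (.node WTree.none (.word [3,5,2,1,4,1,5,2,3])) (.node WTree.none (.word [5,1,2,0,2,0,5])))) (.node (.node (.node (.node WTree.none (.word [0,2,1,4,3,0,4,1,3,1])) WTree.none) WTree.none) (.node (.word [5,2,0,1,2,0,2,5]) (.node WTree.none (.word [0,3,1,3,5,0,2,3]))))) (.node WTree.none (.node WTree.none (.word [0,2,1,4,3,0,4,3,1])))) (.node (.node (.node (.node (.node (.word [1,5,0,5,2,4,2,3,5]) (.word [2,4,0,2,0,4,2,4])) WTree.none) (.node (.word [5,3,2,3,1,2,5]) (.node WTree.none (.word [5,3,1,3,2,0,4,1,2])))) (.node WTree.none (.node (.node WTree.none (.word [5,0,4,3,1,5,2,3])) WTree.none)))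 (.node (.node (.node WTree.none (.node WTree.none (.word [5,4,5,2,0,1,5,0,4]))) (.word [5,3,4,2,5,4,1,2])) (.node (.node (.word [5,1,3,2,3,5]) (.node WTree.none (.word [5,3,4,2,3,5,0,5,1]))) (.node WTree.none (.node WTree.none (.word [0,5,0,3,2,5,3,0,5,4])))))))) (.node (.node (.node WTree.none (.node WTree.none (.node (.node (.node (.node WTree.none (.word [5,3,4,2,0,5,4,2])) WTree.none) WTree.none) WTree.none))) (.node (.node WTree.none (.node (.word [1,4,2,4,0,1,4,2,1]) (.node WTree.none (.word [2,5,4,2,0,2,5,3,0,3])))) (.node (.node WTree.none (.node (.node WTree.none (.word [1,5,0,3,4,2])) (.node WTree.none (.word [5,2,0,2,3,2,3,5])))) (.node (.node WTree.none (.word [3,4,5,2,3,5,3,4,3])) (.node (.node WTree.none (.word [4,5,0,5,4])) WTree.none))))) (.node (.node (.node (.node (.node (.node WTree.none (.word [1,5,1,2,0,1,4,2,4])) (.word [2,4,5,0,3,5,0,5,1,4])) WTree.none) (.node (.node WTree.none (.word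 [5,0,3,2,3,0,5,4])) WTree.none)) (.node (.node (.node WTree.none (.word [4,5,1,2,5])) (.node WTree.none (.word [5,0,2,0,1,2,1,5]))) (.node WTree.none (.node (.word [5,1,2,0,2,5]) (.word [5,0,3,2,3,5]))))) (.node (.node (.node WTree.none (.node WTree.none (.node WTree.none (.word [5,3,4,2,3,0,5,1,4,2])))) (.node (.node (.node WTree.none (.word [2,5,0,5,4,5,0,5,2])) WTree.none) WTree.none)) (.node (.node WTree.none (.node WTree.none (.word [0,5,0,4,0,5,0,4]))) WTree.none))))) (.node (.node (.node (.node (.node (.node (.node (.node WTree.none (.word [0,5,0,4,5,4,5,0,5,0])) WTree.none) (.node WTree.none (.word [2,4,3,0,1,5,4,1]))) (.node (.node (.node (.node (.word [1,4,5,1,2,5,1]) (.word [5,0,1,5,2,1,2,4])) WTree.none) (.word [5,0,2,0,1,5,4])) (.node WTree.none (.node (.word [2,4,1,3,4,2,5,2,5]) (.word [1,3,1,2,5,4,2,5,3]))))) (.node (.node (.node (.node (.node WTree.none (.word [1,2,4,1,4,2,4,1])) WTree.none)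 WTree.none) (.node (.node WTree.none (.word [0,2,4,3,0,2,3,4])) (.node WTree.none (.word [1,4,5,2,1,5,1])))) WTree.none)) (.node (.node (.node WTree.none (.word [0,5,1,2,1,2,0,4,1,3])) (.node (.node (.node (.node WTree.none (.word [2,3,5,4,2,4,0,5,4])) (.word [0,5,1,0,5,2,5,3,2,3])) WTree.none) (.node WTree.none (.word [2,4,1,3,1,4,2])))) (.node (.node (.node (.node WTree.none (.word [2,4,0,5,4,1])) WTree.none) WTree.none) (.node (.node WTree.none (.node WTree.none (.word [3,4,0,3,2,0,2,3,0]))) WTree.none)))) (.node (.node (.node (.node (.word [4,5,2,0,2,1,5]) (.node (.node WTree.none (.word [2,4,0,1,2,0,1,4,2])) WTree.none)) WTree.none) (.node WTree.none (.node (.node (.node WTree.none (.word [1,5,3,1,2,3,0,2,5])) WTree.none) (.word [2,1,4,0,5,1,4])))) (.node (.node (.node (.node (.word [0,5,0,2,4,2,5,3,0,5]) (.node WTree.none (.word [4,5,2,0,1,5]))) WTree.none) (.node WTree.none (.word [2,1,2,5,2,0,2,5])))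 (.node (.node (.node WTree.none (.node WTree.none (.word [5,0,4,1,4,5,4]))) (.node (.node (.word [1,5,0,5,3,0,5,4,2]) (.word [2,3,5,4,2,4,2,0,5])) (.word [2,4,5,0,5,0,5,4,1]))) (.node (.word [4,1,5,2,5,1]) (.node (.node WTree.none (.word [1,5,2,0,4,1,2])) WTree.none)))))) (.node (.node (.node (.node (.word [5,0,2,0,2,1,5]) (.node WTree.none (.node (.node (.word [1,5,0,2,1,2,4,1,2]) (.word [5,0,5,1,5,2,0,4,2])) (.node WTree.none (.word [3,5,2,5,1,4,2,3]))))) (.node (.node (.node (.node (.node WTree.none (.word [2,4,5,2,4,3,5])) WTree.none) WTree.none) WTree.none) (.node WTree.none (.node WTree.none (.node WTree.none (.word [5,4,1,4,0,5,1,4,1])))))) (.node (.node (.node (.word [5,4,1,4,0,5,4]) (.node (.node WTree.none (.word [5,0,1,5,1,4,1])) WTree.none)) (.node WTree.none (.node WTree.none (.word [5,2,4,1,4,0,5,4])))) (.node (.node (.word [2,4,3,0,5,1]) (.node WTree.none (.node (.word [5,0,3,1,2,1,3,5]) (.word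 [1,2,4,0,4,2,1])))) WTree.none))) (.node (.node (.node WTree.none (.node WTree.none (.word [5,4,5,4,2,5,1,3,2,5]))) (.node WTree.none (.node (.node (.node (.node WTree.none (.word [5,2,0,1,2,1,5])) WTree.none) WTree.none) (.node (.node WTree.none (.word [3,4,2,4,3])) WTree.none)))) (.node (.node (.node (.node (.node WTree.none (.word [5,4,2,3,4,2,4,5])) (.word [1,3,4,2,1,4,3])) WTree.none) (.node (.node WTree.none (.node WTree.none (.word [3,2,1,4,5,4,5,2,3]))) WTree.none)) (.node (.node (.node WTree.none (.node WTree.none (.word [2,4,5,0,5,3,1,4,2,4]))) (.word [5,3,1,3,0,4,2])) (.node WTree.none (.node WTree.none (.node (.word [1,5,0,3,0,5,1]) (.word [1,3,4,2,4,3,1]))))))))))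

/-- A subtree. -/
def wt21 : WTree :=
  (.node (.node (.node (.node (.node (.node (.node (.node WTree.none (.word [1,2,4,0,3,4,2,1,4])) (.node (.node WTree.none (.word [1,5,1,2,0,4,2])) WTree.none)) (.node WTree.none (.node WTree.none (.word [5,0,1,3,2,3,1,5])))) (.node (.node (.node (.node (.node WTree.none (.word [2,4,5,2,4,3,1,5])) WTree.none) WTree.none) (.node (.node WTree.none (.word [0,5,1,0,2,5,4,5])) WTree.none)) (.node (.node WTree.none (.word [3,5,1,5,3,5,0,2,5])) WTree.none))) (.node (.node (.node (.node (.node WTree.none (.word [1,2,4,0,3,1,4,2,4,1])) WTree.none) (.word [2,4,3,4,1,2])) (.node (.node (.node WTree.none (.word [5,3,0,3,0,1,2,3,5,1])) (.node (.word [0,4,2,4,5,0,3,2,1]) (.word [0,5,0,4,0,5,0]))) WTree.none)) (.node WTree.none (.node (.node (.node (.node WTree.none (.word [2,4,5,0,5,3,4,2])) WTree.none) WTree.none) (.word [5,3,2,3,0,2,5]))))) (.node (.node (.node (.node (.node (.node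 (.node WTree.none (.word [1,2,4,1,3,4,2,4,1])) (.word [2,4,3,0,2,1,5,1])) (.node WTree.none (.word [3,5,2,3,4,3,5]))) (.node (.node WTree.none (.word [1,0,5,0,1,5,0,4,1])) (.node WTree.none (.word [3,0,3,5,0,1,5,3,0,3])))) WTree.none) (.node (.node (.node (.word [3,2,4,3,2,1,4,2]) (.node (.word [2,4,5,0,2,1,4,2,3,5]) (.word [5,2,1,3,2,3,5]))) WTree.none) (.node (.node (.node WTree.none (.word [1,5,0,2,5,4,1,2,3,5])) WTree.none) (.node (.node WTree.none (.word [3,0,2,4,0,1,2,0,4,0])) WTree.none)))) (.node (.node (.node (.node WTree.none (.word [5,3,1,3,5,1])) (.node WTree.none (.node (.word [2,4,0,5,4,1,5,2,5]) (.word [1,5,0,4,1,2,4])))) (.node WTree.none (.word [5,1,2,0,1,5,4]))) (.node (.node (.node (.node WTree.none (.word [4,5,4,1,4,0,2,5])) (.word [3,5,1,2,3,4,3,2,5])) (.node (.node WTree.none (.word [3,2,5,3,4,0,3,4,2])) (.word [3,0,4,3,4,0,1,3,4]))) (.node WTree.none (.word [1,5,0,1,4,2])))))) (.node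 (.node (.node (.node (.node WTree.none (.node (.node WTree.none (.word [4,5,0,2,1,5])) (.word [2,4,0,1,5,4,1]))) (.node (.node (.node WTree.none (.word [3,4,5,3,2,5,4,3])) WTree.none) (.node WTree.none (.node (.word [4,5,0,1,2,1,5]) (.word [3,2,3,2,1,5,2,4,5]))))) (.node (.node WTree.none (.word [3,4,5,2,5,4,1,3])) (.node (.node WTree.none (.node (.word [5,0,4,1,4,2,5]) (.word [0,5,1,0,2,3,5,4,0,2,5]))) WTree.none))) (.node WTree.none (.node (.node (.node (.node (.node WTree.none (.word [2,4,3,4,1,2,4])) WTree.none) (.node WTree.none (.word [2,1,2]))) (.node WTree.none (.node WTree.none (.word [0,5,1,0,4,0,1,5,0])))) (.node (.node (.node (.node WTree.none (.word [3,4,5,4,2,1,3,4,5])) WTree.none) (.node (.word [5,2,5]) (.word [0,2,1,4,3,0,1,4,3]))) WTree.none)))) (.node (.node (.node (.node (.node (.node WTree.none (.word [5,3,5,3,5,3,0,5,4])) (.node (.word [1,5,4,1,4,0,1,4,2]) (.word [2,3,5,4,2,4,5]))) (.node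 WTree.none (.word [2,1,2,3,5,4,5,3]))) (.node (.node (.word [5,4,1,4,0,1,2,5]) (.node WTree.none (.word [2,4,0,1,2,1,5,1]))) (.word [3,5,4,5,1,3]))) (.node (.node WTree.none (.node WTree.none (.word [1,2,4,0,4,2,4,1]))) (.node WTree.none (.word [1,5,0,1,3,1,4,2,4])))) (.node (.node (.node (.node WTree.none (.word [1,2,4,5,2,5,2,4,2])) (.node WTree.none (.word [5,2,0,5,2,1,2,4]))) (.node (.node (.node (.word [1,0,4,2,0,1,2,3,2,0]) (.word [1,2,4,3,2,5,4,3,5])) (.node WTree.none (.word [2,4,0,1,5,1]))) WTree.none)) (.node (.node (.node (.word [5,4,3,5,1,2,1,3,4]) (.word [5,3,2,3,2,5])) WTree.none) (.node (.node WTree.none (.node WTree.none (.word [2,4,5,0,1,2,4,2,3,5]))) WTree.none)))))) (.node (.node (.node (.node (.node (.node (.node (.node (.node WTree.none (.word [5,3,2,3,5,4])) WTree.none) (.word [5,0,2,5])) (.node WTree.none (.word [1,4,1,5,2,5]))) (.node (.node (.node (.node (.word [2,4,0,4,3,5,2,1,3])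 (.word [2,5,0,5,4,5,0,2,5,2])) WTree.none) WTree.none) WTree.none)) (.node (.node WTree.none (.node (.node WTree.none (.word [4,5,0,5,1,4,1])) WTree.none)) (.node (.node (.node (.node WTree.none (.word [2,4,3,0,2,0,4,2])) WTree.none) WTree.none) (.word [4,5,0,1,2,5])))) (.node (.node (.node WTree.none (.node WTree.none (.node WTree.none (.word [1,5,4,5,3,5,4,5,1])))) (.node (.node WTree.none (.word [0,3,0,4,0,3,0])) (.node WTree.none (.word [1,2,4,5,0,3,4,2,4,2])))) (.node (.node WTree.none (.node (.node WTree.none (.word [1,5,0,3,0,2,5,1])) WTree.none)) WTree.none))) (.node (.node (.node (.node (.node (.word [0,2,4,3,0,2,1,3,4]) (.word [2,0,2,5,2,0,4,2,5])) WTree.none) (.node (.node WTree.none (.node WTree.none (.word [4,1,5,2,0,4,2]))) WTree.none)) (.node (.node WTree.none (.word [1,3,4,1,2,4,1,3])) (.node (.node (.node (.node WTree.none (.word [4,5,0,5])) WTree.none) WTree.none) WTree.none))) (.node (.node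 (.node WTree.none (.node (.node WTree.none (.word [2,4,5,0,3,5,4,1,2,4])) WTree.none)) WTree.none) (.node (.node (.node (.node WTree.none (.word [3,5,4,1,5,3,4])) WTree.none) WTree.none) (.node WTree.none (.node (.node WTree.none (.word [5,1,2,0,2,0,1,5])) WTree.none)))))) (.node (.node (.node (.node (.node WTree.none (.node (.node WTree.none (.word [5,3,4,1,2,0,5,4,2])) WTree.none)) (.node (.node (.node (.node WTree.none (.word [5,3,4,1,2,5,0,5,4,1])) WTree.none) WTree.none) (.node WTree.none (.word [1,0,2,1,2,0,2,1,3])))) (.node (.node (.node (.node WTree.none (.word [2,4,5,3,5,0,5,1])) WTree.none) WTree.none) WTree.none)) (.node (.node (.node (.node (.node (.node WTree.none (.word [3,5,2,1,2,4,5,3])) WTree.none) (.word [1,5,0,1,4,2,1,4,1])) WTree.none) (.node (.node (.node (.node (.word [0,5,0,5,2,5,3,1,2,3]) (.word [2,3,0,2,1,2,0,3])) (.word [3,4,2,4,1,3])) WTree.none) (.word [3,2,3,4,0,5,4,2,1]))) (.node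 (.node (.node (.word [2,4,1,4,1,2]) (.node WTree.none (.word [1,2,0,4,5,1,5,0,2,1]))) (.word [3,2,5,3,4,5,1,4])) (.node (.node (.node (.word [1,5,2,0,3,0,5,1]) (.word [3,2,5,2,4,5,2,4,3])) WTree.none) (.node (.node WTree.none (.word [1,0,5,0,3,1,4,2,0])) WTree.none))))) (.node (.node (.node (.node WTree.none (.node (.node (.word [2,1,2,5,0,2,5]) (.word [4,1,5,0,4,2])) (.word [2,4,0,1,3,2,3,5,1]))) (.node (.node (.node (.node WTree.none (.word [4,5,0,2,1,2,5])) WTree.none) WTree.none) WTree.none)) (.node (.node (.node (.node (.node (.word [1,5,2,0,1,3,0,5,1]) (.word [2,5,3,2,3,5,2])) WTree.none) (.word [3,0,2,1,2,0,3,2])) WTree.none) WTree.none)) (.node (.node (.node WTree.none (.node WTree.none (.word [3,2,0,4,1,4,5,0,2,3,1]))) (.node WTree.none (.node WTree.none (.node WTree.none (.word [3,1,5,3,4,5,1,3]))))) (.node WTree.none (.node (.node (.node WTree.none (.word [0,5,1,0,3,4,5,4,5])) (.word [1,2,4,5,0,4,3,2,3]))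 WTree.none)))))))

/-- A subtree. -/
def wt22 : WTree :=
  (.node (.node (.node (.node (.node (.node (.node WTree.none (.word [1,5,0,4,2,4,5,1,5])) (.word [3,4,5,1,3,5,1,2,4,3])) (.node (.node (.word [3,1,3,5,0,5,4]) (.node (.node (.word [3,4,5,3,2,5,3,4,3]) (.word [0,2,5,4,2,3,2,3,0,3,5])) WTree.none)) (.node (.node (.node (.node WTree.none (.word [2,5,3,2,3,5,1,2,4])) WTree.none) (.node WTree.none (.word [2,4,3,4,5,2,5,2]))) WTree.none))) (.node (.node (.node (.node WTree.none (.node WTree.none (.word [1,2,4,2,5,4,3,2,0,5]))) (.word [2,3,2,5,3,4,5,4,2])) (.node (.node (.node (.node WTree.none (.word [3,2,1,5,3,1,4,5])) WTree.none) WTree.none) WTree.none)) (.node (.node (.node (.node WTree.none (.word [1,2,4,5,0,1,4,3,2,3,4])) WTree.none) (.node WTree.none (.word [2,4,5,0,2,4,3,1,5,4]))) (.node (.node WTree.none (.word [2,5,0,1,5,4,5,0,5,2])) (.node WTree.none (.node WTree.none (.word [4,5,3,2,3,0,5])))))))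 (.node (.node (.node (.node (.node (.node (.node (.word [5,2,0,2,1,5]) (.word [5,3,2,3,2,1,5])) WTree.none) WTree.none) WTree.none) (.node WTree.none (.node WTree.none (.node WTree.none (.word [1,2,4,0,3,4,1,2,4,1]))))) (.node (.node (.node WTree.none (.node WTree.none (.word [1,2,4,2,5,4,3,2,5]))) (.node WTree.none (.node WTree.none (.word [3,5,2,3,1,4,3,5])))) WTree.none)) (.node (.node (.node (.word [5,0,2,1,5]) (.node WTree.none (.node (.word [5,4,0,2,5,2,0,2]) (.word [5,0,1,4,1,4,2,5])))) (.node (.node (.word [1,5,0,3,0,1,5,1,4]) (.node WTree.none (.word [5,3,1,4,5,2,1,4,2]))) (.node (.word [0,5,3,4,1,2,0,4,3,1]) (.node WTree.none (.word [2,4,0,3,2,3,0,4,2]))))) (.node (.node (.node (.node WTree.none (.word [5,2,0,2,0,2,5])) (.word [5,3,2,1,3,5,1])) (.word [5,1,5])) (.node (.node (.node (.node WTree.none (.word [5,3,5,1,3,5,2,3,5])) WTree.none) WTree.none) (.word [4,5,2,0,2,5])))))) (.node (.node (.node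 (.node (.node (.node (.node (.node WTree.none (.word [2,3,5,3,4,5,3,2])) (.word [5,0,1,2,0,2,1,5])) WTree.none) (.node WTree.none (.word [2,0,4,5,3,5,4,0,2,4]))) (.node (.node (.node (.node WTree.none (.word [3,2,1,4,3,2,4,2,1])) WTree.none) (.node WTree.none (.word [3,2,5,1,3,1,4,0,5]))) WTree.none)) (.node (.node WTree.none (.node WTree.none (.word [2,4,1,3,0,5,1,4]))) WTree.none)) (.node (.node (.node (.node (.word [2,4,5,0,5,4,2]) (.node WTree.none (.word [5,4,5,3,5,4,0,5]))) (.node WTree.none (.node WTree.none (.word [5,0,2,0,5])))) (.node (.node WTree.none (.word [3,2,4,3,1,2,1,4,2])) WTree.none)) (.node (.node (.node (.node (.node WTree.none (.word [5,0,2,5,3,1,3])) (.word [2,4,5,3,1,5,3,4,2])) (.word [5,3,4,3,2,5,3])) WTree.none) (.node (.word [5,3,0,3,0,1,3,5,1]) (.node WTree.none (.node WTree.none (.word [4,5,2,0,1,5,4]))))))) (.node (.node (.node WTree.none (.node (.node WTree.none (.word [2,4,0,3,1,2,3,5]))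 WTree.none)) (.node (.node WTree.none (.node WTree.none (.node (.word [0,5,1,0,2,5,4,5,4]) (.word [5,3,4,3,2,4,5,3])))) (.node (.node (.word [5,2,0,3,2,3,1,5]) (.node WTree.none (.word [2,5,2,5,4,0,5,1,4]))) (.node WTree.none (.node WTree.none (.word [3,5,3,2,4,1,5,2,3])))))) (.node (.node WTree.none (.node (.word [1,4,5,0,4,1,2]) (.node (.node (.word [0,5,1,0,2,3,5,4,5]) (.word [1,5,0,4,2])) WTree.none))) (.node (.node (.node WTree.none (.node WTree.none (.word [5,0,1,5]))) (.word [1,2,4,3,0,4,2,1])) WTree.none))))) (.node (.node (.node (.node (.node (.node (.node (.node (.node (.word [1,4,5,0,4,2,4]) (.word [4,5,3,2,3,5,4])) WTree.none) (.node (.word [5,0,1,4,1,4,5,4]) (.word [2,4,2,1,3,4,2,1,3]))) (.node (.word [5,3,2,4,3,2,5,3]) (.word [1,5,0,5,3,5,0,5,1]))) (.node WTree.none (.node (.node WTree.none (.word [5,1,5,4])) WTree.none))) (.node (.node (.node (.node WTree.none (.word [1,4,5,2,0,4,1,2])) WTree.none)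 (.node (.node WTree.none (.word [0,2,4,5,2,0,3,4,5,0])) WTree.none)) (.node (.node (.word [2,0,2,5,2,0,4,5,4]) (.word [2,1,4,0,2,5,1])) WTree.none))) (.node (.node (.node (.node (.node (.node WTree.none (.word [1,5,2,0,1,4,2])) WTree.none) (.word [2,3,0,3,2,3,0,3])) WTree.none) (.node (.word [3,5,3,5,3,5,0,5,4]) (.node (.word [5,2,1,2,0,5,2,1,2,4]) (.node WTree.none (.word [5,4,5,3,5,1,4,0,5]))))) (.node (.node (.node WTree.none (.word [5,3,4,1,2,5,4,2])) (.node WTree.none (.node WTree.none (.word [2,3,5,1,4,1,2,4,5])))) WTree.none))) (.node (.node (.node (.node (.node WTree.none (.word [3,0,3,5,0,5,3,0,1,3])) WTree.none) WTree.none) (.node (.node (.node (.node (.node (.word [2,3,5,3,4,3,2,4,5]) (.word [5,3,2,3,0,5])) WTree.none) WTree.none) WTree.none) (.node WTree.none (.node (.node WTree.none (.word [2,4,3,4,2])) WTree.none)))) (.node (.node (.node (.node WTree.none (.word [3,5,3,2,3,4,3,5])) WTree.none)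 (.node WTree.none (.node (.node WTree.none (.word [2,4,0,2,0,4,1,2,4])) WTree.none))) (.node (.node WTree.none (.node WTree.none (.word [5,1,5,4,5,0,5,4]))) (.node WTree.none (.node WTree.none (.word [2,4,5,0,1,5,4,2]))))))) (.node (.node (.node (.node (.node WTree.none (.word [2,4,0,2,0,1,4,2])) (.node (.node (.node (.node WTree.none (.word [3,5,0,5,2,5,2,5,0,2])) WTree.none) WTree.none) WTree.none)) (.node (.node (.node WTree.none (.node WTree.none (.word [5,4,1,4,2,1,5]))) WTree.none) (.node (.node WTree.none (.node WTree.none (.word [1,2,4,3,0,4,1,2,4,1]))) WTree.none))) (.node (.node (.node (.word [5,4,1,4,0,1,5,4]) (.node (.node WTree.none (.word [3,0,2,1,2,3,2,3,0,3])) WTree.none)) (.node (.node WTree.none (.node WTree.none (.word [2,4,3,0,5,1,4]))) WTree.none)) (.node (.node (.node (.node (.node WTree.none (.word [1,5,2,1,5,1])) WTree.none) (.node WTree.none (.word [2,0,2,5,2,0,4,1,2,5]))) (.node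 (.node WTree.none (.word [3,4,5,2,5,4,3])) (.word [1,2,4,5,0,4,3,2,1,3]))) (.node WTree.none (.node (.word [1,5,0,4,2,4]) (.node WTree.none (.word [1,4,1,5,0,2,5]))))))) (.node (.node (.node (.node (.node WTree.none (.word [0,2,1,2,5,0,1,4,3])) (.node (.node WTree.none (.word [1,5,0,5,3,2,4,3,5])) (.node WTree.none (.word [3,4,1,2,3,1,2,4,3])))) (.node WTree.none (.node WTree.none (.word [5,0,3,2,3,1,2,5])))) (.node (.node (.word [2,4,0,1,3,2,1,3,5]) (.node (.node (.word [5,2,0,1,5,4]) (.word [0,5,0,4,1,2,5,4,5])) (.node (.word [0,2,1,0,4,0,3,0,4,1]) (.word [2,4,2,3,5,2,5,3])))) (.node (.node (.node (.node WTree.none (.word [5,2,1,2,0,2,1,5])) WTree.none) WTree.none) WTree.none))) (.node (.node (.node (.node WTree.none (.node WTree.none (.word [1,4,1,5,0,2,1,5]))) WTree.none) (.node (.node (.node (.node WTree.none (.word [2,1,4,3,0,2,5,1])) WTree.none) WTree.none) WTree.none)) (.node (.node (.node (.node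 (.node WTree.none (.word [4,2,1,2,4])) (.word [3,5,1,4,1,5,3,4])) WTree.none) (.node WTree.none (.word [1,5,0,5,1,5,4,2]))) (.node (.node WTree.none (.word [2,4,5,1,3,5,0,2,5,1])) WTree.none)))))))

/-- A subtree. -/
def wt23 : WTree :=
  (.node (.node (.node (.node (.node (.node (.node (.node WTree.none (.word [3,0,5,1,4,1,2,4,0,4])) WTree.none) (.node WTree.none (.node WTree.none (.word [5,4,5,4,3,0,1,5,0,4])))) (.node (.node (.node (.word [4,5,1,2,1,5]) (.word [0,2,4,2,0,5,2,0,1,3,5])) (.node WTree.none (.node WTree.none (.word [2,4,0,2,0,4,2])))) (.node (.node (.node (.node (.word [1,2,4,0,1,4,2,4,1]) (.word [5,0,1,3,2,3,5])) WTree.none) WTree.none) (.word [2,4,0,4,1,4,5,4,1])))) (.node (.node (.node (.node (.word [5,4,0,4,0,3,1,3,0,2]) (.word [5,2,0,5,3,1,3,4])) WTree.none) (.node (.node (.node WTree.none (.word [1,5,0,4,2,5,2,1,5])) (.word [5,2,0,4,1,4,5,4])) (.node WTree.none (.word [1,3,1,3,4,1]))))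 (.node (.node (.node WTree.none (.node WTree.none (.word [2,3,1,4,3,2]))) WTree.none) (.node WTree.none (.word [0,2,4,0,3,2,3,0,3,0,2]))))) (.node (.node (.node (.node (.node WTree.none (.node WTree.none (.word [3,2,5,1,4,2,5,3,4]))) (.node WTree.none (.word [2,5,4,3,4,2,5,2]))) (.node (.node WTree.none (.node WTree.none (.word [5,0,4,1,4,2,1,5]))) (.node WTree.none (.word [2,0,1,2,5,2,0,4,5])))) (.node (.node (.node WTree.none (.word [2,4,5,3,5,0,2,5,1])) (.node WTree.none (.node WTree.none (.word [4,5,0,2,0,5])))) (.node WTree.none (.word [5,3,1,4,3,2,5,3,1])))) (.node (.node (.node (.word [5,4,2,1,2,4,2,0,4,2]) (.node (.word [3,2,5,1,3,4,0,1,5,4]) (.word [0,5,0,2,3,1,5,4,5]))) (.node (.node (.node WTree.none (.word [2,3,5,2,5,2,3,2])) WTree.none) (.node WTree.none (.word [2,4,1,4,2,4])))) (.node (.node (.node (.node (.word [5,0,2,5,2,1,2,4]) (.word [1,2,1,2,5,2,0,4,2])) WTree.none) (.node (.node WTree.none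 (.word [5,3,2,3,0,1,5])) WTree.none)) (.node WTree.none (.node WTree.none (.word [1,5,4,1,4,0,4,2]))))))) (.node (.node (.node (.node WTree.none (.node WTree.none (.node WTree.none (.node WTree.none (.word [3,4,2,4,3,5,0,5]))))) (.node (.node (.node WTree.none (.word [0,5,1,0,2,5,1,4,5,4])) WTree.none) (.node (.node WTree.none (.word [2,3,5,3,2,4,5])) WTree.none))) (.node (.node (.node (.word [1,4,1,5,2,1,5]) (.word [3,2,1,3,2,5,2,1,4,5])) (.node (.node (.node (.node WTree.none (.word [3,4,1,0,5,0,1,2,3])) WTree.none) WTree.none) WTree.none)) (.node (.node (.node WTree.none (.node WTree.none (.word [2,4,2,1,2,3,4,2]))) (.node WTree.none (.node WTree.none (.word [3,2,5,3,4,5,1])))) WTree.none))) (.node (.node (.node (.node (.node WTree.none (.word [5,3,5,1,5,3,0,2,5])) (.word [3,4,5,3,5,2,4,1,3])) WTree.none) (.node WTree.none (.node WTree.none (.word [4,5,1,2,0,2,5])))) (.node (.node (.node WTree.none (.node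 (.node WTree.none (.word [5,4,1,4,2,0,2,1,5])) WTree.none)) (.node (.node WTree.none (.node WTree.none (.word [4,2,4,0,1,5,1]))) WTree.none)) (.node (.node WTree.none (.node (.word [2,4,0,2,5,4,1,4]) (.word [2,4,0,5,2,1,2,4,1]))) (.node (.node (.node (.node WTree.none (.word [5,0,2,3,2,3,5,4])) WTree.none) WTree.none) (.node WTree.none (.word [3,2,4,3,1,2,0,5,4,1])))))))) (.node (.node (.node (.node (.node (.node (.node (.word [5,0,1,2,1,5]) (.word [3,5,2,3,4,1,3,0,4,2])) WTree.none) (.node (.node WTree.none (.word [5,4,2,4,5,3,2])) WTree.none)) (.node (.node WTree.none (.node WTree.none (.word [2,0,3,5,4,2,0,2,5,0,2]))) (.node WTree.none (.node (.node WTree.none (.word [4])) WTree.none)))) (.node (.node (.node WTree.none (.node WTree.none (.word [5,3,2,0,3,0,3,1,5]))) (.node (.node (.node (.node WTree.none (.word [5,3,1,2,3,0,3,4,2])) WTree.none) WTree.none) (.node WTree.none (.node (.word [1,2,4,2,1,2,0,4,1,2,1])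 (.word [2,4,2,1,2,4,2]))))) (.node (.node (.word [5,4,3,2,4,5,4,3,1]) (.node WTree.none (.word [3,5,2,0,3,2,3,0,2,5,3]))) (.node (.node WTree.none (.word [1,2,4,2,3,5,2,5,3,1])) WTree.none)))) (.node (.node (.node (.node (.node WTree.none (.word [1,0,3,0,4,1,3,0,2,0])) (.node (.node WTree.none (.word [3,5,0,4,0,1,3,4,5,2,3,5])) (.node WTree.none (.word [2,4,2,1,2,0,5,4,1])))) WTree.none) (.node WTree.none (.node (.node (.node WTree.none (.word [2,3,5,2,5,2,4,3,2])) (.node WTree.none (.word [5,0,1,2,0,3,2,3,5]))) (.node WTree.none (.node WTree.none (.word [2,4,0,3,2,3,5,1])))))) (.node (.node (.node (.node WTree.none (.node (.word [5,3,1,2,1,3,2,5]) (.word [5,3,1,4,5,2,0,2,5,1]))) (.word [0,2,1,4,3,5,0,1,2,3])) (.node (.node WTree.none (.word [5,4,5,0,3,0,5,4,5])) (.node (.node WTree.none (.word [5,4,5,3,5,4,0,2,5])) WTree.none))) (.node (.node WTree.none (.node (.word [2,1,4,0,5,1]) (.node WTree.none (.word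 [3,2,5,1,4,2,5,3])))) WTree.none)))) (.node (.node (.node (.node WTree.none (.node (.node (.node WTree.none (.word [5,0,5,4,2,1,2])) (.node WTree.none (.word [4,5,0,1,5]))) WTree.none)) (.node (.node (.node WTree.none (.node WTree.none (.word [5,1,2,3,2,3,5]))) WTree.none) (.node (.node WTree.none (.word [1,5,0,3,4,2,1,4,1])) (.node (.word [5,4,5,1,3,5,4,0,4,2]) (.node WTree.none (.word [2,3,5,4,2,1,4,5])))))) (.node (.node (.node (.node WTree.none (.node WTree.none (.word [5,0,1,5,4]))) WTree.none) (.node (.node (.node (.node WTree.none (.word [3,1,5,3,4,5,3])) WTree.none) WTree.none) WTree.none)) (.node (.node WTree.none (.node WTree.none (.node WTree.none (.word [2,0,4,5,1,5,0,4,5])))) (.word [5,3,1,2,3,0,3,0,5,1])))) (.node (.node (.node (.node WTree.none (.node (.node WTree.none (.word [1,2,4,0,4,2,1,4])) WTree.none)) (.node (.node (.word [0,2,3,2,0,1,2,4,0,1]) (.node WTree.none (.word [2,4,3,0,1,5,1,4])))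 WTree.none)) (.node (.node (.node (.node (.node WTree.none (.word [3,0,5,4,2,1,4,0,4,1,3])) WTree.none) WTree.none) (.node (.word [2,4,0,5,1,4]) (.word [0,5,0,3,2,5,3,1,5]))) (.node (.node WTree.none (.node WTree.none (.word [5,3,4,2,5,0,5,4,1]))) WTree.none))) (.node (.node (.node (.node WTree.none (.node WTree.none (.word [3,4,1,2,4,1,3,1]))) (.node WTree.none (.word [2,4,5,0,3,2,4,3,5]))) WTree.none) (.node (.node (.node (.node WTree.none (.word [4,3,5,4,5,3,4])) WTree.none) WTree.none) (.node (.node (.node WTree.none (.word [5,1,5,4,5,2,5])) WTree.none) WTree.none)))))))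

/-- Points. -/
def levX1pts0 : List ℕ := [1,11,15,25,28,35,41,45,52,58,66,70,71,78,83,84,87,89,91,92,97,98,99,103,105,110,112,114,120,128,131,135,138,144,160,165,168,171,172,174,178,187,189,193,202,207,217,220,221,224,231,242,244,245,250,259,264,265,269,282,286,290,292,298,300,309,319,326,330,331,337,348,349,354,355,364,371,372,373,391,395,398,412,416,435,440,444,448,467,470,477,479,481,484,489,512,515,518,523,534,538,539,567,573,579,581,584,585,594,599,602,609,612,614,615,623,632,638,643,661,664,682,685,692,699,703,730,733,736,737,739,742,744,745,746,751,755,759,761,769,772,780,782,793,801,804,820,821,822,825,826,833,834,843,860,861,862,866,867,868,869,870,873,883,884,888,890,897,902,903,906,909,912,918,924,926,927,928,929,930,935,937,944,945,948,949,951,958,964,965,967,968,976,986,987,988,990,992,995,997]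

/-- Points. -/
def levX1pts1 : List ℕ := [1004,1022,1028,1029,1031,1032,1035,1037,1039,1040,1042,1046,1048,1050,1052,1054,1057,1064,1067,1068,1069,1070,1071,1073,1074,1077,1079,1083,1084,1086,1090,1095,1096,1098,1099,1100,1112,1114,1117,1120,1125,1126,1131,1135,1138,1141,1145,1158,1159,1160,1175,1186,1189,1191,1201,1204,1213,1217,1218,1226,1227,1235,1236,1251,1253,1258,1269,1289,1292,1295,1304,1308,1322,1326,1329,1330,1331,1345,1349,1351,1356,1357,1360,1362,1363,1388,1391,1396,1398,1410,1413,1414,1418,1419,1422,1429,1430,1431,1432,1439,1458,1473,1475,1484,1487,1489,1493,1522,1531,1533,1544,1545,1547,1549,1554,1555,1556,1557,1560,1570,1572,1575,1582,1589,1594,1596,1597,1598,1602,1604,1610,1615,1624,1635,1637,1639,1644,1650,1652,1653,1654,1660,1661,1663,1665,1666,1679,1683,1694,1713,1714,1715,1717,1723,1727,1729,1731,1740,1742,1743,1744,1750,1753,1755,1758,1765,1766,1769,1771,1774,1776,1777,1783,1787,1788,1790,1797,1799,1801,1813,1821,1831,1838,1840,1851,1852,1862,1863,1865,1866,1869,1871,1873,1874,1876,1881,1882,1888,1890,1895]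

/-- Points. -/
def levX1pts2 : List ℕ := [1898,1900,1930,1944,1969,1994,2016,2018,2023,2024,2027,2028,2030,2032,2038,2039,2040,2041,2042,2046,2054,2057,2060,2067,2080,2084,2085,2097,2098,2101,2110,2112,2113,2117,2118,2120,2136,2145,2150,2154,2169,2174,2182,2187,2188,2190,2205,2234,2243,2249,2259,2264,2275,2277,2278,2279,2285,2290,2296,2298,2299,2303,2318,2320,2325,2335,2348,2350,2352,2358,2360,2362,2368,2370,2372,2373,2374,2375,2377,2392,2394,2396,2397,2398,2407,2414,2417,2418,2421,2424,2440,2442,2452,2466,2468,2469,2473,2479,2516,2525,2542,2557,2559,2562,2564,2565,2581,2586,2589,2593,2596,2597,2601,2604,2607,2619,2621,2623,2649,2651,2666,2669,2678,2679,2688,2691,2692,2693,2696,2697,2699,2701,2726,2747,2753,2754,2764,2765,2766,2769,2779,2789,2790,2791,2793,2802,2810,2826,2827,2836,2840,2841,2846,2848,2864,2868,2881,2890,2908,2913,2916,2923,2926,2927,2931,2936,2938,2945,2959,2978,2980,2981,2987,2992,2998,3001,3004,3006,3020,3024,3025,3037,3040,3049,3053,3054,3060,3083,3084,3094,3102,3109,3111,3124,3125,3138,3139,3146,3154,3155]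

/-- Points. -/
def levX1pts3 : List ℕ := [3158,3167,3170,3174,3177,3183,3194,3195,3199,3201,3202,3208,3212,3218,3220,3227,3231,3235,3237,3240,3250,3258,3271,3278,3285,3286,3287,3288,3291,3293,3294,3297,3298,3305,3306,3310,3315,3316,3320,3321,3322,3340,3344,3347,3359,3362,3367,3368,3370,3372,3373,3376,3381,3391,3394,3397,3400,3406,3419,3427,3428,3442,3445,3447,3448,3449,3456,3459,3474,3477,3480,3482,3483,3492,3503,3506,3507,3516,3518,3519,3521,3524,3528,3529,3530,3532,3538,3541,3553,3558,3573,3574,3578,3584,3590,3606,3612,3616,3617,3621,3624,3626,3630,3631,3634,3643,3648,3649,3652,3654,3661,3667,3681,3683,3685,3688,3697,3713,3714,3719,3721,3732,3747,3751,3763,3766,3771,3784,3786,3787,3793,3797,3799,3801,3804,3807,3812,3818,3823,3828,3841,3849,3858,3860,3861,3863,3865,3868,3870,3873,3875,3876,3878,3888,3904,3905,3914,3915,3919,3920,3930,3934,3936,3939,3946,3960,3965,3966,3978,3984,3988,3993,3999,4004,4006,4010,4012,4015,4018,4019,4022,4033,4035,4050,4051,4056,4059,4064,4065,4066,4089,4106,4107,4109,4115,4122,4126,4131,4133,4136]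

/-- Points. -/
def levX1pts4 : List ℕ := [4150,4152,4171,4172,4176,4189,4214,4224,4229,4233,4249,4262,4267,4278,4284,4285,4287,4294,4296,4306,4307,4309,4314,4315,4318,4332,4336,4338,4342,4344,4346,4347,4348,4353,4354,4356,4358,4360,4361,4362,4365,4371,4379,4381,4384,4385,4396,4400,4406,4410,4413,4416,4418,4419,4425,4426,4428,4430,4431,4434,4436,4438,4439,4445,4447,4448,4475,4480,4482,4483,4487,4493,4494,4497,4498,4504,4518,4520,4524,4525,4537,4539,4540,4549,4558,4565,4574,4579,4584,4590,4599]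

/-- A level. -/
def levX1 : Level :=
  ⟨2766, (.node (.node (.node wt16 wt17) (.node wt18 wt19)) (.node (.node wt20 wt21) (.node wt22 wt23))), levX1pts0 ++ levX1pts1 ++ levX1pts2 ++ levX1pts3 ++ levX1pts4⟩

/-- A subtree. -/
def wt24 : WTree :=
  (.node (.node (.node (.node (.node (.node (.node WTree.none (.node WTree.none (.word [5,3,2,4,2,1,5,4,2,5,2,5]))) (.node WTree.none (.node WTree.none (.word [0,5,2,1,2,5,1,3,4,2,0])))) (.node (.node WTree.none (.node WTree.none (.word [3,5,4,5,0,2,5,2,1,0,3,0,5,0,3,5]))) (.node WTree.none (.word [0,4,3,1,5,3,1,2,3,5,3,4,0])))) (.node (.node (.node WTree.none (.word [2,5,0,4,0,3,0,4,0,5,2])) WTree.none) (.node (.node WTree.none (.word [5,2,1,5,3,0,3,0,4,0,3,0,1,3])) WTree.none))) (.node (.node (.node (.node WTree.none (.node (.node WTree.none (.word [4,2,4,1,2,5,4,2,1,3,5])) WTree.none)) (.node (.node WTree.none (.node WTree.none (.word [4,2,4,2,4,5,4,2,5,2,1])))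 (.node WTree.none (.node WTree.none (.word [2,4,1,5,3,5,1,4,2]))))) WTree.none) (.node (.node (.node (.node (.node (.node WTree.none (.word [5,3,4,3,2,1,2,5,1,3,2,1,4,2])) WTree.none) WTree.none) (.node WTree.none (.node WTree.none (.word [0,2,3,4,5,4,3,5,4,3,2,0])))) (.node (.node WTree.none (.node WTree.none (.word [0,5,3,4,2,5,0,3,5,4,1,4,5,3]))) (.node (.node WTree.none (.word [3,1,3,5,0,3,2,3,0,5,3,1,3])) WTree.none))) (.node (.node (.node (.node WTree.none (.word [0,5,2,5,2,3,5,2,3,2,5,2,0])) WTree.none) WTree.none) (.node (.node (.node (.node (.word [3,1,3,0,3,0,2,0,4,2,5,0,1,2]) (.word [5,3,1,3,0,3,1,4,1,2])) WTree.none) WTree.none) WTree.none))))) (.node (.node (.node (.node (.node (.word [0,2,5,1,3,1,3,5,1,4,3,0]) (.node WTree.none (.word [4,3,1,5,4,5,2,5,4,2,5,3,1]))) (.word [4,3,1,2,5,2,3,5,3,1,4,2,4,2])) (.node WTree.none (.node (.node (.node (.node WTree.none (.word [1,5,2,1,5,3,4,1,5,3,5,4,3]))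 WTree.none) WTree.none) WTree.none))) (.node (.node (.node WTree.none (.node WTree.none (.word [2,1,4,1,5,4,5,4,5,3,5,1]))) (.node (.node (.node (.node WTree.none (.word [5,0,2,0,2,5,2,4,5,4,1,3,5,2,3,2])) WTree.none) WTree.none) WTree.none)) WTree.none)) (.node (.node (.node (.node (.node WTree.none (.word [1,5,0,2,3,4,2,5,2,4,1,5,2,1,3])) (.node (.node WTree.none (.word [3,2,1,3,0,4,2,5,2,0,2,1])) WTree.none)) (.node (.node WTree.none (.word [5,1,2,5,1,5,0,3,0,5,1,4])) (.word [4,5,3,2,5,2,0,5,3,0,3,2,4]))) (.node (.node (.node (.node WTree.none (.word [0,4,5,3,0,2,1,2,0,3,5,4,0])) WTree.none) (.node (.node WTree.none (.word [2,1,3,1,3,5,3,5,2,5,1,4,3,5,2])) WTree.none)) WTree.none)) (.node (.node (.node WTree.none (.node (.node WTree.none (.word [0,5,2,1,5,1,5,4,1,3,5,0,1])) WTree.none)) (.node (.word [1,5,0,3,4,2,1,2,5,4,3,4,5,2,1]) (.node WTree.none (.node WTree.none (.word [1,4,3,2,5,4,1,5,4,2,3])))))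 (.node (.node (.node (.node WTree.none (.word [5,1,0,2,0,4,3,1,5,2,1,3,4])) (.node WTree.none (.word [2,4,2,1,2,3,0,1,5,1]))) (.node WTree.none (.node WTree.none (.word [4,5,4,2,4,2,1,5,2,3,2])))) WTree.none))))) (.node (.node (.node (.node (.node (.node WTree.none (.node (.node WTree.none (.word [2,4,3,1,5,0,5,1,3,4,2])) WTree.none)) WTree.none) (.node WTree.none (.node (.node WTree.none (.word [2,1,5,4,5,4,5,4,3,1,5])) WTree.none))) (.node (.node WTree.none (.node WTree.none (.node (.node (.word [0,4,3,5,3,2,3,1,5,3,4,0]) (.word [5,0,2,5,3,1,3,5,2,0,5])) WTree.none))) (.node (.node (.node (.node WTree.none (.word [2,0,2,3,4,2,3,5,0,5,3,4,5])) WTree.none) (.node (.node WTree.none (.word [2,4,3,5,2,1,4,1,3,5,1])) WTree.none)) (.node (.node (.node (.node (.word [2,1,5,4,3,2,1,2,4,5,2]) (.word [5,2,4,5,3,5,4,2,5])) WTree.none) WTree.none) WTree.none)))) (.node (.node (.node (.node (.word [1,3,1,4,1,2,0,1,5,2,1,2,0])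 (.node WTree.none (.word [0,3,1,4,1,2,3,1,4,2,0,1]))) WTree.none) (.node (.node WTree.none (.node (.node WTree.none (.word [1,4,1,3,5,3,4,5,1,3,4])) WTree.none)) (.node WTree.none (.node (.node WTree.none (.word [1,5,1,0,5,0,2,1,4,3,5])) WTree.none)))) (.node (.node (.node WTree.none (.word [4,2,4,0,2,0,2,5,2,5,4,1,2,1])) WTree.none) (.node (.node (.node (.word [2,5,0,5,0,4,0,5,0,5,2]) (.word [5,4,2,4,3,5,1,4,2,3,1,2])) (.node (.node WTree.none (.word [4,5,0,3,2,1,3,0,1,4,2])) WTree.none)) (.node WTree.none (.node WTree.none (.node WTree.none (.word [5,0,5,4,1,5,1,2,0,3,4,2])))))))) (.node (.node (.node (.node (.node WTree.none (.node WTree.none (.node WTree.none (.word [5,3,4,3,1,5,3,2,4,2])))) (.node WTree.none (.node WTree.none (.node WTree.none (.word [3,4,5,2,5,1,4,5,2,4,5,2,3]))))) WTree.none) (.node (.node (.node (.node (.node (.node WTree.none (.word [0,5,3,4,2,5,0,3,5,4,1,4,3,5,3])) WTree.none) WTree.none)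 WTree.none) WTree.none) (.node (.node (.node (.node (.node WTree.none (.word [2,5,3,2,1,2,4,3,5,2])) WTree.none) WTree.none) WTree.none) (.node (.node (.node WTree.none (.word [1,5,0,5,3,1,5,2,3,5,2,5,1,3])) WTree.none) (.node (.node (.word [5,2,5,0,4,1,3,0,1,3,1,4,0]) (.word [3,2,3,4,2,4,3,2,3])) WTree.none))))) (.node (.node (.node (.node (.node (.word [3,5,4,3,1,0,4,0,3,4,5,3,5]) (.node WTree.none (.word [0,3,0,3,5,4,2,5,0,5,2,4,5,0]))) WTree.none) (.node (.word [2,3,2,1,5,2,4,1,2,4,5,4]) (.word [4,3,5,2,0,5,4,1,2,4,0,5,0,1]))) (.node (.node WTree.none (.word [5,2,0,2,0,3,1,3,5,4,5,0,4,2])) WTree.none)) (.node (.node (.node WTree.none (.node WTree.none (.node WTree.none (.word [1,5,3,1,2,0,4,2,5,0,3,2,5])))) WTree.none) (.node (.node (.node WTree.none (.word [5,1,2,1,0,3,4,5,2,0,4,2,1,4])) (.word [4,0,2,1,0,4,0,3,2,4,1,3,0,5,3,4,3])) WTree.none))))))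

/-- A subtree. -/
def wt25 : WTree :=
  (.node (.node (.node (.node (.node (.node (.node (.node (.node (.node WTree.none (.word [3,4,2,1,0,2,4,3,0,1])) WTree.none) WTree.none) WTree.none) (.word [3,4,2,0,5,3,1,3,5,0])) (.node (.node WTree.none (.node WTree.none (.node WTree.none (.word [2,4,0,5,2,4,3,0,4,2,4,1,4])))) (.node (.node WTree.none (.word [2,5,4,2,0,2,0,1,2,0,2,4,5,2])) (.node WTree.none (.node WTree.none (.word [4,1,4,3,5,1,3,5,3,1])))))) (.node (.node (.node (.node (.word [0,3,4,1,2,1,3,1,4,2,0]) (.node WTree.none (.word [2,1,2,5,3,4,2,0,5,1,3,4,2]))) WTree.none) WTree.none) (.node (.word [2,1,4,1,4,5,3,4,2,3,5,1,2]) (.node (.node (.node (.node WTree.none (.word [1,5,0,4,2,3,4,1,3,2,3,1,4,3])) WTree.none) WTree.none) (.node WTree.none (.node WTree.none (.word [5,2,4,2,4,2,5,2,1,4,3,2]))))))) (.node (.node WTree.none (.node (.node (.node (.node WTree.none (.word [5,1,3,5,3,5,3,1,5])) WTree.none)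 WTree.none) WTree.none)) (.node (.node (.node (.node WTree.none (.node WTree.none (.word [4,2,4,0,2,0,5,3,1,5,0,5,1]))) (.node (.node WTree.none (.word [0,3,4,2,3,5,3,5,1,3,0])) WTree.none)) (.node WTree.none (.node WTree.none (.word [0,2,1,4,3,0,1,2,4,3])))) (.node (.node (.node (.node (.word [0,2,5,1,5,4,3,0]) (.word [1,0,4,1,3,0,2,0,2,0,1,3,0])) WTree.none) WTree.none) (.node (.node (.node (.node WTree.none (.word [5,1,2,4,2,5,1,3,2,4,3,2,4])) WTree.none) WTree.none) (.node (.word [4,3,0,2,4,5,0,5,4,2,0,3,4]) (.word [2,3,2,5,2,1,4,2,1,4,5,4,1]))))))) (.node (.node (.node (.node WTree.none (.node (.node WTree.none (.node WTree.none (.word [2,4,1,0,3,1,2,3,0,5,4]))) WTree.none)) (.node WTree.none (.node (.node WTree.none (.node WTree.none (.word [0,3,1,5,3,5,3,2,4,3,0]))) WTree.none))) (.node (.node (.node (.node WTree.none (.node WTree.none (.word [5,2,5,2,5,4,2,1,4,5,3,2,3]))) WTree.none) WTree.none) (.node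 (.word [5,0,5,0,4,2,4,1,2,3,5,4,2,3,0]) (.node WTree.none (.node WTree.none (.node (.word [5,2,4,2,1,3,5,3,2,1]) (.word [0,5,3,5,3,5,3,5,0]))))))) (.node (.node (.node (.node (.node (.node WTree.none (.word [2,4,5,0,2,4,2,3,0,2,1,5])) WTree.none) (.node (.node WTree.none (.word [5,3,4,3,5,3,2,1,4,1,2])) WTree.none)) (.node (.node (.node (.node (.word [3,4,2,1,0,3,4,1,2,0]) (.word [5,0,2,4,3,0,3,2,1,5,2,4,2,0])) WTree.none) WTree.none) WTree.none)) (.node (.node WTree.none (.node WTree.none (.node WTree.none (.word [4,2,1,3,5,4,1,2,3,5,2,3])))) (.node (.node WTree.none (.node WTree.none (.word [1,5,3,1,2,5,1,2,1,3,0,5,0]))) WTree.none))) (.node WTree.none (.node (.node (.node (.node (.node WTree.none (.word [0,3,0,3,4,5,0,2,0,5,4,0,3])) WTree.none) WTree.none) (.node WTree.none (.word [4,2,1,2,1,0,2,4,1,3,0,5,4,3]))) (.node WTree.none (.node WTree.none (.node WTree.none (.word [1,0,4,5,1,5,3,1,4,3,2,0])))))))))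 (.node (.node (.node (.node (.node (.node WTree.none (.word [5,1,0,5,4,1,5,2,0,3,4,2])) (.node (.node (.node (.node WTree.none (.word [0,2,4,1,3,1,5,4,1,4,5,0])) WTree.none) WTree.none) WTree.none)) (.node (.node (.node WTree.none (.word [5,3,4,2,0,3,2,5,1,2,4,2,1])) (.node (.node WTree.none (.word [0,3,4,1,2,5,4,1,4,5,0])) WTree.none)) (.node (.node WTree.none (.word [2,1,4,5,0,5,2,0,1,5,2,1,3,0,3])) WTree.none))) (.node (.node WTree.none (.node WTree.none (.node (.node WTree.none (.word [3,5,4,3,0,4,0,1,3,4,5,3,5])) (.node WTree.none (.word [4,2,3,4,1,3,0,4,5,2,0,5,2,0]))))) (.node WTree.none (.word [5,0,2,0,4,1,4,0,2,0,5])))) (.node (.node WTree.none (.node (.node (.node (.node (.node WTree.none (.word [4,5,1,3,0,2,3,2,4,5,2,0,4])) WTree.none) (.node (.word [0,2,3,5,1,4,2,1,4,5,3,2,0]) (.word [5,4,3,2,5,2,4,2,1,3]))) (.node WTree.none (.node WTree.none (.word [2,5,3,2,5,4,5,3,1,5,2])))) WTree.none)) (.node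 (.node (.node (.node (.word [1,5,3,2,1,5,2,5,3,5,3,0,5,0]) (.node WTree.none (.word [5,1,5,0,5,4,1,4,0,1,5,1,5]))) (.node WTree.none (.node WTree.none (.word [5,0,2,0,5,2,4,5,2,4,3,1,5,4])))) WTree.none) (.node (.word [5,4,5,2,1,4,1,3,1,4,5,4,5]) (.node (.node (.node WTree.none (.word [5,4,2,3,5,1,3,1,2,4])) WTree.none) WTree.none))))) (.node (.node (.node (.node (.node (.node (.node (.node WTree.none (.word [3,1,4,5,1,3,2,3,1,5,4,3])) WTree.none) WTree.none) WTree.none) WTree.none) WTree.none) (.node (.node WTree.none (.node (.node WTree.none (.node WTree.none (.word [5,2,5,1,3,4,5,3,5,4,3,1]))) WTree.none)) (.node (.node (.node (.node (.node WTree.none (.word [5,4,1,3,2,1,4,2,1,5,4,3])) (.word [2,4,3,4,5,1,2,5,3,4,3,2])) (.word [4,5,0,2,0,2,1,5,4])) WTree.none) (.node WTree.none (.node WTree.none (.node WTree.none (.word [0,5,0,2,1,5,3,2,4,3,5,1,4,3]))))))) (.node (.node (.node WTree.none (.node (.node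 (.node (.word [5,0,5,1,0,2,3,5,3,2,3,0]) (.word [5,0,5,4,1,5,2,0,1,3,4,2])) (.word [3,1,3,5,1,0,2,0,3,1,3,5,1])) (.word [5,2,5,1,5,4,1,2,3,5,3,2,1]))) (.node (.node WTree.none (.node WTree.none (.word [4,1,4,0,4,1,4,5,0,5,0,5]))) (.node (.node (.node WTree.none (.word [5,2,4,2,4,3,5,3,4,5,2,4,2,5])) WTree.none) WTree.none))) (.node (.node (.node (.node WTree.none (.word [2,4,3,5,4,1,4,5,0,5,1])) WTree.none) (.node (.node (.node WTree.none (.word [5,3,2,3,5,0,3,4,2,5,0,2,3])) WTree.none) (.word [2,4,0,5,4,0,4,1,4,5,0,4]))) (.node (.word [1,5,3,1,4,1,2,5,3,4,2]) (.word [5,0,5,4,5,3,5,3,1,5,2,3,0,5])))))))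

/-- A subtree. -/
def wt26 : WTree :=
  (.node (.node (.node (.node (.node (.node (.node (.node WTree.none (.node WTree.none (.word [5,2,1,5,3,2,5,2,1,4,2,3,5,4,3]))) (.node (.node (.node WTree.none (.word [5,2,4,5,1,3,1,5,4,2,5])) (.word [2,1,5,3,5,4,2,5,2,3,5,2])) WTree.none)) (.node (.node WTree.none (.node (.node WTree.none (.word [1,0,4,1,5,3,0,4,0,3,5,1,4])) WTree.none)) (.node (.node (.node WTree.none (.word [5,1,5,2,5,3,4,2,1,4,3,5,2])) WTree.none) WTree.none))) (.node WTree.none (.node (.node (.node (.node (.node WTree.none (.word [1,4,2,0,3,2,0,5,4,0,3,5])) WTree.none) WTree.none) WTree.none) WTree.none))) (.node (.node (.node (.node (.node (.node WTree.none (.word [1,5,0,5,4,2,5,4,1,3,2,3])) WTree.none) WTree.none) WTree.none) (.node (.node (.word [3,1,3,2,4,1,3,0,1,5,1]) (.node WTree.none (.node WTree.none (.word [3,1,2,3,5,4,2,4,2,5,1,2])))) (.node WTree.none (.node WTree.none (.node WTree.none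 (.word [0,5,4,3,5,4,1,3,1,5,3,4,5,0])))))) (.node WTree.none (.node (.node (.node (.node (.word [1,5,0,4,2,5,4,2,1,4,3,1,2,4,5]) (.word [3,5,4,1,4,5,3])) WTree.none) WTree.none) WTree.none)))) (.node (.node (.node (.node (.node (.node WTree.none (.node WTree.none (.word [5,2,5,3,4,5,3,1,5,1,4,3]))) WTree.none) WTree.none) WTree.none) (.node (.node (.node (.node (.node (.node WTree.none (.word [3,5,4,5,4,5,1,0,3,2,5,4,3,2,0,2])) WTree.none) WTree.none) (.node WTree.none (.word [2,5,4,5,3,1,3,4,5,4,3,5]))) (.word [1,5,0,3,4,5,4,1,3,1,4,5,2])) (.word [4,5,1,4,2,1,4,2,5,2,3,2,1]))) (.node (.node (.node (.node WTree.none (.node (.node WTree.none (.word [5,2,3,4,5,0,5,3,0,2,1,2,3])) WTree.none)) (.node (.node (.node (.node WTree.none (.word [5,0,2,0,5,4,5,4,5,3,5,1,4,5])) WTree.none) WTree.none) (.word [5,4,2,4,3,1,5,4,2,3,1,2]))) (.node WTree.none (.node (.node (.node (.node WTree.none (.word [1,2,0,2,5,2,4,0,3,1,2,3]))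 WTree.none) WTree.none) (.node WTree.none (.word [0,2,4,1,5,3,5,2,1,2,3,0]))))) (.node (.node (.node WTree.none (.node WTree.none (.node WTree.none (.word [0,2,1,4,3,2,4,3,0,1])))) (.word [3,2,4,5,2,5,0,5,2,3,2,4,2,4,0,1])) (.node (.node (.node WTree.none (.node WTree.none (.word [5,0,5,0,3,2,3,4,5,2,1,4,0]))) (.node WTree.none (.node WTree.none (.word [5,4,1,2,4,3,5,4,2,3,2,1])))) (.node (.node (.node WTree.none (.word [2,1,5,3,5,2,5,1,2,3,5,2])) WTree.none) WTree.none)))))) (.node (.node (.node (.node (.node (.node (.node WTree.none (.word [1,0,4,3,5,2,1,5,4,2,1,4,0])) WTree.none) (.node (.node (.node (.word [1,4,1,2,3,5,2,5,2,3,2,4]) (.word [4,2,4,1,5,0,5,1,4,2,4])) WTree.none) (.node WTree.none (.node WTree.none (.word [0,3,1,2,5,3,4,5,1,2,4,0]))))) WTree.none) (.node (.node (.node WTree.none (.node WTree.none (.node WTree.none (.word [5,4,1,4,3,2,5,2,3,0,5,0])))) WTree.none) (.node (.node (.node (.node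 WTree.none (.word [4,5,1,4,2,4,2,5,2,1,3,2])) WTree.none) WTree.none) WTree.none))) (.node (.node (.node (.node (.node WTree.none (.word [5,0,2,4,3,1,0,3,2,1,5,2,1,3,0])) WTree.none) (.node (.node (.node WTree.none (.word [1,5,4,2,3,5,3,2,1,4])) WTree.none) WTree.none)) (.node (.node (.node (.word [1,4,1,5,2,0,2,0,5,4,5,1,5]) (.word [1,5,4,3,5,3,2,1,5,2,1,4,5,4])) WTree.none) WTree.none)) (.node (.node (.node (.node WTree.none (.node WTree.none (.word [2,5,3,2,5,4,5,4,3,5,2]))) (.word [5,1,3,4,0,5,3,0,2,3,1,4,5])) WTree.none) (.node (.node (.node (.node WTree.none (.word [4,5,2,0,1,2,0,5,4])) WTree.none) (.node (.node WTree.none (.word [3,1,3,2,5,3,5,4,5,2,3,5,2])) WTree.none)) (.node (.node (.node WTree.none (.word [0,3,4,3,0,3,5,2,5,3,2,0,4])) WTree.none) (.node (.node WTree.none (.word [2,0,2,5,2,4,0,5,1,5,0,2])) WTree.none)))))) (.node (.node (.node WTree.none (.node (.node WTree.none (.node (.node WTree.none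 (.word [2,3,1,2,5,4,1,5,2,3,2])) WTree.none)) (.node WTree.none (.node WTree.none (.node WTree.none (.word [0,5,3,4,2,5,0])))))) (.node (.node (.node (.node (.node WTree.none (.word [2,4,1,3,1,0,5,1,2,1,2])) (.node WTree.none (.word [1,0,4,1,4,2,4,5,1,5,3,0]))) (.node (.node WTree.none (.word [5,0,5,1,0,4,5,2,5,1,4,5,0])) (.word [1,5,2,4,5,3,5,4,2,5,1]))) WTree.none) (.node (.node (.node WTree.none (.word [2,3,2,1,5,4,5,1,2,3,2])) (.node WTree.none (.node (.word [0,2,4,2,1,2,1,3,0]) (.word [3,4,2,3,4,2,0,3,4,2,0])))) (.node (.node WTree.none (.word [3,4,5,2,1,4,5,1,2,4,2,3])) WTree.none)))) (.node (.node (.node (.node (.node WTree.none (.word [4,2,4,0,5,1,2,4,3,4,2,5,0,5,4])) WTree.none) (.node (.word [5,1,0,4,5,0,3,0,5,4,0,1,5]) (.node (.node WTree.none (.word [3,4,2,0,3,1,3,1,5,1,5,0])) WTree.none))) (.node (.node WTree.none (.word [0,2,4,1,5,3,5,2,1,2,5,3,5,3,0])) (.node WTree.none (.node WTree.none (.node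 WTree.none (.word [5,2,5,3,4,1,5,3,1,5,4,3])))))) (.node (.node WTree.none (.node WTree.none (.node WTree.none (.node (.word [2,3,5,4,2,5,2,1,4,0,5,0]) (.word [5,2,3,5,0,3,4,2,5,0,1,2,1]))))) (.node WTree.none (.node (.node (.node WTree.none (.word [5,2,0,5,1,4,5,2,0,1,4,1,2])) WTree.none) (.word [5,0,5,0,4,5,2,5,4,5,0,1])))))))) (.node (.node (.node (.node (.node (.node (.node (.node WTree.none (.word [0,2,5,3,2,1,2,3,5,4,3,0])) (.node (.node WTree.none (.word [5,0,2,0,5,2,4,5,2,4,3,2,5,4])) WTree.none)) (.node (.node (.node WTree.none (.word [5,0,3,4,2,3,2,4,3,0,5])) WTree.none) (.node WTree.none (.word [0,2,5,1,5,4,5,3,5,3,0])))) (.node (.node (.node WTree.none (.node WTree.none (.word [4,5,1,0,5,4,1,3,5,3,0,4,0,5,3,1]))) (.word [5,4,2,4,3,5,3,1,3,4,2,3,2])) (.node WTree.none (.node (.node WTree.none (.word [5,2,5,3,4,1,2,5,3,1,5,4,3])) (.word [5,0,2,0,4,1,4,0,1,2,0,5]))))) (.node (.node WTree.none (.node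 WTree.none (.node (.node WTree.none (.word [5,3,1,4,5,4,5,1,3,4,5,2,1])) WTree.none))) (.node (.node (.node WTree.none (.node (.word [3,1,4,5,2,1,4,2,3,4,1,5]) (.word [0,5,2,5,3,5,3,5,4,3,0,1]))) WTree.none) (.node (.node (.node (.node WTree.none (.word [1,2,3,5,3,1,2,4,2,5])) WTree.none) WTree.none) WTree.none)))) (.node (.node (.node (.node (.node WTree.none (.word [1,4,5,2,0,3,0,5,4,1])) WTree.none) WTree.none) (.node (.node (.node WTree.none (.word [5,0,5,0,4,1,5,1,2,1,5,4,1,5,0])) WTree.none) WTree.none)) (.node WTree.none (.word [4,2,4,1,5,0,5,1,2,4,5,4,2,5,2,1])))) (.node (.node (.node (.node WTree.none (.node (.node (.node WTree.none (.word [2,4,2,1,2,5,3,5,3,0,1,5,1])) WTree.none) (.node WTree.none (.word [1,0,4,1,4,5,3,5,1,5,4,2,5,0])))) (.node (.node (.node (.node (.node WTree.none (.word [5,0,5,1,5,3,1,3,0,5])) WTree.none) (.node WTree.none (.word [5,4,1,2,5,4,1,2,4,3,2,4]))) WTree.none) (.node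 WTree.none (.node WTree.none (.node WTree.none (.word [5,0,5,0,3,2,5,2,4,1,2,0,1])))))) (.node (.node WTree.none (.node WTree.none (.node WTree.none (.word [5,0,5,4,5,4,3,0,5,0,5,1,2,4,3])))) WTree.none)) (.node (.node (.node (.node WTree.none (.node WTree.none (.word [5,0,2,1,2,0,5]))) (.word [1,5,2,0,4,5,0,5,2,5,0,1,5,2,4])) (.node (.node WTree.none (.node (.node (.word [5,0,5,0,5,3,2,0,3,5,3,2,0,3,4]) (.word [3,4,2,3,4,2,1,0,2,1,2,0])) WTree.none)) (.node (.node WTree.none (.word [2,4,2,3,5,1,3,4,3,5])) WTree.none))) (.node (.node (.node WTree.none (.node WTree.none (.node WTree.none (.word [0,5,3,0,2,0,1,2,3,4,5,0])))) (.node (.node (.node WTree.none (.word [0,4,1,5,4,1,3,4,2,5,4,0])) WTree.none) WTree.none)) WTree.none)))) (.node (.node (.node (.node (.node (.node (.node (.node WTree.none (.word [4,3,5,4,1,3,1,5,3,4])) (.word [3,5,2,5,1,4,2,0,3,1,2,5,0,2,4,1,2])) (.node WTree.none (.word [4,5,1,4,5,1,4,2,5,3,5])))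 WTree.none) (.node WTree.none (.node WTree.none (.node (.node WTree.none (.word [2,5,4,3,1,2,1,2,4,5,2])) WTree.none)))) (.node (.node (.node (.node (.node (.node WTree.none (.word [3,1,3,1,5,2,0,3,0,5,1,4])) WTree.none) (.word [0,5,1,0,2,3,1,5,3,5,2,3])) WTree.none) (.node (.node (.node WTree.none (.word [2,3,5,4,2,4,3,5,1,3,5,3,2,5])) WTree.none) WTree.none)) WTree.none)) (.node (.node (.node (.node (.node (.node (.node WTree.none (.word [2,1,4,1,3,0,3,1,3,5])) WTree.none) WTree.none) WTree.none) (.node (.node (.node (.node WTree.none (.word [5,1,0,5,4,3,4,5,1,4,1,2,3,4,0,5])) WTree.none) WTree.none) WTree.none)) (.node WTree.none (.node (.node (.node (.node WTree.none (.word [3,1,3,2,5,3,5,2,4,5,2,3,5,2])) WTree.none) WTree.none) WTree.none))) (.node (.node (.node (.node (.node WTree.none (.word [3,4,5,2,1,4,2,1,3,4,5,1])) WTree.none) (.word [4,1,4,0,5,3,2,3,4,5,2,4,0])) (.node WTree.none (.node WTree.none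 (.word [2,4,1,3,1,5,0,2,4,3,5])))) WTree.none))) (.node (.node (.node (.node (.node WTree.none (.node WTree.none (.node WTree.none (.word [0,3,4,2,4,3,5,3,4,5,1,3,4,0])))) WTree.none) (.node (.node (.node (.node (.node WTree.none (.word [3,4,2,0,4,1,5,1,5,4,2,4,3,0])) WTree.none) WTree.none) WTree.none) WTree.none)) (.node (.node (.node (.node WTree.none (.word [4,1,5,0,5,0,5,0,2,5,1,4])) WTree.none) (.node (.node (.word [4,2,4,0,5,2,4,0,1,4,2,1,4]) (.node WTree.none (.word [1,5,0,3,4,1,5,4,3,4,5,1,2]))) WTree.none)) (.node (.node (.word [5,0,5,2,0,2,3,5,3,2,4,2,4,0]) (.node (.word [2,4,3,5,3,1,3,2,4,3,5]) (.node WTree.none (.word [3,4,2,0,4,1,4,2,1,2,0])))) (.word [1,4,1,5,4,0,5,4,0,3,2,1,5,4,0,3])))) (.node (.node (.node WTree.none (.node (.node (.node (.node WTree.none (.word [5,3,4,1,3,5,3,2,3,0,5,1])) WTree.none) WTree.none) (.node WTree.none (.word [2,1,4,1,2,3,5,3,4,3,5])))) (.node (.node (.node WTree.none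 (.node WTree.none (.word [4,3,5,4,5,2,5,4,1,2,5,3,1]))) (.node (.node WTree.none (.word [2,1,2,1,5,0,1,3,1,4,2])) WTree.none)) WTree.none)) (.node (.node (.node (.node (.word [1,3,4,5,2,4,2,3,1,4,5]) (.word [0,2,4,5,1,3,5,3,0,2,4,3])) WTree.none) (.node (.node WTree.none (.node WTree.none (.word [0,5,3,1,3,5,0,2,4,3]))) (.word [0,2,4,5,4,2,4,2,4,5,1,3,0]))) (.node (.node (.node WTree.none (.node WTree.none (.word [5,2,1,5,2,4,5,4,3,2,4,2,4,5]))) WTree.none) (.node (.node WTree.none (.word [3,2,4,5,2,5,2,1,4,1,4,5,3,4,5])) WTree.none))))))))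

/-- A subtree. -/
def wt27 : WTree :=
  (.node (.node (.node (.node (.node (.node (.node (.node (.node (.node WTree.none (.word [5,1,5,0,5,0,5,1,4,5,2,5,4,5])) WTree.none) WTree.none) WTree.none) (.node (.node (.node WTree.none (.word [5,2,1,3,2,3,5,2,3,5,2,5,2,1,3,2])) (.word [4,2,4,1,5,0,1,5,1,4,2,4])) WTree.none)) (.node (.node (.node (.node (.word [5,1,4,3,1,2,1,4,2,5,4,3]) (.word [5,3,2,3,5,2,4,1,3,4,2,4])) WTree.none) (.word [1,5,0,2,1,2,3,1,4,2])) (.node WTree.none (.node (.node WTree.none (.word [0,5,2,1,2,5,2,1,2,0])) WTree.none)))) (.node (.node (.node (.node WTree.none (.word [2,4,0,5,2,0,2,5,1,2,0,4,0,2])) WTree.none) (.node WTree.none (.node (.node WTree.none (.word [4,2,1,4,0,2,5,1,5,0,2,5])) WTree.none))) (.node (.node (.node WTree.none (.word [4,5,0,5,1,4,2,4,0,4,1,2,1])) (.node (.node WTree.none (.word [2,1,5,3,2,4,2,1,3,5,2])) WTree.none)) WTree.none))) (.node (.node (.node WTree.none (.node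 WTree.none (.word [3,0,4,3,0,2,0,3,4,0,3]))) (.node (.node WTree.none (.node (.node WTree.none (.word [5,2,1,5,3,4,5,1,3,1,5,4,1,3])) WTree.none)) (.node (.node WTree.none (.node WTree.none (.word [2,4,3,4,5,2,5,4,0,5,1]))) (.node WTree.none (.node WTree.none (.word [4,2,4,2,4,1,5,4,1,2,5,2])))))) (.node (.node (.node (.node (.node (.node WTree.none (.word [4,3,5,4,3,5,1,3,4])) WTree.none) WTree.none) WTree.none) (.node (.node (.node (.node WTree.none (.word [3,5,1,3,1,5,3])) WTree.none) WTree.none) WTree.none)) (.node (.node (.node (.word [5,2,4,5,0,3,0,3,5,4,2,5]) (.node WTree.none (.word [2,4,2,5,2,3,1,2,4,3,5,1]))) WTree.none) WTree.none)))) (.node (.node (.node WTree.none (.node (.node (.node (.node (.word [3,4,0,5,4,0,1,4,5,0,4,3]) (.word [5,1,2,0,2,0,4,5,1,4,1,3,0,5,0,4])) WTree.none) WTree.none) (.node (.node (.node (.node (.word [3,2,4,5,2,5,0,5,4,2,4,2,1,2,0]) (.word [4,1,4,3,5,3,1,5,3,1])) WTree.none)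 WTree.none) (.node (.node WTree.none (.word [2,5,3,2,4,2,4,3,1,5,2])) WTree.none)))) (.node (.node (.node (.node (.node (.node WTree.none (.word [0,5,2,4,3,5,0,5,0,2,1,2,0,5])) WTree.none) WTree.none) WTree.none) WTree.none) (.node (.word [2,1,5,3,1,4,3,1,5,2]) (.node (.word [0,3,4,2,3,1,5,3,5,3,0]) (.node WTree.none (.node WTree.none (.word [4,5,0,5,0,5,1,0,2,1,5,4,5,1]))))))) (.node (.node (.node WTree.none (.node (.node (.node WTree.none (.word [5,1,2,5,4,3,4,5,4,1,2,5,2,3])) WTree.none) WTree.none)) (.node (.node WTree.none (.word [0,4,5,0,5,3,0,3,0,2,5,2,3])) WTree.none)) (.node (.node (.node WTree.none (.node (.node WTree.none (.word [4,3,5,3,5,2,1,5,4,2,5,3])) WTree.none)) (.node (.node WTree.none (.word [4,3,1,5,2,0,2,5,1,3,4,0,1])) WTree.none)) (.node (.node (.node (.node (.node WTree.none (.word [5,1,2,0,3,2,4,2,0,5,4,2])) WTree.none) (.node WTree.none (.word [2,3,5,1,3,2,4,1,2,5,1]))) (.node (.node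 WTree.none (.word [2,5,3,4,2,1,2,3,5,2])) WTree.none)) WTree.none))))) (.node (.node (.node (.node (.node WTree.none (.node (.node WTree.none (.node WTree.none (.word [1,5,3,2,4,5,1,2,4,2,4]))) (.node (.node WTree.none (.word [5,0,5,2,1,2,5,0,5])) (.word [5,0,5,0,2,3,5,3,1,2,3,0])))) (.node (.node WTree.none (.node (.word [2,4,0,5,4,5,0,4,2,3,1,3,4]) (.word [4,3,5,0,5,3,5,0,5,3,4]))) (.node (.node WTree.none (.node WTree.none (.word [4,3,1,3,0,3,0,2,5,4,0,5,3,1,4,0]))) WTree.none))) (.node (.node (.node WTree.none (.word [2,4,1,0,2,0,3,0,1,2,0,4,2])) (.node WTree.none (.word [2,3,4,1,2,5,2,4,3,5,3,2]))) (.node WTree.none (.node (.node WTree.none (.word [4,2,3,5,2,1,4,2,3,2,4,5])) WTree.none)))) (.node (.node WTree.none (.node (.node WTree.none (.node (.node WTree.none (.word [5,0,5,2,4,1,4,2,5,0,5])) WTree.none)) (.node (.node WTree.none (.node WTree.none (.word [0,5,3,4,2,3,4,2,5,0]))) WTree.none))) (.node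 (.node (.node WTree.none (.node WTree.none (.node WTree.none (.word [3,4,2,5,0,5,0,1,5,0,5,2,4,3])))) WTree.none) (.node (.node (.node WTree.none (.node WTree.none (.word [4,1,4,1,5,3,4,2,1,5,0,5,1]))) (.node (.word [5,0,2,4,5,3,5,4,1,2,0,5]) (.node WTree.none (.word [2,1,5,3,1,2,4,2,3,5,2])))) WTree.none)))) (.node (.node (.node (.node (.node (.node WTree.none (.node WTree.none (.word [3,1,3,2,5,0,3,2,0,2,3,0,5,2]))) WTree.none) WTree.none) (.node (.node (.node (.word [3,2,4,5,4,5,2,3,4,1]) (.word [0,3,1,2,1,2,4,2,0])) WTree.none) (.node (.node (.node (.node (.word [3,5,4,2,5,2,1,4,2,4,2,3,4]) (.word [5,2,5,1,2,4,2,4,5,4,5,2,4])) WTree.none) WTree.none) WTree.none))) (.node (.node (.node WTree.none (.node WTree.none (.word [2,5,4,5,4,5,1,4,3,5]))) (.node (.node WTree.none (.node WTree.none (.word [5,2,0,5,4,5,0,3,2,1,3,5,1]))) (.node WTree.none (.node WTree.none (.word [5,1,2,4,5,2,4,2,5,4,5,4]))))) WTree.none))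 (.node (.node (.node (.node WTree.none (.node WTree.none (.node WTree.none (.word [4,2,4,2,5,4,2,3,5,1])))) (.node (.node WTree.none (.word [4,2,3,1,5,3,2,4,1,5])) WTree.none)) WTree.none) (.node (.node WTree.none (.node (.node (.node (.node WTree.none (.word [5,0,5,0,4,1,5,4,3,4,5,4,1,5,0])) WTree.none) WTree.none) (.node WTree.none (.word [4,1,5,1,0,4,2,1,5,0,3,1,4,2,4])))) (.node (.word [2,4,3,0,5,4,5,0,3,4,2]) (.node WTree.none (.node WTree.none (.node (.word [0,3,4,1,2,4,5,1,5,4,0]) (.word [2,4,0,2,0,2,0,5,1,3,0,3,4]))))))))))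

/-- A subtree. -/
def wt28 : WTree :=
  (.node (.node (.node (.node (.node (.node (.node (.node WTree.none (.word [4,2,1,3,1,5,3,2,4,5])) WTree.none) (.node (.node (.node (.node WTree.none (.word [2,4,1,4,5,3,5,2,4,5,3,5,2])) (.word [3,5,4,1,4,3,5,3])) (.word [2,1,4,3,5,2,1,4,3,5])) (.node WTree.none (.node WTree.none (.word [4,5,1,2,5,4]))))) (.node (.node (.node (.node (.node WTree.none (.word [1,5,4,3,5,4,2,1,5,2,3,4,5,4])) WTree.none) WTree.none) WTree.none) (.node (.node WTree.none (.word [1,5,0,3,4,5,3,5,4,5,1,3,5,1,2])) WTree.none))) (.node (.node (.node (.node WTree.none (.word [5,3,1,0,3,2,4,1,2,0,5,3,2])) (.node WTree.none (.word [5,0,5,0,4,1,5,2,5,4,1,5,0]))) WTree.none) (.node (.node (.node WTree.none (.word [1,3,5,3,5,3,1])) (.node WTree.none (.node WTree.none (.word [0,5,1,5,3,1,4,1,2,0])))) (.node (.node WTree.none (.node WTree.none (.word [1,5,0,3,4,1,5,4,1,3,4,5,2]))) WTree.none)))) (.node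 (.node (.node WTree.none (.node (.node (.node (.node WTree.none (.word [4,2,4,0,2,0,5,4,5,3,5,3,5,1,2])) WTree.none) (.word [3,2,5,4,5,3,2,1,4,2,4,1])) (.word [5,0,3,2,3,0,4,3,1,5,2,3,4]))) (.node (.node (.node WTree.none (.word [1,5,4,3,2,1,4,2,5,4,1,3])) WTree.none) (.node WTree.none (.node (.node WTree.none (.word [0,2,5,4,2,0,3,0,2,4,5,2,0])) (.node WTree.none (.word [1,4,5,0,5,0,5,3,5,0,5,1,4,2])))))) (.node (.node (.node (.node WTree.none (.node WTree.none (.word [5,2,0,2,0,3,5,2,0,5,3,0,3,2]))) WTree.none) WTree.none) (.node (.node WTree.none (.node WTree.none (.word [0,5,2,4,3,5,0]))) (.word [2,1,2,5,3,1,4,2,5,3,4,2,1]))))) (.node (.node (.node WTree.none (.node (.node WTree.none (.node (.node WTree.none (.word [5,0,5,0,3,1,5,2,5,1,2,5,4,2,0,1])) (.node WTree.none (.word [4,1,3,5,3,4,5,3,4,1])))) (.node WTree.none (.node (.node WTree.none (.word [2,5,3,2,5,1,2,1,5,3,5,2])) WTree.none)))) (.node (.node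 (.node (.node (.node WTree.none (.word [1,5,1,0,5,4,2,5,2,4,1,3,2,3])) WTree.none) WTree.none) (.node (.node (.node (.node WTree.none (.word [4,1,5,0,4,2,5,0,2,3,2,3,5])) WTree.none) WTree.none) WTree.none)) (.node (.node WTree.none (.node WTree.none (.node WTree.none (.word [5,4,1,4,2,3,0,3,0,3,2,1,5,4])))) (.node (.node (.node (.node WTree.none (.word [2,1,4,3,5,0,1,2,1,4,3,5])) WTree.none) WTree.none) WTree.none)))) (.node (.node (.node (.node (.node (.node (.node WTree.none (.word [4,3,5,2,1,2,5,3,4])) WTree.none) WTree.none) (.word [0,4,2,1,5,4,3,5,2,1,3,0])) (.node (.node (.node (.node WTree.none (.word [2,4,0,2,3,1,2,3,0,1,5,4])) (.word [0,3,4,1,0,3,0,1,4,3,0])) WTree.none) WTree.none)) (.node (.node WTree.none (.word [2,4,5,2,1,3,2,3,1,3,5,3])) WTree.none)) (.node (.node (.node WTree.none (.node WTree.none (.node WTree.none (.word [1,4,5,0,3,0,5,4,1])))) WTree.none) (.node (.node WTree.none (.node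 WTree.none (.node WTree.none (.word [2,1,5,3,5,2,5,2,4,3,5,2])))) (.node (.node (.node (.node WTree.none (.word [2,1,4,3,5,0,5,0,1,5,1])) (.word [4,3,0,4,0,2,0,4,0,3,4])) WTree.none) WTree.none)))))) (.node (.node (.node (.node (.node WTree.none (.node (.node (.node (.word [5,1,4,3,1,2,4,2,1,5,4,3,1]) (.word [1,4,1,5,1,0,2,0,1,5,1,4,1])) WTree.none) WTree.none)) (.node (.node (.node WTree.none (.node (.word [0,2,4,1,3,1,2,1,4,3,0]) (.word [1,5,2,0,5,3,4,0,2,1,5,2,0,2]))) (.node WTree.none (.word [3,4,2,0,3,5,1,5,4,2,0]))) (.node (.node WTree.none (.node WTree.none (.word [0,3,5,2,4,2,4,2,3,5,3,0]))) (.node (.node (.word [5,0,4,5,4,5,3,5,4,5,4,0,5]) (.word [1,2,4,2,3,5,3,4,1,3,5])) WTree.none)))) (.node (.node (.node WTree.none (.word [3,1,3,1,0,4,1,4,5,0,3,1,3])) (.node (.node (.node (.node WTree.none (.word [4,0,2,5,2,1,2,5,1,2,0,4])) WTree.none) WTree.none) WTree.none)) (.node (.word [4,5,1,0,3,2,1,3,2,0,4,2])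 (.node (.node WTree.none (.word [2,4,3,1,5,2,4,3,5,2,1,2])) WTree.none)))) (.node (.node (.node (.node WTree.none (.node WTree.none (.node WTree.none (.word [0,3,5,4,2,5,4,2,3,4,2,4,0])))) WTree.none) (.node (.node (.node WTree.none (.node WTree.none (.word [4,3,1,5,4,5,0,3,2,3,0,3,2]))) WTree.none) WTree.none)) (.node (.node (.node (.node (.node (.node WTree.none (.word [4,5,1,2,0,2,0,5,4])) WTree.none) WTree.none) (.word [5,3,0,2,1,0,5,0,1,3,0,1,3])) (.node (.node (.node (.node WTree.none (.word [5,2,5,1,3,2,4,3,5,4,3,5])) WTree.none) WTree.none) WTree.none)) (.node (.node WTree.none (.node (.node WTree.none (.word [2,5,4,2,5,4,5,2,4,5,2])) (.node WTree.none (.word [2,4,3,0,5,1,5,2,5,4,5,0,5])))) WTree.none)))) (.node (.node (.node (.node (.node (.node (.node WTree.none (.word [4,5,1,0,2,5,1,4,5,0,3,4,2,4])) (.word [0,2,0,3,0,2,4,2,1,3,1,3,0,2,4,0])) (.node (.node WTree.none (.word [1,2,0,3,2,3,4,1,4,2,0,2,1]))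 WTree.none)) WTree.none) (.node (.node WTree.none (.node WTree.none (.node WTree.none (.word [0,4,2,0,3,0,3,0,2,4,0])))) (.node (.node (.node (.word [1,5,1,2,1,2,0,3,1,4,2]) (.word [2,3,4,1,5,3,4,5,4,3,2])) WTree.none) (.node WTree.none (.node WTree.none (.word [0,2,1,4,1,3,5,1,5,0])))))) (.node WTree.none (.node (.node WTree.none (.word [5,2,0,5,4,2,1,2,5,0,5,4])) WTree.none))) (.node (.node (.node WTree.none (.node WTree.none (.node (.node (.word [2,5,3,2,4,2,3,5,2]) (.word [5,3,1,3,0,5,4,1,4,2,4,3,5])) WTree.none))) (.node (.node (.node (.node WTree.none (.word [2,4,1,0,5,4,3,5,2,3,4,3,0,4,2])) (.word [2,4,1,3,1,5,1,2,4,3,5])) WTree.none) WTree.none)) (.node WTree.none (.node (.node (.node WTree.none (.node (.word [4,1,0,4,1,4,3,5,1,5,3,0,4]) (.word [1,2,4,5,3,5,4,2,1]))) (.node WTree.none (.node WTree.none (.word [5,2,5,4,5,0,5,0,5,2,4,3,5,0,1,4,1])))) WTree.none))))))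

/-- A subtree. -/
def wt29 : WTree :=
  (.node (.node (.node (.node (.node (.node (.node (.node (.node (.node WTree.none (.word [0,5,2,4,5,3,5,3,5,0])) WTree.none) WTree.none) WTree.none) (.node WTree.none (.node (.node WTree.none (.word [1,2,5,0,2,0,4,2,1,3,5,0,5,0])) WTree.none))) (.node (.node WTree.none (.node (.node WTree.none (.word [4,2,1,2,4,0,2,1,2,5,0,2,1,4,3])) WTree.none)) WTree.none)) (.node (.node (.node WTree.none (.node WTree.none (.node WTree.none (.word [0,5,3,5,3,5,4,2,5,0])))) (.word [2,5,3,2,4,1,2,4,3,5,2])) (.node (.node (.node (.node (.node WTree.none (.word [5,2,4,2,4,3,2,3,1,5,1,2,3,4,1])) WTree.none) WTree.none) WTree.none) (.node (.node (.node (.node WTree.none (.word [0,3,5,3,5,3,0])) (.word [4,1,4,1,0,5,1,0,2,5,4,0,5])) WTree.none) WTree.none)))) (.node (.node (.node (.node (.node WTree.none (.word [0,2,4,1,3,4,5,1,5,4,0,1])) WTree.none) (.node (.node (.node (.node WTree.none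 (.word [0,5,2,4,3,2,4,3,5,0])) WTree.none) WTree.none) WTree.none)) (.node WTree.none (.node (.node (.node WTree.none (.word [5,1,4,2,3,5,1,3,2,4])) WTree.none) (.node WTree.none (.word [2,5,4,3,4,1,5,2]))))) (.node WTree.none (.node WTree.none (.node (.node (.node WTree.none (.word [5,0,2,4,1,4,2,0,5])) WTree.none) WTree.none))))) (.node (.node (.node (.node (.node (.node WTree.none (.word [0,5,0,2,1,5,3,2,4,1,3,5,4,3])) WTree.none) (.node WTree.none (.word [0,3,4,2,5,1,3,1,3,5,0,1]))) (.node (.node (.node (.node (.node WTree.none (.word [5,0,2,5,2,1,2,5,2,0,5])) WTree.none) WTree.none) WTree.none) (.node (.node (.node WTree.none (.word [5,2,5,3,2,1,4,3,5,4,3,5])) WTree.none) (.node (.node WTree.none (.word [2,1,5,4,5,3,1,5,3,4,5,4,3])) (.node WTree.none (.word [1,4,3,1,3,0,5,3,0,4,0,3,5,0,1])))))) (.node (.node (.node (.node WTree.none (.node (.word [1,5,3,2,5,2,4,2,0,1,5,0]) (.word [5,4,2,1,4,1,2,1,4,5,2,4,3,2])))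 WTree.none) WTree.none) WTree.none)) (.node (.node (.node (.node (.node (.node (.node WTree.none (.word [5,2,5,3,2,1,3,5,3,1,5,3,2,3])) WTree.none) WTree.none) WTree.none) WTree.none) (.node (.node WTree.none (.node (.node WTree.none (.word [3,1,2,4,2,5,2,3,4,5])) WTree.none)) (.node (.node WTree.none (.node (.word [1,5,1,0,5,0,5,3,4,1,2]) (.word [5,2,4,5,3,0,3,0,5,4,2,5]))) (.node WTree.none (.node WTree.none (.word [3,5,0,3,1,2,5,3,5,3,2,0,2])))))) (.node (.node (.node WTree.none (.node WTree.none (.node WTree.none (.word [5,0,5,1,0,4,5,3,1,4,3,5,4,5,0])))) WTree.none) (.node (.node (.node WTree.none (.node WTree.none (.word [4,0,2,5,4,2,3,2,0,3,2,5,4]))) WTree.none) WTree.none))))) (.node (.node (.node (.node (.node (.node WTree.none (.word [4,5,4,3,5,4,5,1,2,5,3,1])) (.node WTree.none (.node WTree.none (.word [1,0,4,3,5,2,5,4,2,1,4,0])))) (.node (.node (.node WTree.none (.word [5,3,0,3,0,2,0,4,2,5,0,3,5,4]))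 WTree.none) (.node (.node (.node (.node WTree.none (.word [5,1,2,5,2,3,5,2,4,2,3,4,5,3,2])) WTree.none) (.node WTree.none (.word [3,5,2,1,2,1,5,3]))) WTree.none))) (.node (.node WTree.none (.node (.node WTree.none (.word [2,3,2,1,5,2,4,2,4,5,1,4])) WTree.none)) (.node WTree.none (.node WTree.none (.node (.node WTree.none (.word [0,4,5,1,5,4,2,1,4,3,0])) WTree.none))))) (.node (.node (.node WTree.none (.node WTree.none (.node (.node WTree.none (.word [5,2,0,5,1,5,2,0,4,1,2,4])) WTree.none))) (.node (.node WTree.none (.node (.node WTree.none (.word [1,2,4,2,1,5,2,3,0,2,4,3,5])) WTree.none)) (.node (.node (.node (.node WTree.none (.word [1,4,1,5,0,2,1,0,2,4,5,3,5,1,4,5])) WTree.none) WTree.none) (.node (.node (.word [1,0,4,1,4,2,1,4,3,0,1]) (.word [4,5,2,1,5,4])) WTree.none)))) (.node (.node WTree.none (.node (.node (.node (.node WTree.none (.word [4,5,4,3,5,4,1,5,2,3,5,3,1])) (.word [4,0,4,2,3,5,0,5,3,2,4,0,4]))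 WTree.none) (.word [1,5,0,4,1,2,5,4,2,4,3,2,4,5]))) (.node (.node (.node WTree.none (.node WTree.none (.word [3,1,3,2,0,4,2,5,1,2,0,1,2]))) WTree.none) (.node (.node (.node (.node WTree.none (.word [4,5,4,2,1,4,2,5,1,2,3,2])) WTree.none) WTree.none) WTree.none))))) (.node (.node (.node (.node WTree.none (.node (.node WTree.none (.word [2,1,4,3,1,5,1,5,0,5,1])) (.node WTree.none (.node WTree.none (.word [2,1,3,5,2,1,2,3,2,4,2,5]))))) (.node (.node (.node (.node (.node WTree.none (.word [0,3,1,5,3,5,1,3,0])) WTree.none) WTree.none) WTree.none) WTree.none)) (.node (.node WTree.none (.node (.node WTree.none (.node WTree.none (.word [3,4,2,0,5,3,1,4,2,5,0]))) (.node WTree.none (.node (.word [1,4,1,2,3,5,1,2,5,2,3,2,1,4]) (.word [5,0,5,0,5,4,1,4,0,4,1,4]))))) (.node (.node (.node (.node WTree.none (.word [0,2,4,5,3,5,4,2,0])) (.node WTree.none (.word [4,2,4,1,2,4,1,5,4,2,1,5,2]))) WTree.none) WTree.none))) (.node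 (.node (.node (.node WTree.none (.node WTree.none (.word [5,2,4,5,0,3,0,5,4,2,5]))) (.node (.node (.node WTree.none (.word [0,3,5,1,3,1,5,3,0])) WTree.none) WTree.none)) (.node (.node (.node (.node WTree.none (.word [3,1,5,3,5,1,3])) (.word [3,5,3,5,3])) WTree.none) WTree.none)) (.node (.node (.node WTree.none (.node (.node WTree.none (.word [0,5,0,3,4,3,5,3,5,2,3])) WTree.none)) WTree.none) (.node (.node (.node WTree.none (.word [0,4,5,2,0,3,0,2,5,4,0])) (.word [4,1,3,5,4,3,5,1,3,1,4])) WTree.none))))))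

/-- Points. -/
def levX2pts0 : List ℕ := [16,17,40,56,68,108,126,133,149,157,162,170,196,203,210,212,213,222,226,228,229,230,232,236,252,253,260,266,267,272,308,310,312,313,314,316,327,338,350,353,368,370,377,405,411,413,456,457,460,469,478,480,483,508,524,527,563,576,587,589,616,618,619,622,645,646,649,653,691,693,694,696,698,704,713,731,734,749,753,760,767,785,791,803,805,816,818,824,827,828,840,845,879,892,894,896,907,921,943,984,996,1009,1017,1018,1027,1030,1033,1034,1038,1041,1047,1051,1062,1063,1066,1072,1082,1091,1093,1102,1111,1113,1118,1121,1148,1150,1153,1161,1163,1164,1167,1181,1187,1190,1194,1196,1211,1215,1219,1221,1222,1242,1244,1256,1272,1273,1275,1279,1282,1283,1285,1311,1315,1328,1340,1341,1359,1397,1411,1412,1416,1420,1441,1462,1463,1483,1485,1498,1521,1529,1534,1536,1538,1550,1552,1576,1590,1593,1599,1603,1616,1618,1626,1629,1664,1675,1677,1724,1754,1763,1780,1792,1798,1805,1807,1814,1854,1878,1887,1892]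

/-- Points. -/
def levX2pts1 : List ℕ := [1902,1914,1917,1926,1959,1970,2004,2009,2020,2045,2062,2065,2075,2082,2100,2131,2138,2158,2181,2197,2212,2224,2233,2235,2239,2241,2248,2250,2268,2271,2272,2274,2276,2282,2288,2305,2306,2307,2309,2310,2313,2314,2315,2326,2337,2346,2353,2355,2357,2361,2364,2367,2369,2382,2409,2415,2422,2428,2434,2455,2459,2471,2489,2492,2503,2520,2535,2538,2540,2546,2547,2554,2566,2568,2585,2587,2592,2608,2610,2612,2617,2650,2660,2672,2677,2687,2690,2695,2700,2707,2713,2714,2725,2728,2733,2735,2736,2742,2743,2750,2757,2760,2792,2794,2795,2805,2823,2829,2863,2873,2874,2875,2885,2886,2888,2892,2912,2949,2950,2955,2958,2963,2965,2967,2977,2979,2984,2991,3023,3032,3050,3073,3089,3090,3101,3128,3140,3156,3159,3161,3162,3171,3172,3178,3180,3206,3211,3222,3243,3244,3262,3270,3295,3301,3309,3311,3312,3314,3317,3319,3323,3326,3341,3348,3360,3377,3420,3421,3422,3423,3424,3454,3467,3469,3471,3476,3481,3493,3501,3508,3511,3523,3608,3614,3627,3645,3655,3657,3658,3680,3692,3693,3698,3699,3702,3703,3704,3705,3716,3731]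

/-- Points. -/
def levX2pts2 : List ℕ := [3739,3746,3756,3761,3764,3779,3795,3802,3806,3819,3821,3824,3826,3827,3835,3843,3850,3857,3864,3871,3872,3916,3921,3933,3935,3945,3952,3962,3972,3990,3991,3994,3995,4001,4002,4003,4005,4023,4026,4036,4052,4053,4060,4072,4084,4093,4100,4101,4103,4113,4124,4129,4142,4147,4151,4169,4174,4178,4181,4184,4192,4197,4203,4227,4246,4247,4254,4255,4265,4268,4290,4295,4312,4316,4329,4340,4341,4355,4364,4387,4391,4398,4402,4403,4404,4414,4427,4432,4433,4435,4453,4459,4463,4477,4495,4496,4501,4509,4526,4527,4529,4530,4548,4550,4551,4552,4563,4576,4580,4585,4591,4595]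

/-- A level. -/
def levX2 : Level :=
  ⟨2977, (.node (.node (.node wt24 wt25) wt26) (.node (.node (.node (.node (.node (.node (.node (.node (.node (.node WTree.none (.node WTree.none (.word [1,0,2,4,1,3,2,1,4,1,3,0]))) WTree.none) (.node (.node (.node WTree.none (.word [5,2,5,4,3,4,5,2,5,2,4,3])) WTree.none) WTree.none)) (.node (.node (.node WTree.none (.word [4,2,5,3,2,1,4,2,3,2,5,2])) WTree.none) WTree.none)) (.node (.node WTree.none (.node (.node (.node WTree.none (.word [5,1,0,3,2,5,4,2,4,5,3,0,5])) WTree.none) WTree.none)) (.node (.node (.node (.node WTree.none (.word [2,1,5,3,5,2,1,5,2,3,5,2])) WTree.none) WTree.none) WTree.none))) (.node (.node (.node (.node (.node (.node (.node WTree.none (.word [5,2,4,1,2,3,1,5,3,1,2,1])) WTree.none) WTree.none) WTree.none) (.node (.node (.node WTree.none (.word [2,3,2,5,1,2,4,2,4,5,4])) WTree.none) WTree.none)) (.node WTree.none (.node (.node WTree.none (.word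 [5,3,4,2,3,2,5,2,4,2,1])) (.node (.node WTree.none (.word [])) (.node WTree.none (.word [5,4,1,5,0,3,0,5,1,4,5])))))) (.node (.node (.node (.node WTree.none (.word [1,5,0,4,1,4,5,0,5,0,5,4,1,4])) WTree.none) (.word [5,0,2,0,5,4,3,5,2,5,3,2,4,2])) WTree.none))) (.node (.node (.node (.node (.node (.node (.node (.node (.word [4,5,2,1,5,3,5,0,5,3,5,0,5,3,4]) (.word [1,5,3,2,3,0,5,1,3,5,0,5,1,4])) (.word [0,2,5,3,5,3,1,5,1,2,5,0])) (.node (.word [3,2,4,5,2,5,0,2,5,4,1,3,2,0]) (.word [4,3,1,5,3,4,5,3,4]))) WTree.none) (.node WTree.none (.node (.word [0,5,2,4,5,1,3,1,5,3,5,0]) (.node WTree.none (.word [1,0,4,1,4,5,0,4,2,4,1,4,2,4]))))) WTree.none) (.node (.node WTree.none (.node (.node (.node (.node WTree.none (.word [0,3,5,4,1,4,5,3,0])) WTree.none) WTree.none) (.node WTree.none (.node WTree.none (.word [5,3,4,5,2,3,2,3,1,4,2,3,4,1]))))) WTree.none)) (.node (.node (.node WTree.none (.node (.node (.node WTree.none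 (.word [5,2,1,5,4,1,5,4,5,4,1,3,0,5,0])) (.node WTree.none (.word [2,3,5,3,2,4,2,5]))) WTree.none)) (.node (.node WTree.none (.node WTree.none (.node WTree.none (.word [3,5,2,3,1,2,3,5,1,4,2])))) (.node (.node (.node (.node WTree.none (.word [1,0,3,2,1,0,2,0,3,4,0,1])) WTree.none) WTree.none) WTree.none))) (.node WTree.none (.node (.node WTree.none (.word [3,2,4,5,1,4,5,2,3,4,1])) (.node (.node WTree.none (.word [5,0,5,4,2,3,5,3,2,4,0,5])) (.word [5,3,0,4,5,0,2,3,0,2,4,1]))))))) (.node (.node (.node (.node (.node (.node (.node WTree.none (.word [0,5,4,2,3,2,4,2,3,2,4,5,0])) WTree.none) (.node (.node (.node WTree.none (.word [3,5,3,5,3,4,5,0,2,0,5,4])) WTree.none) WTree.none)) (.node (.node (.node WTree.none (.word [0,3,4,2,3,1,3,0])) (.word [2,4,1,3,1,0,2,1,2,5,1])) WTree.none)) (.node (.node (.node (.node (.node (.node WTree.none (.word [5,0,3,4,2,0,5,3,1,4,2])) WTree.none) WTree.none) (.node WTree.none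 (.node WTree.none (.word [1,5,0,4,1,4,5,0,1,5,1,3,4,2])))) WTree.none) (.node (.node WTree.none (.word [2,3,4,1,0,2,1,2,0,3,4])) (.word [2,5,3,2,4,5,4,5,3,1,5,2])))) (.node (.node WTree.none (.node (.node (.node (.node (.node WTree.none (.word [5,1,0,5,4,5,3,5,3,5,2,3,0,5])) WTree.none) WTree.none) WTree.none) WTree.none)) (.node (.node WTree.none (.node (.node (.node WTree.none (.word [4,2,1,5,3,2,4,2,1,3,2,5,2])) WTree.none) (.node WTree.none (.node WTree.none (.word [0,2,5,2,1,2,5,1,2,0]))))) (.node (.node (.node (.node (.node WTree.none (.word [1,5,0,4,5,1,5,3,4,3,2])) WTree.none) WTree.none) WTree.none) (.node (.node (.node (.node WTree.none (.word [2,0,4,1,4,2,3,1,2,1,3,0,2])) WTree.none) WTree.none) WTree.none))))) (.node (.node (.node (.node (.node WTree.none (.node (.node WTree.none (.word [1,5,3,2,1,5,2,3,0,5,0])) WTree.none)) WTree.none) (.node (.node WTree.none (.node (.node WTree.none (.word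 [4,1,5,1,0,5,0,3,5,4,2,4])) WTree.none)) (.node (.node WTree.none (.node WTree.none (.word [3,5,4,1,4,5,3,0,5,3,4,2,5,0]))) (.word [1,0,4,3,0,2,0,1,2,3,0,1])))) (.node (.node (.node (.node WTree.none (.node (.word [2,4,0,5,4,3,1,3,5,0,4,2]) (.word [1,5,3,5,0,3,5,4,2,5,0,2]))) WTree.none) WTree.none) (.node WTree.none (.node WTree.none (.node WTree.none (.word [1,5,0,3,2,3,5,3,1,4,3,5])))))) (.node (.node (.node (.node WTree.none (.node (.node WTree.none (.word [2,3,4,1,3,4,5,2,1,2,5,0,5,1])) (.word [3,1,4,5,1,3,1,2,3,5,4,3]))) (.node (.node (.node (.word [4,5,0,2,0,5,4,1,3,5,3,5,3,1]) (.word [1,5,3,2,4,5,2,4,2,4])) WTree.none) (.node (.node WTree.none (.word [4,5,0,2,0,5,4])) WTree.none))) (.node (.node (.node (.node WTree.none (.word [0,2,3,4,5,3,4,5,4,3,2,0])) WTree.none) WTree.none) (.node (.node (.node WTree.none (.word [1,5,0,4,1,2,5,4,5,1,3,2,0,5,0])) WTree.none) WTree.none))) (.node (.node (.node WTree.none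 (.node WTree.none (.node WTree.none (.word [2,4,0,3,2,0,4,5,1,3,2,0,4,5,0])))) (.word [2,4,1,2,3,4,2,4,3,5,3,5,3,4,3])) (.node (.node (.node WTree.none (.word [1,0,3,4,2,0,1,2,4,3])) WTree.none) (.node (.node WTree.none (.word [5,4,1,3,2,4,2,5,4,3,1])) (.word [5,1,0,5,2,0,3,1,5,2,4,5,3,2,3,0])))))))) wt27) (.node wt28 wt29))), levX2pts0 ++ levX2pts1 ++ levX2pts2⟩

/-- A subtree. -/
def wt30 : WTree :=
  (.node (.node (.node (.node (.node (.node (.node WTree.none (.node WTree.none (.word [1,5,3,1,4,2,5,2,1,3,4,2,3,5,0,2,3,2,3,0,5]))) (.node WTree.none (.node (.node WTree.none (.word [4,5,0,2,0,2,1,5,4,3,1,2,5,1,3,2,1,4,1,3,2,4,5])) WTree.none))) (.node WTree.none (.node (.node WTree.none (.node WTree.none (.word [2,4,1,0,2,0,4,2,0,5,1,5,1,3,1,3,0,4,3]))) WTree.none))) (.node (.node (.node (.node (.node (.node WTree.none (.word [4,5,0,2,0,5,4,5,0,2,0,5,2,5,4,2,5,3,5,2,4,5,2])) (.word [4,5,0,2,0,2,3,2,3,5,1,3,0,4,3,2,5,4,5,3,2,4,0]))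 WTree.none) WTree.none) WTree.none) (.node (.node (.node (.node (.node WTree.none (.word [5,0,2,1,2,0,2,1,5,3,4,5,2,3,5,4,3])) WTree.none) WTree.none) WTree.none) WTree.none))) (.node (.node (.node (.node (.node WTree.none (.word [4,5,0,2,0,2,1,5,1,5,3,5,2,5,2,5,4,3,5,4,5])) (.word [2,3,4,1,2,5,2,5,3,2,3,4,1,2,3,1,4,1,3])) (.node (.node (.node (.node WTree.none (.word [0,3,5,2,3,2,3,5,3,0,2,4,5,3,5,4,2])) (.word [4,5,1,2,0,2,0,5,2,3,2,1,5,2,3,2,4,5,1])) (.node WTree.none (.word [1,2,3,5,3,2,1,4,0,3,1,3,4,2,1,4,5,2,0,4,2]))) WTree.none)) WTree.none) (.node WTree.none (.node (.node (.node (.node (.node WTree.none (.word [4,2,3,1,5,3,2,4,1,4,5,3,0,3,0,3,5,4,5])) WTree.none) WTree.none) (.node WTree.none (.word [5,0,2,4,1,4,2,0,2,3,5,2,5,4,0,3,5,0,5,2]))) WTree.none)))) (.node (.node (.node (.node (.node WTree.none (.node (.node WTree.none (.word [1,0,3,2,1,0,2,0,3,4,2,4,3,2,4,3,5,1,5,0])) WTree.none)) (.node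 (.node (.node WTree.none (.word [4,5,1,2,0,2,0,5,2,1,3,2,5,2,3,2,4,1,5])) WTree.none) WTree.none)) (.node (.node (.node (.node WTree.none (.word [1,4,3,2,1,5,1,3,4,5,2,3,5,1,2,3,4,1,5,4,2,1])) WTree.none) WTree.none) WTree.none)) (.node (.node (.node (.node (.node WTree.none (.word [1,4,3,2,5,3,4,5,2,3,5,2,3,4,5,4,2])) WTree.none) (.word [4,3,5,4,3,5,1,3,4,1,5,2,5,0,5,0,4,3,0,4,3,2,0])) (.node (.node WTree.none (.node WTree.none (.word [3,5,3,4,1,4,5,3,2,3,0,5,4,0,2,0,4,5,0,3,2]))) WTree.none)) (.node (.node WTree.none (.node (.word [2,4,5,1,0,5,4,2,0,2,5,3,5,1,3,0,5,4,3,5,0]) (.node WTree.none (.word [4,5,2,1,0,2,0,1,2,5,4,2,5,4,1,4,3,2,3,4,1,4,5,2])))) WTree.none))) (.node (.node (.node (.node WTree.none (.node WTree.none (.node WTree.none (.word [0,2,1,2,5,2,1,2,0,4,0,5,0,5,0,2,0,2,0,2,5])))) (.node (.node WTree.none (.word [5,1,4,5,1,4,3,0,5,0,2,0,3,2,1,4,2,4,2,0,1,4])) (.node WTree.none (.word [2,4,3,1,0,2,5,1,4,0,2,5,3,2,3,5,4,3,1,5,0]))))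 (.node (.node WTree.none (.node (.node WTree.none (.word [4,5,1,2,1,5,2,3,5,2,4,2,5,3,2,4])) (.word [3,1,5,3,5,1,3,4,1,5,0,3,1,4,3,5,0,2,4,2,0,2,0,5,0]))) (.node (.node (.node WTree.none (.word [3,5,1,2,1,2,5,3,4,5,0,5,4,1,0,2,4,1,3,0,2,5,3,4,3])) (.word [3,5,3,5,3,5,3,0,4,2,5,0,3,5,2,4,2,1,5,4,3,0,4,2])) (.node WTree.none (.node WTree.none (.word [4,5,2,1,5,4,1,3,4,1,2,4,3,5,3,4,2,5,4,2,4])))))) (.node (.node (.node WTree.none (.node (.node WTree.none (.word [0,3,5,4,1,4,5,3,0,1,5,0,4,5,2,1,5,4,0,5,1])) (.node WTree.none (.word [3,5,1,3,1,5,3,5,2,5,0,5,4,1,4,0,1,5,2,5])))) (.node (.node (.node (.node WTree.none (.word [4,5,0,3,2,1,3,0,1,4,2,5,2,1,4,2,4,2,5,2,4,3,2])) WTree.none) WTree.none) WTree.none)) (.node WTree.none (.node (.node WTree.none (.word [5,0,4,3,2,4,1,5,4,2,1,4,3,5,1,4,3,0,5])) WTree.none)))))) (.node (.node (.node (.node WTree.none (.node (.node (.node (.node (.node (.word [3,5,3,4,1,4,5,3,2,4,5,2,1,3,2,3,1,5,3])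 (.word [3,5,0,5,3,4,2,4,3,5,0,5,3])) WTree.none) WTree.none) (.node WTree.none (.node WTree.none (.word [2,4,1,3,1,4,5,3,5,3,4,3,5,3,5,1,4])))) WTree.none)) (.node (.node WTree.none (.node (.node (.node WTree.none (.word [4,5,1,2,0,2,0,5,4,0,4,3,1,5,4,3,5,1,3,4,0])) WTree.none) WTree.none)) (.node (.node WTree.none (.word [4,5,4,2,1,4,2,5,1,2,3,1,0,5,3,4,2,4,3,5,0,1,2])) (.node WTree.none (.node WTree.none (.word [4,5,0,2,0,2,1,5,2,1,2,4,1,2,4,5,4,1,5,4,3,5,3,5])))))) (.node (.node WTree.none (.node (.node WTree.none (.node (.node WTree.none (.word [4,5,0,2,0,5,2,5,3,2,3,5,2,3,0,2,1,2,0,3,2,4])) WTree.none)) (.word [0,5,2,4,3,5,0,5,2,5,4,5,1,5,2,4,5,0,3,0,3,5,4,2]))) (.node (.node (.node WTree.none (.word [0,3,5,3,5,3,0,5,0,3,1,5,2,3,2,5,4,2,0,5])) WTree.none) WTree.none))) (.node (.node (.node (.node WTree.none (.node WTree.none (.node (.node WTree.none (.word [5,3,2,4,3,2,0,2,5,4,3,5,2,4,0])) WTree.none)))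 (.node (.node (.node (.node (.node WTree.none (.word [5,0,3,4,2,3,2,4,2,3,0,5,2,5,0,2,3,5,3,2,0,5,2])) WTree.none) WTree.none) (.word [2,5,0,3,2,0,2,3,0,5,4,2,0,2,5,2,3,0,2,5,3])) (.node (.node (.node (.node WTree.none (.word [5,1,3,5,3,5,2,3,5,2,3,5,4,1,5,2,3,2,3])) (.word [2,4,1,3,1,0,5,1,2,1,0,2,0,4,1,2,1,4,0,2,0,2])) WTree.none) (.node (.node WTree.none (.word [2,4,1,3,2,1,2,0,2,0,4,2,0,3,0,5,4,1,4,0,5,3,2,0])) WTree.none)))) (.node (.node (.node (.node WTree.none (.word [3,5,3,5,3,4,2,1,2,1,0,2,4,3,1,2,5,0,2,5,0,2])) WTree.none) WTree.none) WTree.none)) (.node (.node (.word [0,5,1,4,5,2,4,3,4,5,4,1,5,0,3,5,4,1,4,5,3]) (.node (.node (.node (.node (.word [1,5,2,1,2,0,1,3,1,4,2,5,4,1,2,1,3,4,2,3,5,2,3]) (.word [2,1,2,1,5,0,1,3,1,0,2,0,4,2,5,4,1,4,1,2,1,5])) WTree.none) (.node WTree.none (.node WTree.none (.word [3,4,2,4,1,3,5,3,1,4,5,2,4,2,5,2,5])))) WTree.none)) (.node (.node (.node (.node (.node (.node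 WTree.none (.word [1,2,3,5,3,1,2,4,1,3,2,1,4,5,3,5,2,5,3,4])) WTree.none) WTree.none) WTree.none) (.node (.node WTree.none (.node WTree.none (.word [4,5,4,1,4,0,5,1,2,4,0,4,2,1,5,0,4,1,4,5,4]))) WTree.none)) (.node WTree.none (.node (.node WTree.none (.word [5,0,3,1,3,5,1,5,2,5,1,2,0,5,0,4,0,3,0,5,1,3,0])) (.node WTree.none (.node WTree.none (.word [3,5,3,5,3,5,4,3,5,0,4,3,5,4,2,4,2,0,3,2,4,2]))))))))))

/-- A subtree. -/
def wt31 : WTree :=
  (.node (.node (.node (.node (.node (.node (.node WTree.none (.node (.node WTree.none (.node WTree.none (.word [4,2,1,2,4,0,4,2,3,5,2,5,2,3,2,4,5,0]))) WTree.none)) (.node (.node (.node WTree.none (.word [1,3,5,3,5,3,1,5,0,3,2,3,0,3,2,3,2,0,2,0,5])) WTree.none) (.node WTree.none (.node WTree.none (.word [5,4,1,5,0,3,0,5,1,4,0,2,0,4,5,3,5,4,0,2,0,5]))))) (.node (.node (.node (.node (.node WTree.none (.word [4,5,1,2,5,4,2,4,5,0,4,1,4,1,5,0,1,2,5,1])) WTree.none) WTree.none)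 WTree.none) WTree.none)) (.node (.node WTree.none (.node (.node WTree.none (.node (.node (.word [5,2,4,5,3,5,4,1,5,4,3,2,5,4,1,2,4,5,3,1]) (.word [0,3,5,2,3,2,5,3,0,4,5,0,2,0,2,4,5,1,4,2,3,5,3,5])) WTree.none)) (.node WTree.none (.node WTree.none (.word [5,0,2,0,5,4,0,4,2,3,1,0,2,3,2,0,1,3,4,0]))))) (.node WTree.none (.node (.node WTree.none (.node WTree.none (.word [5,0,2,0,4,1,4,0,2,0,4,2,3,5,3,2,3,4,1,2,1,2,3,4,3]))) (.node (.node WTree.none (.word [5,0,2,1,2,0,1,5,3,4,5,1,3,2,1,3,5,4,3])) WTree.none))))) (.node (.node (.node (.node (.node WTree.none (.node WTree.none (.node WTree.none (.word [3,2,5,1,3,1,4,3,1,4,5,1,3,4,2,3])))) (.node (.node WTree.none (.word [0,3,5,2,3,2,5,3,0])) WTree.none)) (.node (.node (.word [5,4,2,3,5,1,3,1,2,5,1,0,2,1,5,4,5,2,0,1,2,5]) (.node (.node WTree.none (.word [0,5,3,4,2,4,0,3,0,1,3,2,3,5,0,2])) WTree.none)) WTree.none)) (.node WTree.none (.node (.node WTree.none (.word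 [5,2,4,2,3,5,3,4,0,2,0,4,2,0,3,4,1,2,5,0,4,1])) (.node WTree.none (.word [4,1,4,0,4,1,4,5,0,5,0,1,5,2,0,5,3,0,3,2,0,5,3,0,3,0]))))) (.node (.node (.node (.node (.node (.node (.node WTree.none (.word [5,0,5,2,1,2,3,4,5,1,5,4,3,1,5,0,5])) WTree.none) WTree.none) WTree.none) WTree.none) (.node WTree.none (.word [5,0,4,2,3,5,3,2,0,3,2,4,2,3,1,4,0,3,5,2]))) (.node (.node WTree.none (.node WTree.none (.node (.node WTree.none (.word [0,3,1,3,2,4,3,0,2,4,2,3,4,2,3,0,5,0,3,2,5,3,2,5])) WTree.none))) (.node WTree.none (.node WTree.none (.node WTree.none (.word [2,4,3,1,5,0,5,1,5,0,2,1,2,0,5,3,4,2])))))))) (.node (.node (.node (.node (.node (.node WTree.none (.word [5,0,4,1,3,1,5,2,3,2,3,5,4,2,4,0,1,5])) WTree.none) (.node (.node WTree.none (.node (.node WTree.none (.word [0,3,4,5,1,5,2,0,5,2,0,3,2,3,1,2,0,1,2,5])) WTree.none)) (.node (.node WTree.none (.node WTree.none (.word [4,1,5,1,2,1,5,1,4]))) WTree.none))) WTree.none)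 (.node (.node WTree.none (.node (.node (.node WTree.none (.node WTree.none (.word [0,5,3,1,3,5,0,2,4,3,2,1,5,0,2,0,2,0,1,2,5,2]))) (.node (.node WTree.none (.word [4,5,0,2,0,5,3,1,5,4,2,1,3,2,5,4,2,4])) WTree.none)) WTree.none)) (.node WTree.none (.node WTree.none (.node WTree.none (.node WTree.none (.node WTree.none (.word [0,3,5,1,3,1,5,3,0,3,4,3,1,2,4,3,0,3,4,2,0,4,3,1])))))))) (.node (.node (.node (.node WTree.none (.node WTree.none (.node WTree.none (.node WTree.none (.word [3,5,3,2,3,2,5,4,2,3,4,0,5,4,2,4,5,0,3,1]))))) WTree.none) (.node WTree.none (.node WTree.none (.node WTree.none (.node (.node WTree.none (.word [5,2,1,0,5,4,5,3,4,0,1,2,0,2,5,4,2])) WTree.none))))) (.node (.node WTree.none (.node (.word [1,0,3,4,2,0,1,2,4,3,2,0,5,3,1,5,4,5,1,3,5,0,2]) (.node WTree.none (.word [1,5,1,0,3,1,4,2,3,1,5,1,5,2,0,3,4,1,4,3,5,0,1,2,1,3])))) (.node (.node WTree.none (.node (.node WTree.none (.word [5,1,4,2,5,4,3,5,2,4,2,5,2,1,0,3,2,0,2,0,2,3,0,1,2]))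 WTree.none)) (.node WTree.none (.node (.node WTree.none (.word [5,2,4,2,1,3,5,3,2,1,5,3,4,2,0,5,1,3,1,4,2])) WTree.none))))))) (.node (.node (.node (.node (.node (.node (.node WTree.none (.node WTree.none (.word [1,5,1,0,4,1,2,1,0,3,0,5,1,3,5,0,5,0,3,2]))) (.node WTree.none (.word [2,1,2,1,5,0,1,3,1,4,1,5,0,3,2,0,2,3,0,5,1,2]))) (.node WTree.none (.node (.node (.node WTree.none (.word [1,5,2,1,0,4,2,4,5,0,1,5,4])) WTree.none) WTree.none))) (.node (.node (.node (.node WTree.none (.word [4,3,2,4,2,4,1,2,4,3,4,1,5,2,4,5,4,2])) WTree.none) (.node (.node WTree.none (.word [4,5,1,0,5,4,2,4,0,1,2,5,1])) WTree.none)) WTree.none)) (.node (.node (.node (.node (.word [0,5,2,4,3,5,0,1,0,3,5,2,3,1,2,5,1,4,2,0,1]) (.node WTree.none (.word [2,4,0,2,1,0,3,4,3,2,3,1,5,2,4,1,5]))) WTree.none) (.node (.node WTree.none (.word [2,4,3,0,5,4,0,2,5,0,4,5,0,3,5,2])) (.node (.node (.word [2,1,2,4,2,4,1,4,1,2,4]) (.node WTree.none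 (.word [5,0,3,5,2,1,2,5,3,0,5]))) WTree.none))) (.node (.node (.word [0,5,3,4,2,5,0,1,0,4,1,4,1,5,2,5,3,5,3,5,2,0]) (.node (.node (.node (.node WTree.none (.word [4,5,0,2,0,2,1,5,4,5,0,5,0,2,5,3,2,5,3,1,5,2,0])) WTree.none) (.node WTree.none (.word [4,3,5,2,1,2,5,3,4,1,0,2,4,5,3,5,4,2,0,1]))) WTree.none)) (.node (.node (.node WTree.none (.node WTree.none (.word [2,5,3,2,1,2,4,3,5,2,1,0,3,4,2,3,4,1,2,0]))) WTree.none) (.node (.node (.node (.node WTree.none (.word [1,3,5,3,5,3,1,4,1,4,5,0,4,5,2,5,1,4,0,5,1])) WTree.none) WTree.none) WTree.none))))) (.node (.node (.node (.node (.node WTree.none (.node (.node WTree.none (.word [1,5,0,5,4,1,4,5,4,0,3,4,2,5,0,4,3,2])) WTree.none)) WTree.none) WTree.none) (.node (.node (.node (.node (.node (.node WTree.none (.word [5,0,2,1,2,0,1,0,3,2,3,5,1,2,3,2,4,5,2,4,0,5])) WTree.none) WTree.none) WTree.none) WTree.none) (.node (.node (.word [0,3,1,5,3,5,3,2,4,3,5,2,1,5,1,3,5,3,5,2,0])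 (.word [0,5,3,5,3,5,4,2,5,0,5,1,0,3,2,5,4,2,1,4,5,3,0,5])) (.node WTree.none (.node WTree.none (.word [0,3,5,3,5,3,0,2,4,5,1,3,1,5,4,2])))))) (.node (.node (.node (.node WTree.none (.node (.node WTree.none (.word [3,4,1,0,5,2,1,2,4,0,2,0,2,4,5,1,3,4,0,1])) WTree.none)) (.node WTree.none (.node (.node WTree.none (.word [4,1,0,3,4,1,2,5,2,1,4,1,3,5,1,5,0,4])) WTree.none))) (.node (.node (.node WTree.none (.word [5,2,4,5,3,5,4,2,0,3,5,1,3,5,3,0,5])) WTree.none) (.node (.node WTree.none (.node WTree.none (.word [4,5,0,2,0,5,2,1,4,3,4,2,5,3,2,3,5,2,1,2]))) WTree.none))) (.node WTree.none (.node WTree.none (.node (.node WTree.none (.word [4,5,0,2,1,0,2,5,4,1,5,0,4,2,0,2,0,3,0,2,0,4])) (.node WTree.none (.node WTree.none (.word [5,3,1,3,0,4,2,3,0,4,5,4,0,2,3,0,4,1,5,1]))))))))) (.node (.node (.node (.node (.node WTree.none (.node (.node WTree.none (.node WTree.none (.word [1,5,2,1,5,4,1,0,5,0,5,4,2,5,3,2,3,1])))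 (.node WTree.none (.node WTree.none (.word [0,5,0,4,3,2,1,5,3,5,0,5,0,5,1,3,2,4,2,5,2]))))) (.node WTree.none (.node WTree.none (.node WTree.none (.word [5,0,2,0,4,1,4,0,5,4,5,0,5,1,0,2,1,2,0,2,1,3,4]))))) (.node WTree.none (.node WTree.none (.node (.node WTree.none (.word [1,2,4,5,3,2,4,1,3,5,2,0,2,3,1,5,0,5,2,1,3,0,2])) (.node (.word [1,3,5,3,5,3,5,0,4,5,1,2,5,4,0,5,1]) (.node WTree.none (.word [5,0,5,2,1,2,4,3,5,4,5,2,5,1,3,1,4,0,5]))))))) (.node (.node (.node (.node (.node WTree.none (.node WTree.none (.word [4,5,1,2,5,4,3,5,4,5,4,3,4,5,1,4,5,3]))) WTree.none) WTree.none) (.node (.node (.node (.node WTree.none (.word [5,0,3,4,2,3,2,4,3,0,2,1,4,2,1,3,1,5,1,3,1,2])) (.word [4,5,1,2,0,2,0,5,4,0,3,2,1,5,3,2,4,5,3,1,2,4,0])) WTree.none) (.node WTree.none (.node (.node WTree.none (.word [5,0,2,4,5,0,3,0,5,4,2,0,5])) WTree.none)))) (.node (.node (.node (.node (.node (.node WTree.none (.word [1,5,0,5,4,1,4,0,5,4,2,3,5,2,3,4,2,3,2,0,5]))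 WTree.none) WTree.none) WTree.none) (.node WTree.none (.node WTree.none (.node WTree.none (.word [4,5,2,1,0,2,0,1,2,5,4]))))) (.node (.node (.node WTree.none (.word [3,1,5,3,5,1,2,5,2,5,3,5,2,5,2,3])) WTree.none) WTree.none)))) (.node (.node (.node WTree.none (.node WTree.none (.node (.word [2,4,0,2,3,1,2,3,5,0,2,5,0,3,4,5,1,3,5,2,4,0]) (.node WTree.none (.word [2,5,4,1,4,3,2,3,4,1,4,5,2]))))) (.node (.node (.node (.node (.node (.node (.word [0,2,4,2,1,2,1,3,0,3,4,2,0,3,5,1,3,5,4,2,0]) (.word [2,4,1,5,3,5,1,0,5,4,1,4,3,5,0,4,5,2,1,2,5,0,2])) WTree.none) WTree.none) WTree.none) WTree.none) WTree.none)) (.node (.node (.node (.node WTree.none (.node WTree.none (.node WTree.none (.word [0,5,2,4,5,1,5,1,5,2,3,2,5,4,2,5,0])))) (.node (.node WTree.none (.node WTree.none (.word [5,0,2,4,1,4,5,4,5,0,5,3,2,1,4,5,1,3,5,2,4,2]))) WTree.none)) (.node (.node (.node (.node (.node WTree.none (.word [3,1,5,3,5,1,4,1,0,2,4,1,4,0,2,0,3,4,2,0,3]))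 WTree.none) WTree.none) WTree.none) (.word [3,5,3,5,4,1,0,3,4,1,2,0,2,3,5,1,2,4,1,2,1,5,3,2]))) (.node (.node WTree.none (.node (.node (.node (.node WTree.none (.word [2,4,1,5,3,2,1,4,3,5,3,2,4,1,5,2,1,5,3])) (.word [3,5,3,4,1,2,5,4,1,4,2,5,4,5,4,3])) WTree.none) WTree.none)) (.node (.node (.node WTree.none (.word [4,5,2,1,5,4,2,1,2,4,3,2,3,5,1,3,5,3,1,2,3,4])) WTree.none) WTree.none)))))))

/-- A subtree. -/
def wt32 : WTree :=
  (.node (.node (.node (.node (.node (.node WTree.none (.node WTree.none (.node (.node WTree.none (.word [0,3,5,3,5,3,0,4,1,4,1,0,3,1,2,3,5,3,2,1,5,0])) WTree.none))) (.node (.node (.node WTree.none (.node WTree.none (.word [2,3,0,2,1,2,0,3,0,4,5,2,0,3,0,2,5,4,0,4,5,2,5]))) (.node WTree.none (.node WTree.none (.word [2,1,4,1,4,5,3,2,3,5,1,2])))) WTree.none)) (.node (.node WTree.none (.node (.node (.node WTree.none (.word [0,3,5,4,1,4,5,3,0,2,4,3,0,5,1,4,5,0,4,1,4,5])) WTree.none)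 (.node WTree.none (.node WTree.none (.word [0,3,5,4,1,4,5,3,0,2,4,3,1,0,5,1,5,2,1,5,4,5,0,5]))))) (.node (.node (.node WTree.none (.node (.node WTree.none (.word [5,4,1,4,5,0,4,5,3,1,0,4,0,1,3,5,4,0])) (.word [3,0,3,0,4,3,2,0,2,0,3,2,0,2,5,2,0,1,4,5]))) (.node (.node (.node WTree.none (.word [4,5,1,2,5,4,1,2,5,3,2,1,3,5,1,2,1])) WTree.none) WTree.none)) (.node WTree.none (.node (.node (.node (.node WTree.none (.word [3,5,1,2,1,2,5,3,5,0,2,0,2,1,5,1,5,2,4,3,5,2,3,4])) WTree.none) (.word [5,0,5,2,1,2,5,2,3,5,3,2,4,1,5,4,0,5])) WTree.none))))) (.node (.node (.node (.node WTree.none (.node (.node WTree.none (.word [4,5,0,2,0,5,4,5,2,1,4,1,2,3,5,1,3,2])) WTree.none)) (.node (.node WTree.none (.node (.node (.word [0,5,4,2,3,4,3,2,3,2,5,3,2,0,2,3,4,0,4,2,0,4,0,3]) (.word [5,0,2,1,2,5,2,5,3,5,3,1,4,5,1,3,0,5])) WTree.none)) (.node (.node WTree.none (.node (.word [5,4,2,3,5,1,3,5,3,2,4,2,3,1,2,5,2]) (.word [3,5,2,3,4,2,3,5,0,4,5,4,0,3,0,1,4,0,3,4])))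 WTree.none))) (.node (.node (.node (.node (.node (.node WTree.none (.word [1,5,2,1,4,2,3,1,5,3,2,4,2,4,0,3,2,3,0,4,2,4])) WTree.none) (.word [0,3,1,3,2,4,3,0,2,1,4,0,2,0,5,0,1,5,3,4,2,4])) (.node WTree.none (.node WTree.none (.word [3,4,1,5,3,4,2,3,4,3,1,4,5,2,0,5,1])))) WTree.none) (.word [1,2,4,5,3,2,4,1,3,5,3,2,1,4,2,5,2,5,2,3]))) (.node (.node (.node (.node WTree.none (.node WTree.none (.node WTree.none (.word [5,3,4,1,2,0,5,4,2,4,3,2,4,5,1,2,4,5,3])))) WTree.none) WTree.none) (.node (.node (.node (.word [2,3,5,1,4,1,2,4,5,2,3,2,1,4,5,2,1,4,5]) (.word [2,3,2,5,1,2,4,2,3,4,2,5,4,2,4,3])) WTree.none) WTree.none)))) (.node (.node (.node (.node WTree.none (.node WTree.none (.node (.node (.node WTree.none (.word [1,3,5,3,5,4,2,4,3,1,3,0,5,3,4,0,2,4,5,0,2,3,4])) WTree.none) (.node WTree.none (.node WTree.none (.word [4,3,5,0,5,3,5,0,5,3,4,5,0,4,5,3,0,3,0,3,5,4,0,5])))))) (.node (.node (.node (.node WTree.none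 (.word [5,2,1,2,0,5,2,4,5,2,1,4,3,0,5])) WTree.none) (.node WTree.none (.word [3,5,1,2,1,5,3,1,2,5,3,0,5,3,4,1,2]))) (.node WTree.none (.node WTree.none (.node (.node WTree.none (.word [3,5,3,5,3,2,1,2,3,0,4,1,0,2,0,4,0,2,4,3])) WTree.none))))) (.node (.node (.node WTree.none (.node WTree.none (.node WTree.none (.word [3,5,4,1,4,5,1,3,5,0,2,4,1,4,0,5,3,1,3])))) (.node (.node (.node (.word [5,2,4,5,3,5,4,2,0,3,1,5,3,5,1,3,0,5]) (.node WTree.none (.word [1,3,4,0,5,4,1,4,0,4,2,1,0,5,2,1,2,5,0]))) (.node (.node WTree.none (.word [4,2,1,3,1,5,3,2,1,4,0,2,5,4,5,0,5])) (.node WTree.none (.word [4,5,2,1,5,4,1,2,5,3,1,2,3,1,5,2,1])))) WTree.none)) (.node (.node WTree.none (.node (.node WTree.none (.node WTree.none (.word [5,0,2,4,1,4,2,0,1,3,5,2,0,3,5,3,0,2,5,3,5]))) WTree.none)) (.node WTree.none (.node (.node (.node WTree.none (.word [2,4,1,3,0,2,0,4,2,1,3,0,4,1,0,2,5,0,4,0,4,3])) WTree.none) WTree.none))))) (.node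 (.node (.node (.node (.node WTree.none (.node WTree.none (.node WTree.none (.word [1,0,5,4,5,2,5,4,0,2,0,2,3,5,1,3,2,4,2,4,0])))) WTree.none) WTree.none) (.node (.node (.node WTree.none (.node WTree.none (.word [0,3,5,3,5,3,0,5,0,5,3,5,3,1,5,3,5,0,5]))) (.node WTree.none (.node WTree.none (.node WTree.none (.word [2,1,4,3,0,5,1,5,0,3,0,3,0,1,3,0,4,1,2]))))) (.node (.node WTree.none (.word [4,5,0,2,0,5,2,5,3,2,3,4,5,0,5,3,2,4,3,2,0])) (.node (.node (.node WTree.none (.word [1,4,5,2,5,4,1])) (.word [4,3,2,1,5,3,4,3,5,2,5,0,3,5,0,2,5,2])) WTree.none)))) (.node (.node (.node WTree.none (.node WTree.none (.node WTree.none (.word [5,3,4,2,0,5,1,3,1,4,3,4,1,3,5,0,5,3,0,5,2,5,2,3,5])))) (.node (.node WTree.none (.node WTree.none (.node WTree.none (.word [5,4,3,5,1,2,5,0,3,1,3,1,5,1,5,0,5,3])))) (.word [1,2,4,2,5,2,3,2,4,3,0,5,2,0,3,1,5,1,2,3,4,0,1]))) (.node (.word [0,4,3,2,5,3,0,3,5,2,3,4,0]) (.node WTree.none (.node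 (.node (.node WTree.none (.word [1,2,1,3,5,1,3,2,4,5,1,0,2,0,4,0,3,2,0,2,3,1,2])) WTree.none) WTree.none))))))) (.node (.node (.node (.node (.node WTree.none (.node WTree.none (.node (.node (.node WTree.none (.word [5,1,2,1,0,2,0,5,3,1,3,4,5,0,2,0,1,2,1,5])) (.node WTree.none (.word [0,3,1,5,3,5,1,3,0,4,5,1,0,2,0,2,0,2,0,1,5,4]))) (.node (.word [0,3,5,3,5,3,0,2,4,0,3,4,2,0,4,3,1,2,3,1]) (.node WTree.none (.word [5,0,2,1,2,0,1,0,2,0,5,0,2,3,0,2,0,3,2,0])))))) (.node (.node (.node (.node (.node (.node WTree.none (.word [1,0,2,1,4,2,5,2,3,4,5,1,5,4,5,0,4,1,4])) WTree.none) WTree.none) WTree.none) WTree.none) (.node WTree.none (.node (.node WTree.none (.word [0,2,1,4,3,0,1,2,4,3,5,0,5,4,5,0,4,5,1,2,3,2,5,3,5,4])) (.node WTree.none (.node WTree.none (.word [3,5,4,1,2,1,4,3,5,3,5,4,5]))))))) (.node (.node (.node (.node WTree.none (.node WTree.none (.word [4,5,2,1,0,3,2,3,0,5,0,5,0,5,2,5,3,2,3,4,1]))) WTree.none)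 (.node (.node WTree.none (.word [5,2,4,2,3,5,3,2,4,1,0,4,1,4,3,0,5,3,5,4,0,2,0])) WTree.none)) (.node (.word [1,5,1,0,3,2,1,2,4,5,2,4,3,4,5,3,2,3,5,1,2,4,5]) (.node WTree.none (.node (.node WTree.none (.word [4,5,0,2,0,2,4,5,1,4,2,3,5,3,5])) (.node WTree.none (.word [3,0,3,2,5,1,0,2,5,3,5,0,4,2,5,2,1,5,4,5,0,3,1]))))))) (.node (.node (.node (.node (.node WTree.none (.node WTree.none (.node WTree.none (.word [4,1,4,5,0,5,0,5,4,2,5,4,2,4,5,1,3,1,2,4])))) WTree.none) WTree.none) (.node (.node (.node WTree.none (.node WTree.none (.node WTree.none (.word [4,3,5,0,5,3,5,0,5,3,4,0,5,1,2,5,2,5,2,5,4,3,0])))) WTree.none) (.node WTree.none (.node WTree.none (.node (.node WTree.none (.word [0,5,3,1,3,5,0,2,5,2,5,4,1,3,2,4,3,0,2,0,3,4,2])) WTree.none))))) (.node (.node (.node (.node (.node (.node (.node WTree.none (.word [4,5,1,2,5,4,2,1,2,3,2,3,0,2,3,2,3,0,1,2])) WTree.none) WTree.none) (.node WTree.none (.node WTree.none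 (.word [2,5,2,0,5,4,5,0,5,2,0,3,0,5,3,2,3,0,2,3,5,0,3,0])))) (.node WTree.none (.node WTree.none (.node WTree.none (.word [4,5,1,2,5,4,5,2,5,3,2,3,5,2,4,5,2,5,4,5]))))) (.node WTree.none (.node WTree.none (.node (.node WTree.none (.word [1,4,0,4,1,4,5,0,5,2,5,0,3,2,0,4,1,4,5,2,3,0])) WTree.none)))) (.node WTree.none (.node WTree.none (.node WTree.none (.node WTree.none (.node WTree.none (.word [3,5,3,5,3,4,2,5,3,2,3,5,2,4,5,0,5,4,5,0,5]))))))))) (.node (.node (.node (.node (.node (.node WTree.none (.word [3,5,1,3,1,5,3,0,4,5,2,1,2,1,5,4,0])) WTree.none) (.node WTree.none (.node WTree.none (.node WTree.none (.word [5,3,4,3,1,5,3,2,3,1,0,2,5,1,4,5,0,5]))))) (.node (.node WTree.none (.node (.node WTree.none (.node WTree.none (.word [1,5,2,0,2,5,4,1,0,4,1,2,5,0,2,4,5,1]))) WTree.none)) (.node (.word [5,2,5,1,0,4,0,5,2,3,4,0,4,1,3,5]) (.node (.node (.node (.node WTree.none (.word [4,5,0,2,0,5,4,5,2,4,2,3,5,3,2]))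 (.word [4,3,5,4,3,5,1,3,4,1,4,2,1,2,0,3,5,4,3,0,4,0])) WTree.none) WTree.none)))) (.node (.node (.node WTree.none (.node (.node (.node WTree.none (.word [4,5,2,1,5,4,1,5,1,2,1,0,4,0,3,5,4,2,0,2,5,0,2,4])) (.word [5,3,4,3,1,5,3,2,4,2,5,0,2,5,4,3,2,3,4,0,5,3,1,4,2,1])) WTree.none)) (.node (.node (.node (.node (.node WTree.none (.word [3,2,4,3,1,5,1,3,4,5,2,3])) WTree.none) WTree.none) WTree.none) (.node (.node (.node WTree.none (.word [2,1,2,1,5,0,4,2,5,3,1,4,5,3,4,2,1,3])) WTree.none) WTree.none))) (.node (.node WTree.none (.node WTree.none (.node (.node WTree.none (.word [4,5,1,2,0,2,0,3,2,5,2,3,2,5,4,5,1])) WTree.none))) (.node (.node (.node (.word [3,5,3,5,3,0,4,1,5,3,1,3,1,5,4,0]) (.word [3,5,3,4,5,2,5,2,1,4,5,1,4,3,1])) WTree.none) WTree.none)))) (.node (.node (.node WTree.none (.node WTree.none (.node WTree.none (.node (.node WTree.none (.word [5,0,2,0,4,1,4,5,2,1,2,3,0,5,4,3,0,4,5,2,5,3,0,2])) WTree.none))))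 (.node (.node (.node (.node WTree.none (.node WTree.none (.word [5,1,2,1,0,5,4,1,4,1,4,5,0,1,2,1,5]))) WTree.none) WTree.none) (.node (.node (.node (.node (.node WTree.none (.word [0,2,5,3,5,3,1,5,1,2,5,3,4,3,2,4,1,4,1,2,3,2,0])) WTree.none) WTree.none) (.node WTree.none (.node WTree.none (.word [4,5,2,0,3,2,1,3,2,0,5,2,4,3,5,3,4,2,4,5,4,3,5,3])))) WTree.none))) (.node (.node (.node WTree.none (.node WTree.none (.node (.node WTree.none (.word [])) WTree.none))) WTree.none) (.node WTree.none (.node WTree.none (.node WTree.none (.node (.node WTree.none (.word [3,2,3,5,2,5,0,1,5,4,5,1,0,5,0,5,0,5,3,2,3])) WTree.none)))))))))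

/-- A subtree. -/
def wt33 : WTree :=
  (.node (.node (.node (.node (.node (.node WTree.none (.node WTree.none (.node WTree.none (.node WTree.none (.word [3,1,5,4,5,4,3,4,5,4,5,1,3]))))) (.node WTree.none (.node (.node WTree.none (.node (.node WTree.none (.word [2,4,1,5,3,2,4,3,5,3,2,1,4,5,2,5,1,3,1])) WTree.none)) (.node WTree.none (.node (.node WTree.none (.word [2,1,2,4,2,4,1,4,1,2,4,0,3,5,2,3,2,5,3,0])) WTree.none))))) (.node (.node (.node (.node WTree.none (.node (.word [3,4,0,5,4,1,0,4,5,0,4,5,2,3,1,4,2,4,2,5,1,4,2]) (.node (.word [3,5,3,5,3,1,5,3,2,3,2,5,1,3,5,3,5,3,4,5,0,2,0,5]) (.word [3,5,1,2,1,2,5,3,1,0,4,1,4,5,3,4,2,5,3,4,2,0])))) (.node (.node (.node WTree.none (.word [4,5,0,2,0,5,4,5,0,5,2,0,2,0,2,0,5,0,5,0,4,0])) WTree.none) (.node WTree.none (.word [1,5,3,1,3,0,2,0,1,3,4,0,4,3,1,4,2,0,4,0,5,2])))) WTree.none) (.node (.node (.node (.node (.node (.node WTree.none (.word [4,5,0,2,1,0,2,3,2,5,2,4,3,5,4,5,1]))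 WTree.none) WTree.none) WTree.none) (.node (.node (.node WTree.none (.word [1,5,2,1,5,1,5,4,5,1,2,3,2,5,3,5])) (.word [1,0,3,4,2,0,1,2,4,1,3,0,5,2,1,2,0,2,4,3,1])) WTree.none)) WTree.none))) (.node (.node (.node (.node WTree.none (.node (.node (.node WTree.none (.word [5,1,2,1,0,5,0,2,4,0,4,2,1,5,4,0,2,0,3,0,2])) (.word [2,1,4,3,5,0,5,0,2,5,1,2,5,0,3,5,3,0,2,5,2,4])) (.word [0,5,3,5,3,5,3,5,0,3,1,0,2,4,5,0,5,4,2,0,1,3]))) WTree.none) (.node WTree.none (.node (.node WTree.none (.word [3,5,3,5,3,5,0,5,2,0,2,4,2,4,3,2,5,4,3,0,1])) (.node WTree.none (.node WTree.none (.word [5,1,4,5,1,5,1,4,5,1])))))) (.node (.node (.node (.node WTree.none (.node WTree.none (.word [5,0,5,2,1,2,4,5,0,5,3,2,5,1,4,2,4,5,3,4]))) (.node WTree.none (.node (.node WTree.none (.word [2,4,3,0,5,4,5,0,1,4,2,1,2,0,2,3,4,2,3,5,0,2,3])) WTree.none))) (.node (.node (.node WTree.none (.word [2,4,3,0,5,4,5,0,3,4,2,3,1,4,2,5,3,1,5,4,5,4,5,3,1]))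 (.node (.node WTree.none (.word [5,0,5,2,1,2,5,0,5,1,5,1,0,4,2,1,5,4,3,5,2,3])) WTree.none)) (.node WTree.none (.node (.node WTree.none (.word [2,3,2,4,0,3,0,2,3,2,5,3,5,0,5,2,3,2,5,3,4,0])) WTree.none)))) (.node (.node (.node WTree.none (.word [5,1,5,4,1,5,2,1,5,4,1])) (.node WTree.none (.node WTree.none (.node WTree.none (.word [5,0,2,5,2,1,2,5,0,5,0,5,0,2,3,5,4,5,4,1]))))) WTree.none)))) (.node (.node (.node (.node WTree.none (.node (.node WTree.none (.word [4,5,1,3,2,3,5,1,4,3,2,5,3,4,5])) (.node WTree.none (.node WTree.none (.word [5,0,4,2,3,5,3,2,4,2,0,3,5,3,5,3,0,5,4,0,5]))))) (.node WTree.none (.node (.node WTree.none (.word [2,4,1,5,3,2,1,3,2,4,2,3,4,2,4,3,2,4,5,3])) (.node (.node (.node (.node WTree.none (.word [3,1,5,3,5,1,3,5,2,5,3,2,3,2,4,2,4,1,3,2])) WTree.none) WTree.none) WTree.none)))) (.node (.node (.node (.node (.node (.node (.node WTree.none (.word [2,3,4,3,5,1,5,2,0,5,0,3,2,5,2,3,2,5]))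 WTree.none) WTree.none) WTree.none) (.node WTree.none (.node WTree.none (.node WTree.none (.word [4,5,2,1,5,4,5,4,0,5,0,4,1,2,5,0,3,0,3,2]))))) (.node (.node (.node WTree.none (.word [5,3,4,1,2,0,5,0,1,5,1,3,2,5,1,3,2,4,3,2,4,5])) WTree.none) WTree.none)) (.node (.node (.word [4,5,1,2,0,2,0,5,4,0,4,3,5,2,1,2,5,3,4,0]) (.word [1,0,2,1,4,2,5,2,3,4,5,4,3,1,4,5,1,4,5,0,1])) (.node (.node (.node WTree.none (.word [2,4,2,1,2,4,1,5,3,2,3,5,2])) WTree.none) (.node WTree.none (.node WTree.none (.node WTree.none (.word [4,5,2,1,5,2,4,1,0,2,5,1,2,4,3,0,2,0,4,1,2])))))))) (.node (.node (.node WTree.none (.node WTree.none (.node WTree.none (.word [1,3,5,3,5,3,0,4,1,4,5,4,1,2,4,3,1,5,4,2,3,2,0])))) (.node (.node (.node (.node WTree.none (.node WTree.none (.word [1,5,0,2,3,4,1,0,5,2,4,3,0,4,1]))) WTree.none) (.node WTree.none (.node WTree.none (.word [4,5,1,2,0,2,0,5,3,1,2,5,2,4,3,5,3,4,3])))) (.node WTree.none (.node WTree.none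 (.node (.node WTree.none (.word [3,1,2,4,3,1,2,4,2,5,4,5,4,3,4,2,3,5,4,5])) WTree.none))))) (.node (.node WTree.none (.node WTree.none (.node WTree.none (.node WTree.none (.word [5,1,5,1,4,5,1,2,5,1,4]))))) WTree.none)))) (.node (.node (.node (.node (.node (.node WTree.none (.node (.node (.node (.node WTree.none (.word [0,2,5,4,3,4,5,2,0,5,2,0,5,1,5,4,1,3,5,2,1,3,4])) WTree.none) WTree.none) (.word [3,2,3,4,2,4,3,2,3,5,2,3,0,4,0,5,0,5,0,2,4,2,0,2]))) (.node (.node (.node (.node (.node WTree.none (.word [0,5,2,4,5,1,3,1,5,4,2,5,0])) WTree.none) WTree.none) WTree.none) (.node WTree.none (.node WTree.none (.node WTree.none (.word [3,2,3,4,2,4,3,2,3,1,4,3,2,5,4,5,4,2,3])))))) (.node (.node WTree.none (.node (.node (.node (.node WTree.none (.word [4,3,1,5,3,4,5,3,4,2,4,1,3,1,2,0,5,1,3,0,3])) WTree.none) (.node WTree.none (.word [0,3,1,2,1,2,4,2,0,3,0,2,5,0,5,0,1,5,0,5,2,0,3]))) (.word [1,0,3,5,1,3,5,3,4,1,4,0])))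 WTree.none)) (.node (.node (.node (.node WTree.none (.node WTree.none (.node WTree.none (.word [3,5,1,3,1,0,5,3,5,0,5,2,1,3,4,0,3,5,4,5,2])))) (.node WTree.none (.node WTree.none (.node WTree.none (.word [3,2,3,4,2,4,3,2,1,3,5,3,4,5,4,5,4,1,5,2]))))) (.node (.node WTree.none (.node (.node WTree.none (.word [0,3,5,4,1,4,5,1,5,2,3,2,1,3,5,3,0])) WTree.none)) WTree.none)) (.node (.node WTree.none (.node (.node (.node (.node WTree.none (.word [3,4,1,5,1,3,5,4,3,5,2,1,0,4,5,0,3,0,5,1,4,0,5])) WTree.none) WTree.none) WTree.none)) (.node WTree.none (.node (.node WTree.none (.word [3,1,5,3,5,1,3,2,4,3,1,0,5,1,5,2,5,4,5,0,1,5])) WTree.none))))) (.node (.node (.node (.node (.node WTree.none (.node (.node WTree.none (.word [5,4,2,1,3,4,1,2,4,5,0,5,1,2,5,3,0,4,0,1,2,3])) WTree.none)) WTree.none) WTree.none) (.node (.node WTree.none (.node WTree.none (.node WTree.none (.word [1,3,5,3,1,5,3,4,1,4,0,4,3,0,2,1,2,0,3,4,0]))))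 (.node WTree.none (.node (.node WTree.none (.node (.word [4,3,0,2,1,2,0,3,4,5,0,2,4,3,0,5]) (.word [4,5,2,1,5,4,2,4,0,3,1,3,5,1,2,1,4,0,4,2,1]))) WTree.none)))) (.node (.node (.node (.node (.node (.node WTree.none (.word [2,4,5,2,1,3,2,0,3,2,3,2,0,3,1,5,3])) WTree.none) (.node WTree.none (.node WTree.none (.word [5,0,2,5,2,1,2,5,2,5,1,2,5,3,5,3,4,5,3,0,5])))) WTree.none) (.node (.node (.node WTree.none (.word [4,5,1,2,5,4,5,3,4,2,3,5,3,5,3,2,4,3,5])) (.word [4,5,0,2,0,2,1,0,3,2,3,0,5,0,3,5,1,3,5,3,5,0,4])) WTree.none)) (.node WTree.none (.node WTree.none (.node (.node WTree.none (.word [5,0,2,5,3,1,3,5,2,5,4,0,3,2,1,4,3,5,2,0,2,1,4])) WTree.none)))))) (.node (.node (.node (.node (.node (.node (.node (.node WTree.none (.word [5,2,1,3,2,3,4,2,0,5,2,0,5,4,5,3,0,3])) WTree.none) (.node WTree.none (.word [3,0,3,1,5,1,0,2,0,1,4,1,3,1,2,5,2,4,2,3]))) WTree.none) WTree.none) (.node WTree.none (.node (.node WTree.none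 (.word [0,3,1,3,2,4,3,0,1,5,0,5,3,2,0,2,0,4,3,5,4])) (.word [2,1,4,1,3,4,2,3,2,3,4,5,3,2,3,4,5])))) (.node (.node (.node (.node WTree.none (.word [1,2,4,2,5,2,3,2,4,3,5,2,4,3,1,0,2,5,4,1,5,0,5])) WTree.none) WTree.none) (.node (.node (.node WTree.none (.node WTree.none (.word [4,5,1,3,2,3,5,2,3,0,5,1,3,4,2,1,3,4,3,0]))) WTree.none) (.node (.node (.node (.node (.node WTree.none (.word [5,0,2,1,3,1,5,3,2,4,5,4,0,5])) WTree.none) WTree.none) WTree.none) WTree.none)))) (.node (.node (.node (.node (.node WTree.none (.node (.node WTree.none (.word [5,0,3,1,3,5,1,5,2,5,4,5,0,5,2,4,2,3,1,5,2,4,5,3])) WTree.none)) (.node (.node (.node (.node WTree.none (.word [4,5,2,1,5,3,1,5,4,5,3,0,4,5,4,3,0,2,4,5,0,2])) WTree.none) WTree.none) WTree.none)) WTree.none) (.node (.node (.node (.node WTree.none (.word [2,5,3,1,2,4,2,3,5,1,2,1,5,1,0,2,0,1,5,1,3,0,3])) WTree.none) (.word [4,5,2,1,5,4,5,1,2,0,2,1,2,3,2,3,0,1,2,1,5])) (.node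 WTree.none (.node WTree.none (.node WTree.none (.word [5,3,4,5,3,4,1,2,3,5,2,0,4,5,3,2,4,2,5,4,2,0,5])))))) (.node (.node WTree.none (.node WTree.none (.node WTree.none (.node (.node WTree.none (.word [4,5,2,1,5,4,3,5,1,4,5,4,3,4,5,4,1,5,3])) WTree.none)))) (.node (.node (.node (.word [0,4,2,3,0,1,2,4,2,0,1,3,2,4,0]) (.node WTree.none (.node WTree.none (.word [1,3,4,1,2,4,3,5,3,4,2,1,5,4,2,4])))) WTree.none) WTree.none))))))

/-- Points. -/
def levX3pts0 : List ℕ := [38,60,88,94,101,102,107,113,121,127,140,146,169,186,188,205,209,214,237,351,352,363,414,422,428,434,441,446,463,488,522,525,547,548,559,596,620,624,625,627,651,657,668,672,674,677,678,695,715,716,719,720,722,723,724,726,728,729,774,775,787,839,841,864,901,923,954,974,978,1060,1094,1097,1105,1116,1119,1154,1185,1195,1198,1203,1206,1207,1224,1259,1261,1262,1278,1297,1298,1299,1312,1325,1332,1350,1379,1402,1409,1425,1448,1460,1472,1477,1486,149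5,1497,1504,1505,1506,1509,1511,1512,1524,1526,1527,1530,1532,1540,1542,1551,1571,1573,1574,1587,1601,1625,1633,1647,1716,1762,1764,1768,1827,1833,1844,1849,1856,1857,1879,1883,1922,1923,1931,1933,1934,1950,1953,1954,1979,1996,2003,2006,2015,2021,2034,2063,2064,2103,2114,2116,2132,2196,2222,2236,2323,2324,2339,2340,2349,2376,2380,2384,2401,2403,2430,2437,2438,2441,2460,2477,2484,2488,2509,2521,2537,2544,2552,2553,2580,2582,2583,2591,2614,2657,2676,2680,2698,2705,2706,2720,2722]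

/-- Points. -/
def levX3pts1 : List ℕ := [2727,2729,2730,2732,2739,2740,2755,2820,2844,2867,2870,2877,2925,2930,2952,2968,2972,2973,2990,2995,2997,3007,3011,3017,3029,3034,3035,3069,3118,3144,3160,3163,3165,3241,3242,3248,3302,3330,3342,3364,3390,3399,3405,3412,3430,3433,3452,3460,3461,3466,3472,3473,3494,3510,3543,3552,3602,3605,3609,3619,3623,3633,3636,3637,3639,3646,3665,3669,3696,3700,3711,3724,3753,3769,3772,3796,3805,3816,3854,3866,3879,3883,3893,3912,3929,3950,3955,3973,3975,3977,4000,4020,4037,4046,4074,4075,4085,4086,4092,4128,4139,4144,4146,4149,4164,4165,4177,4182,4190,4195,4206,4220,4231,4236,4252,4269,4286,4292,4317,4324,4335,4359,4376,4383,4388,4423,4454,4455,4456,4468,4478,4508,4555,4557,4577,4582]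

/-- A level. -/
def levX3 : Level :=
  ⟨2877, (.node (.node (.node (.node (.node (.node (.node WTree.none (.node (.node WTree.none (.node WTree.none (.node WTree.none (.word [0,2,4,1,3,1,2,1,2,5,0,3,4,3,1,5,4,5,2,4])))) (.node WTree.none (.node (.node WTree.none (.word [1,5,3,1,3,5,3,4,0,4,1,5,2,5,4,0,4,3,1])) WTree.none)))) (.node (.node (.node (.node (.node (.node (.node WTree.none (.word [2,5,3,2,4,2,3,5,2,3,1,3,5,0,2,0,5,3,1,3])) WTree.none) WTree.none) WTree.none) (.node (.node WTree.none (.word [5,3,4,1,2,5,3,4,1,4,3,0,5,1,4,1,5,0,3,4,2])) WTree.none)) (.node (.node WTree.none (.node (.node (.word [3,5,3,1,3,2,3,1,2,5,1,2,1,3,0,3,4,2,1,3,0,3]) (.word [2,5,0,4,0,3,0,4,0,5,2,4,3,5,1,4,1,2,3,2,5,4,2,4])) WTree.none)) (.node WTree.none (.node WTree.none (.node WTree.none (.word [2,4,2,3,5,1,3,2,5,4,2,5,4,2,5,1,3,5,2,5,3,2])))))) (.node (.node WTree.none (.node (.word [5,0,3,4,2,3,2,4,3,0,2,4,1,2,1,3,1,5,3,1,2])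 (.word [0,3,5,2,3,2,5,3,0,4,1,5,1,2,1,5,1,4]))) (.node WTree.none (.node (.node WTree.none (.node (.word [4,2,1,4,1,5,0,5,4,2,3,5,0,3,4,1,5,1,4,2,3,0]) (.word [0,5,4,3,2,1,0,2,0,3,5,3,2,3,2,5,4,5,2,3,2,3,0]))) WTree.none))))) (.node (.node (.node (.node (.node (.node (.node WTree.none (.word [5,2,1,5,2,1,2,5,2,5])) WTree.none) WTree.none) WTree.none) (.node WTree.none (.node (.node WTree.none (.node WTree.none (.word [3,5,4,1,4,5,1,5,4,3,5,3,5,4,5,0,3,0,5,4,1,2,5]))) WTree.none))) (.node (.node WTree.none (.node (.node (.node WTree.none (.word [4,2,4,0,2,0,3,0,2,0,4,2,4])) WTree.none) WTree.none)) (.node (.node WTree.none (.word [4,3,5,2,1,2,5,3,1,5,0,3,1,4,5,0,2,0,2,0,5,2,4])) WTree.none))) (.node (.node (.node (.node (.node (.node (.node WTree.none (.word [0,3,5,3,5,3,0,2,4,5,3,5,4,2])) WTree.none) WTree.none) WTree.none) WTree.none) (.node (.node (.node WTree.none (.node WTree.none (.word [3,5,1,3,1,5,3,5,0,3,5,3,5,3,0,5])))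 WTree.none) WTree.none)) (.node (.node (.node WTree.none (.node (.word [4,5,1,2,5,1,3,2,1,3,5,3,5,1,3,2,3,4]) (.node WTree.none (.word [5,2,5,4,1,4,1,3,2,3,5,2,5,0,4,1,4,0])))) WTree.none) (.node WTree.none (.node (.node (.node WTree.none (.word [2,5,3,2,4,2,3,5,2,5,0,5,2,5,3,5,3,4,5,1,3,0,5])) WTree.none) WTree.none)))))) (.node (.node (.node (.node WTree.none (.node WTree.none (.node WTree.none (.node (.node WTree.none (.word [3,0,5,4,2,4,0,1,2,3,0,2,3,1,5,0,5,4,5,0,2,0])) WTree.none)))) (.node (.node (.node (.node WTree.none (.node WTree.none (.word [5,4,5,3,5,3,4,1,2,1,4,5,3]))) WTree.none) (.node (.node (.node WTree.none (.word [4,5,1,2,0,2,0,1,3,2,1,5,2,3,2,5,4,1,5])) WTree.none) (.node WTree.none (.node WTree.none (.word [0,4,2,0,3,0,3,0,2,4,0,4,1,5,0,5,0,5,0,5,1,4]))))) (.node (.node (.node WTree.none (.word [4,3,1,5,3,4,5,3,4,3,4,0,2,0,4,0,2,0,4,3])) WTree.none) WTree.none))) (.node (.node WTree.none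 (.node WTree.none (.node (.node WTree.none (.word [1,2,5,3,2,3,5,2,1])) WTree.none))) (.node (.node WTree.none (.node (.node (.node (.node WTree.none (.word [5,0,5,2,4,1,4,2,4,5,0,5,2,4,2,3,5,2,1,4,5,3])) WTree.none) WTree.none) WTree.none)) (.node (.node WTree.none (.node WTree.none (.node (.word [2,5,0,5,0,4,0,5,0,5,0,2,5,2,0,5,1,5,4,0,4,2]) (.word [4,5,1,2,5,4,5,2,5,1,5,4,5,2,3,2,5,3,5])))) (.node (.node (.word [3,2,1,2,0,3,5,0,5,4,3,1,5,1,2,4,2,3,4,0,2,1,2,0]) (.word [4,3,1,2,5,1,3,4,0,2,0,1,2,1,0,2,4,0,5,1,2,0,5,2,0,4])) WTree.none))))) (.node (.node (.node (.node WTree.none (.node (.node (.node (.node WTree.none (.word [3,5,4,1,5,3,2,1,2,1,0,3,5,1,4,3,0,1,4,0])) WTree.none) WTree.none) WTree.none)) (.node WTree.none (.node WTree.none (.node (.node WTree.none (.word [0,3,4,1,2,1,3,1,4,2,4,2,0,3,2,4,2,3,0,2,4,0])) WTree.none)))) (.node (.node (.node (.node (.word [3,4,2,1,0,3,4,1,2,0,4,2,3,2,1,5,2,5,3,2,1,4])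 (.node WTree.none (.word [3,4,2,4,3,5,3,4,1,2,5,1,4,2,4]))) WTree.none) WTree.none) (.node (.node WTree.none (.word [0,2,3,1,4,5,2,4,1,2,5,4,3,1,2,4,0])) WTree.none))) (.node (.node WTree.none (.node WTree.none (.node (.node (.node WTree.none (.word [3,0,4,3,0,2,0,3,4,0,2,4,3,2,0,2,0,2,3,4,2,3])) WTree.none) WTree.none))) (.node (.node (.node WTree.none (.node (.node WTree.none (.word [4,5,1,2,0,2,0,5,4,2,4,5,2,1,3,1,2,5,3])) WTree.none)) WTree.none) (.node WTree.none (.node (.node (.node WTree.none (.word [4,1,4,5,2,0,4,2,0,4,5,3,4,1,2,3,0,2,3,4,2])) WTree.none) WTree.none))))))) wt30) wt31) (.node wt32 wt33)), levX3pts0 ++ levX3pts1⟩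

/-- A subtree. -/
def wt34 : WTree :=
  (.node (.node (.node (.node (.node (.node (.node (.node WTree.none (.node WTree.none (.word [2,5,1,4,3,4,5,2,3,5,2,5,1,4,2,3,2,3,0,5,3,5,3,5,0,4,2,3]))) WTree.none) WTree.none) (.node (.node WTree.none (.node (.node WTree.none (.node WTree.none (.word [4,5,0,2,0,5,4,5,2,1,0,5,1,2,1,4,0,1,4,2,5,0,1,4,2,4]))) WTree.none)) WTree.none)) WTree.none) (.node WTree.none (.node (.node (.node WTree.none (.node (.node (.node WTree.none (.node WTree.none (.word [5,3,4,5,4,3,1,3,5,4,5,3,5,4,2,4,5,2,0,4,2,4,3,0,4,3,5,0,2,0,3]))) WTree.none) WTree.none)) (.node (.node (.node WTree.none (.word [1,2,5,3,2,3,5,2,1,4,5,0,2,0,5,4,5,3,2,3,0,2,5,1,5,0,1,4,2,4,2,4,3,4,1,2])) WTree.none) WTree.none)) (.node WTree.none (.node WTree.none (.node (.node (.word [4,3,5,2,1,2,5,3,4,2,4,5,2,4,3,0,5,0,2,0,4,3,1,2,0,1,2,0,3,4]) (.node (.node WTree.none (.word [1,2,5,3,2,3,5,2,3,5,3,5,3,1,5,2,1,3,2,3,5,0,3,2,0,2,3,0,3,4,1,3]))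 WTree.none)) WTree.none)))))) (.node (.node (.node WTree.none (.node (.node WTree.none (.node WTree.none (.word [0,2,1,4,1,3,5,1,5,0,2,4,5,0,4,3,2,5,3,2,1,2,5,0,2,0,2,1,5,2,1]))) (.node (.node WTree.none (.word [5,0,2,1,0,4,1,4,0,2,0,3,4,2,3,5,0,5,3,4,2,1,4,3,2,1,2,5,2,0,2,5])) (.node (.node (.node WTree.none (.word [0,3,5,2,3,2,5,3,2,4,5,3,5,4,2,0,3,2,4,1,3,1,5,3,4,5,2,3])) WTree.none) (.node WTree.none (.node (.node WTree.none (.word [5,3,0,4,5,0,2,3,0,2,4,3,4,2,4,3,0,4,2,4,2,3,2,5,0,3,4])) WTree.none)))))) (.node (.node (.node (.node (.node (.node (.node (.node WTree.none (.word [0,2,1,2,4,2,4,5,0,5,2,5,4,3,5,2,5,0,1,5,0,3,4,0,5,4,0,3,1,3,4,0,1])) WTree.none) WTree.none) WTree.none) WTree.none) WTree.none) (.node WTree.none (.node (.node WTree.none (.node (.node WTree.none (.word [3,2,5,4,3,2,0,4,3,5,1,3,1,4,0,2,0,2,5,2,1,2,0,5,0,5,1,2,4,2,4,5,2])) WTree.none)) WTree.none))) WTree.none)) (.node (.node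 (.node WTree.none (.node WTree.none (.node WTree.none (.node (.node (.node (.node WTree.none (.word [5,0,2,4,5,0,3,0,5,4,2,0,4,1,5,3,5,1,4,5,2,5,0,5,0,4,0,5,0,5,2,4])) WTree.none) WTree.none) WTree.none)))) WTree.none) (.node (.node (.node (.node WTree.none (.node (.node WTree.none (.node WTree.none (.word [3,1,3,1,2,3,0,3,5,4,5,1,4,0,5,2]))) WTree.none)) WTree.none) (.node WTree.none (.node WTree.none (.node WTree.none (.node WTree.none (.word [0,3,5,2,3,2,5,3,2,1,5,2,1,2,5,2,0,1,5,2,1,5,4,5,0,4,2,3,5,1,5,3,5,0,2,5])))))) (.node (.node WTree.none (.node (.node WTree.none (.node (.node WTree.none (.word [2,1,3,5,1,3,1,2,1,4,2,5,1,5,0,4,1,2,0,5,2,5,3,0,4,0,5,1,2,4,3])) WTree.none)) WTree.none)) WTree.none))))) (.node (.node (.node (.node (.node (.node WTree.none (.word [1,0,3,4,5,2,3,4,2,4,2,0,2,5,0,5,2,1,2,0,3,1,0,3,5,0,1,4,3,0,2,0,2])) (.node WTree.none (.node WTree.none (.node (.node WTree.none (.word [2,3,4,3,5,1,5,4,0,5,1,3,4,2,4,1,0,2,1,0,4,1,3,1,4,0,2,0,3]))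 WTree.none)))) (.node (.node (.node (.node (.node (.node (.node WTree.none (.word [3,0,3,1,5,0,2,1,3,1,4,2,4,1,4,1,3,2,3,4,0,5,0,1,4,2,1])) WTree.none) WTree.none) WTree.none) WTree.none) (.node WTree.none (.word [1,4,5,2,5,3,2,4,1,3,2,3,2,5,4,3,5,4,1,5,0,3,4,2,1,0,5,3,4,2,0,5,2,3]))) WTree.none)) (.node WTree.none (.node (.node WTree.none (.node (.node (.node (.node (.node WTree.none (.word [4,2,1,4,1,4,2,4,2,1,2,4,2,4,3,1,4,2,5,3,2,3,2,1,0,5,0,2,5,0,2,5,4,0,2])) WTree.none) WTree.none) WTree.none) WTree.none)) WTree.none))) (.node WTree.none (.node (.node (.node WTree.none (.node WTree.none (.word [2,5,3,2,5,1,2,5,3,5,4,1,4,2,0,4,3,2,1,0,3,5,0,2,0,3,1]))) WTree.none) WTree.none))) (.node (.node (.node WTree.none (.node (.node (.node WTree.none (.node (.node WTree.none (.node WTree.none (.word [5,2,4,5,0,3,0,5,4,2,5,2,4,0,2,3,1,2,3,0,1,5,4,3,2,4,5,4,5,2,3,4,1]))) WTree.none)) WTree.none) WTree.none)) (.node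 (.node (.node WTree.none (.node WTree.none (.node (.node (.node (.node WTree.none (.word [2,3,4,3,5,1,5,4,0,5,1,5,1,2,0,5,4,1,2,4,0,1,4,1,2,4,1])) WTree.none) (.node WTree.none (.word [0,5,3,5,3,5,3,5,0,4,3,5,3,5,3,0,3,4,3,2,0,2,3,1,4,3,0,4]))) WTree.none))) WTree.none) (.node (.node WTree.none (.node WTree.none (.node WTree.none (.word [2,3,4,2,5,4,1,2,1,4,1,2,4,5,2,4,1,3,1,4,2,0,5,1,0,2,5,3,1,5,2,3])))) WTree.none))) (.node (.node (.node WTree.none (.node WTree.none (.node WTree.none (.word [4,3,0,4,0,2,0,4,0,3,4,1,4,2,4,0,4,2,1,0,2,5,4,1,3,4,5,1,2,0,4])))) (.node (.node WTree.none (.node (.node WTree.none (.node WTree.none (.node WTree.none (.word [2,5,3,2,5,1,2,5,3,5,1,2,5,0,5,2,0,2,3,5,3,2,4,2,4,3,5,4,1,4,5,3,0])))) WTree.none)) (.node (.node WTree.none (.node (.node WTree.none (.word [1,2,5,3,2,3,5,2,1,4,5,0,2,0,5,4,3,5,4,2,3,0,5,1,4,2,3,0,3,4])) WTree.none)) WTree.none))) (.node (.node (.node WTree.none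 (.node (.node WTree.none (.node WTree.none (.node WTree.none (.word [2,0,2,0,4,1,2,1,4,0,2,0,2,5,2,0,5,4,2,0,5,0,5,0,5,2,4,0,5,2,1])))) WTree.none)) (.node (.node WTree.none (.node (.node WTree.none (.word [4,5,2,1,0,2,0,1,2,5,4,5,2,0,2,1,5,3,5,0,3,0,1,4,0,3,1,4,0,3,5,0])) WTree.none)) WTree.none)) (.node WTree.none (.node (.node (.node (.node (.node (.node WTree.none (.word [5,0,2,4,1,4,5,3,2,1,2,3,1,5,2,0,5])) WTree.none) WTree.none) WTree.none) WTree.none) (.node (.node (.node (.node (.node (.word [2,4,5,3,5,4,2,5,2,1,0,2,0,4,5,1,2,0,5,0,4]) (.word [0,5,2,4,3,5,3,2,0,2,3,0,4,3,5,1,3,2,3,4,0,2,5,2,0,2])) WTree.none) WTree.none) WTree.none) WTree.none))))))))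

/-- Points. -/
def levX4pts0 : List ℕ := [47,123,130,173,201,248,254,356,410,418,420,462,600,629,768,889,950,1199,1252,1307,1373,1374,1390,1474,1515,1696,2012,2231,2301,2371,2381,2609,2611,2665,2748,2772,2808,2821,3044,3059,3224,3356,3366,3439,3478,3559,3613,3635,3742,3758,3951,4116,4130,4143,4222,4274,4350,4417,4502,4556]

/-- A level. -/
def levX4 : Level :=
  ⟨3635, (.node wt34 (.node (.node (.node (.node (.node (.node WTree.none (.node (.node WTree.none (.node (.node (.node (.node WTree.none (.word [1,5,2,1,5,4,1,0,5,0,5,4,2,5,3,2,3,2,5,3,2,3,5,2,1])) WTree.none) WTree.none) WTree.none)) WTree.none)) WTree.none) (.node WTree.none (.node (.node (.node (.node WTree.none (.node (.node WTree.none (.word [5,1,3,5,3,5,3,1,2,1,3,2,3,0,5,0,3,2,4,5,2,5,0,4,5,2,4,3])) WTree.none)) WTree.none) WTree.none) WTree.none))) (.node (.node (.node WTree.none (.node WTree.none (.word [0,3,5,3,1,2,1,2,4,1,4,5,3,0,1,5,2,0,5,0,5,4,5,2,5,4,0,2,5,1])))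 (.node WTree.none (.node (.node (.node WTree.none (.node (.node WTree.none (.word [1,5,4,5,1,2,0,1,5,0,5,0,3,2,3,5,4,0,4,2,5,2,1,0,5,0,2,5,2,4,2,0])) WTree.none)) WTree.none) WTree.none))) (.node WTree.none (.node WTree.none (.node (.node WTree.none (.node WTree.none (.word [1,5,4,1,5,1,5,4,1,5,4,3,1,5,3,4,5,3,4,5,4,2,0,3,0,3,0,2,4,5]))) WTree.none))))) (.node (.node (.node (.node (.node (.node WTree.none (.node WTree.none (.node (.node WTree.none (.word [1,2,5,3,2,3,5,2,1,5,3,2,4,2,1,0,5,4,2,5,3,0,2,4,5,2,3,2,0,2,1,3,0])) WTree.none))) WTree.none) WTree.none) WTree.none) (.node WTree.none (.node WTree.none (.node (.node (.node WTree.none (.word [5,1,5,0,5,4,1,4,0,1,5,1,5,2,4,0,2,0,3,4,0,4,2,5,1,2,0,2])) WTree.none) WTree.none)))) (.node (.node (.node WTree.none (.node (.node WTree.none (.node (.node (.node WTree.none (.word [3,2,4,2,4,5,2,3,4,0,2,0,1,2,3,2,3,5,3,5,0,3,2,5,2,5,0,3])) WTree.none) WTree.none))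 WTree.none)) (.node (.node WTree.none (.word [3,2,3,4,2,4,3,4,1,3,2,0,5,3,5,0,2,3,1,4,2,4,2,0])) WTree.none)) (.node (.node (.node (.node (.node WTree.none (.node WTree.none (.node WTree.none (.word [3,0,4,5,0,2,0,5,4,3,0,3,0,2,5,0,5,4,5,1,0,5,0,4,5,0,3,0,2,3,0,5,0,5,2])))) WTree.none) WTree.none) (.node (.node WTree.none (.node (.node WTree.none (.word [1,4,5,2,0,3,0,2,1,0,4,3,0,5,0,4,1,4,0,3,5,0,3,2])) WTree.none)) WTree.none)) (.node WTree.none (.node WTree.none (.node (.node (.node (.node WTree.none (.word [3,5,4,1,4,5,3,1,3,0,3,5,4,5,4,0,5,2,3,0,3,1,2,1,4,3,0,3,4])) WTree.none) WTree.none) WTree.none))))))) (.node (.node (.node (.node (.node WTree.none (.node (.node WTree.none (.node (.node (.node WTree.none (.word [4,5,2,1,0,2,0,1,2,0,2,0,5,4,3,4,3,2,1,4,3,0,3,2,0,4,0,3,2,0,1,2])) WTree.none) WTree.none)) WTree.none)) WTree.none) (.node WTree.none (.node (.node (.node (.node WTree.none (.node (.node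 WTree.none (.word [2,4,0,5,4,5,0,4,2,3,1,3,4,2,4,1,5,0,5,0,5,1,0,2,3,2,0,3,0,3,2,0,3,4])) (.node WTree.none (.word [])))) WTree.none) WTree.none) (.node WTree.none (.node WTree.none (.node WTree.none (.node (.node WTree.none (.word [1,5,4,1,5,1,5,4,1,5,3,5,3,4,1,4,5,0,2,5,4,1,3,2,0,5,3,1,4,3,5,4,1,2,3])) WTree.none))))))) (.node (.node WTree.none (.node WTree.none (.node WTree.none (.node WTree.none (.node (.node WTree.none (.word [3,1,3,5,0,3,2,3,0,5,3,1,3,4,2,1,2,5,0,2,3,5,4,3,0,1,4,0,5,3])) WTree.none))))) (.node (.node (.node (.node WTree.none (.node (.node WTree.none (.word [0,3,4,5,3,2,1,2,3,5,2,0,2,4,1,2,5,4,1,0,4,1,2,5,0,2,1,4,5,1])) WTree.none)) WTree.none) WTree.none) (.node WTree.none (.word [5,0,5,4,1,5,2,0,1,3,2,1,3,1,4,2,3,1,0,3,1,5,2,5,1,2,5,1,3,5,0,5,4,3]))))) (.node (.node (.node WTree.none (.node WTree.none (.node WTree.none (.node WTree.none (.node (.node WTree.none (.node WTree.none (.word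 [1,2,5,3,2,3,5,2,1,5,0,2,0,4,1,4,0,2,0,1,5,4,2,5,3,2,4,3,1,2,5,2]))) WTree.none))))) (.node WTree.none (.node (.node WTree.none (.node (.node (.node (.node WTree.none (.word [1,4,2,0,3,2,0,5,4,0,2,3,1,0,5,3,2,0,4,5,1,5,4,0,5,0,2,3])) WTree.none) WTree.none) WTree.none)) WTree.none))) (.node (.node WTree.none (.node (.node (.node (.node (.node (.node (.node (.word [0,3,5,2,3,2,5,3,0,3,1,5,3,5,1,3,5,0,2,0,5,4,5,4,5,4,1,3,2,5,4,5]) (.word [5,1,3,5,3,5,3,0,5,1,0,2,5,4,3,1,4,5,1,2,0,1])) WTree.none) WTree.none) WTree.none) WTree.none) (.node (.node (.node WTree.none (.word [5,4,5,2,5,4,2,5,3,2,3,5,2,5,1,2,3,0,5,4,2,4,3,2,1,0,3,5,3,1,2,0,4])) WTree.none) WTree.none)) (.node (.node WTree.none (.node (.node WTree.none (.node WTree.none (.word [3,0,4,5,0,2,0,5,4,3,0,3,0,5,2,0,3,2,3,5,2,0,4,5,1,5,0,4,0,2,5]))) (.node WTree.none (.node WTree.none (.word [0,3,5,3,1,2,3,2,5,1,3,0,4,1,3,2,1,4,0,4,2,4,2,4,0,3]))))) WTree.none)))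 WTree.none))))), levX4pts0⟩

/-- The levels. -/
def levX : List Level := [levX0,levX1,levX2,levX3,levX4]

/-- A subtree. -/
def wt35 : WTree :=
  (.node (.node (.node (.node (.node (.node (.node (.node (.node (.word []) (.word [0,3,0,3])) (.word [0,1,5,3,5,0,3])) (.node (.word [5,4,2,4,5,3,2,1,3,5,2,0,4,0,4,3,5,4,3,0,1,0,3,0,5,3,0]) (.word [5,0,3,0,2,1]))) (.node (.node (.word [3,5,4,0,3,5,2,1,5,3,4,0]) (.word [0,2,5,0,3,4,0])) (.node (.word [4,2,1,5,2,0]) (.word [3,5,3,0,2])))) (.node (.node (.node (.node (.word [2,4,0,4,2,0,3]) (.word [3,5,0,5,4,3])) (.word [5,0,4,0,2,0,2,5,2,0,4,0])) (.node (.word [2,5,4,2,3,2,0]) (.word [0,3,0,4,2,4,2]))) (.node (.node (.word [1,4,5,2,4,0]) (.word [0,5,3,0,3,5,0])) (.node (.word [0,2,0,2,5,3,2,0,2]) (.word [2,3,5,0,3,2]))))) (.node (.node (.node (.node (.node (.word [5,1,2,0,1]) (.word [2,4,3,5,0,3])) (.word [3,2,3,4,5,3,0])) (.node (.word [2,4,0,1,2,0,3]) (.word [0,5,2,0,3,1])))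 (.node (.node (.word [0,1,3,4,0,1]) (.word [5,4,0,5,4,0])) (.node (.word [0,1,3,0,4,5,2]) (.word [4,1,5,0,2])))) (.node (.node (.node (.node (.word [1,4,1,4,2,0,2]) (.word [0,5,0,2,4,5])) (.word [4,0,5,0,2,1,3,1,2,0,5,0,4,0,5,0,3,1])) (.node (.word [3,4,0,4,2,0]) (.word [3,2,4,2,0,2]))) (.node (.node (.word [0,2,5,0,1,2,0]) (.word [5,2,0,2,3,5,0])) (.node (.word [1,5,1,3,0]) (.word [3,2,4,0,5,2])))))) (.node (.node (.node (.node (.node (.node (.word [1,4,3,0,2,0,1]) (.word [2,0,5,0,3])) (.word [3,0,4,0,5,0,2])) (.node (.word [3,4,5,0,3,0]) (.word [1,3,0,1,2,3,2]))) (.node (.node (.word [1,2,0,2,4,5,0]) (.word [1,5,3,4,0])) (.node (.word [5,2,0,4,5,2,0]) (.word [3,5,3,4,0,2])))) (.node (.node (.node (.node (.word [0,1,3,5,0,3,1]) (.word [3,0,2,5,3])) (.word [0,5,1,4,0])) (.node (.word [4,1,5,3,2,0]) (.word [0,5,0,1,2,0,2]))) (.node (.node (.word [0,5,0,3,0,3,0]) (.word [2,3,0,2,4,5,0])) (.node (.word [2,0,5,2,1,3,0])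 (.word [1,2,4,0,4,3,5]))))) (.node (.node (.node (.node (.node (.word [5,2,0,4,2,0,1]) (.word [5,0,3,0,5,2,3])) (.word [0,2,3,0,4,0,2])) (.node (.word [3,0,1,3,2,0]) (.word [2,5,0,3,1]))) (.node (.node (.word [0,4,0,5,4,0,1]) (.word [3,2,4,5,4,0])) (.node (.word [1,2,0,2,4,5,0,5,2,0,1]) (.word [0,1,2,0,3])))) (.node (.node (.node (.node (.word [0,4,5,2,0,3,5]) (.word [3,2,5,0,4,5])) (.word [0,3,4,2,4,0])) (.node (.word [0,3,4,2,0,2,1]) (.word [4,0,3,0,2]))) (.node (.node (.word [4,3,2,0,2,0]) (.word [0,5,3,4,5,0])) (.node (.word [0,2,1,4,2,3,0]) (.word [5,0,4,5,2]))))))) (.node (.node (.node (.node (.node (.node (.node (.word [3,4,3,0,5,0,3]) (.word [5,1,4,0,3])) (.word [0,4,0,1,5,3,0])) (.node (.word [5,0,5,0,2,0]) (.word [0,2,5,0,2,1]))) (.node (.node (.word [1,2,0,4,5,3,0]) (.word [1,2,3,4,0])) (.node (.word [4,5,0,2,5,2,0]) (.word [4,5,0,4,0,2])))) (.node (.node (.node (.node (.word [0,1,5,0,3,0,1]) (.word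 [0,3,0,3,0,5,3])) (.word [3,4,1,2,1,4,0])) (.node (.word [0,5,4,3,2,0]) (.word [0,4,5,1]))) (.node (.node (.word [2,0,5,2,3]) (.word [3,5,4,5,4,5,0])) (.node (.word [2,5,4,2,0,3,5]) (.word [2,0,5,3,2]))))) (.node (.node (.node (.node (.node (.word [0,1,5,2,0,3,1]) (.word [3,2,3])) (.word [5,0,1,4,0])) (.node (.word [1,5,4,5,4,5,0]) (.word [3,1,4,0,3,1]))) (.node (.node (.word [0,5,0,3,5,2,0,4,3,5,0,4,0]) (.word [2,0,3,5,4,0])) (.node (.word [0,4,2,0,3,0]) (.word [2,3,5,0,2])))) (.node (.node (.node (.node (.word [1,2,5,3,0,4,0]) (.word [0,3,0,5,3,5])) (.word [0,4,2,3,2,4,0])) (.node (.word [1,5,1,4,2,0]) (.word [3,2,0,4,5]))) (.node (.node (.word [0,2,4,5,2,0]) (.word [5,3,0,4,5,0])) (.node (.word [1,2,3,0]) (.word [3,1,5,0,5,2])))))) (.node (.node (.node (.node (.node (.node (.word [2,5,4,0,2,0,1]) (.word [4,2,1,5,0,3])) (.word [1,4,0,2,5,0,3])) (.node (.word [1,2,4,5,0,2,0]) (.word [1,5,0,5,3,5]))) (.node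 (.node (.word [0,3,2,3,1,2,0]) (.word [3,2,0,5,4,0])) (.node (.word [0,1,3,0]) (.word [3,4,0,5,0,5,3])))) (.node (.node (.node (.node (.word [0,4,5,4,0,2,4,0,2,3,0,3]) (.word [1,5,2,0,3,5])) (.word [0,5,2,0,2,4,0])) (.node (.word [4,3,0,1,4,2,0]) (.word [1,3,0,5,4,0,2]))) (.node (.node (.word [1,5,2,0,1,2,0]) (.word [3,2,3,0,3,5,0])) (.node (.word [3,1,4,1,3,0]) (.word [2,0,3,0,5,2]))))) (.node (.node (.node (.node (.node (.word [0,1,5,4,2,0,1]) (.word [3,0,4,3])) (.word [4,5,3,0,4,0])) (.node (.word [4,3,5,0,3,2,0]) (.word [2,0,5,3,1]))) (.node (.node (.word [5,3,5,0,2,1,3,5,0,2]) (.word [2,0,2,5,3,5])) (.node (.word [1,4,3,0,3,0]) (.word [0,2,1,4,0,3,2])))) (.node (.node (.node (.node (.word [4,5,4,3,1,5,1,4,3,5,4,3,1,5,2,0,5,1,2,4,0]) (.word [2,0,3,4,5])) (.word [3,5,2,4,0])) (.node (.word [3,0,5,2,0]) (.word [1,2,3,0,2]))) (.node (.node (.word [2,3,5,2,0,2,0]) (.word [2,0,2,1])) (.node (.word [5,0,3,5,2,3,0])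 (.word [0,2,5,2,0,3])))))))) (.node (.node (.node (.node (.node (.node (.node (.node (.word [1,5,0,1,2,0,1]) (.word [3,5,3,0,3])) (.word [3,4,5,0,2,1])) (.node (.word [2,0,1,5,0,2,0]) (.word [3,0,3,0,5,3,5]))) (.node (.node (.word [0,1,5,4,5,4,0]) (.word [1,4,5,3,4,5,0])) (.node (.word [4,2,4,1,5,2,0]) (.word [4,5,3,0,5,3])))) (.node (.node (.node (.node (.word [3,2,5,2,0,1]) (.word [1,2,0,5,3])) (.word [0,1,2,1,4,0])) (.node (.word [5,0,4,3,2,0]) (.word [0,4,5,0,1,3,5]))) (.node (.node (.word [0,3,5,2,0,2,0]) (.word [2,0,2,5,0])) (.node (.word [4,2,3,5,0,3,0]) (.word [5,4,0,2,3,2]))))) (.node (.node (.node (.node (.node (.word [0,1,2,4,0,2,3]) (.word [5,4,5,0,3])) (.word [1,2,0,1,4,0])) (.node (.word [1,4,1,2,0]) (.word [5,1,3,0,3,1]))) (.node (.node (.word [0,2,1,3,4,0,1]) (.word [1,5,4,0])) (.node (.word [3,5,1,2,0,3,0]) (.word [2,3,2,5,0,2])))) (.node (.node (.node (.node (.word [1,2,5,3,5,2,0]) (.word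 [3,0,4,3,5])) (.word [3,2,5,3,5,4,0])) (.node (.word [1,4,2,0]) (.word [4,5,4,2,0,2]))) (.node (.node (.word [0,4,2,1,4,0,3,4,2,3,0]) (.word [0,4,5,0])) (.node (.word [2,3,0]) (.word [2,5,4,0,5,2])))))) (.node (.node (.node (.node (.node (.node (.word [2,1,4,0,2,0,1]) (.word [1,5,0,5,0,3])) (.word [0,3,4,0,5,3,0])) (.node (.word [3,5,0,3,0,3]) (.word [2,3,0,2,4,2,1]))) (.node (.node (.word [0,2,3,2,0]) (.word [4,5,3,4,0])) (.node (.word [2,5,1,4,5,2,0]) (.word [3,4,5,4,0,2])))) (.node (.node (.node (.node (.word [0,3,5,0,4,3,2,0,3]) (.word [0,3,5])) (.word [3,2,0,4,0,5,2])) (.node (.word [0,1,4,5,0,3,1]) (.word [1,4,0,2,0,2]))) (.node (.node (.word [0,1,2,0]) (.word [0,1,3,5,0])) (.node (.word [0,4,2,0,1,4,0]) (.word [5,2]))))) (.node (.node (.node (.node (.node (.word [0,1,2,4,2,0,1]) (.word [0,2,0,2,0,4,3])) (.word [4,5,2,0,4,0])) (.node (.word [2,5,4,0,1,3,5]) (.word [3,5,4,5,2]))) (.node (.node (.word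 [0,2,0,3,5,4,0]) (.word [0,1,5,0])) (.node (.word [0,5,2,4,0,5,2]) (.word [0,3,4,0,4,5,2])))) (.node (.node (.node (.node (.word [0,1,2,5,0]) (.word [0,4,0,2,4,5])) (.word [1,4,0,5,2,4,0])) (.node (.word [3,2,4,5,4,2,0]) (.word [1,3,0,2]))) (.node (.node (.word [5,2,0,2,0]) (.word [5,0,5,4,5,0])) (.node (.word [2,1,4,2,4,0]) (.word [2,0,2,0,3]))))))) (.node (.node (.node (.node (.node (.node (.node (.word [1,4,3,2,0,2,0]) (.word [1,3,5,4,0,3])) (.word [1,4,2,0,5,3,0])) (.node (.word [1,5,0,2,0,3]) (.word [3,1,2,0,3,1]))) (.node (.node (.word [2,0,3,0,4,0,1]) (.word [3,0,4,2,3,4,0])) (.node (.word [1,2,4,2,3,0]) (.word [1,2,4,0,2])))) (.node (.node (.node (.node (.word [0,1,3,0,1]) (.word [0,5,0,5,3])) (.word [4,5,4,5,2,0,2,0,3,5,2])) (.node (.word [3,0,5,3,2,0]) (.word [1,2,4,5]))) (.node (.node (.word [1,2,5,3,5,0,1]) (.word [0,3,4,0,2])) (.node (.word [0,2,3,2,1,3,0]) (.word [0,5,0,5,3,2]))))) (.node (.node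 (.node (.node (.node (.word [1,4,3,2,0,1]) (.word [0,4,2,3])) (.word [4,0,4,2,0,3])) (.node (.word [1,5,3,5,2,0]) (.word [3,5,4,0,3,1]))) (.node (.node (.word [0,3,5,3,4,0,1]) (.word [0,5,0,3,0,2,1])) (.node (.word [5,0,5,2,0,3,0]) (.word [2,4,0,1,3,1,2,3,5,0,3,0,4,3,0])))) (.node (.node (.node (.node (.word [3,2,3,0,1]) (.word [0,3,0,4,5])) (.word [0,4,2,4,0])) (.node (.word [0,3,0,5,2,0]) (.word [4,5,0,1,3,0,2]))) (.node (.node (.word [3,0,3,0,4,5,1]) (.word [0,4,0,2,4,5,0])) (.node (.word [2,3,4,0,3,5,0]) (.word [0,1,5,0,3,5,2])))))) (.node (.node (.node (.node (.node (.node (.word [2,0,2,0,3,5,2]) (.word [3,5,0,3])) (.word [4,5,3,0])) (.node (.word [5,0,3,1,2,0]) (.word [3,1]))) (.node (.node (.word [1,3,4,2,4,0,1]) (.word [2,3,0,5,4,0])) (.node (.word [3,4,0,1,3,0]) (.word [0,2,0,5,0,5,3])))) (.node (.node (.node (.node (.word [4,2,5,0,3,0,1]) (.word [0,3,4,0,3,5])) (.word [0,5,0,2,4,0])) (.node (.word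 [0,3,4,0,5,3]) (.word [2,3,2,0,2]))) (.node (.node (.word [4,3,0,1,2,0]) (.word [5,0,3,5,0])) (.node (.word [5,4,1,3,0]) (.word [5,4,3,0,5,2]))))) (.node (.node (.node (.node (.node (.word [0,4,0,2,0,4,2,0]) (.word [4,2,4,0,4,3])) (.word [2,5,0,4,0])) (.node (.word [0,2,3,2,3,0]) (.word [2,0,2,5,3,1]))) (.node (.node (.word [1,5,1,5,0]) (.word [4,0,2,1,5,0])) (.node (.word [4,5,3,0,3,0]) (.word [2,0,5,4,0,3,2])))) (.node (.node (.node (.node (.word [0,2,0,5,3,0,1]) (.word [4,0,5,4,5])) (.word [2,0,1,3,4,0])) (.node (.word [3,4,0,5,2,0]) (.word [4,5,0,4,3,0,2]))) (.node (.node (.word [1,5,0,4,0,2,0]) (.word [0,5,3,2,5,0,2])) (.node (.word [2,0,1,2,3,5,0,1,3,4,0,3,0,2]) (.word [5,2,4,2,0,3])))))))))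

/-- A subtree. -/
def wt36 : WTree :=
  (.node (.node (.node (.node (.node (.node (.node (.node (.node (.word [3,2,0,1,2,0,1]) (.word [0,1,5,0,3,0,3])) (.word [0,3,5,0,4,3,0])) (.node (.word [5,3,4,0,2,0,4,3,0,5,4,0,5,1,5,0,2,0]) (.word [0,1,5,0,2,3,2]))) (.node (.node (.word [1,5,3,0,1]) (.word [1,2,1,3,4,0])) (.node (.word [0,4,1,5,2,0]) (.word [0,4,5,3,0,2])))) (.node (.node (.node (.node (.word [1,5,1,4,5,2,0]) (.word [0,2,0,2,0,5,3])) (.word [0,5,0,3,5,0,2])) (.node (.word [2,4,5,1,3,5,0,2,5,1,3,4,3,0,5,2]) (.word [2,4,0,1,3,5]))) (.node (.node (.word [0,3,5,0,1]) (.word [2,3,4,0,5,3])) (.node (.word [0,3,5,0,3,0]) (.word [1,2,3,0,2,4,5]))))) (.node (.node (.node (.node (.node (.word [0,4,5,1,2,0,1]) (.word [1,4,5,0,3])) (.word [0,4,0,1,3,0,1,2,3,4,5,3,0])) (.node (.word [0,5,3,2,5,2,1,2,0,2,5,0]) (.word [3,0,1,2,0,5,3]))) (.node (.node (.word [0,1,2,4,1,2,0]) (.word [2,5,0,5,4,0])) (.node (.word [4,1,2,0,3,0])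 (.word [0,1,2,5,0,2])))) (.node (.node (.node (.node (.word [5,1,4,1,5,4,3,2,5,4,1,5,4,1,2,4,0,2,5,0]) (.word [4,5,0,3,5])) (.word [2,0,1,3,2,4,0])) (.node (.word [0,5,0,4,2,0]) (.word [0,3,4,2,0,2]))) (.node (.node (.word [2,5,0,5,4,5,0,1,5,1,3,4,0,4,2,0]) (.word [4,2,3,5,0])) (.node (.word [4,5,1,3,0]) (.word [0,3,4,0,5,2])))))) (.node (.node (.node (.node (.node (.node (.word [0,4,1,2,3,0,4,0,1,2,0,3]) (.word [1,4,3,0,5,0,3])) (.word [0,4,0,5,3,0])) (.node (.word [2,1,3,5,0,2,0]) (.word [0,1,2,4,0,3,2]))) (.node (.node (.word [0,3,0,2,4,0,1]) (.word [0,2,5,0,5,3,5])) (.node (.word [1,4,5,2,0]) (.word [0,1,2,0,4,2,3])))) (.node (.node (.node (.node (.word [5,2,0,3,0,1]) (.word [5,0,2,5,3])) (.word [1,4,0,5,1,4,0])) (.node (.word [0,4,5,0,4,0]) (.word [0,1,3,0,2,0,2]))) (.node (.node (.word [1,2,0,5,2,0,3]) (.word [3,5,2,5,0])) (.node (.word [0,3,1,3,4,0]) (.word [2,1,5,0,3,5]))))) (.node (.node (.node (.node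 (.node (.word [1,5,0,2,0,3,0,4,0,4,2,0,2]) (.word [3,0,2,5,2,3])) (.word [3,4,2,0,4,0])) (.node (.word [0,3,0,3,2,0]) (.word [0,4,5,0,3,1]))) (.node (.node (.word [2,5,3,2,0,3]) (.word [5,3,4,5,4,0])) (.node (.word [2,0,3,0,3,0]) (.word [5,1,2,0,3])))) (.node (.node (.node (.node (.word [2,0,5,4,0,3]) (.word [4,2,0,2,4,5])) (.word [5,3,4,2,4,0])) (.node (.word [5,4,1,5,4,2,0]) (.word [1,5,0,3,0,2]))) (.node (.node (.word [2,1,5,0,4,2,0]) (.word [3,0,5,4,5,0])) (.node (.word [0,3,4,2,3,0]) (.word [5,4,5,2]))))))) (.node (.node (.node (.node (.node (.node (.node (.word [3,4,0,5,0,1,3,1,4,2,5,3,4,2,3,0]) (.word [3,1,2,4,0,3])) (.word [1,2,0,5,3,0])) (.node (.word [0,2,1,5,0,2,0]) (.word [1,5,4,3,5,0,2]))) (.node (.node (.word [0,1,2,0,5,3,0]) (.word [0,5,3,0,2,4,5])) (.node (.word [5,3,2,5,2,0]) (.word [5,2,0,2,4,0,2])))) (.node (.node (.node (.node (.word [1,4,2,0,2,4,5]) (.word [0,5,3,0,5,3])) (.word [2,3,2,1,4,0]))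 (.node (.word [1,5,2,5,4,5,4,5,3,1,5,4,2,5,0,3,1]) (.word [2,0,3,0,4,5,1]))) (.node (.node (.word [5,2,0,5,2,3]) (.word [1,4,0,2,5,0])) (.node (.word [0,4,0,2,1,3,0]) (.word [1,3,0,5,3,2]))))) (.node (.node (.node (.node (.node (.word [0,4,5,0,3,0,2]) (.word [3,0,5,0,3,2,3])) (.word [2,0,2,0,4,0])) (.node (.word [0,4,1,5,2,4,0]) (.word [0,3,4,0,3,1]))) (.node (.node (.word [4,0,5,3,4,0,1]) (.word [0,2,1,5,0,2])) (.node (.word [5,4,2,0,3,0]) (.word [0,4,5,0,2])))) (.node (.node (.node (.node (.word [3,0,2,3,0,1]) (.word [4,5,0,5,3,5])) (.word [2,4,3,2,4,0])) (.node (.word [3,2,4,2,0]) (.word [0,3,0,2]))) (.node (.node (.word [4,5,2,0,2,0,5,0,5,4,1,2,0]) (.word [2,5,0,4,5,0])) (.node (.word [3,5,1,2,3,0]) (.word [3,0,2,0,3,5,2])))))) (.node (.node (.node (.node (.node (.node (.word [2,5,0,2,0,1]) (.word [4,5,1,5,0,3])) (.word [2,5,3,0])) (.node (.word [5,1,4,0,4,3]) (.word [0,4,0,5,3]))) (.node (.node (.word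 [2,0,4,5,2,4,0]) (.word [3,4,2,0,5,4,0])) (.node (.word [4,5,3,0,1,3,0]) (.word [0,4,0,5,0,2])))) (.node (.node (.node (.node (.word [1,2,0,2,1,5,0]) (.word [5,0,4,0,3,5])) (.word [5,3,0,2,4,0])) (.node (.word [2,0,4,2,0]) (.word [1,4,1,2,0,2]))) (.node (.node (.word [0,3,0,1,2,0]) (.word [1,4,0,3,5,0])) (.node (.word [0,4,0,5,0,5,0]) (.word [2,3,0,5,2]))))) (.node (.node (.node (.node (.node (.word [3,0,3,0,5,2,4,3,0,5,0,2]) (.word [1,3,0,4,3])) (.word [0,3,0,4,3,5,1,4,0,5,4,5])) (.node (.word [2,5,1,4,0,3]) (.word [5,0,5,3,1]))) (.node (.node (.word [0,1,3,4,5,0,2,4,0,4,5]) (.word [0,1,5,3,2,3])) (.node (.word [1,2,5,3,0,3,0]) (.word [5,2,4,0,3,2])))) (.node (.node (.node (.node (.word [0,4,0,2,5,3,1]) (.word [2,3,4,5])) (.word [3,5,3,5,2,4,0])) (.node (.word [2,4,5,4,5,0,2]) (.word [0,4,3,0,2]))) (.node (.node (.word [1,3,1,5,0,3]) (.word [3,4,0,2,0,2,1])) (.node (.word [2,0,4,3,0]) (.word [1,4,3,2,0,3]))))))))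 (.node (.node (.node (.node (.node (.node (.node (.node (.word [5,0,1,2,5,0,3,0,5,4,0,3]) (.word [0,1,4,0,3])) (.word [0,1,4,2,4,5,0])) (.node (.word [1,2,0,2,0,4,5]) (.word [2,0,5,0,2,1]))) (.node (.node (.word [0,2,0,4,0,1]) (.word [2,0,2,3,4,0])) (.node (.word [4,0,2,5,2,0]) (.word [3,0,4,0,2])))) (.node (.node (.node (.node (.word [4,3,5,2,0,1]) (.word [0,2,4,0,5,3])) (.word [1,3,4,0,4,3,5])) (.node (.word [3,2,4,3,2,0]) (.word [4,0,4,1,3,5]))) (.node (.node (.word [5,0,3,5,0,1]) (.word [5,4,2,0,2,5,0])) (.node (.word [0,5,4,2,0,4,5]) (.word [0,2,5,3,2]))))) (.node (.node (.node (.node (.node (.word [1,4,2,3,2,3,0]) (.word [0,2,0,4,0,2,3])) (.word [2,4,2,0,1,4,0])) (.node (.word [5,4,1,2,0]) (.word [4,0,3,1]))) (.node (.node (.word [3,2,4,2,4,0,2]) (.word [4,5,0,2,5,2,0,5,2,0,3])) (.node (.word [0,5,3,2,1,4,0,1,5,0,5,2,0,1]) (.word [1,3,0,3,5,0,2])))) (.node (.node (.node (.node (.word [5,0,5,0,2,5,0,5,3,0])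 (.word [0,5,0,4,3,5])) (.word [0,1,2,3,2,4,0])) (.node (.word [1,5,4,1,3,0]) (.word [1,3,0,2,0,4,5]))) (.node (.node (.word [3,0,4,5,1,2,0]) (.word [0,4,2,0,4,5,0])) (.node (.word [3,4,0,2,3,0]) (.word [0,2,0,5,0,5,2])))))) (.node (.node (.node (.node (.node (.node (.word [0,4,1,5,2,0,1]) (.word [4,5,0,5,0,3])) (.word [2,5,0,5,3,0])) (.node (.word [4,5,0,2,0]) (.word [3,0,5,2,1]))) (.node (.node (.word [3,2,0,5,1,4,5,0,1,2,0]) (.word [3,4,0,1,5,4,0])) (.node (.word [1,5,4,5,2,0]) (.word [4,0,1,5,0,2])))) (.node (.node (.node (.node (.word [4,2,3,0,3,0,1]) (.word [5,0,2,0,3,5])) (.word [2,4,0])) (.node (.word [2,0,1,4,2,0]) (.word [3,4,0,2,0,2]))) (.node (.node (.word [4,2,0,1,2,0]) (.word [4,0,5,3,0,2])) (.node (.word [4,0,5,0,3,0,3]) (.word [1,4,2,0,5,2]))))) (.node (.node (.node (.node (.node (.word [0,3,2,4,2,0,1]) (.word [4,2,0,4,3])) (.word [4,2,3,0,4,0])) (.node (.word [5,4,0,3,2,0]) (.word [1,5,4,3])))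 (.node (.node (.word [1,4,5,4,0,1]) (.word [4,0,1,5,4,5])) (.node (.word [1,3,2,3,0,3,0]) (.word [0,4,2,3,0,3])))) (.node (.node (.node (.node (.word [3,0,1,2,5,0]) (.word [4,5,0,2,4,5])) (.word [4,1,5,2,4,0])) (.node (.word [3,0,1,5,2,0]) (.word [4,5,1,3,0,2]))) (.node (.node (.word [0,2,0,4,1,3,0]) (.word [0,4,5,4,5,0])) (.node (.word [1,4,0,5,2,3,0]) (.word [0,1,3,0,2,0,3]))))))) (.node (.node (.node (.node (.node (.node (.node (.word [1,2,0,5,0,4,0]) (.word [5,0,3])) (.word [0,3,0,5,3,0])) (.node (.word [4,5,1,5,0,2,0]) (.word [4,0,3,2,1]))) (.node (.node (.word [5,0,4,0,1]) (.word [3,5,2,3,4,0])) (.node (.word [5,3,5,2,0]) (.word [0,2,3,4,0,2])))) (.node (.node (.node (.node (.word [0,5,0,1,3,0,1]) (.word [1,5,0,5,0,5,3])) (.word [0,3,1,4,0])) (.node (.word [1,2,0,2,3,4,2,0,1,2,3,2]) (.word [0,2]))) (.node (.node (.word [0,1,4,5,0,1]) (.word [2,3,2,5,0])) (.node (.word [4,1,3,2,0,4,0]) (.word [3,0,2,4,2])))))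 (.node (.node (.node (.node (.node (.word [2,1,3,4,2,0,3]) (.word [2,0,5,0,4,2,3])) (.word [4,0,3,2,0,4,0])) (.node (.word [3,2,0]) (.word [3,0,5,0,3,1]))) (.node (.node (.word [0,2,0,5,0,4,0]) (.word [4,0,4,5,4,0])) (.node (.word [3,5,2,0,3,0]) (.word [3,2,4,5,0,2])))) (.node (.node (.node (.node (.word [5,0,3,2,3,0,1]) (.word [2,4,0,4,5])) (.word [2,3,0,4,2,4,0])) (.node (.word [1,4,2,3,5,0]) (.word [3,0,3,0,2]))) (.node (.node (.word [3,2,0,2,0]) (.word [2,4,2,4,5,0])) (.node (.word [0,4,3,2,3,0]) (.word [2,0,4,5,2])))))) (.node (.node (.node (.node (.node (.node (.word [0,2,5,2,3,0]) (.word [2,1,3,5,0,3])) (.word [1,5,0,4,5,3,0])) (.node (.word [1,3,2,0,1,3,5]) (.word [1,4,0,2,0,3,1]))) (.node (.node (.word [4,0,5,0,2,5,3]) (.word [4,5,3,0,5,4,0])) (.node (.word [0,5,0,1,3,0]) (.word [3,2,0,5,0,5,3])))) (.node (.node (.node (.node (.word [1,3,0,1]) (.word [4,5,4,0,3,5])) (.word [2,1,2,4,0])) (.node (.word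 [0,5,0,3,4,0]) (.word [1,4,2,0,2]))) (.node (.node (.word [0,5,3,0,1,2,0]) (.word [0,4,1,5,0,2])) (.node (.word [1,2,5,0,3,0,2]) (.word [1,2,1,4,0,5,2]))))) (.node (.node (.node (.node (.node (.word [3,5,2,3,1,4,3,0,3,0,5,4,5,0]) (.word [4,5,0,4,3])) (.word [0,3,5,0,4,0])) (.node (.word [0,4,2,3,2,0]) (.word [0,1,2,0,1,3,5]))) (.node (.node (.word [5,3,4,2,0,2,3,2,5,3,0,4,1,3,5]) (.word [1,4,2,1,5,0])) (.node (.word [0,1,4,3,5,0,3]) (.word [3,0,5,0,3,2])))) (.node (.node (.node (.word [1,3,0,5,3,0,1]) (.word [3,0,3,4,0])) (.node (.word [1,5,2,0]) (.word [2,3,5,4,3,0,2]))) (.node (.node (.word [5,1,4,0,2,0]) (.word [2,5,2,0,2,1])) (.node (.word [1,3,0,4,3,0]) (.word [5,4,5,4,2,0,3])))))))))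

/-- A subtree. -/
def wt37 : WTree :=
  (.node (.node (.node (.node (.node (.node (.node (.node (.node (.word [0,2,0,1]) (.word [0,1,2,0,3,5])) (.word [1,5,0,4,3,0])) (.node (.word [1,5,4,0,2,0]) (.word [0,5,3,0,2,1]))) (.node (.node (.word [2,4,0,1,5,3,0,5,0,5,4,2,0]) (.word [0,2,1,3,4,0])) (.node (.word [2,0,3,1,5,2,0]) (.word [2,1,3,5,3,0,2])))) (.node (.node (.node (.node (.word [4,3,1,5,2,0,1]) (.word [2,0,5,3])) (.word [2,5,3,5,0,4,0])) (.node (.word [2,5,2,3,2,0]) (.word [0,2,3,0,1,3,5]))) (.node (.node (.word [0,1,2,1,5,2,0]) (.word [5,0,3,1,5,0])) (.node (.word [1,2,3,0,5,3,0]) (.word [2,3,2]))))) (.node (.node (.node (.node (.node (.word [1,3,2,5,2,0,1]) (.word [0,2,5,3,5,0,3])) (.word [2,5,4,5,3,0])) (.node (.word [0,1,4,1,2,0]) (.word [2,0,3,0,3,1]))) (.node (.node (.word [1,5,4,0,3,5,2]) (.word [5,0,5,4,0])) (.node (.word [2,0,3,0]) (.word [5,4,1,5,0,2])))) (.node (.node (.node (.node (.word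 [4,1,3,0,1]) (.word [0,1,4,5,0,3,5])) (.word [0,4,2,0,5,3])) (.node (.word [1,5,4,0,4,2,0]) (.word [4,2,4,2,0,2]))) (.node (.node (.word [1,2,4,3,0,3,4,2,1,3,0,2,0,1]) (.word [0,5,0,2,3,5,0])) (.node (.word [0,2,5,1,3,0]) (.word [5,2,4,0,5,2])))))) (.node (.node (.node (.node (.node (.node (.word [0,5,3,0,2,0,1]) (.word [4,2,0,5,0,3])) (.word [0,1,5,0,1,3,5])) (.node (.word [3,4,0,5,1,3,0]) (.word [0,1,5,3,2]))) (.node (.node (.word [0,3,0,5,3,2,0]) (.word [1,3,5,3,4,0])) (.node (.word [0,1,5,4,2,0,2]) (.word [5,4,0,2])))) (.node (.node (.node (.node (.word [4,0,5,4,5,2,0]) (.word [0,2,5,0,4,3,5])) (.word [2,0,5,1,4,0])) (.node (.word [2,5,3,2,0]) (.word [0,2,3,2,0,2]))) (.node (.node (.word [5,1,2,3,2,3,5,1,2,3,2,0,3,0]) (.word [2,3,4,5,2,5,0])) (.node (.word [3,1,2,0,4,5]) (.word [4,2,4,2]))))) (.node (.node (.node (.node (.node (.word [1,4,2,0,1]) (.word [2,5,0,5,2,3])) (.word [2,0,3,0,4,2,3])) (.node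 (.word [4,3,0,1,3,2,0]) (.word [3,0,3,5,0,3,1]))) (.node (.node (.word [3,5,0,5,4,0,1]) (.word [0,1,2,4,0,5,2])) (.node (.word [2,3,0,2,4,0,2]) (.word [0,1,5,0,2,5,3])))) (.node (.node (.node (.node (.word [2,5,2,1,5,2,0,5,0,2,0]) (.word [5,4,5,0,4,5])) (.word [1,3,4,2,4,0])) (.node (.word [2,0,4,0,2,0,2]) (.word [3,5,4,0,3,0,2]))) (.node (.node (.word [0,2,0,5,0,4,2,3]) (.word [2,5,3,4,5,0])) (.node (.word [3,0,2,4,2,3,0]) (.word [0,2,4,5,2]))))))) (.node (.node (.node (.node (.node (.node (.node (.word [0,5,2,0,2,0,1]) (.word [0,2,4,0,3])) (.word [1,5,0,1,5,3,0])) (.node (.word [0,4,0,4,5,4,0]) (.word [1,4,2,3,5,0,2]))) (.node (.node (.word [2,3,2,0,4,0,1]) (.word [0,2,3,0,4,0,3])) (.node (.word [0,2,3,2,5,2,0]) (.word [3,0,1,2,4,0,2])))) (.node (.node (.node (.node (.word [2,5,0,4,5,2,0,1]) (.word [3,1,3,0,5,3])) (.word [0,3,2,1,4,0])) (.node (.word [1,4,0,4,2,0,2]) (.word [0,3,2,0,4,5,1]))) (.node (.node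 (.word [4,3,0,3,4,0,4,3,0,5,2,0]) (.word [4,3,0,2,5,0])) (.node (.word [0,1,5,3,2,0,3]) (.word [4,0,2,0,5,3,2]))))) (.node (.node (.node (.node (.node (.word [2,3,2,0,1]) (.word [1,5,0,3,2,3])) (.word [5,3,5,0,1,4,0])) (.node (.word [0,1,2,5,2,0]) (.word [2,3,4,0,3,1]))) (.node (.node (.word [0,1,5,3,4,0,1]) (.word [5,1,3,5,4,0])) (.node (.word [0,3,4,2,0,3,0]) (.word [3,4,3,5,0,2])))) (.node (.node (.node (.node (.word [0,1,2,3,0,1]) (.word [1,4,0,5,3,5])) (.word [0,4,3,0,4,0,3])) (.node (.word [0,2,0,2,4,2,0]) (.word [4,2,0,4,5]))) (.node (.node (.word [2,1,2,0,2,0]) (.word [0,4,0,4,3,0,2])) (.node (.word [2,4,1,2,3,0]) (.word [3,5,2])))))) (.node (.node (.node (.node (.node (.node (.word [0,5,0,2,0,1]) (.word [2,3,1,5,0,3])) (.word [0,2,3,5,3,4,0])) (.node (.word [1,2,0]) (.word [3,0,3,5,2,1]))) (.node (.node (.word [4,2,4,0,1]) (.word [4,2,0,5,4,0])) (.node (.word [0,4,2,0,3,5]) (.word [5,3,0,5,0,2]))))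 (.node (.node (.node (.node (.word [5,0,3,0,1]) (.word [4,5,2,0,3,5])) (.word [0,4,2,0,4,5,2])) (.node (.word [0,4,1,3,5,0]) (.word [4,1,2,0,2]))) (.node (.node (.word [2,0,4,5,0,1,3,0,5,2]) (.word [5,3,0,3,5,0])) (.node (.word [1,2,0,1,5,4,3]) (.word [2,4,0,3,0,5,2]))))) (.node (.node (.node (.node (.node (.word [3,0,5,4,2,0,1]) (.word [2,0,3,0,4,3])) (.word [0,1,5,0,4,0])) (.node (.word [2,1,3,2,0]) (.word [4,2,0,5,3,1]))) (.node (.node (.word [0,5,0,1]) (.word [1,5,4,0,5,2])) (.node (.word [5,4,3,0,3,0]) (.word [2,4,0,3,2])))) (.node (.node (.node (.node (.word [5,1,2,5,0]) (.word [3,0,3,4,5])) (.word [0,2,3,5,2,4,0])) (.node (.word [0,3,4,0,5,3,4,0,4,5,4,0]) (.word [0,5,2,3,0,2]))) (.node (.node (.word [0,4,5,2,0,2,0]) (.word [2,3,0,2,0,2,1])) (.node (.word [4,3,5,2,3,0]) (.word [3,2,0,3])))))))) (.node (.node (.node (.node (.node (.node (.node (.node (.word [0,1,2,0,2,0,1]) (.word [5,2,4,5,3,0,3])) (.word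 [5,3,0])) (.node (.word [2,0,1,2,3,5,2,4,2,0]) (.word [2,3,2,3,0,4,5]))) (.node (.node (.word [3,1,5,4,5,4,0]) (.word [2,3,4,0])) (.node (.word [2,3,0,2,5,2,0]) (.word [2,0,4,0,2])))) (.node (.node (.node (.node (.word [0,5,3,2,1,4,0]) (.word [2,4,2,0,5,3])) (.word [1,2,0,2,1,4,0])) (.node (.word [0,2,4,3,2,0]) (.word [0,4,1,3,5]))) (.node (.node (.word [3,0,3,5,0,1]) (.word [1,5,0,5,3,0,2])) (.node (.word [4,5,0,3,0]) (.word [4,5,0,2,3,2]))))) (.node (.node (.node (.node (.node (.word [3,2,3,5,0,1,2,4,0,2,0,5,0,2,0,1]) (.word [0,2,3])) (.word [1,2,3,2,0,4,0])) (.node (.word [1,2,4,1,2,0]) (.word [2,0,4,3,0,3,1]))) (.node (.node (.word [4,0,2,3,4,0,1]) (.word [2,3,5,3,0,3])) (.node (.word [2,3,2,0,3,0]) (.word [3,5,0,2])))) (.node (.node (.node (.node (.word [5,0,1,4,3,5,3,0,2]) (.word [2,4,0,4,3,5])) (.word [0,3,0,4,5,0,3])) (.node (.word [0,5,4,2,0,5,3]) (.word [2,0,2,0,4,5]))) (.node (.node (.word [0,1,2,0,2,0])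 (.word [3,2,0,4,5,0])) (.node (.word [0,5,1,2,3,0]) (.word [0,5,0,5,2])))))) (.node (.node (.node (.node (.node (.node (.word [4,0,2,3,5,4,0]) (.word [3,2,5,0,5,0,3])) (.word [0,2,0,3,0,4,5])) (.node (.word [1,2,4,0,5,0,2]) (.word [0,4,5,4,2,1]))) (.node (.node (.word [3,2,4,0,1]) (.word [0,5,4,0])) (.node (.word [4,2,4,5,2,0]) (.word [0,5,0,2])))) (.node (.node (.node (.node (.word [0,2,3,0,3,0,1]) (.word [3,2,0,2,0,3,5])) (.word [1,2,4,5,4,0])) (.node (.word [2,3,4,5,3,2,0]) (.word [0,2,4,0,2,0,2]))) (.node (.node (.word [0,4,2,5,2,5,0]) (.word [2,0,5,0,5,3,2])) (.node (.word [3,0,4,1,3,0]) (.word [0,3,2,0,5,2]))))) (.node (.node (.node (.node (.node (.word [1,2,4,2,0,1]) (.word [3,2,0,4,3])) (.word [0,2,3,0,4,0])) (.node (.word [5,3,0,3,2,0]) (.word [1,4,3]))) (.node (.node (.word [5,3,5,4,0,1]) (.word [2,0,1,5,4,5])) (.node (.word [4,0,3,0,2,3,0]) (.word [0,5,0,2,3,0,3])))) (.node (.node (.node (.node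 (.word [0,3,0,3,0,4,3]) (.word [5,0,2,4,5])) (.word [5,0,5,2,4,0])) (.node (.word [0,4,3,5,0,5,2]) (.word [0,5,1,3,0,2]))) (.node (.node (.word [2,3,2,0,5,0,3]) (.word [3,5,4,5,0])) (.node (.word [3,0,5,2,3,0]) (.word [0,5,2,0,2,0,3]))))))) (.node (.node (.node (.node (.node (.node (.node (.word [2,3,5,0,1,3,0,2,0,4,5]) (.word [0,2,1,4,5,0,3])) (.word [0,5,2,0,5,3,0])) (.node (.word [5,1,5,0,2,0]) (.word [1,3,0,3,2,1]))) (.node (.node (.word [4,3,0,4,0,1]) (.word [5,2,3,4,0])) (.node (.word [2,3,5,2,0]) (.word [2,4,2,4,0,2])))) (.node (.node (.node (.node (.word [1,4,2,0,2,0,3]) (.word [3,0,5,0,5,3])) (.word [2,4,2,1,4,0])) (.node (.word [0,2,5,2,3,0,5,0,3]) (.word [2,1,4,0,3,5]))) (.node (.node (.word [2,4,5,3,5,0,1]) (.word [3,2,5,0])) (.node (.word [0,1,3,2,0,2,1]) (.word [0,2,4,2]))))) (.node (.node (.node (.node (.node (.word [1,3,4,2,0,3]) (.word [3,0,2,0,4,2,3])) (.word [5,0,4,2,0,3])) (.node (.word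 [2,5,0,4,2,4,0]) (.word [0,1,5,0,3,1]))) (.node (.node (.word [0,5,4,0,1]) (.word [4,5,4,0])) (.node (.word [3,0,5,0,5,4,2,3,2,0]) (.word [3,1,4,5,0,2])))) (.node (.node (.node (.node (.word [2,1,3,0,5,0,2]) (.word [2,3,0,4,5])) (.word [5,0,3,5,3,0,3])) (.node (.word [2,5,1,4,2,0,2]) (.word [1,2,0,3,0,2]))) (.node (.node (.word [0,3,5,4,0,3,2,3,2,4,0]) (.word [2,3,2,4,5,0])) (.node (.word [1,3,2,3,0]) (.word [5,3,5,0,3,5,2])))))) (.node (.node (.node (.node (.node (.node (.word [1,2,1,3,2,0]) (.word [5,0,3,5,0,3])) (.word [1,2,3,4,5,3,0])) (.node (.word [4,3,1,2,0]) (.word [3,0,2,0,3,1]))) (.node (.node (.word [0,5,2,4,0,1]) (.word [5,3,0,5,4,0])) (.node (.word [1,5,4,0,1,3,0]) (.word [4,2,5,0,5,0,2])))) (.node (.node (.node (.node (.word [0,4,2,5,2,4,0]) (.word [4,1,5,4,0,3,5])) (.word [3,5,0,2,4,0])) (.node (.word [0,1,2,0,4,5]) (.word [4,2,0,2]))) (.node (.node (.word [4,0,5,0,4,3,5]) (.word [3,1,5,0,3,5,0]))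 (.node (.word [5,1,3,0]) (.word [2,0,4,0,5,2]))))) (.node (.node (.node (.node (.node (.word [0,1,5,2,0,1]) (.word [0,5,4,0,4,3])) (.word [1,2,5,0,4,0])) (.node (.word [0,4,2,3,2,3,0]) (.word [1,3,5]))) (.node (.node (.word [0,2,4,5,2,4,0]) (.word [0,3,2,1,5,0])) (.node (.word [0,5,0,3,0]) (.word [5,0,3,2])))) (.node (.node (.node (.node (.word [2,1,3,5,0,2,3,2,0,4,0,1]) (.word [4,5,4,0,5,4,5])) (.word [1,5,0,1,3,4,0])) (.node (.word [3,5,0,5,2,0]) (.word [2,5,4,3,0,2]))) (.node (.node (.word [0,2,4,0,3,0,2]) (.word [5,2,0,2,1])) (.node (.word [0,1,3,0,4,3,0]) (.word [4,0,3,4,2,0,3])))))))))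

/-- A subtree. -/
def wt38 : WTree :=
  (.node (.node (.node (.node (.node (.node (.node (.node (.node (.word [0,1,5,4,5,0]) (.word [3,1,3,0,3])) (.word [0,3,4,3,0])) (.node (.word [4,0,2,3,2,3,0]) (.word [4,2,4,0,2,1]))) (.node (.node (.word [2,5,3,0,1]) (.word [1,4,2,1,3,4,0])) (.node (.word [0,3,0,5,3,0,2]) (.word [2,0,3,0,3,4,5])))) (.node (.node (.node (.node (.word [0,2,5,2,0,1]) (.word [4,0,2,0,5,3])) (.word [5,4,5,0,4,0])) (.node (.word [0,4,3,2,0]) (.word [0,5,0,1,3,5]))) (.node (.node (.word [1,5,0,4,5,1,2,5,2,5,2,0,3]) (.word [0,4,5,1,5,0])) (.node (.word [3,1,3,5,0,3,0]) (.word [2,0,2,3,2,3]))))) (.node (.node (.node (.node (.node (.word [0,1,3,2,0,1]) (.word [3,4,5,0,3])) (.word [4,0])) (.node (.word [0,4,0,1,5,0,3,0,5,0,3,5,0,1]) (.word [1,5,0,3,0,3,1]))) (.node (.node (.word [3,4,5,1,0,5,0,5,1,2,3,2,1]) (.word [2,0,1,3,1,5,0])) (.node (.word [3,4,1,2,0,3,0]) (.word [1,2,5,0,2])))) (.node (.node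 (.node (.node (.word [1,3,4,1,3,0]) (.word [2,3,2,5,0,4,5])) (.word [3,0,3,2,4,0])) (.node (.word [3,5,0,4,2,0]) (.word [0,5,4,2,0,2]))) (.node (.node (.word [0,5,0,3,5,0,4,3,2,0,1,2,0]) (.word [0,5,2,3,5,0])) (.node (.word [3,4,5,1,3,0]) (.word [2,3,4,0,5,2])))))) (.node (.node (.node (.node (.node (.node (.word [1,4,5,1,2,5,0]) (.word [2,5,3,0,5,0,3])) (.word [1,2,4,0,5,3,0])) (.node (.word [2,3,5,0,2,0]) (.word [2,4,2,1]))) (.node (.node (.word [2,4,0,2,4,0,1]) (.word [4,3,5,3,4,0])) (.node (.word [4,1,4,5,2,0]) (.word [1,2,0,1,5,0,3])))) (.node (.node (.node (.node (.word [2,0,4,2,4,0,1]) (.word [0,3,5,0,2,5,3])) (.word [3,5,1,4,0])) (.node (.word [0,4,5,3,2,0]) (.word [4,0,2,0,2]))) (.node (.node (.word [1,5,3,0,2,4,5]) (.word [2,0,4,5,2,5,0])) (.node (.word [4,1,3,0]) (.word [0,4,5,4,2]))))) (.node (.node (.node (.node (.node (.word [1,3,2,5,3,0,1]) (.word [0,4,3])) (.word [2,5,2,0,4,0])) (.node (.word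 [0,3,0,2,0,3,1]) (.word [3,1,2,3]))) (.node (.node (.word [3,5,4,0,1]) (.word [0,3,5,4,5,4,0])) (.node (.word [5,2,0,3,0,3,0]) (.word [0,2,3,0,3])))) (.node (.node (.node (.node (.word [2,3,0,5,4,0,3]) (.word [2,3,0,2,4,5])) (.word [0,1,5,2,4,0])) (.node (.word [3,0,4,2,5,3,0]) (.word [3,5,0,3,0,2]))) (.node (.node (.word [1,5,4,1,0,5,4,0]) (.word [0,4,0,5,4,5,0])) (.node (.word [0,5,4,2,3,0]) (.word [3]))))))) (.node (.node (.node (.node (.node (.node (.node (.word [0,2,5,2,3,0,2]) (.word [2,5,4,0,3])) (.word [0,3,2,0,5,0,3])) (.node (.word [1,5,2,0,5,4,5,3,5,2,0,3,0]) (.word [3,2,1]))) (.node (.node (.word [5,2,0,4,0,1]) (.word [1,4,5,0,2,4,5])) (.node (.word [1,2,0,3,2,3,0]) (.word [4,0,2,4,0,2])))) (.node (.node (.node (.node (.word [5,4,5,2,0,1]) (.word [5,4,0,5,3])) (.word [4,2,1,4,0])) (.node (.word [3,0,1,5,3,2,0]) (.word [0,5,0,4,5,1]))) (.node (.node (.word [4,2,0,1,4,5,0,5,4,2,0]) (.word [0,2,4,0,2,5,0]))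 (.node (.word [1,5,0,2,1,3,0]) (.word [2,4,0,5,3,2]))))) (.node (.node (.node (.node (.node (.word [4,3,2,0,1]) (.word [0,5,3,2,3])) (.word [0,1,4,0,3,2])) (.node (.word [5,0,2,4,0,1,5,0,4,0]) (.word [5,3,4,0,3,1]))) (.node (.node (.word [1,3,2,0,2,5,3]) (.word [1,4,3,5,4,0])) (.node (.word [0,1,5,2,0,3,0]) (.word [3,0,4,5,0,2])))) (.node (.node (.node (.node (.word [0,4,0,2,5,2,3]) (.word [5,0,4,5,3,5])) (.word [1,5,3,2,4,0])) (.node (.word [1,2,3,0,2,1]) (.word [4,0,1,3,0,2]))) (.node (.node (.word [4,3,1,2,0,2,0]) (.word [0,2,4,5,0])) (.node (.word [0,1,3,2,3,0]) (.word [5,4,0,3,5,2])))))) (.node (.node (.node (.node (.node (.node (.word [0,5,0,1,5,0,3]) (.word [3,2,5,0,3])) (.word [5,2,5,3,0])) (.node (.word [0,1,3,1,2,0]) (.word [0,3,0,4,5,2,1]))) (.node (.node (.word [2,4,1,5,0,5,0,5,1,0,4,0,5,0,1]) (.word [0,3,0,5,4,0])) (.node (.word [3,2,0,5,0,5,2,3,4,0]) (.word [5,4,0,5,0,2])))) (.node (.node (.node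 (.node (.word [1,5,0,3,0,1]) (.word [5,1,4,0,3,5])) (.word [0,1,4,0,2,4,0])) (.node (.word [4,2,1,5,0,3,0]) (.word [3,2,0,2]))) (.node (.node (.word [1,2,0,4,5,0,1,0,5,0,4,3,0]) (.word [3,4,0,3,5,0])) (.node (.word [3,4,1,3,0]) (.word [4,3,0,5,2]))))) (.node (.node (.node (.node (.node (.word [2,5,4,2,0,1]) (.word [2,4,0,4,3])) (.word [3,1,5,0,4,0])) (.node (.word [1,5,1,3,2,0]) (.word [4,5,0,5,3,1]))) (.node (.node (.word [4,0,5,0,1]) (.word [5,2,4,5,2,1])) (.node (.word [1,3,5,3,0,3,0]) (.word [2,3,4,0,3,2])))) (.node (.node (.node (.node (.word [0,5,3,0,1]) (.word [2,0,5,4,5])) (.word [2,4,5,2,4,0])) (.node (.word [0,4,0,5,2,0]) (.word [3,0,4,3,0,2]))) (.node (.node (.word [1,4,0,4,5,4,0]) (.word [4,1,2,0,2,1])) (.node (.word [1,5,0,5,3,0]) (.word [4,5,3,2,0,3])))))))) (.node (.node (.node (.node (.node (.node (.node (.node (.word [0,3,2,3,0,3,0]) (.word [0,4,0,4,3])) (.word [3,0,1,5,3,0])) (.node (.word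 [2,3,5,2,4,2,5,1,3,5,3,0,3,0]) (.word [3,4,0,5,0,2,1]))) (.node (.node (.word [3,4,1,5,3,0,2]) (.word [2,3,0,2,3,4,0])) (.node (.word [5,0,2,5,2,0]) (.word [5,0,4,0,2])))) (.node (.node (.node (.node (.word [0,1,4,5,2,0,1]) (.word [3,0,5,3])) (.word [1,2,1,3,2,4,0])) (.node (.word [0,2,5,2,1,5,0]) (.word [4,0,5,1,3,5]))) (.node (.node (.word [1,3,5,0,1]) (.word [3,0,2,5,0])) (.node (.word [2,1,3,0]) (.word [0,2,1,2,4,0,3]))))) (.node (.node (.node (.node (.node (.word [0,5,0,2,4,0,1]) (.word [3,2,4,0,2,3])) (.word [0,3,0,1,4,0])) (.node (.word [2,3,2,3,0,2,1,3,5,0,3]) (.word [0,3,0,4,0,3,1]))) (.node (.node (.word [2,4,5,0,5,0,1,5,0,5,3]) (.word [2,4,1,5,4,0])) (.node (.word [4,3,2,0,3,0]) (.word [1,3,5,0,2])))) (.node (.node (.node (.node (.word [2,4,5,0,1,5,0,5,1,2,5,0,3,4,0]) (.word [2,0,5,3,5])) (.word [3,1,2,3,2,4,0])) (.node (.word [0,1,5,1,4,2,0]) (.word [5,4,0,2,0,4,5]))) (.node (.node (.word [1,4,0,4,3,5,1,5,0,2,5,3])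 (.word [0,3,0,4,5,0])) (.node (.word [0,5,0,2,3,0]) (.word [5,0,5,0,5,2])))))) (.node (.node (.node (.node (.node (.node (.word [5,4,0,2,0,1]) (.word [2,0,2,1,5,0,3])) (.word [1,2,0,3,2,5,0])) (.node (.word [0,4,2,0,5,0,3]) (.word [4,0,5,2,1]))) (.node (.node (.word [1,3,2,4,0,1]) (.word [2,0,5,4,0])) (.node (.word [1,4,5,2,5,0]) (.word [3,0,5,0,2])))) (.node (.node (.node (.node (.word [2,4,0,2,0,2,0,4,1,2,1,4,0]) (.word [1,4,2,0,3,5])) (.word [2,1,2,5,2,0,3])) (.node (.word [3,0,1,4,2,0]) (.word [0,5,0,2,0,2]))) (.node (.node (.word [2,3,4,5,4,0,3,2,4,3,0]) (.word [0,5,4,0,5,0,2])) (.node (.word [3,0,3,1,5,0]) (.word [5,2,4,2,0,5,2]))))) (.node (.node (.node (.node (.node (.word [0,4,5,0,5,3,1]) (.word [2,5,2,0,4,3])) (.word [2,0,5,3,0,4,0])) (.node (.word [4,1,5,0,3,2,0]) (.word [3,0,1,5,4,3]))) (.node (.node (.word [0,2,0,4,5,0,3]) (.word [0,5,0,1,5,4,5])) (.node (.word [4,3,0,3,0]) (.word [0,4,0,3,2]))))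 (.node (.node (.node (.node (.word [2,0,2,3,4,0,1]) (.word [4,0,5,2,4,5])) (.word [1,2,5,2,4,0])) (.node (.word [0,1,3,0,2,4,2]) (.word [2,3,0,2]))) (.node (.node (.word [1,5,0,1,4,2,0]) (.word [4,5,4,5,4,5,0])) (.node (.word [3,4,0,2,5,3]) (.word [0,5,0,2,0,3]))))))) (.node (.node (.node (.node (.node (.node (.node (.word [0,4,5,0,2,4,5]) (.word [4,3,0,1,5,0,3])) (.word [1,3,0,5,3,0])) (.node (.word [0,4,3,5,3,4,0]) (.word [1,2,3,2]))) (.node (.node (.word [0,5,2,4,0,4,3]) (.word [5,0,1,5,3,4,0])) (.node (.word [0,1,4,5,2,0]) (.word [0,1,2,4,0,5,3])))) (.node (.node (.node (.node (.word [0,5,0,4,0,2,1,3,0,5,4,0]) (.word [5,4,5,0,5,3])) (.word [5,3,1,4,0])) (.node (.word [1,5,3,2,0]) (.word [2,0,1,2,0,2]))) (.node (.node (.word [2,3,5,4,0,3,1]) (.word [1,3,5,0,3,2])) (.node (.word [2,0,1,3,5,0,2,4,5,4,2,0,2]) (.word [0,4,0,2,4,2]))))) (.node (.node (.node (.node (.node (.word [0,1,4,2,0,1]) (.word [5,2,3]))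 (.word [4,3,2,0,4,0])) (.node (.word [0,1,4,2,5,3,0]) (.word [1,5,0,3,1]))) (.node (.node (.word [2,5,3,0,2,0,3]) (.word [1,4,5,4,0])) (.node (.word [3,0,5,3,0,5,3]) (.word [5,4,5,0,2])))) (.node (.node (.node (.node (.word [0,3,4,2,4,0,2]) (.word [4,0,5,0,4,5])) (.word [2,3,1,4,2,4,0])) (.node (.word [0,1,5,4,2,0]) (.word [5,3,0,3,0,2]))) (.node (.node (.word [0,1,4,0,2,3,2,3,5,0,3,2,3,0]) (.word [0,3,0,5,0,3])) (.node (.word [0,4,2,0,2,1]) (.word [4,0,4,5,2])))))) (.node (.node (.node (.node (.node (.node (.word [3,2,5,2,3,0]) (.word [4,2,3,5,0,3])) (.word [5,2,4,5,3,0])) (.node (.word [2,0,2,3,4,5]) (.word [3,2,0,3,1]))) (.node (.node (.word [3,5,2,4,2,0]) (.word [3,2,4,0,5,4,0])) (.node (.word [1,5,0,1,3,0]) (.word [2,1,5,0,2])))) (.node (.node (.node (.node (.word [2,1,5,1,2,5,3,4,2,5,2,0]) (.word [0,1,5,0,3,5])) (.word [0,2,1,3,5,0,2])) (.node (.word [2,4,0,4,2,0]) (.word [2,4,2,0,2]))) (.node (.node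 (.word [0,1,5,0,1,2,0]) (.word [2,0,1,2,3,5,0])) (.node (.word [0,1,5,1,3,4,0]) (.word [2,4,0,5,2]))))) (.node (.node (.node (.node (.node (.word [5,3,0,5,2,0,1]) (.word [4,0,5,4,3])) (.word [5,1,3,5,0,4,0])) (.node (.word [2,4,2,3,2,0]) (.word [3,2,0,1,3,5]))) (.node (.node (.word [1,3,2,5,0]) (.word [0,3,1,5,0])) (.node (.word [2,1,5,0,3,0]) (.word [1,5,0,3,2])))) (.node (.node (.node (.word [0,4,5,0,3,2,0]) (.word [4,3,0,3,4,0])) (.node (.word [0,2,0,4,5,4,0]) (.word [3,2,5,3,0,2]))) (.node (.node (.word [0,3,4,0,2,0]) (.word [0,1,3,0,3,2,1])) (.node (.word [4,3,0,4,3,0]) (.word [2,5,2,0,3])))))))))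

/-- A subtree. -/
def wt39 : WTree :=
  (.node (.node (.node (.node (.node (.node (.node (.node (.node (.word [0,1]) (.word [4,0,1,3,0,3])) (.word [0,5,0,4,3,0])) (.node (.word [5,4,0,2,0]) (.word [1,3,0,2,1]))) (.node (.node (.word [0,3,4,0,4,3,5,3,2,5,0]) (.word [1,3,4,0])) (.node (.word [3,1,5,2,0]) (.word [4,0,3,5,3,0,2])))) (.node (.node (.node (.node (.word [3,1,5,2,0,1]) (.word [5,3])) (.word [2,3,0,4,2,4,2])) (.node (.word [0,5,2,3,2,0]) (.word [0,3,0,1,3,5]))) (.node (.node (.word [0,5,1,2,0]) (.word [0,2,1,3,5,0,3])) (.node (.word [5,3,1,5,0,3,0]) (.word [0,4,5,0,3,2]))))) (.node (.node (.node (.node (.node (.word [1,2,5,2,0,1]) (.word [5,3,5,0,3])) (.word [1,5,3,4,5,3,0])) (.node (.word [4,1,2,0]) (.word [3,0,3,1]))) (.node (.node (.word [3,0,3,4,0,1]) (.word [0,1,2,0,5,3,2])) (.node (.word [1,4,0,2,0,4,5]) (.word [2,4,1,5,0,2])))) (.node (.node (.node (.node (.word [0,2,4,3,0]) (.word [1,5,0,3,5]))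 (.word [5,1,2,4,0])) (.node (.word [5,4,0,4,2,0]) (.word [1,3,2,4,2,0,2]))) (.node (.node (.word [1,3,2,5,0,2,0]) (.word [3,0,4,2,3,0,2])) (.node (.word [4,1,5,1,3,0]) (.word [4,2,4,0,5,2])))))) (.node (.node (.node (.node (.node (.node (.word [2,0,4,2,0,4,0]) (.word [2,1,2,0,5,0,3])) (.word [1,5,3,0,5,3,0])) (.node (.word [0,4,0,5,1,3,0]) (.word [2,1,5,3,2]))) (.node (.node (.word [0,2,3,1,5,0]) (.word [2,3,5,3,4,0])) (.node (.word [2,4,0,4,5,2,0]) (.word [4,5,3,4,0,2])))) (.node (.node (.node (.node (.word [0,1,5,4,5,2,0]) (.word [2,0,3,0,2,5,3])) (.word [2,0,1,5,1,4,0])) (.node (.word [4,3,1,2,4,0,2,5,0,3,0,2,1]) (.word [0,4,2,4,2,0,2]))) (.node (.node (.word [4,0,1,2,4,0]) (.word [0,5,2,5,0])) (.node (.word [0,3,5,2,1,3,0]) (.word [5,2,4,0,2,4,2]))))) (.node (.node (.node (.node (.node (.word [1,2,5,0,3,5,0]) (.word [5,3,0,5,2,3])) (.word [0,4,2,0,4,0])) (.node (.word [1,3,0,1,3,2,0]) (.word [0,3,5,0,3,1])))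 (.node (.node (.word [1,5,0,5,4,0,1]) (.word [1,3,2,4,5,4,0])) (.node (.word [5,3,0,5,3,1,2,0,5,0,5,2]) (.word [1,4,0,1,2,0,3])))) (.node (.node (.node (.node (.word [0,2,3,2,4,0,2]) (.word [2,4,5,0,4,5])) (.word [3,0,3,4,2,4,0])) (.node (.word [5,0,5,4,2,0]) (.word [3,4,0,3,0,2]))) (.node (.node (.word [0,3,1,5,0,3,2]) (.word [1,5,3,4,5,0])) (.node (.word [2,4,2,3,0]) (.word [5,0,5,0,4,5,2]))))))) (.node (.node (.node (.node (.node (.node (.node (.word [1,4,2,0,4,3,2,4,5,0]) (.word [3,5,2,0,3,5])) (.word [2,0,5,1,2,4,0])) (.node (.word [1,5,0,5,0,2,0]) (.word [3,2,5,0,2,1]))) (.node (.node (.word [3,2,0,4,0,1]) (.word [0,5,4,0,5,3,5])) (.node (.word [0,3,2,5,2,0]) (.word [0,2,4,0,2])))) (.node (.node (.node (.node (.word [0,2,5,0,2,0,3]) (.word [5,0,3,0,5,3])) (.word [0,5,1,2,1,4,0])) (.node (.word [1,3,1,2,0,3,1]) (.word [0,2,0,4,5,1]))) (.node (.node (.word [0,1,2,0,5,2,3]) (.word [2,3,0,2,5,0])) (.node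 (.word [0,3,0,3,5,0,3]) (.word [2,0,2,0,5,3,2]))))) (.node (.node (.node (.node (.node (.word [2,0,3,1,3,0,3]) (.word [4,0,3,2,3])) (.word [2,5,0,1,4,0])) (.node (.word [5,1,2,0]) (.word [0,3,5,4,0,3,2]))) (.node (.node (.word [5,3,4,0,1]) (.word [2,3,2,5,2,5,0])) (.node (.word [0,5,3,0,3,0]) (.word [4,3,2,0,5,2])))) (.node (.node (.node (.node (.word [2,3,0,1]) (.word [4,0,5,3,5])) (.word [0,4,3,2,4,0])) (.node (.word [0,2,4,2,0]) (.word [1,3,4,0,5,3]))) (.node (.node (.word [2,0,2,4,5,0,5,2,0,1]) (.word [0,5,0,4,5,0])) (.node (.word [0,4,1,2,3,0]) (.word [1,2,0,2,5,3])))))) (.node (.node (.node (.node (.node (.node (.word [1,2,5,0,5,0,2]) (.word [0,3,1,5,0,3])) (.word [0,2,4,1,5,3,0])) (.node (.word [0,5,1,3,2,0]) (.word [3,5,2,1]))) (.node (.node (.word [0,2,0,4,5,0]) (.word [1,3,2,0,5,4,0])) (.node (.word [2,3,0,1,3,0]) (.word [4,3,0,5,0,2])))) (.node (.node (.node (.node (.word [2,0,2,0,5,2,3]) (.word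 [1,2,5,2,0,3,5])) (.word [3,0,2,4,0])) (.node (.word [5,3,0,1,4,2,0]) (.word [4,0,1,5,0,3,2]))) (.node (.node (.word [0,3,0,3,2,0,2,5,3,0,2,0,3]) (.word [4,3,0,3,5,0])) (.node (.word [0,5,0,5,0]) (.word [5,3,0,3,0,5,2]))))) (.node (.node (.node (.node (.node (.word [2,5,0,4,0,2,4,1,3,0,2]) (.word [0,1,3,0,4,3])) (.word [5,0,4,0])) (.node (.word [1,3,2,3,0,5,2]) (.word [4,0,2,0,5,3,1]))) (.node (.node (.word [2,5,4,2,1,5,0]) (.word [3,0,2,5,3,5])) (.node (.word [1,4,0,5,0,2]) (.word [4,1,4,0,3,2])))) (.node (.node (.node (.node (.word [0,1,3,4,3,0]) (.word [5,2,0,3,4,5])) (.word [1,2,0,4,5,0,3])) (.node (.word [4,3,0,5,2,0]) (.word [4,2,3,0,2]))) (.node (.node (.word [0,5,0,3,5,0,3,0,4,3,5]) (.word [1,2,0,2,0,3])) (.node (.word [2,4,1,3,5,0,3]) (.word [4,5,0,2,0,3])))))))) (.node (.node (.node (.node (.node (.node (.node (.node (.word [2,0,2,0,1]) (.word [4,5,3,0,3])) (.word [1,5,0,2,4,0])) (.node (.word [3,5,0,3,5,0,2])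 (.word [1,3,0,4,5,2,1]))) (.node (.node (.word [0,1,2,1,4,0,3]) (.word [3,5,1,3,4,0])) (.node (.word [0,2,5,2,0]) (.word [4,0,2])))) (.node (.node (.node (.node (.word [1,3,4,5,3,0,2]) (.word [3,2,3,0,4,5])) (.word [0,3,4,0,5,0,2])) (.node (.word [2,5,0,4,3,2,0]) (.word [0,1,2,3,2,0,3]))) (.node (.node (.word [2,0,2,5,2,4,0]) (.word [0,1,2,0,2,5,0])) (.node (.word [5,3,5,0,3,0]) (.word [5,0,2,3,2]))))) (.node (.node (.node (.node (.node (.word [0,5,4,0,4,5,2]) (.word [1,4,2,0,5,3])) (.word [3,0,4,5,4,0,2])) (.node (.word [2,4,1,2,0]) (.word [4,3,0,3,1]))) (.node (.node (.word [0,2,3,4,0,1]) (.word [1,3,0,4,3,5])) (.node (.word [0,3,2,0,3,0]) (.word [5,3,2,5,0,2])))) (.node (.node (.node (.node (.word [0,5,1,3,0,1]) (.word [3,0,3,0,4,3,5])) (.word [2,1,3,2,4,0])) (.node (.word [0,4,1,4,2,0]) (.word [2,0,4,5]))) (.node (.node (.word [2,0,2,0]) (.word [0,3,2,4,5,0])) (.node (.word [0,1,2,3,0]) (.word [4,3,5,4,0,5,2]))))))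 (.node (.node (.node (.node (.node (.node (.word [3,1,4,0,2,0,1]) (.word [2,5,0,5,0,3])) (.word [2,3,4,0,5,3,0])) (.node (.word [2,0,1,3,5,0,3]) (.word [5,4,2,1]))) (.node (.node (.word [0,2,5,4,2,3,0]) (.word [1,2,0,4,5,0,2])) (.node (.word [1,2,4,5,2,0]) (.word [1,5,4,5,4,0,2])))) (.node (.node (.node (.node (.word [1,2,5,0,3,2,0,2,0]) (.word [0,2,0,3,5])) (.word [5,1,4,5,1,4,0])) (.node (.word [1,4,1,2,0,2,1]) (.word [4,1,4,0,2,0,2]))) (.node (.node (.word [0,2,0,1,2,0]) (.word [0,1,5,3,0,2])) (.node (.word [0,2,0,5,2,0,3]) (.word [2,0,5,2]))))) (.node (.node (.node (.node (.node (.word [5,0,2,0,3,5,3,5,0,3,5,2]) (.word [5,3,0,2,0,4,3])) (.word [3,0,4,0])) (.node (.word [4,3,0,3,2,0]) (.word [0,4,1,2,3]))) (.node (.node (.word [0,1,4,0,3,5]) (.word [1,5,4,5])) (.node (.word [0,3,0,2,3,0]) (.word [4,0,2,3,0,3])))) (.node (.node (.node (.node (.word [0,2,0,1,2,5,0]) (.word [1,3,0,5,2,4,5])) (.word [4,0,5,2,4,0]))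 (.node (.word [5,4,5,4,2,0]) (.word [2,4,1,3,0,2]))) (.node (.node (.word [0,1,5,2,0,2,0]) (.word [1,5,4,5,0])) (.node (.word [0,5,2,3,0]) (.word [0,4,2,0,2,0,3]))))))) (.node (.node (.node (.node (.node (.node (.node (.word [1,3,0,2,0,1]) (.word [1,2,3,5,4,0,3])) (.word [5,4,2,0,5,3,0])) (.node (.word [1,2,5,0,2,0,3]) (.word [3,0,3,2,1]))) (.node (.node (.word [2,3,0,4,0,1]) (.word [1,4,2,3,4,0])) (.node (.word [2,3,1,4,2,3,0]) (.word [4,2,4,0,2])))) (.node (.node (.node (.node (.word [0,5,3,1,3,4,0]) (.word [0,4,0,5,0,4,5])) (.word [1,4,2,1,4,0])) (.node (.word [1,4,5,0,3,0]) (.word [1,2,0,5,3,2]))) (.node (.node (.word [0,2,5,3,5,0,1]) (.word [2,0,1,3,5,0,2])) (.node (.word [3,2,0,2,1]) (.word [4,2]))))) (.node (.node (.node (.node (.node (.word [3,4,3,2,0,1]) (.word [0,2,0,4,2,3])) (.word [1,4,0,4,2,0,3])) (.node (.word [0,4,5,1,2,0]) (.word [5,0,3,1]))) (.node (.node (.word [3,2,0,2,5,3]) (.word [0,5,3,5,4,0]))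 (.node (.word [2,1,5,2,0,3,0]) (.word [1,4,5,0,2])))) (.node (.node (.node (.node (.word [2,0,3,2,3,0,1]) (.word [4,0,3,0,4,5])) (.word [0,3,5,3,0,3])) (.node (.word [0,5,2,4,2,0]) (.word [0,2,0,3,0,2]))) (.node (.node (.word [0,4,3,5,2,3,0]) (.word [1,5,0,4,2,3])) (.node (.word [1,5,0,3,2,3,0]) (.word [1,5,0,3,5,2])))))) (.node (.node (.node (.node (.node (.node (.word [3,1,2,0,1]) (.word [0,1,3,5,0,3])) (.word [2,0,4,5,3,0])) (.node (.word [1,3,1,2,0]) (.word [2,0,3,1]))) (.node (.node (.word [0,2,3,4,2,0,3]) (.word [1,2,3,0,5,4,0])) (.node (.word [0,4,0,5,0,3,0]) (.word [2,5,0,5,0,2])))) (.node (.node (.node (.node (.word [4,5,0,3,0,1]) (.word [5,4,0,3,5])) (.word [3,2,4,5,3,4,0,5,3,0])) (.node (.word [2,0,3,4,0,5,3]) (.word [2,5,3,2,0,2]))) (.node (.node (.word [0,3,0,5,0,2,1]) (.word [5,0,5,0,3,5,0])) (.node (.word [2,5,4,1,3,0]) (.word [0,4,0,5,2]))))) (.node (.node (.node (.node (.node (.word [5,2,0,1])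 (.word [3,4,0,4,3])) (.word [1,5,3,0,2,0,3])) (.node (.word [1,2,3,2,3,0]) (.word [0,3,2,5,3,0,2]))) (.node (.node (.word [0,1,4,3,0]) (.word [5,0,2,1,5,0])) (.node (.word [3,4,5,3,0,3,0]) (.word [2,5,4,0,3,2])))) (.node (.node (.node (.node (.word [1,2,0,5,3,0,1]) (.word [5,4,0,5,4,5])) (.word [1,2,3,0,3,4,0])) (.node (.word [2,5,0,5,2,0]) (.word [5,4,3,0,2]))) (.node (.node (.word [1,4,0,2,0]) (.word [0,5,4,2,0,2,1])) (.node (.word [3,0,4,3,0]) (.word [3,4,2,0,3])))))))))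

/-- A subtree. -/
def wt40 : WTree :=
  (.node (.node (.node (.node (.node (.node (.node (.node (.node (.word [0,5,0,1,3,0,4,5,2,3,0]) (.word [1,5,0,3,0,3])) (.word [4,5,0,4,3,0])) (.node (.word [4,5,4,0,2,0]) (.word [4,0,2,1]))) (.node (.node (.word [4,0,2,5,3,0,1]) (.word [1,3,0,3,5,2,1])) (.node (.word [0,5,0,1,3,4,0]) (.word [3,0,4,5,3,0,2])))) (.node (.node (.node (.node (.word [1,2,0,5,0,1]) (.word [0,2,0,2,5,3])) (.word [3,4,5,0,4,0])) (.node (.word [1,5,4,5,0,2,1]) (.word [5,4,0,1,3,5]))) (.node (.node (.word [0,5,2,0,4,3,0]) (.word [5,1,5,0])) (.node (.word [1,4,3,5,3,0,2]) (.word [2,3,5,4,2,0,3]))))) (.node (.node (.node (.node (.node (.word [3,2,0,1]) (.word [3,1,4,5,0,3])) (.word [4,5,4,5,3,0])) (.node (.word [3,2,1,3,2,0,1,5,2,4,0,3]) (.word [2,4,0,3,0,3,1]))) (.node (.node (.word [0,5,0,3,4,0,1]) (.word [3,5,0,5,4,0])) (.node (.word [0,3,0,5,2,0,1,3,4,2,4,0]) (.word [4,3,0,3,4,5])))) (.node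 (.node (.node (.node (.word [0,5,2,3,5,0,3]) (.word [2,4,5,0,3,5])) (.word [2,0,3,2,4,0])) (.node (.word [1,5,0,4,2,0]) (.word [2,3,4,2,0,2]))) (.node (.node (.word [1,5,0,4,1,2,5,4,2,0,3,5]) (.word [4,3,0,3,5,2])) (.node (.word [2,4,5,1,3,0]) (.word [5,0,3,4,0,5,2])))))) (.node (.node (.node (.node (.node (.node (.word [4,0,2,0,1]) (.word [0,5,3,0,5,0,3])) (.word [1,4,0,5,3,0])) (.node (.word [1,2,0,3,0,4,5]) (.word [1,3,5,3,0,5,3]))) (.node (.node (.word [1,2,0,4,5,0,1]) (.word [0,3,4,0,3,2,1])) (.node (.word [0,2,1,4,5,2,0]) (.word [2,0,1,5,0,3])))) (.node (.node (.node (.node (.word [5,2,0,3,1,2,1,3,0,2,5,2,1,3,4,1,5,2,3,4,3,5,4,1,2,3,0,1,4,2,0,1]) (.word [1,5,0,2,5,3])) (.word [1,5,1,4,0])) (.node (.word [3,0,3,4,3,0]) (.word [5,0,3,0,2,0,2]))) (.node (.node (.word [2,1,5,2,0,3]) (.word [4,5,2,5,0])) (.node (.word [0,4,3,5,0,3]) (.word [5,4,2]))))) (.node (.node (.node (.node (.node (.word [0,5,1,4,2,0,1])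 (.word [0,3,2,5,2,3])) (.word [5,3,4,2,0,4,0])) (.node (.word [5,0,3,0,3,2,0]) (.word [1,4,5,0,3,1]))) (.node (.node (.word [1,3,4,5,4,5,0]) (.word [5,4,5,4,0])) (.node (.word [3,1,5,4,1,3,1,5,3,4,0,2,3,2,4,0,2]) (.word [2,0,4,5,0,3])))) (.node (.node (.node (.node (.word [0,3,0,5,4,0,3]) (.word [3,0,2,4,5])) (.word [5,2,4,0])) (.node (.word [3,0,3,4,5,0]) (.word [0,3,2,0,5,3,5]))) (.node (.node (.word [3,4,2,0,2,0]) (.word [5,3,0,5,4,5,0])) (.node (.word [1,3,4,2,3,0]) (.word [2,0,5,4,5,2]))))))) (.node (.node (.node (.node (.node (.node (.node (.word [3,0,2,0,1]) (.word [0,5,2,4,0,3])) (.word [3,1,2,0,5,3,0])) (.node (.word [3,1,5,0,2,0]) (.word [0,5,4,5,0,2,1]))) (.node (.node (.word [0,2,4,2,4,5,0]) (.word [0,4,3,2,3,4,0])) (.node (.word [4,2,5,2,0]) (.word [0,3,0,2,4,0,2])))) (.node (.node (.node (.node (.word [0,1,5,2,5,3,0]) (.word [3,4,0,5,3])) (.word [1,4,3,2,1,4,0])) (.node (.word [0,5,3,2,0]) (.word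 [4,0,3,0,4,5,1]))) (.node (.node (.word [0,5,3,5,0,1]) (.word [0,4,2,3,5,0,3])) (.node (.word [4,2,3,2,0,4,0]) (.word [1,5,1,4,0,3,5]))))) (.node (.node (.node (.node (.node (.word [2,5,4,0,3,1]) (.word [4,3,2,3])) (.word [2,0,2,5,3,2])) (.node (.word [1,3,2,5,2,0]) (.word [4,0,2,4,0,4,3]))) (.node (.node (.word [1,4,5,0,5,0,3]) (.word [0,4,3,5,4,0])) (.node (.word [5,2,0,3,0]) (.word [3,0,4,0,2,4,2])))) (.node (.node (.node (.node (.word [0,1,4,5,0,3,2]) (.word [0,4,5,3,5])) (.word [1,2,4,0,3,1])) (.node (.word [4,3,2,4,2,0]) (.word [2,0,1,3,0,2]))) (.node (.node (.word [3,1,2,0,2,0]) (.word [2,4,0,5,2,1])) (.node (.word [3,2,3,0]) (.word [0,3,0,3,5,2])))))) (.node (.node (.node (.node (.node (.node (.word [0,1,5,0,2,4,5]) (.word [0,2,5,0,3])) (.word [3,4,2,5,3,0])) (.node (.word [3,1,2,0]) (.word [0,4,5,2,1]))) (.node (.node (.word [4,0,4,2,4,0,1]) (.word [5,2,0,5,4,0])) (.node (.word [1,4,0,1,3,0]) (.word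 [3,4,0,5,0,2])))) (.node (.node (.node (.node (.word [3,2,4,0,2,3,0,3]) (.word [1,4,0,3,5])) (.word [4,0,2,4,0])) (.node (.word [0,2,0,2,1,5,0]) (.word [3,4,2,5,2,0,3]))) (.node (.node (.word [5,0,3,0,1,2,0]) (.word [0,2,4,0,3,5,0])) (.node (.word [0,4,3,2,0,4,3]) (.word [0,3,2,3,0,5,2]))))) (.node (.node (.node (.node (.node (.word [2,0,3,1,5,0,2,0,1,2,0]) (.word [0,2,5,0,4,3])) (.word [2,1,5,0,4,0])) (.node (.word [0,2,5,1,5,0]) (.word [1,5,0,5,3,1]))) (.node (.node (.word [1,3,2,1,5,0]) (.word [0,2,4,5,2,1])) (.node (.word [5,2,5,3,0,3,0]) (.word [0,3,4,0,3,2])))) (.node (.node (.node (.node (.word [1,4,2,3,5,0,3]) (.word [5,4,5])) (.word [4,5,2,4,0])) (.node (.word [0,1,4,2,0,3,5,4,0,2,1]) (.word [0,2,0,4,3,0,2]))) (.node (.node (.word [1,2,3,5,0,3,2]) (.word [2,5,0,2,0,2,1])) (.node (.word [0,2,4,0,2,1]) (.word [5,3,2,0,3])))))))) (.node (.node (.node (.node (.node (.node (.node (.node (.word [1,2,0,2,0,1])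 (.word [0,3,0,4,0,3])) (.word [0,4,2,1,3,4,0])) (.node (.word [0,4,0,2,4,0,2]) (.word [4,0,5,0,2,1]))) (.node (.node (.word [0,5,4,5,0,4,0]) (.word [3,0,2,3,4,0])) (.node (.word [0,3,0,5,0,3,1]) (.word [5,0,3,0,4,0,2])))) (.node (.node (.node (.node (.word [4,5,2,0,1]) (.word [4,0,2,4,0,5,3])) (.word [0,3,5,2,5,0])) (.node (.word [1,2,0,3,0,2,0,3,0,4,3]) (.word [5,1,3,5]))) (.node (.node (.word [3,5,4,0,3,1,0,3,5,1,2,3,0]) (.word [0,2,0,5,0,2,1])) (.node (.word [5,4,5,0,3,0]) (.word [5,3,0,2,5,3,2]))))) (.node (.node (.node (.node (.node (.word [1,2,3,1,2,0]) (.word [0,2,4,0,2,3])) (.word [0,4,0,5,2,4,5])) (.node (.word [0,2,0,2,3,5,0]) (.word [0,1,4,0,3,1]))) (.node (.node (.word [0,4,2,3,4,0,1]) (.word [4,1,5,4,0])) (.node (.word [4,2,3,2,0,3,0]) (.word [0,4,0,3,5,0,2])))) (.node (.node (.node (.node (.word [2,5,1,3,0,1]) (.word [5,3,5])) (.word [4,5,2,5,2,1,0,5,3,2,0,3])) (.node (.word [5,1,4,2,0]) (.word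 [0,4,0,2,0,4,5]))) (.node (.node (.word [3,0,2,0,2,0]) (.word [0,1,4,0,2,3,2])) (.node (.word [4,3,0,5,3,1]) (.word [3,0,5,0,5,2])))))) (.node (.node (.node (.node (.node (.node (.word [1,3,0,1,5,0,2]) (.word [2,1,5,0,3])) (.word [0,2,5,3,0])) (.node (.word [2,0,4,5,0,2,0]) (.word [0,4,0,5,0,5,3]))) (.node (.node (.word [5,0,2,0,5,2,1,2,0,3,4,0,2]) (.word [2,5,0,2,0,3,1])) (.node (.word [1,4,2,0,1,3,5]) (.word [0,5,2,4,5,0,2])))) (.node (.node (.node (.node (.word [1,3,4,0,2,0]) (.word [1,2,0,3,5])) (.word [2,0,2,4,0])) (.node (.word [2,0,4,3,2,3,0]) (.word [5,4,0,2,0,2]))) (.node (.node (.word [0,5,3,0,5,0,2]) (.word [0,4,1,5,3,0,2])) (.node (.word [2,4,0,4,1,3,0]) (.word [2,4,2,0,5,2]))))) (.node (.node (.node (.node (.node (.word [1,3,4,2,0,1]) (.word [0,5,4,2,0,4,3])) (.word [5,3,0,4,0])) (.node (.word [1,5,0,3,2,0]) (.word [2,0,1,5,4,3]))) (.node (.node (.word [0,4,5,3,2,0,3]) (.word [5,4,0,1,5,4,5]))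 (.node (.word [0,5,2,3,0,3,0]) (.word [5,0,4,2,3,0,3])))) (.node (.node (.node (.node (.word [1,3,0,1,2,5,0]) (.word [0,5,2,4,5])) (.word [0,2,5,2,4,0])) (.node (.word [1,3,4,0,2,4,2]) (.word [1,4,5,1,3,0,2]))) (.node (.node (.word [0,4,5,0,4,3,0]) (.word [2,4,5,4,5,0])) (.node (.word [1,5,4,2,0,3,5]) (.word [5,3,0,2,0,3]))))))) (.node (.node (.node (.node (.node (.node (.node (.word [0,2,3,0,2,0,1]) (.word [0,1,5,0,3])) (.word [2,0,3,0,5,3,0])) (.node (.word [2,5,0,2,0]) (.word [1,4,0,3,2,1]))) (.node (.node (.word [0,1,5,0,4,0,1]) (.word [0,5,3,4,0])) (.node (.word [4,5,2,0]) (.word [4,0,2,3,4,0,2])))) (.node (.node (.node (.node (.word [2,5,2,0,3,0,4,2,3,5,0,2]) (.word [1,5,0,5,3])) (.word [3,2,3,1,4,0])) (.node (.word [2,4,0,4,2,4,0]) (.word [0,2,0,2]))) (.node (.node (.word [2,0,4,5,0,1]) (.word [3,0,2,3,2,5,0])) (.node (.word [1,3,0,5,3,1]) (.word [3,0,3,0,2,4,2]))))) (.node (.node (.node (.node (.node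 (.word [4,2,0,1]) (.word [2,4,2,3])) (.word [0,2,3,2,0,4,0])) (.node (.word [0,1,3,2,0]) (.word [0,1,4,0,2,0,2]))) (.node (.node (.word [2,0,5,4,0,1]) (.word [2,0,5,0,4,3])) (.node (.word [0,2,4,0,1,2,0,4,2,3]) (.word [3,4,5,0,2])))) (.node (.node (.node (.node (.word [1,3,2,3,0,1]) (.word [5,0,4,5])) (.word [1,4,2,4,0])) (.node (.word [5,4,2,0]) (.word [4,3,0,3,0,2]))) (.node (.node (.word [3,0,3,2,0,2,0]) (.word [1,3,4,5,0])) (.node (.word [1,4,3,2,3,0]) (.word [3,0,4,5,2])))))) (.node (.node (.node (.node (.node (.node (.word [3,1,2,5,2,5,1,2,4,1,2,3,0,1,5,3,0]) (.word [5,4,1,3,5,0,3])) (.word [3,2,4,5,3,0])) (.node (.word [2,1,4,3,1,2,0]) (.word [1,5,0,1,5,0,2]))) (.node (.node (.word [2,5,2,4,0,1]) (.word [0,4,0,5,4,0])) (.node (.word [2,0,5,0,1,3,0]) (.word [5,2,0,5,0,5,3])))) (.node (.node (.node (.node (.word [0,2,1,3,0,1]) (.word [5,0,3,5])) (.word [0,5,2,1,2,4,0])) (.node (.word [3,0,5,0,3,4,0])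 (.word [0,4,1,4,2,0,2]))) (.node (.node (.word [5,0,1,2,0]) (.word [0,2,3,5,0])) (.node (.word [1,2,0,5,1,3,0]) (.word [3,1,4,0,5,2]))))) (.node (.node (.node (.node (.node (.word [0,3,0,5,2,0,1]) (.word [5,4,3])) (.word [1,3,5,0,4,0])) (.node (.word [2,4,0,1,5,3,0]) (.word [2,3,5,0,5,0,3]))) (.node (.node (.word [1,3,0,5,0,2]) (.word [5,2,1,5,0])) (.node (.word [5,0,5,0,3,0]) (.word [4,0,5,0,3,2])))) (.node (.node (.node (.word [2,3,0,5,3,0,1]) (.word [2,0,5,4,3,0,2])) (.node (.word [0,2,1,5,2,0]) (.word [2,5,3,0,2]))) (.node (.node (.word [0,3,0,4,1,3,5]) (.word [0,3,0,2,1])) (.node (.word [4,2,3,0,4,3,0]) (.word [0,5,2,0,3])))))))))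

/-- A subtree. -/
def wt41 : WTree :=
  (.node (.node (.node (.node (.node (.node (.node (.node (.node (.word [2,0,1,2,0,1]) (.word [5,0,3,0,3])) (.word [0,2,0,2,0,3,5])) (.node (.word [1,4,5,0,2,0]) (.word [1,5,3,0,2,1]))) (.node (.node (.word [1,2,0,2,0,5,3]) (.word [2,1,5,0,5,0,2])) (.node (.word [5,0,3,1,5,2,0]) (.word [4,3,5,3,0,2])))) (.node (.node (.node (.node (.word [4,1,5,2,0,1]) (.word [0,1,2,0,5,3])) (.word [4,5,0,4,0])) (.node (.word [1,2,4,5,0,4,0]) (.word [4,0,1,3,5]))) (.node (.node (.word [0,4,0,5,1,2,0]) (.word [1,3,1,5,0])) (.node (.word [0,2,5,0,3,0]) (.word [2,0,2,3,2]))))) (.node (.node (.node (.node (.node (.word [0,3,5,2,0,1]) (.word [0,4,5,0,3])) (.word [3,5,4,5,3,0])) (.node (.word [0,2,0,4,1,2,0]) (.word [4,5,0,1,5,0,2]))) (.node (.node (.word [1,5,2,3,2,0]) (.word [2,0,5,0,5,4,0])) (.node (.word [0,1,2,0,3,0]) (.word [2,5,0,2])))) (.node (.node (.node (.node (.word [3,0,4,1,3,0,1])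 (.word [3,5,0,3,5])) (.word [0,3,2,4,0])) (.node (.word [0,3,4,5,2,5,0]) (.word [2,3,2,1,5,0,2]))) (.node (.node (.word [0,3,5,0,1,2,0]) (.word [1,2,3,5,0])) (.node (.word [0,4,2,5,1,3,0]) (.word [4,5,2,4,0,5,2])))))) (.node (.node (.node (.node (.node (.node (.word [0,3,4,2,3,4,0]) (.word [3,0,5,0,3])) (.word [4,5,3,0,5,3,0])) (.node (.word [0,3,5,0,2,0]) (.word [0,5,3,4,0,3,1]))) (.node (.node (.word [0,2,4,0,1]) (.word [2,5,3,4,0])) (.node (.word [0,2,1,2,0,3,0]) (.word [3,0,5,4,0,2])))) (.node (.node (.node (.node (.word [3,5,0,5,4,5,0]) (.word [2,4,0,2,5,3])) (.word [4,2,0,5,1,4,0])) (.node (.word [2,0,4,2,3,4,0]) (.word [3,0,2,0,2]))) (.node (.node (.word [1,5,2,0,3]) (.word [3,2,5,2,5,0])) (.node (.word [2,4,3,0]) (.word [1,2,0,5,4,5]))))) (.node (.node (.node (.node (.node (.word [2,5,0,5,4,3]) (.word [2,5,2,3])) (.word [4,1,4,2,0,4,0])) (.node (.word [1,4,5,4,5,3,0]) (.word [5,2,3,5,0,3,1]))) (.node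 (.node (.word [1,3,5,4,5,0]) (.word [5,2,4,5,4,0])) (.node (.word [3,0,3,0]) (.word [0,2,3,2,0,3])))) (.node (.node (.node (.node (.word [5,3,2,4,0,2]) (.word [0,2,4,5])) (.word [2,3,4,2,4,0])) (.node (.word [1,5,4,2,0]) (.word [0,5,0,3,0,2]))) (.node (.node (.word [1,4,0,4,1,3,0]) (.word [5,4,5,0])) (.node (.word [0,4,2,4,2,3,0]) (.word [1,4,0,4,3,5]))))))) (.node (.node (.node (.node (.node (.node (.node (.word [0,3,4,5,3,0,3,2,5,0,2]) (.word [2,0,2,4,0,3])) (.word [0,1,2,0,3,0,2])) (.node (.word [1,5,0,2,0]) (.word [0,4,5,0,2,1]))) (.node (.node (.word [0,2,0,2,1,3,2,3,0,3,0]) (.word [0,3,2,3,4,0])) (.node (.word [0,1,2,4,2,0,2]) (.word [2,0,2,4,0,2])))) (.node (.node (.node (.node (.word [0,3,0,4,3,0,2]) (.word [4,3,0,5,3])) (.word [1,3,2,1,4,0])) (.node (.word [1,3,5,4,3,2,0]) (.word [3,0,4,5,1]))) (.node (.node (.word [0,2,3,0,2,4,0]) (.word [0,4,0,2,5,0])) (.node (.word [0,2,4,5,3,0,3]) (.word [0,5,2,0,2,4,5])))))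 (.node (.node (.node (.node (.node (.word [2,0,2,3,2,0,1]) (.word [5,0,3,2,3])) (.word [2,0,4,0])) (.node (.word [3,4,2,5,0,5,0,2]) (.word [5,2,4,0,3,1]))) (.node (.node (.word [2,0,5,3,4,0,1]) (.word [0,2,3,5,4,0])) (.node (.word [1,2,4,0,3,5,0]) (.word [0,5,3,5,2])))) (.node (.node (.node (.node (.word [2,0,2,3,0,1]) (.word [5,0,5,3,5])) (.word [2,3,4,0,5,0,2])) (.node (.word [1,2,0,2,4,2,0]) (.word [5,4,2,0,4,5]))) (.node (.node (.word [4,2,1,2,0,2,0]) (.word [5,0,5,0,4,5,0])) (.node (.word [5,1,2,3,0]) (.word [2,0,3,5,2])))))) (.node (.node (.node (.node (.node (.node (.word [1,5,0,2,0,4,3]) (.word [5,3,1,5,0,3])) (.word [0,3,5,3,0,4,0])) (.node (.word [1,4,0,4,3]) (.word [0,5,0,3,5,2,1]))) (.node (.node (.word [0,1,4,2,4,0,1]) (.word [1,4,2,0,5,4,0])) (.node (.word [5,3,0,1,3,0]) (.word [4,5,3,0,5,0,2])))) (.node (.node (.node (.node (.word [2,0,5,0,3,0,1]) (.word [4,0,3,5])) (.word [0,4,3,0,2,4,0]))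 (.node (.word [5,0,1,4,2,0]) (.word [0,1,4,1,2,0,2]))) (.node (.node (.word [0,5,0,2,0,4,5,2,0,3,5]) (.word [4,0,3,5,0])) (.node (.word [1,4,2,0,4,3]) (.word [1,2,3,0,5,2]))))) (.node (.node (.node (.node (.node (.word [4,0,5,4,2,0,1]) (.word [3,0,3,0,4,3])) (.word [2,0,5,0,4,0])) (.node (.word [3,2,1,3,2,0]) (.word [0,3,0,5,3,1]))) (.node (.node (.word [0,2,0,5,0,1]) (.word [5,0,5,0])) (.node (.word [2,5,3,0,3,0]) (.word [1,3,2,4,0,4,3])))) (.node (.node (.node (.node (.word [1,2,5,2,5,0]) (.word [4,0,3,0,3,4,5])) (.word [5,3,5,2,4,0])) (.node (.word [0,2,5,4,2,4,0,2]) (.word [2,5,2,3,0,2]))) (.node (.node (.word [4,0,2,0]) (.word [4,0,2,0,2,1])) (.node (.word [4,3,0]) (.word [0,1,3,2,0,3])))))))) (.node (.node (.node (.node (.node (.node (.node (.node (.word [3,5,1,3,1,5,2,5,0,5,0,3]) (.word [4,0,3])) (.word [0,1,5,3,0])) (.node (.word [2,0,5,0,2,0]) (.word [5,0,2,1]))) (.node (.node (.word [0,4,0,1]) (.word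 [0,1,2,3,4,0])) (.node (.word [2,3,0,3,1,0,5,0,1,5,0,2]) (.word [5,0,2,0,4,0,2])))) (.node (.node (.node (.node (.word [2,0,5,2,5,0]) (.word [2,5,4,2,0,5,3])) (.word [3,4,0,4,3,5])) (.node (.word [0,4,5,0,2,4,0]) (.word [2,0,5,2,0,3,5]))) (.node (.node (.word [0,1,3,0,5,3,1,0,4,2,4,2,0,2]) (.word [4,2,0,2,5,0])) (.node (.word [0,2,4,5,0,3,0]) (.word [2,3,2,3]))))) (.node (.node (.node (.node (.node (.word [0,3,4,0,5,3,2]) (.word [0,4,0,2,3])) (.word [4,2,0,1,4,0])) (.node (.word [3,0,5,1,4,0,3]) (.word [0,5,4,5,4,5]))) (.node (.node (.word [0,2,4,0,2,3,2]) (.word [5,3,1,5,4,0])) (.node (.word [5,3,2,3,4,0,5,3,2,0,1,5,2,3,0,4,1,3,0]) (.word [0,1,3,5,0,2])))) (.node (.node (.node (.node (.word [2,3,0,2,0,5,3,2]) (.word [4,0,4,5,3,5])) (.word [2,3,2,4,0])) (.node (.word [0,5,0,5,4,3]) (.word [3,0,2,0,4,5]))) (.node (.node (.word [5,0,1,2,0,2,0]) (.word [2,1,5,0,2,3,2])) (.node (.word [4,0,2,3,0]) (.word [4,0,1,5,0,5,2]))))))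 (.node (.node (.node (.node (.node (.node (.word [3,4,0,2,0,1]) (.word [3,5,0,5,0,3])) (.word [5,0,5,3,0])) (.node (.word [2,5,0,5,3,0,3,4,2,4,0,2]) (.word [5,2,1]))) (.node (.node (.word [0,1,3,2,4,0,1]) (.word [4,0,1,5,4,0])) (.node (.word [0,2,5,3,0,4,0]) (.word [3,0,1,5,0,2])))) (.node (.node (.node (.node (.word [5,4,2,1,5,2,0,2,0,3]) (.word [4,0,2,0,3,5])) (.word [0,2,1,4,0,3])) (.node (.word [0,4,2,0]) (.word [3,2,4,0,2,0,2]))) (.node (.node (.word [3,2,0,1,2,0]) (.word [0,2,0,1,2,3,2])) (.node (.word [5,1,2,0,2,0,2,1,2,1,5,2,4,3,1,4,2,3,0,4,5,3,1,2,1,3,5,4,0,3,2,3,4,5,0,2]) (.word [2,3,2,0,5,2]))))) (.node (.node (.node (.node (.node (.word [4,1,5,3,2,0,5,0,4,0,1]) (.word [2,3,2,0,4,3])) (.word [3,5,4,5,0,5,3])) (.node (.word [0,5,0,5,0,2,1]) (.word [1,4,0,2,3]))) (.node (.node (.word [2,5,3,5,4,0,1]) (.word [3,0,1,5,4,5])) (.node (.word [3,0,2,3,5,4,0]) (.word [1,2,3,0,3])))) (.node (.node (.node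 (.node (.word [2,0,3,0,1,2,0]) (.word [2,5,0,2,4,5])) (.word [1,4,2,0,4,5])) (.node (.word [0,5,2,0]) (.word [1,3,5,1,3,0,2]))) (.node (.node (.word [1,5,2,0,2,0]) (.word [2,5,3,5,4,5,0])) (.node (.word [0,3,5,0,2,4,0]) (.word [3,0,2,0,3]))))))) (.node (.node (.node (.node (.node (.node (.node (.word [0,4,5,1,2,5,0]) (.word [3,4,5,4,0,3])) (.word [4,5,2,0,5,3,0])) (.node (.word [0,1,4,3,2,3,0]) (.word [0,2,3,0,3,2,1]))) (.node (.node (.word [2,5,0,4,3,0,2]) (.word [2,0,5,2,3,4,0])) (.node (.word [2,5,3,5,2,0]) (.word [3,4,0,2])))) (.node (.node (.node (.node (.word [4,5,0,3,5,0,5,3,4,2,4,0]) (.word [4,0,5,0,5,3])) (.word [0,3,4,2,1,4,0])) (.node (.word [4,0,4,2,4,0]) (.word [4,2,1,4,0,3,5]))) (.node (.node (.word [4,5,0,1]) (.word [2,0,3,2,5,0])) (.node (.word [4,0,3,2,0,2,1]) (.word [0,2,0,2,4,2]))))) (.node (.node (.node (.node (.node (.word [5,2,0,3,1,2,1,3,0,2,5,2,1,3,4,1,5,2,3,4,3,5,4,1,2,4,2,1,2,0,2,0])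 (.word [5,0,4,2,3])) (.word [3,2,0,4,0])) (.node (.word [0,4,0,2,1,5,0]) (.word [0,5,0,2,3,2]))) (.node (.node (.word [2,0,1,5,4,0,1]) (.word [2,0,4,5,4,0])) (.node (.word [0,2,5,2,0,3,0]) (.word [2,4,5,0,2])))) (.node (.node (.node (.node (.word [0,4,2,5,2,0,3]) (.word [2,4,3,0,4,5])) (.word [3,0,4,2,4,0])) (.node (.word [1,5,2,4,2,0]) (.word [5,3,2,3,2,1,5,2,3,5,4,1,5,2,3,2,3,5,0,1,3,0,2]))) (.node (.node (.word [5,0,5,2,3,0,3,2,4,5,0]) (.word [4,2,4,5,0])) (.node (.word [0,2,1,3,2,3,0]) (.word [4,5,2])))))) (.node (.node (.node (.node (.node (.node (.word [0,2,5,4,0,3,1]) (.word [1,5,0,3,5,0,3])) (.word [1,4,5,3,5,4,0])) (.node (.word [0,4,1,5,1,3,0]) (.word [4,3,0,2,0,3,1]))) (.node (.node (.word [3,2,5,0,2,0,1,2,0,5,2,3]) (.word [0,5,4,2,1,5,0])) (.node (.word [3,5,4,0,1,3,0]) (.word [4,3,5,0,5,0,2])))) (.node (.node (.node (.node (.word [5,4,5,0,3,0,1]) (.word [1,2,5,4,0,3,5])) (.word [4,5,0,2,4,0]))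 (.node (.word [0,4,0,2,0,5,3]) (.word [0,1,4,2,0,2]))) (.node (.node (.word [0,5,1,4,2,0,4,5,2,0,4,3]) (.word [4,1,3,5,0])) (.node (.word [0,1,5,1,3,0]) (.word [1,4,0,5,2]))))) (.node (.node (.node (.node (.node (.word [5,3,4,3,2,5,3,2,5,0,3,5,3,0,5,2,0,2,0,4,3,0,2]) (.word [5,0,4,3])) (.word [0,4,5,3,4,5,0])) (.node (.word [0,5,2,3,2,3,0]) (.word [2,0,1,3,5]))) (.node (.node (.word [4,0,1,4,3,0]) (.word [0,4,2,1,5,0])) (.node (.word [1,5,1,2,4,0]) (.word [0,1,5,0,3,2])))) (.node (.node (.node (.node (.word [3,0,1,2,0,3,5]) (.word [0,4,5,4,5])) (.word [3,2,0,3,4,0])) (.node (.word [0,4,0,1,2,4,5]) (.word [3,5,4,3,0,2]))) (.node (.node (.word [2,4,1,4,0,2,0]) (.word [0,2,3,0,2,4,5])) (.node (.word [2,4,5,0,5,0,2,1,5,1,2,0,4,2,0,3,0]) (.word [1,5,4,2,0,3])))))))))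

/-- A subtree. -/
def wt42 : WTree :=
  (.node (.node (.node (.node (.node (.node (.node (.node (.node (.word [1,2,0,5,0,3,2]) (.word [1,3,0,4,2,3])) (.word [1,2,3,4,3,0])) (.node (.word [0,5,0,2,0]) (.word [1,5,0,2,1]))) (.node (.node (.word [0,3,2,5,3,0,1]) (.word [0,5,1,3,4,0])) (.node (.word [2,4,1,5,2,0]) (.word [3,4,5,3,0,2])))) (.node (.node (.node (.node (.word [0,3,4,2,0,4,5]) (.word [5,0,2,0,5,3])) (.word [2,1,4,0])) (.node (.word [0,2,0,4,3,2,0]) (.word [0,3,5,0,1,3,5]))) (.node (.node (.word [0,2,0,3,5,0,1]) (.word [2,5,0])) (.node (.word [0,2,1,4,3,0,2,1,4,3,0,1,5,0,3,2]) (.word [4,0,2,3,2]))))) (.node (.node (.node (.node (.node (.word [2,3,2,4,0,2,3]) (.word [1,3,4,5,0,3])) (.word [0,1,4,0])) (.node (.word [2,0,4,2,3,2,0]) (.word [1,3,0,3,1]))) (.node (.node (.word [1,3,4,0,1]) (.word [0,4,5,0,5,4,0])) (.node (.word [5,1,2,0,3,0]) (.word [3,2,5,0,2])))) (.node (.node (.node (.node (.word [5,4,1,3,0,1])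 (.word [4,3,5])) (.word [2,5,3,5,4,0])) (.node (.word [1,3,5,0,4,2,0]) (.word [1,5,4,2,0,2]))) (.node (.node (.word [2,4,5,0,1,2,0]) (.word [2,5,2,3,5,0])) (.node (.word [2,1,5,4,2,0,2]) (.word [5,4,0,5,2])))))) (.node (.node (.node (.node (.node (.node (.word [0,2,4,2,5,2,0]) (.word [5,0,5,0,3])) (.word [4,0,5,0,4,0,2])) (.node (.word [0,1,2,0,4,0,5,4,2,0,1]) (.word [3,0,2,4,2,1]))) (.node (.node (.word [0,4,5,4,2,0,3]) (.word [0,5,3,5,3,4,0])) (.node (.word [5,1,4,5,2,0]) (.word [0,4,5,4,0,2])))) (.node (.node (.node (.node (.word [0,3,0,3,0,1]) (.word [5])) (.word [4,5,1,4,0])) (.node (.word [2,0,3,4,0,5,2]) (.word [1,3,5,0,5,0,3]))) (.node (.node (.word [2,0]) (.word [3,5,0])) (.node (.word [0,1,4,1,3,0]) (.word [2,4,5,4,2]))))) (.node (.node (.node (.node (.node (.word [2,4,2,0,1]) (.word [0,2,0,4,3])) (.word [0,4,3,5,0,2])) (.node (.word [2,3,0,3,2,0]) (.word [5,0,3,1,2,3]))) (.node (.node (.word [1,2,3,5,0,4,0])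 (.word [5,0])) (.node (.word [5,0,3,0,3,0]) (.word [5,2,0,2,3,0,3])))) (.node (.node (.node (.node (.word [2,1,5,0,4,2,3]) (.word [5,3,0,2,4,5])) (.word [3,0,5,2,4,0])) (.node (.word [4,5,4,2,0]) (.word [4,5,0,3,0,2]))) (.node (.node (.word [0,2,5,2,5,3,0]) (.word [2,4,0,5,4,5,0])) (.node (.word [0,2,4,1,5,0,2]) (.word [2,0,3]))))))) (.node (.node (.node (.node (.node (.node (.node (.word [0,4,2,5,3,2,0,3,0]) (.word [5,2,5,4,0,3])) (.word [0,2,3,0,5,3,0])) (.node (.word [1,3,1,5,0,2,0]) (.word [1,2,0,3,1]))) (.node (.node (.word [3,0,4,0,1]) (.word [4,2,3,4,0])) (.node (.word [3,4,2,5,2,0]) (.word [5,0,2,4,0,2])))) (.node (.node (.node (.node (.word [3,0,1]) (.word [5,0,5,4,0,5,3])) (.word [3,0,4,2,1,4,0])) (.node (.word [2,0,5,3,2,0]) (.word [4,5,0,4,5,1]))) (.node (.node (.word [1,3,0,2,4,0,3,1,4,0,3,5]) (.word [5,4,0,2,5,0])) (.node (.word [0,3,2,1,3,0]) (.word [3,2,4,2,0,5,3]))))) (.node (.node (.node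 (.node (.node (.word [1,4,5,0,4,5,1]) (.word [5,0,5,3,2,3])) (.word [0,1,3,2,0,4,0])) (.node (.word [0,3,5,2,0]) (.word [1,5,4,0,3,1]))) (.node (.node (.word [2,5,3,4,0,1]) (.word [5,4,3,5,4,0])) (.node (.word [3,0,5,2,0,3,0]) (.word [0,5,0,5,0,5,2])))) (.node (.node (.node (.node (.word [1,2,3,0,4,5]) (.word [0,4,5])) (.word [1,4,5,0,3,2])) (.node (.word [0,3,2,3,0,2,1]) (.word [5,0,1,3,0,2]))) (.node (.node (.word [0,3,5,0,5,3,0]) (.word [3,0,2,4,5,0])) (.node (.word [2,0,3,2,3,0]) (.word [5,0,3,5,2])))))) (.node (.node (.node (.node (.node (.node (.word [3,5,0,2,0,1]) (.word [2,3,0,5,3])) (.word [2,5,2,5,3,0])) (.node (.word [3,0,3,1,2,0]) (.word [2,1,3,0,3,1]))) (.node (.node (.word [3,4,2,4,0,1]) (.word [1,3,0,5,4,0])) (.node (.word [0,2,0,1,2,0,2]) (.word [0,5,0,5,0,2])))) (.node (.node (.node (.node (.word [2,5,0,3,0,1]) (.word [2,4,5,4,0,3,5])) (.word [1,4,0,2,4,0])) (.node (.word [0,3,0,4,2,0]) (.word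 [1,3,2,0,2]))) (.node (.node (.word [1,3,0,1,2,0]) (.word [5,3,4,0,3,5,0])) (.node (.word [0,4,5,2,5,3,0]) (.word [3,4,3,0,5,2]))))) (.node (.node (.node (.node (.node (.word [4,5,4,2,0,1]) (.word [1,2,4,0,4,3])) (.word [1,5,2,0,5,4,5])) (.node (.word [2,3,2,0]) (.word [2,5,3,1]))) (.node (.node (.word [1,4,2,4,5,4,0]) (.word [2,1,5,0])) (.node (.word [4,3,5,3,0,3,0]) (.word [0,5,4,0,3,2])))) (.node (.node (.node (.node (.word [3,0,1,5,3,0,1]) (.word [5,2,0,5,4,5])) (.word [0,3,4,0])) (.node (.word [4,0,1,3,0,5,3]) (.word [4,0,4,3,0,2]))) (.node (.node (.word [5,0,4,0,2,0]) (.word [4,2,0,2,1])) (.node (.word [3,5,0,5,3,0]) (.word [2,4,2,0,3])))))))) (.node (.node (.node (.node (.node (.node (.node (.node (.word [0,1,3,0,5,0,3]) (.word [2,1,4,0,3])) (.word [2,0,1,2,3,4,0])) (.node (.word [0,1,2,0,5,0,3]) (.word [3,5,0,5,0,2,1]))) (.node (.node (.word [1,2,0,4,0,1]) (.word [5,0,2,3,4,0])) (.node (.word [0,3,0,3,0,2,1])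 (.word [5,0,5,0,4,0,2])))) (.node (.node (.node (.node (.word [1,3,4,0,5,3,2,0,5,4,0]) (.word [0,1,3,0,5,3])) (.word [4,1,2,1,4,0])) (.node (.word [0,2,4,2,3,5,0]) (.word [0,3,5,3,5,2]))) (.node (.node (.word [0,1,2,5,3,0,2]) (.word [0,1,3,0,2,5,0])) (.node (.word [2,0,2,1,3,0]) (.word [5,3,2]))))) (.node (.node (.node (.node (.node (.word [0,2,1,5,1,5,0]) (.word [0,5,4,0,2,3])) (.word [3,2,3,0,1,4,0])) (.node (.word [5,0,5,4,1,2,0]) (.word [1,4,0,3,1]))) (.node (.node (.word [1,4,2,3,4,0,1]) (.word [3,5,4,0])) (.node (.word [2,0,5,4,0,2,3]) (.word [2,0,4,0,2,4,5])))) (.node (.node (.node (.node (.word [4,5,1,3,0,1]) (.word [4,2,0,5,3,5])) (.word [0,2,3,2,3,4,0])) (.node (.word [4,0,5,1,4,2,0]) (.word [2,0,2,4,0,5,3]))) (.node (.node (.word [0,5,3,5,2,4,0]) (.word [2,3,0,4,5,0])) (.node (.word [3,5,0,2,3,0]) (.word [4,5,0,5,0,5,2])))))) (.node (.node (.node (.node (.node (.node (.word [0,5,3,2,5,2,0]) (.word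 [4,5,4,2,0,4,3])) (.word [0,4,1,5,3,0])) (.node (.word [2,4,5,0,2,0]) (.word [2,3,0,3,1]))) (.node (.node (.word [1,4,2,3,2,4,0]) (.word [0,5,4,5,0,2])) (.node (.word [3,0]) (.word [2,3,0,5,0,2])))) (.node (.node (.node (.node (.word [0,5,0,3,2,3,0]) (.word [5,2,0,3,5])) (.word [0,5,0,5,2,3])) (.node (.word [0,2,4,0,2,3,0]) (.word [2,1,5,0,2,0,2]))) (.node (.node (.word [5,2,0,1,2,0]) (.word [0,3,0,3,5,0])) (.node (.word [2,3,0,3,1,5,0]) (.word [0,3,0,5,2]))))) (.node (.node (.node (.node (.node (.word [5,4,2,0,1]) (.word [4,5,2,0,4,3])) (.word [2,3,5,3,0,4,0])) (.node (.word [2,3,5,0,3,2,0]) (.word [5,3,1]))) (.node (.node (.word [2,5,4,5,4,0]) (.word [2,5,3,5])) (.node (.word [2,5,2,0,5,4,0]) (.word [1,4,0,3,2])))) (.node (.node (.node (.node (.word [0,5,0,1,2,5,0]) (.word [3,4,5])) (.word [4,2,5,2,4,0])) (.node (.word [1,5,0,5,2,0]) (.word [0,1,2,3,0,2]))) (.node (.node (.word [3,5,2,0,2,0]) (.word [2,1]))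 (.node (.word [3,5,2,3,0]) (.word [3,0,2,4,0,4,5]))))))) (.node (.node (.node (.node (.node (.node (.node (.word [0,4,3,0,2,0,1]) (.word [0,4,0,1,5,0,3])) (.word [2,5,4,0,5,0,2])) (.node (.word [3,2,5,0,2,0]) (.word [2,0,1,2,3,2]))) (.node (.node (.word [1,5,0,4,0,1]) (.word [4,0,5,3,4,0])) (.node (.word [2,0,4,5,2,0]) (.word [0,5,3,4,0,2])))) (.node (.node (.node (.node (.word [0,2,0,3,0,1]) (.word [0,2,5,3])) (.word [2,5,3,1,4,0])) (.node (.word [0,2,1,5,3,2,0]) (.word [1,4,0,1,2,0,2]))) (.node (.node (.word [1,4,5,0,1]) (.word [0,1,3,4,5,0,2])) (.node (.word [5,2,1,3,0]) (.word [5,0,4,0,2,4,2]))))) (.node (.node (.node (.node (.node (.word [0,2,5,0,3,0,1]) (.word [3,0,5,2,3])) (.word [2,4,3,2,0,4,0])) (.node (.word [5,3,4,2,5,0,1,5,1,0,3,5]) (.word [2,1,5,3,5,0,3]))) (.node (.node (.word [0,1,2,4,0,4,5]) (.word [0,5,4,5,4,0])) (.node (.word [0,5,3,1,4,0]) (.word [0,3,2])))) (.node (.node (.node (.node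 (.word [3,2,4,0,2]) (.word [5,0,5,0,4,5])) (.word [2,4,2,4,0])) (.node (.word [4,0,5,4,2,0]) (.word [3,5,3,0,3,0,2]))) (.node (.node (.word [5,0,3,2,0,2,0]) (.word [2,4,1,5,3,0,2])) (.node (.word [1,4,2,3,0]) (.word [3,4,0,4,5,2])))))) (.node (.node (.node (.node (.node (.node (.word [4,3,0,4,5,0]) (.word [4,3,5,0,3])) (.word [3,4,5,3,0])) (.node (.word [5,3,1,2,0]) (.word [0,1,3,2,0,2]))) (.node (.node (.word [3,4,0,1]) (.word [0,1,3,0,4,2,3])) (.node (.word [0,3,0,1,5,0,3]) (.word [1,3,4,0,4,5,2])))) (.node (.node (.node (.node (.word [2,1,3,0,5,3]) (.word [0,2,0,5,0,3,5])) (.word [4,3,1,2,4,0])) (.node (.word [1,2,4,0,4,2,0]) (.word [4,0,2,4,2,0,2]))) (.node (.node (.word [1,4,0,5,0,4,5]) (.word [1,2,0,2,3,5,0])) (.node (.word [3,0,5,1,3,0]) (.word [1,2,4,0,5,2]))))) (.node (.node (.node (.node (.node (.word [0,5,0,5,2,0,1]) (.word [5,4,0,5,4,3])) (.word [4,3,5,0,4,0])) (.node (.word [5,4,2,3,2,0]) (.word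 [4,3,2,0,1,3,5]))) (.node (.node (.word [0,2,0,5,3,2,0]) (.word [2,0,3,1,5,0])) (.node (.word [3,1,5,0,3,0]) (.word [3,5,0,3,2])))) (.node (.node (.node (.word [1,4,0,5,3,0,1]) (.word [5,0,3,4,0])) (.node (.word [3,2,1,5,2,0]) (.word [5,2,5,3,0,2]))) (.node (.node (.word [5,3,4,0,2,0]) (.word [3,0,3,0,2,1])) (.node (.word [0,2,3,4,2,4,0]) (.word [4,2,5,2,0,3])))))))))

/-- A subtree. -/
def wt43 : WTree :=
  (.node (.node (.node (.node (.node (.node (.node (.node (.node (.word [0]) (.word [0,1,3,0,3])) (.word [5,0,4,3,0])) (.node (.word [1,5,3,4,0,2,0]) (.word [2,4,0,5,0,5,3]))) (.node (.node (.word [3,4,0,5,3,0,1]) (.word [1,2,5,0,3,4,0])) (.node (.word [0,4,2,1,5,2,0]) (.word [0,3,5,3,0,2])))) (.node (.node (.node (.node (.word [1,5,2,0,1]) (.word [0,3,5,0,5,4,3])) (.word [2,4,3,5,0,4,0])) (.node (.word [5,2,3,2,0]) (.word [3,0,1,3,5]))) (.node (.node (.word [0,1,4,5,2,4,0]) (.word [4,0,3,1,5,0])) (.node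 (.word [0,4,2,4,0,4,3]) (.word [4,5,0,3,2]))))) (.node (.node (.node (.node (.node (.word [1,5,1,2,0,1]) (.word [3,4,3,5,0,3])) (.word [5,3,4,5,3,0])) (.node (.word [1,2,5,3,2,0]) (.word [3,2,0,3,4,5]))) (.node (.node (.word [0,3,0,5,2,3,0]) (.word [1,5,4,0,5,4,0])) (.node (.word [0,2,0,2,4,5]) (.word [1,4,1,5,0,2])))) (.node (.node (.node (.node (.word [1,5,2,1,3,0]) (.word [2,0,5,0,2,4,5])) (.word [5,3,1,2,4,0])) (.node (.word [2,3,4,0,4,2,0]) (.word [0,3,2,4,2,0,2]))) (.node (.node (.word [1,2,5,0,1,2,0]) (.word [0,4,2,3,0,2])) (.node (.word [0,2,4,5,3,0]) (.word [0,3,2,4,0,5,2])))))) (.node (.node (.node (.node (.node (.node (.word [3,4,2,4,0,5,0,5,3,0]) (.word [1,2,0,5,0,3])) (.word [5,3,0,5,3,0])) (.node (.word [4,0,5,1,3,0]) (.word [0,5,0,5,0,3,2]))) (.node (.node (.word [2,5,0,4,0,1]) (.word [2,1,5,3,4,0])) (.node (.word [4,0,4,5,2,0]) (.word [4,3,5,3,4,0,2])))) (.node (.node (.node (.node (.word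 [0,5,4,5,2,0]) (.word [0,3,0,2,5,3])) (.word [0,1,5,1,4,0])) (.node (.word [0,4,1,5,3,2,0]) (.word [1,5,0,1,2,0,2]))) (.node (.node (.word [0,1,2,4,0]) (.word [5,2,5,0])) (.node (.word [3,5,2,1,3,0]) (.word [2,4,0,2,4,2]))))) (.node (.node (.node (.node (.node (.word [2,5,0,3,5,0]) (.word [1,2,0,3,4,5])) (.word [4,2,0,4,0])) (.node (.word [0,3,0,1,3,2,0]) (.word [3,5,0,3,1]))) (.node (.node (.word [5,0,5,4,0,1]) (.word [0,3,2,4,5,4,0])) (.node (.word [0,4,3,5,0,5,2,0,5,4,0,4,3]) (.word [3,0,1,2,0,3])))) (.node (.node (.node (.node (.word [2,3,2,4,0,2]) (.word [4,5,0,4,5])) (.word [1,3,0,2,4,0,2])) (.node (.word [1,5,0,1,5,0,3]) (.word [0,4,0,3,0,2]))) (.node (.node (.word [0,4,3,2,0,2,0]) (.word [0,1,5,3,4,5,0])) (.node (.word [3,1,4,2,3,0]) (.word [0,5,0,4,5,2]))))))) (.node (.node (.node (.node (.node (.node (.node (.word [3,1,4,1,5,0,4,3,0]) (.word [3,5,1,4,0,3])) (.word [0,5,4,0,3,2,0,1,2,3,1,5,0])) (.node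 (.word [0,5,0,5,0,2,0]) (.word [1,5,0,3,1,2,3]))) (.node (.node (.word [2,0,4,0,5,3,5]) (.word [1,5,0,1,3,5])) (.node (.word [3,2,5,2,0]) (.word [2,4,0,2])))) (.node (.node (.node (.node (.word [1,3,4,0,3,0,2]) (.word [2,3,0,3,0,5,3])) (.word [5,1,2,1,4,0])) (.node (.word [1,5,4,3,2,0]) (.word [2,0,4,5,1]))) (.node (.node (.word [0,2,0,5,2,3]) (.word [1,3,0,2,5,0])) (.node (.word [4,2,0,2,1,3,0]) (.word [0,2,0,5,3,2]))))) (.node (.node (.node (.node (.node (.word [0,1,3,4,0,3,2]) (.word [0,3,2,3])) (.word [1,5,0,1,4,0])) (.node (.word [4,5,4,1,2,0]) (.word [0,5,4,0,3,1]))) (.node (.node (.word [1,2,3,2,0,2]) (.word [2,1,4,2,0,2])) (.node (.word [0,4,0,2,5,0,2]) (.word [4,2,3,5,0,2])))) (.node (.node (.node (.node (.word [4,1,5,3,5,0,1]) (.word [5,3,0,5,3,5])) (.word [4,3,2,4,0])) (.node (.word [2,4,2,0]) (.word [0,3,2,0,4,5]))) (.node (.node (.word [2,0,2,4,5,2,0]) (.word [5,0,4,5,0])) (.node (.word [4,1,2,3,0])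 (.word [3,5,0,5,2])))))) (.node (.node (.node (.node (.node (.node (.word [3,2,3,5,0,1,2,4,0,2]) (.word [3,1,5,0,3])) (.word [2,4,1,5,3,0])) (.node (.word [3,4,5,0,2,0]) (.word [0,1,5,0,5,3,5]))) (.node (.node (.word [1,2,3,4,0,3,2]) (.word [0,3,2,0,5,4,0])) (.node (.word [3,0,1,3,0]) (.word [1,5,3,2,4,0,2,0,3,0,3,4,5])))) (.node (.node (.node (.node (.word [0,1,5,0,2,0,5,1,5,0,2,0]) (.word [2,5,2,0,3,5])) (.word [0,4,5,0,4,5,1])) (.node (.word [5,1,2,4,0,5,0,4,5]) (.word [0,4,2,0,4,3]))) (.node (.node (.word [2,5,2,0,1,2,0]) (.word [0,3,0,5,0,5,2])) (.node (.word [5,1,4,1,3,0]) (.word [3,0,3,0,5,2]))))) (.node (.node (.node (.node (.node (.word [5,3,4,1,2,5,3,0,5,3,2,3,0,3,0]) (.word [0,3,0,4,3])) (.word [0,4,5,3,0,4,0])) (.node (.word [4,5,0,3,2,0]) (.word [0,2,0,5,3,1]))) (.node (.node (.word [3,2,5,4,5,4,0]) (.word [3,1,3,4,0,5,2])) (.node (.word [2,1,4,3,0,3,0]) (.word [1,4,0,2,5,3])))) (.node (.node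 (.node (.node (.word [1,3,4,3,0]) (.word [0,2,0,3,4,5])) (.word [0,3,5,2,4,0])) (.node (.word [0,1,3,5,4,0]) (.word [1,2,4,0,4,5]))) (.node (.node (.word [3,1,3,0,5,3,0]) (.word [0,2,0,2,1])) (.node (.word [1,3,5,2,3,0]) (.word [1,2,0,5,0,3,5])))))))) (.node (.node (.node (.node (.node (.node (.node (.node (.word [2,5,0,1,2,0,1]) (.word [4,3,5,3,0,3])) (.word [5,3,4,3,0])) (.node (.word [0,4,5,0,2,0,3]) (.word [2,1,5,0,2,1]))) (.node (.node (.word [0,2,0,1,2,0,5,0,3,4,0]) (.word [0,5,2,4,5,2])) (.node (.word [2,5,2,0]) (.word [0,4,5,3,0,5,3])))) (.node (.node (.node (.node (.word [0,3,2,5,2,0,1]) (.word [3,1,2,0,5,3])) (.word [0,3,1,4,5,0,3])) (.node (.word [0,5,0,4,3,2,0]) (.word [2,4,5,0,1,3,5]))) (.node (.node (.word [5,0,5,2,4,2,0,2,3,4,5,3,2,0]) (.word [0,2,0,2,5,0])) (.node (.word [2,4,2,0,5,0,3]) (.word [2,5,4,0,2,3,2]))))) (.node (.node (.node (.node (.node (.word [3,0,3,2,0,1]) (.word [0,5,4,5,0,3]))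 (.word [0,1,2,4,5,4,0])) (.node (.word [1,2,3,1,5,0]) (.word [2,5,1,3,0,3,1]))) (.node (.node (.word [2,3,4,0,1]) (.word [3,1,5,4,0])) (.node (.word [3,2,0,3,0]) (.word [4,3,2,5,0,2])))) (.node (.node (.node (.node (.word [5,1,3,0,1]) (.word [0,3,0,4,3,5])) (.word [1,3,2,4,0])) (.node (.word [4,1,4,2,0]) (.word [2,4,5,4,2,0,2]))) (.node (.node (.word [0,4,3,2,5,0,2]) (.word [2,0,4,5,0])) (.node (.word [0,2,3,0]) (.word [3,5,4,0,5,2])))))) (.node (.node (.node (.node (.node (.node (.word [1,2,5,2,3,2,0,3,0,3,4,5]) (.word [2,1,5,0,5,0,3])) (.word [1,3,4,0,5,3,0])) (.node (.word [0,3,5,0,3,0,3]) (.word [0,5,4,3,0,5,2]))) (.node (.node (.word [2,5,4,2,3,0]) (.word [1,4,5,3,4,0])) (.node (.word [2,4,5,2,0]) (.word [5,4,5,4,0,2])))) (.node (.node (.node (.node (.word [4,0,5,0,4,5,1]) (.word [2,0,3,5])) (.word [1,4,5,1,4,0])) (.node (.word [2,4,5,3,2,0]) (.word [3,1,4,0,2,0,2]))) (.node (.node (.word [2,0,1,2,0])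 (.word [0,5,3,0,2])) (.node (.word [2,0,4,1,3,0]) (.word [0,5,2]))))) (.node (.node (.node (.node (.node (.word [2,0,2,4,2,0,1]) (.word [3,0,2,0,4,3])) (.word [2,0,4,2,3,0,2])) (.node (.word [1,3,5,0,2,5,3,0,5,0,2,3,2]) (.word [4,1,2,3]))) (.node (.node (.word [5,2,0,3,1,2,1,3,0,2,5,2,1,3,4,1,5,2,3,4,3,5,4,1,2,0,2,1,5,2,0]) (.word [1,5,0,5,0])) (.node (.word [2,3,0,3,0]) (.word [5,3,0,2,3,0,3])))) (.node (.node (.node (.node (.word [2,0,1,2,5,0]) (.word [2,4,0,2,4,5])) (.word [0,2,3,2,0,3,4,2,5,2,0])) (.node (.word [3,4,5,4,2,0]) (.word [4,1,3,0,2]))) (.node (.node (.word [0,5,2,0,2,0]) (.word [4,5,0,5,4,5,0])) (.node (.word [5,2,3,0]) (.word [4,2,0,2,0,3]))))))) (.node (.node (.node (.node (.node (.node (.node (.word [2,5,4,5,4,2,0,4,2,1,4,2,3,0]) (.word [2,3,5,4,0,3])) (.word [0,4,5,0,4,0,5,3,0])) (.node (.word [0,1,5,0,2,0,3]) (.word [4,1,2,0,3,1]))) (.node (.node (.word [1,5,2,4,5,0,2]) (.word [0,5,1,4,2,0,2]))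 (.node (.word [0,1,2,4,2,3,0]) (.word [2,1,2,4,0,2])))) (.node (.node (.node (.node (.word [2,0,1,3,0,1]) (.word [0,1,5,0,5,3])) (.word [0,5,0,1,5,0,2])) (.node (.word [1,3,0,5,3,2,0]) (.word [0,1,2,4,5]))) (.node (.node (.word [2,5,3,5,0,1]) (.word [0,2,5,2,5,0])) (.node (.word [3,4,2,0,2,1]) (.word [4,5,0,5,3,2]))))) (.node (.node (.node (.node (.node (.word [1,3,2,0,3,4,5]) (.word [2,0,4,2,3])) (.word [0,4,0,4,2,0,3])) (.node (.word [4,5,1,2,0]) (.word [4,5,4,0,3,1]))) (.node (.node (.word [1,2,4,1,5,4,0]) (.word [5,3,5,4,0])) (.node (.word [1,5,2,0,3,0]) (.word [4,0,4,5,0,2])))) (.node (.node (.node (.node (.word [0,3,2,3,0,1]) (.word [3,0,3,0,4,5])) (.word [0,1,4,2,4,0])) (.node (.word [5,2,4,2,0]) (.word [2,0,3,0,2]))) (.node (.node (.word [5,1,2,0,2,0]) (.word [1,2,4,5,0])) (.node (.word [5,0,3,2,3,0]) (.word [5,0,5,0,3,5,2])))))) (.node (.node (.node (.node (.node (.node (.word [1,2,0,1]) (.word [0,3,5,0,3]))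 (.word [0,4,5,3,0])) (.node (.word [0,5,0,3,1,2,0]) (.word [0,3,1]))) (.node (.node (.word [2,3,4,2,0,3]) (.word [0,2,3,0,5,4,0])) (.node (.word [0,3,4,0,1,3,0]) (.word [1,5,0,5,0,2])))) (.node (.node (.node (.node (.word [3,2,1,5,3,4,2,5,0,1,2,3,0,3]) (.word [1,3,4,0,3,5])) (.word [2,0,5,0,2,4,0])) (.node (.word [0,1,3,4,0,5,3]) (.word [5,3,2,0,2]))) (.node (.node (.word [0,4,3,0,1,2,0]) (.word [0,5,0,3,5,0])) (.node (.word [0,5,4,1,3,0]) (.word [4,0,5,2]))))) (.node (.node (.node (.node (.node (.word [3,4,5,4,2,0,1]) (.word [5,2,4,0,4,3])) (.word [0,2,5,0,4,0])) (.node (.word [0,1,2,3,2,3,0]) (.word [4,0,2,5,3,1]))) (.node (.node (.word [1,4,3,0]) (.word [3,4,0,2,1,5,0])) (.node (.word [2,4,5,3,0,3,0]) (.word [1,5,4,0,3,2])))) (.node (.node (.node (.node (.word [2,4,0,2,3,1,5,0,3,2,0]) (.word [0,4,0,5,4,5])) (.word [0,4,3,0,5,3])) (.node (.word [5,0,5,2,0]) (.word [3,4,3,0,2]))) (.node (.node (.word [0,1,3,5,0,2,0])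 (.word [5,4,2,0,2,1])) (.node (.word [5,2,0,4,3,0]) (.word [1,5,2,4,2,0,3])))))))))

/-- A subtree. -/
def wt44 : WTree :=
  (.node (.node (.node (.node (.node (.node (.node (.node (.node (.word [5,1,5,0,3,1,2,5,2,0,3,5]) (.word [2,0,5,0,3,0,3])) (.word [0,5,1,4,5,0,2])) (.node (.word [1,4,5,0,2,0,3]) (.word [1,4,5,0,2,3,2]))) (.node (.node (.word [0,2,5,3,0,1]) (.word [1,4,5,3,4,0,2])) (.node (.word [2,0,4,1,5,2,0]) (.word [0,1,4,5,3,0,2])))) (.node (.node (.node (.node (.word [1,3,4,5,2,5,0]) (.word [3,2,0,2,0,5,3])) (.word [2,4,5,0,4,0])) (.node (.word [0,2,3,5,0,2]) (.word [1,5,4,5,0,3,5]))) (.node (.node (.word [0,1,3,5,0,1]) (.word [1,5,2,3,5,0])) (.node (.word [0,1,3,5,0,3,0]) (.word [3,5,4,2,0,3]))))) (.node (.node (.node (.node (.node (.word [0,4,0,4,1,3,0]) (.word [2,1,4,5,0,3])) (.word [2,1,3,4,0,5,2])) (.node (.word [0,5,3,0,1,3,0]) (.word [4,0,3,0,3,1]))) (.node (.node (.word [5,0,3,4,0,1]) (.word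 [3,2,5,0,5,4,0])) (.node (.word [1,4,1,2,0,3,0]) (.word [4,0,2,5,0,2])))) (.node (.node (.node (.node (.word [5,2,4,2,0,2,3,2,0,5,4,0]) (.word [0,4,5,0,3,5])) (.word [2,5,1,3,5,4,0])) (.node (.word [0,1,5,0,4,2,0]) (.word [2,0,3,0,2,4,2]))) (.node (.node (.word [1,3,0,4,1,3,0]) (.word [0,4,2,3,5,0])) (.node (.word [0,4,5,1,3,0]) (.word [0,1,3,4,0,5,2])))))) (.node (.node (.node (.node (.node (.node (.word [0,4,0,1,2,0,3]) (.word [5,3,0,5,0,3])) (.word [0,1,4,0,5,3,0])) (.node (.word [0,4,0,2,0,4,0,5,2,4,0,4,0,3,0,4,5,1]) (.word [3,5,3,0,5,3]))) (.node (.node (.word [2,5,0,3,0,3,5,0,3,2]) (.word [3,4,0,3,2,1])) (.node (.word [2,1,4,5,2,0]) (.word [4,0,5,4,0,2])))) (.node (.node (.node (.node (.word [2,5,2,0,3,0,1]) (.word [0,5,0,2,5,3])) (.word [3,4,0,5,1,4,0])) (.node (.word [0,4,5,3,4,0]) (.word [4,0,3,0,2,0,2]))) (.node (.node (.word [2,3,4,0,2,1,2,4,0,5,3,0]) (.word [2,3,5,2,5,0])) (.node (.word [0,2,3,5,4,0,3])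 (.word [5,2,1,5,0,3,5]))))) (.node (.node (.node (.node (.node (.word [5,1,4,2,0,1]) (.word [3,2,5,2,3])) (.word [0,3,4,2,0,4,0])) (.node (.word [1,2,1,2,0,3,0]) (.word [2,0,4,5,0,3,1]))) (.node (.node (.word [0,2,5,3,2,0,3]) (.word [3,5,3,4,5,4,0])) (.node (.word [1,2,0,3,0,3,0]) (.word [0,5,1,2,0,3])))) (.node (.node (.node (.node (.word [3,0,5,4,0,3]) (.word [5,2,0,2,4,5])) (.word [0,5,3,4,2,4,0])) (.node (.word [0,3,4,5,0]) (.word [2,5,0,3,0,2]))) (.node (.node (.word [4,2,0,2,0]) (.word [0,3,0,5,4,5,0])) (.node (.word [0,4,2,0,5,3,0]) (.word [0,5,4,5,2]))))))) (.node (.node (.node (.node (.node (.node (.node (.word [0,2,5,2,4,2,0]) (.word [5,2,4,0,3])) (.word [2,1,2,0,5,3,0])) (.node (.word [2,4,0,5,4,0,2]) (.word [5,4,5,0,2,1]))) (.node (.node (.word [4,5,1,2,5,4,0,5,1,3,5]) (.word [4,3,2,3,4,0])) (.node (.word [2,5,3,2,5,2,0]) (.word [3,0,2,4,0,2])))) (.node (.node (.node (.node (.word [1,5,2,3,5,0,3])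 (.word [4,0,5,3])) (.word [4,3,2,1,4,0])) (.node (.word [5,3,2,0]) (.word [1,5,3,0,2,4,5,0,1,2,0,2,5,0]))) (.node (.node (.word [5,3,5,0,1]) (.word [0,1,3,5,0,3,2])) (.node (.word [2,4,3,2,5,0,2]) (.word [4,3,0,5,3,2]))))) (.node (.node (.node (.node (.node (.word [1,2,3,2,0,1]) (.word [2,0,2,4,0,4,5])) (.word [0,3,4,5,0,3,5])) (.node (.word [0,1,3,2,0,1,4,2,1,5,0,3]) (.word [2,0,3,4,0,3,1]))) (.node (.node (.word [5,4,1,4,2,5,1,3,0,3,0,2]) (.word [4,3,5,4,0])) (.node (.word [3,5,4,2,0,3,0]) (.word [0,1,4,5,0,2])))) (.node (.node (.node (.node (.word [1,3,0,2,3,0,1]) (.word [4,5,3,5])) (.word [0,2,4,3,2,4,0])) (.node (.word [2,3,2,4,2,0]) (.word [0,1,3,0,2]))) (.node (.node (.word [1,4,0,3,0,4,5]) (.word [0,2,5,0,4,5,0])) (.node (.word [0,3,5,1,2,3,0]) (.word [3,0,3,5,2])))))) (.node (.node (.node (.node (.node (.node (.word [0,2,4,3,0,4,5]) (.word [2,5,0,3])) (.word [4,2,5,3,0])) (.node (.word [0,5,1,4,0,4,3])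 (.word [4,5,2,1]))) (.node (.node (.word [1,3,0,4,5,2,1,0,3,0]) (.word [0,3,5,0,3,5,2])) (.node (.word [4,0,1,3,0]) (.word [5,0,4,0,5,0,2])))) (.node (.node (.node (.node (.word [4,0,4,5,3,5,2,0,4,5,2,0]) (.word [2,5,0,4,0,3,5])) (.word [1,3,0,4,5,0,3])) (.node (.word [2,0,2,1,5,0]) (.word [2,4,1,2,0,2]))) (.node (.node (.word [0,1,3,0,1,2,0]) (.word [2,4,0,3,5,0])) (.node (.word [0,3,5,4,5,3,0]) (.word [3,2,3,0,5,2]))))) (.node (.node (.node (.node (.node (.word [5,0,5,4,2,0,1]) (.word [2,5,0,4,3])) (.word [1,5,0,4,0])) (.node (.word [2,5,1,5,0]) (.word [0,5,0,5,3,1]))) (.node (.node (.word [0,2,3,5,0,3,1]) (.word [2,4,5,2,1])) (.node (.word [0,4,0,4,5,3,0]) (.word [3,4,0,3,2])))) (.node (.node (.node (.node (.word [4,5,1,2,5,0]) (.word [0,2,3,4,5])) (.word [2,0,4,0,4,5,2])) (.node (.word [3,5,0,4,0,1,5,3,5,2,1,4,0,1,5,4,2,0]) (.word [2,0,4,3,0,2]))) (.node (.node (.word [0,4,0,1,3,0]) (.word [5,0,2,0,2,1]))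 (.node (.word [0,2,0,4,3,0]) (.word [4,3,2,0,3])))))))) (.node (.node (.node (.node (.node (.node (.node (.node (.word [1,5,0,5,4,2,0]) (.word [3,0,4,0,3])) (.word [2,0,5,1,4,0,4,2,1,4,0])) (.node (.word [3,0,5,0,2,0]) (.word [3,0,5,0,2,1]))) (.node (.node (.word [0,1,2,0,4,0,1]) (.word [0,2,0,2,3,4,0])) (.node (.word [0,5,4,5,0,3,5]) (.word [0,3,0,4,0,2])))) (.node (.node (.node (.node (.word [0,4,3,5,2,0,1]) (.word [3,0,2,4,0,5,3])) (.word [1,2,1,4,0])) (.node (.word [0,3,2,4,3,2,0]) (.word [5,0,4,1,3,5]))) (.node (.node (.word [1,5,0,3,5,0,1]) (.word [5,2,0,2,5,0])) (.node (.word [0,4,0,4,2,4,0,5,0,2,0,3,5]) (.word [3,0,2,5,3,2]))))) (.node (.node (.node (.node (.node (.word [1,3,2,0,1]) (.word [2,4,0,2,3])) (.word [4,2,5,0,4,0])) (.node (.word [0,5,4,1,2,0]) (.word [0,4,0,3,1]))) (.node (.node (.word [4,2,3,4,0,1]) (.word [1,5,4,5,0,5,3])) (.node (.word [0,2,5,4,1,3,0]) (.word [4,0,3,5,0,2])))) (.node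 (.node (.node (.node (.word [1,5,1,3,0,1]) (.word [4,5,0,4,3,5])) (.word [2,5,3,0,2,4,5])) (.node (.word [0,1,5,4,1,3,0]) (.word [4,0,2,0,4,5]))) (.node (.node (.word [5,4,0,3,2,0,2,3,0,4,0,5,2,4,0,3,0,3,1]) (.word [5,2,0,4,5,0])) (.node (.word [0,3,4,0,2,3,0]) (.word [1,2,0,5,0,5,2])))))) (.node (.node (.node (.node (.node (.node (.word [3,4,0,5,0,2,0,4,1,3,0]) (.word [1,5,0,3])) (.word [1,5,3,0])) (.node (.word [0,4,5,0,2,0]) (.word [0,3,0,5,2,1]))) (.node (.node (.word [3,2,3,0,4,0,3]) (.word [5,0,1,5,4,0])) (.node (.word [2,5,4,5,2,0]) (.word [1,4,0,1,5,0,2])))) (.node (.node (.node (.node (.word [0,3,0,5,2,3,1,3,0,3,5,2,1]) (.word [4,5,0,2,0,3,5])) (.word [0,2,4,0])) (.node (.word [0,3,0,2,5,3,5]) (.word [0,3,4,1,2,0,2]))) (.node (.node (.word [0,4,2,0,1,2,0]) (.word [0,4,0,5,3,0,2])) (.node (.word [4,0,4,1,3,0]) (.word [3,1,4,2,0,5,2]))))) (.node (.node (.node (.node (.node (.word [3,4,2,0,1]) (.word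 [5,4,2,0,4,3])) (.word [3,2,0,5,3,2])) (.node (.word [5,0,3,2,0]) (.word [0,1,5,4,3]))) (.node (.node (.word [2,4,5,4,0,1]) (.word [0,4,0,1,5,4,5])) (.node (.word [5,2,3,0,3,0]) (.word [2,0,4,2,3,0,3])))) (.node (.node (.node (.node (.word [0,3,0,1,2,5,0]) (.word [5,2,4,5])) (.word [2,5,2,4,0])) (.node (.word [2,3,0,1,5,2,0]) (.word [0,4,5,1,3,0,2]))) (.node (.node (.word [2,5,2,0,2,0]) (.word [1,3,0,4,3,0,2])) (.node (.word [2,4,0,5,2,3,0]) (.word [1,3,0,2,0,3]))))))) (.node (.node (.node (.node (.node (.node (.node (.word [2,3,0,2,0,1]) (.word [0,5,0,3])) (.word [0,1,3,0,5,3,0])) (.node (.word [0,2,4,0,2,3,5,2,0,3,0]) (.word [0,4,0,3,2,1]))) (.node (.node (.word [0,5,0,4,0,1]) (.word [5,3,4,0])) (.node (.word [0,4,0,3,4,5]) (.word [2,0,2,3,4,0,2])))) (.node (.node (.node (.node (.word [2,5,0,1,3,0,1]) (.word [2,5,0,5,0,5,3])) (.word [2,3,1,4,0])) (.node (.word [1,4,0,4,2,4,0]) (.word [2,0,2]))) (.node (.node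 (.word [0,2,4,0,2,5,3]) (.word [0,2,3,2,5,0])) (.node (.word [1,3,2,0,2,1]) (.word [0,3,0,2,4,2]))))) (.node (.node (.node (.node (.node (.word [3,1,3,4,2,0,3]) (.word [2,5,0,4,2,3])) (.word [2,3,2,0,4,0])) (.node (.word [0,3,2,0]) (.word [4,3,0,5,0,3,1]))) (.node (.node (.word [0,5,0,4,5,3,5]) (.word [1,4,5,2,0,4,3])) (.node (.word [0,3,5,2,0,3,0]) (.word [5,2,4,5,0,2])))) (.node (.node (.node (.node (.word [1,5,0,3,2,3,0,1]) (.word [0,2,4,0,4,5])) (.word [5,0,4,2,4,0])) (.node (.word [0,1,4,2,3,5,0]) (.word [0,3,0,3,0,2]))) (.node (.node (.word [0,3,2,0,2,0]) (.word [3,4,5,0])) (.node (.word [0,4,5,0,2,3,2]) (.word [4,2,0,4,5,2])))))) (.node (.node (.node (.node (.node (.node (.word [2,0,2,5,2,3,0]) (.word [4,1,3,5,0,3])) (.word [2,4,5,3,0])) (.node (.word [1,4,3,1,2,0]) (.word [3,4,0,2,0,3,1]))) (.node (.node (.word [1,5,2,4,0,1]) (.word [4,0,5,4,0])) (.node (.word [0,1,5,0,1,3,0]) (.word [5,2,4,5,3,5,4,2,5,1,3,0,2,3,4,0]))))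 (.node (.node (.node (.node (.word [2,1,3,0,1]) (.word [3,4,5,4,0,3,5])) (.word [5,2,1,2,4,0])) (.node (.word [2,0,5,0,3,4,0]) (.word [4,1,4,2,0,2]))) (.node (.node (.word [0,3,0,2,5,3,2]) (.word [2,3,5,0])) (.node (.word [2,0,5,1,3,0]) (.word [5,2,1,4,0,5,2]))))) (.node (.node (.node (.node (.node (.word [3,0,5,2,0,1]) (.word [5,4,5,0,4,3])) (.word [5,0,3,5,0,4,0])) (.node (.word [3,0,4,2,0,4,0]) (.word [2,0,2,0,1,3,5]))) (.node (.node (.word [1,4,3,0,4,3,0]) (.word [5,4,2,1,5,0])) (.node (.word [4,0,5,0,3,0]) (.word [3,0,5,2,4,0,3])))) (.node (.node (.node (.word [1,5,0,1,3,4,2,0,4,5,0,4,3,5]) (.word [2,3,0,3,4,0])) (.node (.word [2,1,5,2,0]) (.word [5,3,0,2]))) (.node (.node (.word [2,5,1,4,0,2,0]) (.word [3,0,2,1])) (.node (.word [2,3,0,4,3,0]) (.word [5,2,0,3])))))))))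

/-- A subtree. -/
def wt45 : WTree :=
  (.node (.node (.node (.node (.node (.node (.node (.node (.node (.word [0,1,2,0,1]) (.word [2,1,5,0,3,0,3])) (.word [2,5,0,4,3,0])) (.node (.word [1,4,0,5,3,4,0]) (.word [0,1,5,3,0,2,1]))) (.node (.node (.word [5,0,5,3,0,1]) (.word [2,0,2,1,3,4,0])) (.node (.word [4,0,5,0,3,2,3,4,5,4,2,0]) (.word [2,3,5,3,0,2])))) (.node (.node (.node (.node (.word [3,2,4,0,5,4,0,1,5,0,4,5,0]) (.word [0,2,0,5,3])) (.word [4,5,3,5,0,4,0])) (.node (.word [1,2,5,2,3,2,0]) (.word [2,5,0,1,3,5]))) (.node (.node (.word [4,0,5,1,2,0]) (.word [0,5,0,2,4,0,2])) (.node (.word [2,5,0,3,0]) (.word [0,2,3,2]))))) (.node (.node (.node (.node (.node (.word [0,5,4,2,0,3,0]) (.word [4,5,0,3])) (.word [3,2,0,1,2,3,2])) (.node (.word [2,0,4,1,2,0]) (.word [3,2,0,3,0,3,1]))) (.node (.node (.word [0,5,0,5,3,0,2]) (.word [0,5,0,5,4,0])) (.node (.word [0,2,0,3,0]) (.word [0,5,4,1,5,0,2])))) (.node (.node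 (.node (.node (.word [0,4,1,3,0,1]) (.word [2,1,4,5,0,3,5])) (.word [3,2,4,0])) (.node (.word [2,5,4,0,4,2,0]) (.word [0,4,0,5,3,2]))) (.node (.node (.word [3,5,0,1,2,0]) (.word [4,5,0,2,3,5,0])) (.node (.word [4,2,5,1,3,0]) (.word [3,5,2,4,0,5,2])))))) (.node (.node (.node (.node (.node (.node (.word [1,3,5,3,4,0,5,3,2,5,0,2]) (.word [5,4,2,0,5,0,3])) (.word [3,5,3,0,5,3,0])) (.node (.word [3,5,0,2,0]) (.word [1,2,0,2,4,5]))) (.node (.node (.word [2,4,0,1]) (.word [4,0,2,4,0,3])) (.node (.word [2,1,2,0,3,0]) (.word [0,5,4,0,2])))) (.node (.node (.node (.node (.word [4,0,4,5,2,3,2,5,0,5,4,0]) (.word [4,0,2,5,3])) (.word [3,2,0,5,1,4,0])) (.node (.word [0,2,5,3,2,0]) (.word [5,2,0,2,0,2]))) (.node (.node (.word [1,4,0,1,2,4,0]) (.word [2,5,2,5,0])) (.node (.word [0,3,1,2,0,4,5]) (.word [0,4,2,4,2]))))) (.node (.node (.node (.node (.node (.word [2,1,4,2,0,1]) (.word [4,5,0,5,2,3])) (.word [1,4,2,0,4,0])) (.node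 (.word [4,0,1,3,2,0]) (.word [2,3,5,0,3,1]))) (.node (.node (.word [1,5,4,0,1]) (.word [4,2,4,5,4,0])) (.node (.word [0,2,0,4,2,4,2,0,2]) (.word [2,3,2,0,3])))) (.node (.node (.node (.node (.word [1,2,3,2,4,0,2]) (.word [2,4,5])) (.word [2,1,3,4,2,4,0])) (.node (.word [4,5,0,5,4,2,0]) (.word [5,0,3,0,2]))) (.node (.node (.word [5,3,2,0,2,0]) (.word [4,5,3,4,5,0])) (.node (.word [4,2,4,2,3,0]) (.word [2,0,4,0,3,5]))))))) (.node (.node (.node (.node (.node (.node (.node (.word [1,5,2,0,2,0,1]) (.word [0,1,2,4,0,3])) (.word [2,5,0,1,5,3,0])) (.node (.word [0,5,0,5,1,2,5,3,2,3,0,5,0,3,0]) (.word [4,5,0,2,1]))) (.node (.node (.word [2,0,1,2,3,0,2]) (.word [3,2,3,4,0])) (.node (.word [1,2,4,2,0,2]) (.word [5,0,1,2,4,0,2])))) (.node (.node (.node (.node (.word [1,4,5,2,0,1]) (.word [4,1,3,0,5,3])) (.word [4,0,3,2,1,4,0])) (.node (.word [3,5,4,3,2,0]) (.word [4,2,0,4,5,1]))) (.node (.node (.word [1,2,0,5,2,3]) (.word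 [4,0,2,5,0])) (.node (.word [2,5,3,5,2,0,5,3,5,0,2,0,4,5,0,3,2,0]) (.word [5,2,0,5,3,2]))))) (.node (.node (.node (.node (.node (.word [0,2,3,2,0,1]) (.word [0,1,5,0,3,2,3])) (.word [4,5,0,1,4,0])) (.node (.word [2,0,1,2,5,2,0]) (.word [4,2,4,0,3,1]))) (.node (.node (.word [1,5,1,2,4,0,2,3,5,4,0]) (.word [2,3,5,4,0])) (.node (.word [0,3,4,2,5,3,0]) (.word [5,4,3,5,0,2])))) (.node (.node (.node (.node (.word [0,1,2,3,2,5,0]) (.word [5,4,0,5,3,5])) (.word [1,2,0,2,3,4,0])) (.node (.word [0,5,4,5,4,5,3,5,4,5,4,5,0]) (.word [3,4,2,0,4,5]))) (.node (.node (.word [2,0,3,0,5,3,5]) (.word [4,0,5,0,4,5,0])) (.node (.word [2,4,0,2,4,0]) (.word [0,3,5,2])))))) (.node (.node (.node (.node (.node (.node (.word [0,2,3,1,4,0]) (.word [4,3,1,5,0,3])) (.word [5,4,1,5,3,0])) (.node (.word [0,1,2,3]) (.word [5,0,3,5,2,1]))) (.node (.node (.word [0,4,2,4,0,1]) (.word [0,4,2,0,5,4,0])) (.node (.word [3,5,2,3,0,3,0]) (.word [2,5,3,0,5,0,2]))))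 (.node (.node (.node (.node (.word [0,5,0,3,0,1]) (.word [5,4,5,2,0,3,5])) (.word [4,3,0,2,4,0])) (.node (.word [1,5,0,5,0,5,2]) (.word [0,4,1,2,0,2]))) (.node (.node (.word [4,5,2,0,1,2,0]) (.word [2,5,3,0,3,5,0])) (.node (.word [1,2,1,4,5,0,3]) (.word [1,3,0,5,2]))))) (.node (.node (.node (.node (.node (.word [3,1,4,0,3,0,5,3,1]) (.word [1,5,0,2,0,5,3])) (.word [2,0,1,5,0,4,0])) (.node (.word [0,2,1,3,2,0]) (.word [3,0,5,3,1]))) (.node (.node (.word [2,0,5,0,1]) (.word [5,2,5,3,5])) (.node (.word [5,3,0,3,0]) (.word [0,2,4,0,3,2])))) (.node (.node (.node (.node (.word [1,5,1,2,5,0]) (.word [0,3,0,3,4,5])) (.word [0,1,4,3,5,4,0])) (.node (.word [1,3,2,4,0,5,2]) (.word [1,2,3,2,5,0,2]))) (.node (.node (.word [0,1,2,5,0,4,0]) (.word [0,3,0,5,0,3,2])) (.node (.word [4,5,2,3,0]) (.word [0,3,2,0,3])))))))) (.node (.node (.node (.node (.node (.node (.node (.node (.word [1,5,4,5,0,3,0]) (.word [5,4,5,3,0,3])) (.word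 [0,5,3,0])) (.node (.word [3,4,5,4,0,1,2,0,3,4,5]) (.word [1,4,3,5,0,2]))) (.node (.node (.word [4,0,1]) (.word [0,2,3,4,0])) (.node (.word [4,3,0,2,5,2,0]) (.word [0,2,0,4,0,2])))) (.node (.node (.node (.node (.word [3,2,5,2,1,5,0]) (.word [5,4,2,0,5,3])) (.word [3,2,0,2,1,4,0])) (.node (.word [0,1,2,4,3,2,0]) (.word [2,0,4,1,3,5]))) (.node (.node (.word [2,3,0,3,5,0,1]) (.word [1,2,0,2,5,0])) (.node (.word [2,4,5,0,3,0]) (.word [1,2,4,5,0,3,5]))))) (.node (.node (.node (.node (.node (.word [3,4,0,5,3,2]) (.word [4,0,2,3])) (.word [4,3,0,5,2,5,3,5,4,0,1])) (.node (.word [0,5,1,4,0,3]) (.word [2,3,0,3,0,5,2]))) (.node (.node (.word [2,4,0,2,3,2]) (.word [1,2,3,5,3,0,3])) (.node (.word [0,2,3,2,0,3,0]) (.word [0,3,5,0,2])))) (.node (.node (.node (.node (.word [2,0,5,1,3,0,1]) (.word [5,2,4,0,4,3,5])) (.word [1,3,1,2,4,0,3])) (.node (.word [5,0,4,1,4,2,0]) (.word [3,2,0,2,0,4,5]))) (.node (.node (.word [0,3,4,2,5,2,0])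 (.word [2,3,2,0,4,5,0])) (.node (.word [3,0,2,3,0]) (.word [0,1,5,0,5,2])))))) (.node (.node (.node (.node (.node (.node (.word [2,4,0,2,0,1]) (.word [4,2,5,0,5,0,3])) (.word [1,2,3,2,5,0,2,3,2,4,0,2,3])) (.node (.word [5,2,0,2,4,1,4,5,4,0,4,5,4,0]) (.word [2,1,4,3,0,5,2]))) (.node (.node (.word [0,3,2,4,0,1]) (.word [0,1,5,4,0])) (.node (.word [2,5,3,0,4,0]) (.word [0,1,5,0,2])))) (.node (.node (.node (.node (.word [1,2,3,0,3,0,1]) (.word [5,2,0,2,0,3,5])) (.word [3,1,2,4,5,4,0])) (.node (.word [4,2,0]) (.word [1,2,4,0,2,0,2]))) (.node (.node (.word [4,0,2,0,1,2,0]) (.word [3,0,5,3,0,2])) (.node (.word [0,3,0,4,1,3,0]) (.word [4,0,3,2,0,5,2]))))) (.node (.node (.node (.node (.node (.word [1,3,5,0,5,4,3]) (.word [1,3,2,0,4,3])) (.word [0,4,1,3,0,2])) (.node (.word [0,5,3,0,3,2,0]) (.word [0,1,4,3]))) (.node (.node (.word [0,5,3,5,4,0,1]) (.word [0,2,0,1,5,4,5])) (.node (.word [0,4,0,2,4,3,2,5,0,2]) (.word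 [0,4,3,5,4,0,3])))) (.node (.node (.node (.node (.word [4,2,0,1,2,5,0]) (.word [1,5,0,2,4,5])) (.word [1,5,2,4,0])) (.node (.word [5,2,0]) (.word [3,5,1,3,0,2]))) (.node (.node (.word [2,4,2,5,0,5,0,4,5,0]) (.word [5,3,5,4,5,0])) (.node (.word [1,3,0,5,2,3,0]) (.word [1,5,2,0,2,0,3]))))))) (.node (.node (.node (.node (.node (.node (.node (.word [1,3,0,5,4,5,0]) (.word [4,5,4,0,3])) (.word [2,5,2,0,5,3,0])) (.node (.word [0,5,1,5,0,2,0]) (.word [2,3,0,3,2,1]))) (.node (.node (.word [0,3,4,3,0,2]) (.word [0,5,2,3,4,0])) (.node (.word [0,2,3,5,2,0]) (.word [1,2,4,2,4,0,2])))) (.node (.node (.node (.node (.word [5,4,0,1,3,0,1]) (.word [5,3,0,5,0,5,3])) (.word [3,4,2,1,4,0])) (.node (.word [0,4,0,2,0,1,5,0,2,5,3]) (.word [0,2,1,4,0,3,5]))) (.node (.node (.word [3,4,5,3,5,0,1]) (.word [0,3,2,5,0])) (.node (.word [3,0,3,2,0,2,1]) (.word [2,0,2,4,2]))))) (.node (.node (.node (.node (.node (.word [0,1,3,4,2,0,3])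 (.word [1,2,0,4,2,3])) (.word [0,4,0,5,1,3,5])) (.node (.word [1,4,5,1,2,0]) (.word [4,0,1,5,0,3,1]))) (.node (.node (.word [0,1,5,4,0,1]) (.word [0,4,5,4,0])) (.node (.word [2,5,2,0,3,0]) (.word [5,1,4,5,0,2])))) (.node (.node (.node (.node (.word [1,3,2,1,4,0,5,0,5,3,5]) (.word [4,3,0,4,5])) (.word [0,5,2,0,4,2,4,0])) (.node (.word [5,0,5,2,4,2,0]) (.word [3,1,2,0,3,0,2]))) (.node (.node (.word [3,5,1,2,0,2,0]) (.word [5,3,2,4,5,0])) (.node (.word [2,1,3,2,3,0]) (.word [5,3,5,2])))))) (.node (.node (.node (.node (.node (.node (.word [0,1,2,1,3,2,0]) (.word [0,5,0,3,5,0,3])) (.word [4,0,4,5,3,0])) (.node (.word [0,4,3,1,2,0]) (.word [1,3,0,2,0,3,1]))) (.node (.node (.word [0,1,5,2,4,0,1]) (.word [0,5,3,0,5,4,0])) (.node (.word [2,5,4,0,1,3,0]) (.word [3,5,0,5,0,2])))) (.node (.node (.node (.node (.word [0,1,4,2,1,5,0]) (.word [2,5,4,0,3,5])) (.word [1,3,5,0,2,4,0])) (.node (.word [1,5,2,0,2,0,2]) (.word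 [0,4,2,0,2]))) (.node (.node (.word [2,5,2,0,3,0,2,5,3,2,0]) (.word [1,3,5,0])) (.node (.word [0,5,1,3,0]) (.word [0,4,0,4,5,2]))))) (.node (.node (.node (.node (.node (.word [2,4,3,2,0,5,2]) (.word [4,0,5,4,0,4,3])) (.word [1,4,2,0,2,1])) (.node (.word [5,2,3,2,3,0]) (.word [0,1,3,5]))) (.node (.node (.word [2,4,0,4,5,3,0,3,0,1]) (.word [4,2,1,5,0])) (.node (.word [0,1,5,0,3,0]) (.word [0,5,0,3,2])))) (.node (.node (.node (.node (.word [5,2,0,2,1,4,0,5,0,5,3]) (.word [4,5,4,5])) (.word [2,0,3,4,0])) (.node (.word [0,3,5,0,5,2,0]) (.word [0,2,5,4,3,0,2]))) (.node (.node (.word [4,1,4,0,2,0]) (.word [0,5,2,0,2,1])) (.node (.word [5,0,3,0,4,3,0]) (.word [5,4,2,0,3])))))))))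

/-- A subtree. -/
def wt46 : WTree :=
  (.node (.node (.node (.node (.node (.node (.node (.node (.node (.word [2,0,1,5,4,5,0]) (.word [3,0,4,2,3])) (.word [2,3,4,3,0])) (.node (.word [5,0,2,0]) (.word [2,4,2,4,0,2,1]))) (.node (.node (.word [3,2,5,3,0,1]) (.word [5,1,3,4,0])) (.node (.word [1,4,1,5,2,0]) (.word [1,4,5,3,0,2])))) (.node (.node (.node (.node (.word [1,5,1,4,0,2,0]) (.word [2,4,0,2,0,5,3])) (.word [1,4,0])) (.node (.word [2,0,4,3,2,0]) (.word [3,5,0,1,3,5]))) (.node (.node (.word [2,0,3,5,0,1]) (.word [1,2,3,4,5,0,2])) (.node (.word [4,1,3,5,0,3,0]) (.word [1,4,0,2,3,2]))))) (.node (.node (.node (.node (.node (.word [0,2,5,4,5,4,0]) (.word [0,3,4,5,0,3])) (.word [0,4,0])) (.node (.word [5,0,4,1,2,0]) (.word [4,5,0,3,0,3,1]))) (.node (.node (.word [2,5,2,3,5,0,3]) (.word [4,5,0,5,4,0])) (.node (.word [2,5,0,3,0,2,1]) (.word [1,3,5,3,0,3])))) (.node (.node (.node (.node (.word [0,1,3,4,1,3,0])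 (.word [5,4,5,0,3,5])) (.word [4,3,0,3,2,4,0])) (.node (.word [0,3,5,0,4,2,0]) (.word [4,0,5,4,2,0,2]))) (.node (.node (.word [4,5,0,1,2,0]) (.word [4,2,5,4,0,3,5])) (.node (.word [2,3,4,5,1,3,0]) (.word [0,2,3,4,0,5,2])))))) (.node (.node (.node (.node (.node (.node (.word [0,2,5,0,3,5,0]) (.word [3,5,3,0,5,0,3])) (.word [3,2,4,0,5,3,0])) (.node (.word [0,2,3,5,0,2,0]) (.word [0,2,4,2,1]))) (.node (.node (.word [5,0,2,4,0,1]) (.word [5,3,5,3,4,0])) (.node (.word [1,4,5,3,0,5,3]) (.word [4,5,4,0,2])))) (.node (.node (.node (.node (.word [3,0,3,0,1]) (.word [4,5,0,2,5,3])) (.word [4,5,4,5,0,2])) (.node (.word [0,4,0,4,5,0,2]) (.word [0,4,0,2,0,2]))) (.node (.node (.word [1,2,4,1,2,3,0]) (.word [5,0,4,5,2,5,0])) (.node (.word [0,4,1,3,0]) (.word [5,0,4,5,4,2]))))) (.node (.node (.node (.node (.node (.word [0,4,3,0,5,3,1]) (.word [2,0,4,3])) (.word [0,5,3,4,5,0,3])) (.node (.word [2,3,2,3,0,4,3,4,5,0]) (.word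 [0,3,1,2,3]))) (.node (.node (.word [0,3,5,4,0,1]) (.word [1,3,5,4,5,4,0])) (.node (.word [0,2,0,2,0,3]) (.word [2,0,2,3,0,3])))) (.node (.node (.node (.node (.word [2,3,0,5,3,1]) (.word [4,3,0,2,4,5])) (.word [0,2,4,5,0,3,5])) (.node (.word [5,0,3,4,5,0]) (.word [1,3,5,0,3,0,2]))) (.node (.node (.word [1,3,4,2,0,2,0]) (.word [1,4,0,5,4,5,0])) (.node (.word [0,2,5,0,5,3,2]) (.word [0,3]))))))) (.node (.node (.node (.node (.node (.node (.node (.word [2,0,4,2,0,3,0]) (.word [1,2,5,4,0,3])) (.word [2,3,0,5,3,0])) (.node (.word [0,3,0,4,5,0,3,0,1,3,4,2,0,3]) (.word [0,3,2,1]))) (.node (.node (.word [0,1,4,0,5,3,5]) (.word [5,3,2,3,4,0])) (.node (.word [2,4,2,5,2,0]) (.word [1,4,0,2,4,0,2])))) (.node (.node (.node (.node (.word [0,4,1,4,0,2,0]) (.word [0,5,4,0,5,3])) (.word [0,4,2,1,4,0])) (.node (.word [0,1,4,5,3,2,0]) (.word [0,4,0,1,3,0,2]))) (.node (.node (.word [3,0,5,3,5,0,1]) (.word [4,2,4,0,2,5,0])) (.node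 (.word [3,2,1,3,0]) (.word [0,2,4,0,5,3,2]))))) (.node (.node (.node (.node (.node (.word [0,4,3,2,0,1]) (.word [3,0,5,3,2,3])) (.word [1,3,2,0,4,0])) (.node (.word [2,1,4,1,2,0,2]) (.word [5,4,0,3,1]))) (.node (.node (.word [1,2,4,2,5,2,0]) (.word [1,5,4,0,2,3])) (.node (.word [0,4,5,0,4,3,5]) (.word [0,3,0,4,5,0,2])))) (.node (.node (.node (.node (.word [1,2,3,0,1]) (.word [4,5])) (.word [2,5,3,2,4,0])) (.node (.word [3,2,3,0,2,1]) (.word [0,3,0,3,0,4,5]))) (.node (.node (.word [0,5,0,1,4,0]) (.word [2,0,2,4,5,0])) (.node (.word [2,0,1,3,2,3,0]) (.word [0,5,4,0,3,5,2])))))) (.node (.node (.node (.node (.node (.node (.word [5,2,0,3,4,0,4,0,2,3,2,3,0]) (.word [0,3,2,5,0,3])) (.word [0,5,2,5,3,0])) (.node (.word [0,3,1,4,0,3,1]) (.word [0,2,1,5,0,3,5]))) (.node (.node (.word [1,4,2,4,0,1]) (.word [2,0,3,0,5,4,0])) (.node (.word [2,4,0,1,3,0]) (.word [5,0,5,0,2])))) (.node (.node (.node (.node (.word [0,3,0,2,0,2,0])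 (.word [2,5,1,4,0,3,5])) (.word [0,1,3,5,3,0,2])) (.node (.word [3,0,4,2,0]) (.word [0,3,2,0,2]))) (.node (.node (.word [2,0,5,0,1,3,2,3,0,5,4,0]) (.word [1,3,4,0,3,5,0])) (.node (.word [0,3,4,1,3,0]) (.word [1,4,3,0,5,2]))))) (.node (.node (.node (.node (.node (.word [1,2,5,1,3,0,1]) (.word [0,2,4,0,4,3])) (.word [0,3,1,5,0,4,0])) (.node (.word [1,5,2,4,0,3]) (.word [0,5,0,1,3,0,2]))) (.node (.node (.word [0,4,0,5,0,1]) (.word [1,5,0])) (.node (.word [0,4,0,2,5,0,3]) (.word [5,4,0,3,2])))) (.node (.node (.node (.node (.word [0,1,5,3,0,1]) (.word [0,2,0,5,4,5])) (.word [3,4,0])) (.node (.word [0,1,4,0,5,2,0]) (.word [3,0,2,0,2,4,2]))) (.node (.node (.word [0,4,0,2,0,4,0,5,2,4,0]) (.word [1,2,0,4,5,1])) (.node (.word [2,4,2,0,5,3,0]) (.word [4,2,0,3])))))))) (.node (.node (.node (.node (.node (.node (.node (.node (.word [1,3,0,5,0,3]) (.word [1,4,0,3])) (.word [1,3,0,1,5,3,0])) (.node (.word [0,2,0,5,0,3])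 (.word [5,0,5,0,2,1]))) (.node (.node (.word [2,0,4,5,1,3,0]) (.word [4,3,0,2,3,4,0])) (.node (.word [0,4,5,2,0,4,0]) (.word [0,5,0,4,0,2])))) (.node (.node (.node (.node (.word [3,5,0,2,3,4,0,2,4,2]) (.word [0,3,0,5,3])) (.word [2,3,1,4,0,3,5])) (.node (.word [2,4,2,3,5,0]) (.word [3,5,3,5,2]))) (.node (.node (.word [0,2,0,4,2,0]) (.word [0,3,0,2,5,0])) (.node (.word [0,2,1,3,0]) (.word [3,2,1,2,4,0,3]))))) (.node (.node (.node (.node (.node (.word [2,1,5,1,5,0]) (.word [5,4,0,2,3])) (.word [2,3,0,1,4,0])) (.node (.word [1,4,0,1,3,0,2]) (.word [0,1,4,0,2,3]))) (.node (.node (.word [1,4,5,0,4,2,1,2,3,5,0]) (.word [0,2,4,1,5,4,0])) (.node (.word [2,4,3,2,0,3,0]) (.word [2,1,3,5,0,2])))) (.node (.node (.node (.node (.word [2,4,5,3,0,4,0]) (.word [3,2,0,5,3,5])) (.word [2,3,2,3,4,0])) (.node (.word [0,2,0,2,1,3,0]) (.word [5,0,2,0,4,5]))) (.node (.node (.word [4,3,0,2,0,2,0]) (.word [5,0,3,0,4,5,0])) (.node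 (.word [3,0,5,0,2,3,0]) (.word [3,5,0,5,0,5,2])))))) (.node (.node (.node (.node (.node (.node (.word [0,5,4,0,2,0,1]) (.word [2,3,5,4,0,3,5])) (.word [4,1,5,3,0])) (.node (.word [2,3,0,3,1,5,2,0,5,2,3,2,5,3,4,0,1,5,2,3,2,4,5,1,0,5,3,4,0]) (.word [0,4,0,5,2,1]))) (.node (.node (.word [0,2,4,0,3,1]) (.word [0,2,0,5,4,0])) (.node (.word [2,1,4,5,2,5,0]) (.word [0,3,0,5,0,2])))) (.node (.node (.node (.node (.word [5,3,0,3,0,1]) (.word [5,4,2,0,3,5])) (.word [3,2,0,2,4,0])) (.node (.word [0,3,0,1,4,2,0]) (.word [1,5,0,2,0,2]))) (.node (.node (.word [1,3,2,1,5,0,3,0,3,0,5,3,5]) (.word [3,0,3,5,0])) (.node (.word [0,3,0,3,1,5,0]) (.word [3,0,5,2]))))) (.node (.node (.node (.node (.node (.word [2,4,1,3,0,1]) (.word [0,2,5,2,0,4,3])) (.word [3,5,3,0,4,0])) (.node (.word [3,5,0,3,2,0]) (.word [0,3,0,1,5,4,3]))) (.node (.node (.word [3,4,2,4,2,3,5,4,2,4,5,2,5,0,2]) (.word [1,4,0,3,1,0,3,1,2,0,4,5])) (.node (.word [0,4,3,0,3,0])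 (.word [3,0,4,0,3,2])))) (.node (.node (.node (.node (.word [5,0,1,2,5,0]) (.word [5,4,0,5,2,4,5])) (.word [3,2,5,2,4,0])) (.node (.word [5,0,5,0,4,0,5,3,0,4,0]) (.word [0,2,3,0,2]))) (.node (.node (.word [2,5,2,0,2,5,0]) (.word [1])) (.node (.word [2,1,5,3,1,4,0]) (.word [2,5,0,2,0,3]))))))) (.node (.node (.node (.node (.node (.node (.node (.word [4,3,0,2,0,1]) (.word [4,0,1,5,0,3])) (.word [2,1,3,0,5,3,0])) (.node (.word [0,5,3,4,5,3,0]) (.word [0,1,2,3,2]))) (.node (.node (.word [1,5,2,0,3,0,2]) (.word [3,0,5,3,4,0])) (.node (.word [0,1,4,3,0,3,0]) (.word [5,3,4,0,2])))) (.node (.node (.node (.node (.word [2,0,3,0,1]) (.word [2,5,3])) (.word [1,5,3,1,4,0])) (.node (.word [2,1,5,3,2,0]) (.word [4,0,1,2,0,2]))) (.node (.node (.word [2,3,0,4,5,0,2]) (.word [1,3,4,5,0,2])) (.node (.word [5,3,2,0,2,1]) (.word [0,1,4,0,2,4,2]))))) (.node (.node (.node (.node (.node (.word [3,0,1,4,2,0,1]) (.word [0,5,2,3]))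 (.word [1,4,3,2,0,4,0])) (.node (.word [3,1,4,2,5,3,0]) (.word [1,5,3,5,0,3]))) (.node (.node (.word [3,0,5,4,0,1]) (.word [4,1,4,5,4,0])) (.node (.word [2,5,0,3,0,4,5]) (.word [3,2])))) (.node (.node (.node (.node (.word [0,4,0,2,0,5,2,0,5,3,0,1]) (.word [2,4,0,5,0,4,5])) (.word [0,3,1,3,0,3])) (.node (.word [1,4,0,3,0,2,1]) (.word [0,5,3,0,3,0,2]))) (.node (.node (.word [4,0,3,2,0,2,0]) (.word [4,1,5,3,0,2])) (.node (.word [4,2,3,0]) (.word [2,4,0,4,5,2])))))) (.node (.node (.node (.node (.node (.node (.word [1,2,5,0,5,2,3]) (.word [5,2,3,5,0,3])) (.word [0,5,2,4,5,3,0])) (.node (.word [2,1,2,4,2,0,3]) (.word [1,3,2,0,3,1]))) (.node (.node (.word [0,3,5,2,4,2,0]) (.word [0,3,0,4,2,3])) (.node (.word [4,1,5,0,1,3,0]) (.word [3,2,1,5,0,2])))) (.node (.node (.node (.node (.word [5,0,2,1,3,0,1]) (.word [2,0,5,0,3,5])) (.word [3,1,2,4,0])) (.node (.word [0,2,4,0,4,2,0]) (.word [0,2,4,2,0,2]))) (.node (.node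 (.word [1,5,0,1,2,0]) (.word [2,0,2,3,5,0])) (.node (.word [0,1,5,0,5,4,0]) (.word [0,2,4,0,5,2]))))) (.node (.node (.node (.node (.node (.word [5,0,5,2,0,1]) (.word [0,4,0,5,4,3])) (.word [2,3,5,0,4,0])) (.node (.word [3,4,2,3,2,0]) (.word [0,3,2,0,1,3,5]))) (.node (.node (.word [0,1,3,2,5,0]) (.word [0,1,3,1,5,0])) (.node (.word [0,5,4,5,0,4,3]) (.word [3,1,5,0,3,2])))) (.node (.node (.node (.word [4,0,5,3,0,1]) (.word [0,4,3,0,3,4,0])) (.node (.word [0,4,0,2,3,2,1,3,0]) (.word [5,3,2,5,3,0,2]))) (.node (.node (.word [3,0,4,0,5,4,0]) (.word [2,5,0,3,0,5,3])) (.node (.word [0,4,3,0,4,3,0]) (.word [1,2,5,2,0,3])))))))))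

/-- A subtree. -/
def wt47 : WTree :=
  (.node (.node (.node (.node (.node (.node (.node (.node (.node (.word [2,0,1]) (.word [5,4,0,1,3,0,3])) (.word [0,1,5,0,4,3,0])) (.node (.word [0,5,4,0,2,0]) (.word [5,3,0,2,1]))) (.node (.node (.word [1,2,5,0,5,0,3]) (.word [2,1,3,4,0])) (.node (.word [0,3,1,5,2,0]) (.word [1,3,5,3,0,2])))) (.node (.node (.node (.node (.word [0,3,1,5,2,0,1]) (.word [0,5,3])) (.word [5,3,5,0,4,0])) (.node (.word [1,4,5,2,5,3,0]) (.word [2,3,0,1,3,5]))) (.node (.node (.word [1,2,1,5,2,0]) (.word [1,2,0,2,3,0,3])) (.node (.word [5,1,5,0,3,0]) (.word [3,2,4,5,3,0,3]))))) (.node (.node (.node (.node (.node (.word [0,1,2,5,2,0,1]) (.word [2,5,3,5,0,3])) (.word [5,4,5,3,0])) (.node (.word [0,4,1,2,0]) (.word [0,3,0,3,1]))) (.node (.node (.word [0,3,4,5,4,5,0]) (.word [3,0,3,0,5,2,1])) (.node (.word [5,0,2,0,2,4,5]) (.word [3,4,1,5,0,2])))) (.node (.node (.node (.node (.word [0,4,5,0,4,3])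 (.word [1,4,5,0,3,5])) (.word [0,5,1,2,4,0])) (.node (.word [0,5,4,0,4,2,0]) (.word [2,3,2,4,2,0,2]))) (.node (.node (.word [5,2,5,0,1,2,0]) (.word [5,0,2,3,5,0])) (.node (.word [2,5,1,3,0]) (.word [2,4,2,4,0,5,2])))))) (.node (.node (.node (.node (.node (.node (.word [5,3,0,2,0,1]) (.word [3,2,0,5,0,3])) (.word [2,3,4,5,2,5,0,2,3,0,1,3,2,0])) (.node (.word [1,4,0,5,1,3,0]) (.word [1,5,3,2]))) (.node (.node (.word [0,1,2,3,1,5,0]) (.word [1,5,3,5,3,4,0])) (.node (.word [2,4,2,0,4,0,5,2,4,5,0,2]) (.word [3,4,5,3,4,0,2])))) (.node (.node (.node (.node (.word [0,3,0,2,5,1,5,0,3,0,1]) (.word [2,5,0,4,3,5])) (.word [4,0,1,5,1,4,0])) (.node (.word [5,4,1,5,3,2,0]) (.word [2,0,2,0,2]))) (.node (.node (.word [0,4,0,1,2,4,0]) (.word [3,4,5,2,5,0])) (.node (.word [0,5,0,2,3,4,0]) (.word [3,4,0,2,4,2]))))) (.node (.node (.node (.node (.node (.word [0,1,5,1,3,2,0]) (.word [5,0,5,2,3])) (.word [0,1,4,2,0,4,0])) (.node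 (.word [2,3,0,1,3,2,0]) (.word [2,0,3,5,0,3,1]))) (.node (.node (.word [0,4,0,2,0,2,1]) (.word [2,3,2,4,5,4,0])) (.node (.word [0,3,2,3,0,4,5]) (.word [4,0,1,2,0,3])))) (.node (.node (.node (.node (.word [1,5,2,5,1,2,3,5,1,3,4,1,4,2,4,5,1,2,3,0,3,0,1]) (.word [3,4,5,0,4,5])) (.word [4,0,2,0,1,3,5])) (.node (.word [0,3,5,0,5,3,2]) (.word [5,4,0,3,0,2]))) (.node (.node (.word [0,2,0,2,5,3,1]) (.word [2,1,5,3,4,5,0])) (.node (.word [0,2,4,2,3,0]) (.word [2,4,5,2]))))))) (.node (.node (.node (.node (.node (.node (.node (.word [5,2,0,2,0,1]) (.word [2,4,0,3])) (.word [5,0,1,5,3,0])) (.node (.word [2,5,0,5,0,2,0]) (.word [5,2,5,0,2,1]))) (.node (.node (.word [0,3,2,0,4,0,1]) (.word [2,3,0,4,0,3])) (.node (.word [2,3,2,5,2,0]) (.word [0,1,2,4,0,2])))) (.node (.node (.node (.node (.word [3,0,3,0,4,5,1,5,0,2,0,3,5]) (.word [1,3,0,5,3])) (.word [3,2,1,4,0])) (.node (.word [0,2,1,5,3,2]) (.word [3,2,0,4,5,1]))) (.node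 (.node (.word [2,5,4,0,5,4,0]) (.word [4,2,3,0,2,5,0])) (.node (.word [1,5,3,2,0,3]) (.word [3,0,2,0,5,3,2]))))) (.node (.node (.node (.node (.node (.word [1,5,3,4,3,0]) (.word [0,4,0,3,2,3])) (.word [3,5,0,1,4,0])) (.node (.word [1,2,5,2,0]) (.word [2,4,0,3,1]))) (.node (.node (.word [0,5,3,4,0,1]) (.word [1,3,5,4,0])) (.node (.word [3,4,2,0,3,0]) (.word [4,3,5,0,2])))) (.node (.node (.node (.node (.word [0,2,3,0,1]) (.word [0,4,0,5,3,5])) (.word [0,1,4,3,2,4,0])) (.node (.word [2,0,2,4,2,0]) (.word [3,2,4,0,5,3,2]))) (.node (.node (.word [1,2,0,2,0]) (.word [0,1,5,0,4,5,0])) (.node (.word [0,4,5,4,0,3]) (.word [4,3,5,0,5,2])))))) (.node (.node (.node (.node (.node (.node (.word [5,0,2,0,1]) (.word [5,0,3,1,5,0,3])) (.word [0,3,4,5,3,0])) (.node (.word [0,1,5,2,4,0,3]) (.word [0,3,5,2,1]))) (.node (.node (.word [0,1,3,2,1,5,0]) (.word [5,3,2,0,5,4,0])) (.node (.word [0,2,3,0,1,3,0]) (.word [5,4,3,0,5,0,2]))))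 (.node (.node (.node (.node (.word [1,3,1,5,0,2,4,5,0,1,2,0]) (.word [2,1,5,4,0,3,5])) (.word [2,3,0,2,4,0])) (.node (.word [5,3,1,2,3,0,3,0,5,1,3,1,2,3,2,4,0]) (.word [1,2,0,2]))) (.node (.node (.word [3,5,2,0,1,2,0]) (.word [2,0,5,0,3,2,3])) (.node (.word [0,1,5,0,5,0]) (.word [4,0,3,0,5,2]))))) (.node (.node (.node (.node (.node (.word [2,0,5,4,2,0,1]) (.word [4,0,1,3,0,4,3])) (.word [0,5,0,4,0])) (.node (.word [1,3,2,0]) (.word [3,0,3,1,5,0,3]))) (.node (.node (.word [5,0,1]) (.word [0,1,4,0,5,4,5])) (.node (.word [3,1,4,0,5,0,2]) (.word [5,1,4,0,3,2])))) (.node (.node (.node (.node (.word [2,1,3,4,3,0]) (.word [0,5,2,0,3,4,5])) (.word [2,3,5,2,4,0])) (.node (.word [0,4,3,0,5,2,0]) (.word [5,2,3,0,2]))) (.node (.node (.word [4,5,2,0,2,0]) (.word [3,0,2,0,2,1])) (.node (.word [2,3,5,2,3,0]) (.word [2,4,5,0,2,0,3])))))))) (.node (.node (.node (.node (.node (.node (.node (.node (.word [0,2,0,2,0,1]) (.word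 [2,4,5,3,0,3])) (.word [0,1,5,0,2,4,0])) (.node (.word [0,5,2,4,0,3,1]) (.word [1,5,4,0,5,3]))) (.node (.node (.word [0,3,0,5,0,3,5,0,3]) (.word [5,3,5,1,3,4,0])) (.node (.word [3,0,2,5,2,0]) (.word [0,4,0,2])))) (.node (.node (.node (.node (.word [0,4,5,0,3,1,0,2,3,2,4,0]) (.word [4,2,0,5,3])) (.word [2,0,2,1,4,0])) (.node (.word [2,4,3,2,0]) (.word [4,1,3,5]))) (.node (.node (.word [0,4,3,0,1,4,0,2,3]) (.word [2,0,2,0,2,5,0])) (.node (.word [0,5,3,5,0,3,0]) (.word [2,5,0,2,3,2]))))) (.node (.node (.node (.node (.node (.word [1,3,4,2,5,2,0]) (.word [2,3])) (.word [0,2,4,5,4,0])) (.node (.word [0,2,4,1,2,0]) (.word [0,4,3,0,3,1]))) (.node (.node (.word [2,0,3,0,4,3,0]) (.word [0,1,3,0,4,3,5])) (.node (.word [4,2,5,3,0,3,0]) (.word [2,5,0,5,3])))) (.node (.node (.node (.node (.word [0,1,5,1,3,0,1]) (.word [4,0,4,3,5])) (.word [3,0,4,5,0,3])) (.node (.word [0,5,0,2,1,3,0]) (.word [0,2,0,4,5]))) (.node (.node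 (.word [0,2,0,2,0]) (.word [2,0,3,2,5,0,2])) (.node (.word [2,5,2,3,4,0]) (.word [5,0,5,2])))))) (.node (.node (.node (.node (.node (.node (.word [5,0,2,3,2,0,5,0,3,2]) (.word [0,2,5,0,5,0,3])) (.word [2,0,3,0,4,5])) (.node (.word [2,4,0,5,0,2]) (.word [4,5,4,2,1]))) (.node (.node (.word [2,0,5,3,5,0,4,3,5,0,5,2]) (.word [5,4,0])) (.node (.word [0,4,2,3,0,4,0]) (.word [5,0,2])))) (.node (.node (.node (.node (.word [2,3,0,3,0,1]) (.word [2,0,2,0,3,5])) (.word [1,4,0,4,2,0,3,1,3,1,2,0,1])) (.node (.word [3,4,5,3,2,0]) (.word [2,4,0,2,0,2]))) (.node (.node (.word [0,1,2,0,2,0,2]) (.word [3,0,1,5,3,0,2])) (.node (.word [0,5,4,3,5,0,2]) (.word [3,2,0,5,2]))))) (.node (.node (.node (.node (.node (.word [3,5,0,2,3,5,0,1,2,5,0]) (.word [5,0,2,0,4,3])) (.word [2,3,0,4,0])) (.node (.word [1,4,3,0,3,2,0]) (.word [2,4,1,2,3]))) (.node (.node (.word [0,2,1,4,2,4,0]) (.word [0,1,5,4,5])) (.node (.word [2,0,3,0,2,3,0])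 (.word [5,0,2,3,0,3])))) (.node (.node (.node (.node (.word [0,4,0,3,2,5,0,5,0,2,1]) (.word [3,4,0,2,4,5])) (.word [2,0,5,0,3,5,0])) (.node (.word [2,5,4,5,4,2,0]) (.word [5,1,3,0,2]))) (.node (.node (.word [3,5,1,4,5,1,0,5,0,3,1]) (.word [3,4,5,4,5,0])) (.node (.word [2,0,5,2,3,0]) (.word [5,2,0,2,0,3]))))))) (.node (.node (.node (.node (.node (.node (.node (.word [2,1,3,0,2,0,1]) (.word [4,3,5,4,0,3])) (.word [5,2,0,5,3,0])) (.node (.word [2,4,0,3,0,3,1,5,2,1,3,0]) (.word [0,3,0,3,2,1]))) (.node (.node (.word [0,5,0,3,5,0,1]) (.word [3,4,2,3,4,0])) (.node (.word [3,5,2,0]) (.word [0,4,2,4,0,2])))) (.node (.node (.node (.node (.word [4,0,1,3,0,1]) (.word [5,0,1,5,0,5,3])) (.word [3,1,4,2,1,4,0])) (.node (.word [0,5,3,0,2,0,3]) (.word [4,0,1,2,4,5]))) (.node (.node (.word [4,5,3,5,0,1]) (.word [2,5,0,2,0,2])) (.node (.word [0,3,2,0,2,1]) (.word [2,4,2]))))) (.node (.node (.node (.node (.node (.word [0,3,4,3,2,0,1])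 (.word [2,0,2,0,4,2,3])) (.word [0,2,0,3,0,5,2])) (.node (.word [0,3,2,0,5,3,2]) (.word [0,5,0,3,1]))) (.node (.node (.word [5,4,0,1]) (.word [4,5,3,5,4,0])) (.node (.word [0,4,3,2,1,4,0]) (.word [0,4,5,0,4,5])))) (.node (.node (.node (.node (.word [5,0,5,3,5,3,5,3,1,3,0,1,3,2,0]) (.word [5,0,3,0,4,5])) (.word [0,1,3,5,3,0,3])) (.node (.word [0,1,5,2,4,2,0]) (.word [4,0,2,0,3,0,2]))) (.node (.node (.word [0,4,3,5,3,0,2]) (.word [3,2,4,5,0])) (.node (.word [3,5,0,3,2,3,0]) (.word [3,5,0,3,5,2])))))) (.node (.node (.node (.node (.node (.node (.word [1,3,1,2,0,1]) (.word [3,0,3,5,0,3])) (.word [3,2,0,4,5,3,0])) (.node (.word [2,3,1,2,0]) (.word [0,2,0,3,1]))) (.node (.node (.word [5,2,4,0,1]) (.word [4,3,0,5,4,0])) (.node (.word [5,4,0,1,3,0]) (.word [2,0,5,4,0,4,3])))) (.node (.node (.node (.node (.word [0,4,5,0,3,0,1]) (.word [1,5,4,0,3,5])) (.word [3,0,5,0,2,4,0])) (.node (.word [3,0,3,4,0,5,3]) (.word [0,2,5,3,2,0,2])))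 (.node (.node (.word [3,1,4,5,3,5,4,3,5,0,2,0,2,1]) (.word [1,5,0,3,5,0])) (.node (.word [0,2,0,2,3,0,3]) (.word [0,1,4,0,5,2]))))) (.node (.node (.node (.node (.node (.word [0,5,2,0,1]) (.word [5,4,0,4,3])) (.word [4,0,2,5,0,4,0])) (.node (.word [4,2,3,2,3,0]) (.word [5,1]))) (.node (.node (.word [0,4,3,2,0,3]) (.word [3,2,1,5,0])) (.node (.word [5,0,3,0]) (.word [3,5,4,0,3,2])))) (.node (.node (.node (.node (.word [3,2,0,5,3,0,1]) (.word [2,5,4,0,5,4,5])) (.word [5,0,1,3,4,0])) (.node (.word [1,2,5,0,5,2,0]) (.word [0,5,4,3,0,2]))) (.node (.node (.word [2,4,0,3,0,2]) (.word [4,5,4,2,0,2,1])) (.node (.word [0,3,0,4,3,0]) (.word [0,3,4,2,0,3])))))))))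

/-- A subtree. -/
def wt48 : WTree :=
  (.node (.node (.node (.node (.node (.node (.node (.node (.node (.word [2,4,0,1,2,0,3,0,5,0,4,3]) (.word [1,3,0,3])) (.word [3,4,3,0])) (.node (.word [1,4,5,4,0,2,0]) (.word [2,4,0,2,1]))) (.node (.node (.word [5,4,5,0,3,4,2,0,3,0]) (.word [4,2,1,3,4,0])) (.node (.word [0,1,3,0,5,4,0]) (.word [0,5,3,4,0,5,3])))) (.node (.node (.node (.node (.word [2,5,2,0,1]) (.word [5,0,2,0,2,5,3])) (.word [2,3,4,5,0,4,0])) (.node (.word [4,3,2,0]) (.word [5,0,1,3,5]))) (.node (.node (.word [2,5,0,1,5,0,3]) (.word [4,5,1,5,0])) (.node (.word [1,3,5,0,3,0]) (.word [0,2,3,2,3]))))) (.node (.node (.node (.node (.node (.word [0,3,2,0,1]) (.word [5,3,1,4,5,0,3])) (.word [0,4,5,4,5,3,0])) (.node (.word [5,2,0,4,1,2,0]) (.word [5,0,3,0,3,1]))) (.node (.node (.word [2,3,5,1,2,3,0]) (.word [0,5,0,4,1,3,5])) (.node (.word [2,4,1,2,0,3,0]) (.word [0,4,3,0,3,4,5])))) (.node (.node (.node (.node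 (.word [2,0,2,0,4,5,1]) (.word [3,4,5,0,3,5])) (.word [1,2,3,4,0,5,2])) (.node (.word [2,5,0,4,2,0]) (.word [5,4,2,0,2]))) (.node (.node (.word [5,3,5,0,1,2,0]) (.word [5,2,3,5,0])) (.node (.word [3,2,4,5,1,3,0]) (.word [1,3,4,0,5,2])))))) (.node (.node (.node (.node (.node (.node (.word [0,4,0,2,0,1]) (.word [1,5,3,0,5,0,3])) (.word [2,4,0,5,3,0])) (.node (.word [0,4,0,1,2,0,2]) (.word [4,2,1]))) (.node (.node (.word [4,0,2,4,0,1]) (.word [3,5,3,4,0])) (.node (.word [1,2,3,0,1,4,0]) (.word [0,2,0,1,5,0,3])))) (.node (.node (.node (.node (.word [1,3,0,3,0,4,5]) (.word [3,5,0,2,5,3])) (.word [1,3,4,5,4,0])) (.node (.word [4,5,3,2,0]) (.word [1,3,0,2,0,2]))) (.node (.node (.word [0,2,1,5,2,0,3]) (.word [0,4,5,2,5,0])) (.node (.word [5,3,1,3,4,0]) (.word [4,5,4,2]))))) (.node (.node (.node (.node (.node (.word [3,2,4,5,3,4,0,5,4,0]) (.word [4,3])) (.word [5,2,0,4,0])) (.node (.word [1,3,0,3,2,0]) (.word [1,2,3])))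 (.node (.node (.word [0,3,0,3,4,3,0]) (.word [3,5,4,5,4,0])) (.node (.word [2,0,3,0,3,5,0]) (.word [2,3,0,3])))) (.node (.node (.node (.node (.word [5,0,1,2,0,1,2,5,4,0,5,2]) (.word [1,3,0,2,4,5])) (.word [0,5,2,4,0])) (.node (.word [0,4,2,5,3,0]) (.word [3,0,3,5,0,3,2]))) (.node (.node (.word [0,3,4,2,0,2,0]) (.word [4,0,5,4,5,0])) (.node (.word [5,4,2,3,0]) (.word [1,4,0,5,4,5]))))))) (.node (.node (.node (.node (.node (.node (.node (.word [0,3,0,2,0,1]) (.word [5,4,0,3])) (.word [2,3,0,2,0,3,1])) (.node (.word [0,3,1,5,0,2,0]) (.word [1,5,4,5,0,4,5]))) (.node (.node (.word [2,0,4,2,3,5,0]) (.word [2,4,3,2,3,4,0])) (.node (.word [0,4,2,5,2,0]) (.word [5,3,0,2,4,0,2])))) (.node (.node (.node (.node (.word [3,4,5,2,0,1]) (.word [5,3,4,0,5,3])) (.word [5,3,2,1,4,0])) (.node (.word [0,1,5,3,2,0]) (.word [5,0,4,5,1]))) (.node (.node (.word [0,1,5,3,5,0,1]) (.word [2,4,0,2,5,0])) (.node (.word [5,0,2,1,3,0])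 (.word [4,0,5,3,2]))))) (.node (.node (.node (.node (.node (.word [0,2,4,5,0,4,5]) (.word [5,3,2,3])) (.word [0,4,2,0,3])) (.node (.word [0,1,3,2,5,2,0]) (.word [1,3,4,0,3,1]))) (.node (.node (.word [1,5,3,4,0,1]) (.word [0,4,1,3,0,5,3])) (.node (.word [0,5,2,0,3,0]) (.word [2,0,4,5,0,2])))) (.node (.node (.node (.node (.word [4,0,2,5,2,3]) (.word [2,0,4,5,3,5])) (.word [5,3,2,4,0])) (.node (.word [2,3,0,2,1]) (.word [0,1,2,3,0,3]))) (.node (.node (.word [0,3,1,2,0,2,0]) (.word [2,4,5,0])) (.node (.word [0,3,2,3,0]) (.word [4,0,3,5,2])))))) (.node (.node (.node (.node (.node (.node (.word [2,0,2,0,5,0,3]) (.word [4,0,2,5,0,3])) (.word [2,3,4,2,5,3,0])) (.node (.word [0,3,1,2,0]) (.word [3,0,4,5,2,1]))) (.node (.node (.word [2,3,1,2,0,2,0]) (.word [3,0,5,4,0])) (.node (.word [3,1,5,0,5,0,3]) (.word [1,3,4,0,5,0,2])))) (.node (.node (.node (.node (.word [0,3,2,1,5,2,0]) (.word [3,1,4,0,3,5])) (.word [0,4,0,2,4,0]))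 (.node (.word [1,4,3,0,3,0,2]) (.word [3,4,1,2,0,2]))) (.node (.node (.word [3,1,4,2,4,0,2,3,5,2,0]) (.word [5,2,4,0,3,5,0])) (.node (.word [5,4,0,5,0,5,0]) (.word [5,2,3,0,5,2]))))) (.node (.node (.node (.node (.node (.word [1,5,4,2,0,1]) (.word [4,0,4,3])) (.word [1,2,1,5,0,4,0])) (.node (.word [5,1,3,2,0]) (.word [2,5,0,5,3,1]))) (.node (.node (.word [2,5,2,4,2,0]) (.word [2,0,4,0,2,4,2])) (.node (.word [3,5,3,0,3,0]) (.word [1,3,4,0,3,2])))) (.node (.node (.node (.node (.word [5,3,0,1]) (.word [0,5,4,5])) (.word [0,4,5,2,4,0])) (.node (.word [4,0,5,2,0]) (.word [1,2,0,4,3,0,2]))) (.node (.node (.word [0,4,0,4,2,0]) (.word [1,2,0,2,1])) (.node (.word [1,5,0,5,0,3,2]) (.word [0,5,3,2,0,3])))))))) (.node (.node (.node (.node (.node (.node (.node (.node (.word [0,5,1,5,0,3,0]) (.word [4,3,0,4,0,3])) (.word [5,0,4,2,4,5,0])) (.node (.word [4,3,0,5,0,2,0]) (.word [1,4,0,5,0,2,1]))) (.node (.node (.word [3,0,2,0,4,0,1])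 (.word [1,3,0,2,3,4,0])) (.node (.word [1,3,5,0,2,0,5,2,0,2,0,3]) (.word [3,5,0,5,3,2])))) (.node (.node (.node (.node (.word [0,4,5,2,0,1]) (.word [5,0,2,4,0,5,3])) (.word [0,2,4,2,0,3])) (.node (.word [2,5,2,1,5,0]) (.word [0,5,1,3,5]))) (.node (.node (.word [0,2,5,2,3,5,0]) (.word [3,5,2,0,2,5,0])) (.node (.word [1,3,0]) (.word [2,1,2,4,0,3]))))) (.node (.node (.node (.node (.node (.word [1,3,5,0,2,5,3]) (.word [1,2,4,0,2,3])) (.word [3,0,1,4,0])) (.node (.word [3,0,5,4,1,2,0]) (.word [3,0,4,0,3,1]))) (.node (.node (.word [0,1,2,0,2,0,1,3,2,4,0,2]) (.word [0,4,1,5,4,0])) (.node (.word [4,5,4,0,2,3,5,0,5,0,3]) (.word [5,0,3,5,0,2])))) (.node (.node (.node (.node (.word [0,1,3,4,0,3,5]) (.word [0,5,3,5])) (.word [1,2,3,2,4,0])) (.node (.word [0,5,1,4,2,0]) (.word [0,1,2,0,3,4,5]))) (.node (.node (.word [0,4,5,0,5,3,2]) (.word [3,0,4,5,0])) (.node (.word [5,0,2,3,0]) (.word [4,3,0,5,0,5,2])))))) (.node (.node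 (.node (.node (.node (.node (.word [2,5,0,3,2,3,0]) (.word [0,2,1,5,0,3])) (.word [1,5,2,5,3,0])) (.node (.word [3,0,4,5,0,2,0]) (.word [0,4,5,0,5,3]))) (.node (.node (.word [5,0,3,2,4,0,1]) (.word [4,5,0,1,5,4,0])) (.node (.word [2,3,4,2,1,4,0]) (.word [5,0,1,5,0,2])))) (.node (.node (.node (.node (.word [0,1,3,4,0,2,0]) (.word [4,2,0,3,5])) (.word [0,2,0,2,4,0])) (.node (.word [0,1,2,0,4,5,1]) (.word [5,0,2,0,2]))) (.node (.node (.word [0,4,3,0,3,0,2]) (.word [5,0,5,3,0,2])) (.node (.word [0,5,4,5,0,4,5]) (.word [1,2,4,2,0,5,2]))))) (.node (.node (.node (.node (.node (.word [1,4,1,4,2,0]) (.word [5,2,0,4,3])) (.word [0,5,3,0,4,0])) (.node (.word [2,1,5,0,3,2,0]) (.word [0,2,0,1,5,4,3]))) (.node (.node (.word [1,4,5,4,5,0]) (.word [5,0,1,5,4,5])) (.node (.word [2,5,2,3,0,3,0]) (.word [4,0,3,2])))) (.node (.node (.node (.node (.word [2,3,0,1,2,5,0]) (.word [3,0,5,2,4,5])) (.word [0,1,2,5,2,4,0])) (.node (.word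 [1,3,0,2,4,2]) (.word [3,4,5,1,3,0,2]))) (.node (.node (.word [3,2,3,5,4,0,3,5,0,5,3,0]) (.word [5,4,5,4,5,0])) (.node (.word [0,4,3,0,2,4,2,5,0,2,0,3]) (.word [5,0,2,0,3]))))))) (.node (.node (.node (.node (.node (.node (.node (.word [2,0,4,3,0,2,3,4,0,5,3,0]) (.word [3,0,1,5,0,3])) (.word [3,4,3,0,2,5,0])) (.node (.word [1,2,5,0,2,0]) (.word [2,3,4,5,0,2]))) (.node (.node (.word [0,3,0,2,3,0,3]) (.word [0,1,5,3,4,0])) (.node (.word [0,4,5,2,0]) (.word [1,2,4,0,5,3])))) (.node (.node (.node (.node (.word [0,1,2,1,3,4,0]) (.word [4,5,0,5,3])) (.word [0,3,2,3,1,4,0])) (.node (.word [3,4,0,4,2,4,0]) (.word [0,1,2,0,2]))) (.node (.node (.word [5,0,4,5,0,1]) (.word [1,2,3,2,5,0])) (.node (.word [0,1,3,0,5,3,1]) (.word [4,0,2,4,2]))))) (.node (.node (.node (.node (.node (.word [0,4,2,0,1]) (.word [0,2,4,2,3])) (.word [5,2,3,2,0,4,0])) (.node (.word [1,4,2,5,3,0]) (.word [4,0,5,0,3,1]))) (.node (.node (.word [0,2,0,5,4,0,1])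 (.word [0,2,0,5,0,4,3])) (.node (.word [1,3,5,2,0,3,0]) (.word [0,3,4,5,0,2])))) (.node (.node (.node (.node (.word [3,4,2,4,0,2]) (.word [0,5,0,4,5])) (.word [3,1,4,2,4,0])) (.node (.word [0,5,4,2,0]) (.word [2,4,3,0,3,0,2]))) (.node (.node (.word [2,1,4,3,0,5,4,5,0,2,3,2]) (.word [1,5,3,0,2])) (.node (.word [2,4,3,2,3,0]) (.word [0,4,0,4,3,5])))))) (.node (.node (.node (.node (.node (.node (.word [4,0,1,4,1,2,0]) (.word [2,3,5,0,3])) (.word [4,3,2,4,5,3,0])) (.node (.word [1,4,2,5,2,0]) (.word [5,0,2,0,3,1]))) (.node (.node (.word [0,2,5,2,4,0,1]) (.word [2,4,0,5,4,0])) (.node (.word [3,0,5,3,0,3,0]) (.word [1,5,0,2])))) (.node (.node (.node (.node (.word [0,5,0,4,5,0,1]) (.word [0,5,0,3,5])) (.word [1,5,4,0,5,4,3])) (.node (.word [4,0,5,0,3,4,0]) (.word [5,1,4,2,0,2]))) (.node (.node (.word [0,5,0,1,2,0]) (.word [0,1,2,3,5,0])) (.node (.word [0,1,3,4,2,3,0]) (.word [1,4,5,3,0,3]))))) (.node (.node (.node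 (.node (.node (.word [1,3,0,5,2,0,1]) (.word [0,5,4,3])) (.word [0,5,2,0,5,3,2])) (.node (.word [1,4,2,3,2,0]) (.word [1,2,0,1,3,5]))) (.node (.node (.word [0,4,0,1,5,4,0]) (.word [3,1,5,0])) (.node (.word [1,5,0,3,0]) (.word [5,0,5,0,3,2])))) (.node (.node (.node (.word [4,3,0,5,3,0,1]) (.word [4,2,3,0,3,4,0])) (.node (.word [1,2,0,5,0,5,3]) (.word [1,2,5,3,0,2]))) (.node (.node (.word [3,4,0,2,0]) (.word [0,1,3,0,2,1])) (.node (.word [3,0,5,1,3,0,2]) (.word [2,0,5,2,0,3])))))))))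

/-- A subtree. -/
def wt49 : WTree :=
  (.node (.node (.node (.node (.node (.node (.node (.node (.node (.word [0,2,0,1,2,0,1]) (.word [0,5,0,3,0,3])) (.word [3,5,0,4,3,0])) (.node (.word [0,1,4,5,0,2,0]) (.word [1,5,0,2,3,2]))) (.node (.node (.word [2,0,3,0,5,2,1]) (.word [5,3,4,3,2,1,5,3,4,2,0,2,1,5,0])) (.node (.word [4,1,5,2,0]) (.word [4,5,3,0,2])))) (.node (.node (.node (.node (.word [1,5,2,4,5,3,0]) (.word [2,0,2,0,5,3])) (.word [1,4,5,0,4,0])) (.node (.word [4,2,5,2,3,2,0]) (.word [1,4,0,1,3,5]))) (.node (.node (.word [3,5,0,1]) (.word [2,3,1,5,0])) (.node (.word [3,5,0,3,0]) (.word [1,2,0,2,3,2]))))) (.node (.node (.node (.node (.node (.word [4,5,1,2,0,1]) (.word [0,1,4,5,0,3])) (.word [0,3,1,2,0,3,1])) (.node (.word [5,4,2,3,5,4,3,0,1,2,3,5,0,1,3,4,0,3,0,2]) (.word [3,0,3,0,3,1]))) (.node (.node (.word [0,1,5,2,3,2,0]) (.word [1,5,0,5,4,0])) (.node (.word [1,2,0,3,0]) (.word [0,2,5,0,2])))) (.node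 (.node (.node (.node (.word [0,4,2,4,2,0,4,5,0,4,3,5]) (.word [0,3,5,0,3,5])) (.word [0,1,3,2,4,0])) (.node (.word [5,0,4,2,0]) (.word [3,4,2,0,2]))) (.node (.node (.word [0,5,0,4,5,4,2]) (.word [2,3,0,4,0,2])) (.node (.word [5,2,5,1,3,0]) (.word [3,4,0,5,2])))))) (.node (.node (.node (.node (.node (.node (.word [2,5,3,0,2,0,1]) (.word [4,3,0,5,0,3])) (.word [4,0,5,3,0])) (.node (.word [1,3,5,0,2,0]) (.word [2,5,0,5,3,2]))) (.node (.node (.word [3,0,2,4,0,1]) (.word [2,5,0,5,3,5])) (.node (.word [0,1,4,2,0,3,5]) (.word [0,3,0,5,4,0,2])))) (.node (.node (.node (.node (.word [2,0,2,5,3,5,0,1,5,2,4,2,0]) (.word [5,4,0,2,5,3])) (.word [4,0,5,1,4,0])) (.node (.word [0,4,0,5,3,4,0]) (.word [0,3,0,2,0,2]))) (.node (.node (.word [0,1,5,2,0,3]) (.word [4,2,5,2,5,0])) (.node (.word [3,1,3,4,0]) (.word [3,0,4,2,4,2]))))) (.node (.node (.node (.node (.node (.word [0,2,5,0,5,4,3]) (.word [0,2,5,2,3])) (.word [2,4,2,0,4,0]))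 (.node (.word [3,0,3,2,0]) (.word [4,5,0,3,1]))) (.node (.node (.word [0,1,4,0,4,3,5]) (.word [3,4,5,4,0])) (.node (.word [0,3,0,3,0]) (.word [1,2,3,2,0,3])))) (.node (.node (.node (.node (.word [0,5,4,0,3]) (.word [2,0,2,4,5])) (.word [1,2,3,4,2,4,0])) (.node (.word [4,1,5,4,2,0]) (.word [0,4,2,3,5,0,2]))) (.node (.node (.word [0,2,0,3,0,3,1]) (.word [0,5,4,5,0])) (.node (.word [3,4,2,3,0]) (.word [5,2,4,5,2]))))))) (.node (.node (.node (.node (.node (.node (.node (.word [1,4,5,0,5,4,0]) (.word [1,2,4,0,3])) (.word [2,0,5,3,0])) (.node (.word [2,1,5,0,2,0]) (.word [2,4,5,0,2,1]))) (.node (.node (.word [0,2,0,5,3,0]) (.word [2,0,3,2,3,4,0])) (.node (.word [3,1,2,4,2,0,2]) (.word [1,2,0,2,4,0,2])))) (.node (.node (.node (.node (.word [2,4,5,2,0,1]) (.word [5,3,0,5,3])) (.word [3,2,0,2,4,0,3])) (.node (.word [2,0,1,4,5,0,2]) (.word [0,3,0,4,5,1]))) (.node (.node (.word [3,2,0,5,2,3]) (.word [0,1,4,0,2,5,0]))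 (.node (.word [4,0,2,1,3,0]) (.word [3,0,5,3,2]))))) (.node (.node (.node (.node (.node (.word [1,5,4,0,1,5,0,3,2,4,0,1]) (.word [0,5,0,3,2,3])) (.word [0,2,0,4,0])) (.node (.word [0,4,5,0,5,0,3]) (.word [3,4,0,3,1]))) (.node (.node (.word [2,3,2,0,5,4,0]) (.word [3,2,3,5,4,0])) (.node (.word [3,0,5,0,5,0,2,0,5,0,3]) (.word [4,5,0,2])))) (.node (.node (.node (.node (.word [2,0,2,4,1,2,0]) (.word [0,5,0,5,3,5])) (.word [1,4,3,2,4,0])) (.node (.word [4,2,0,2,4,2,0]) (.word [3,0,2]))) (.node (.node (.word [5,0,3,5,2,0,4,2,5,2,4,0]) (.word [1,5,0,4,5,0])) (.node (.word [1,3,0,5,2,3]) (.word [0,2,0,3,5,2])))))) (.node (.node (.node (.node (.node (.node (.word [2,0,5,4,0,3,2,0,2,0,4,3,2,0]) (.word [5,1,5,0,3])) (.word [1,4,5,3,0,4,0])) (.node (.word [0,1,4,0,4,3]) (.word [1,2,4,1,5,0,2]))) (.node (.node (.word [2,4,3,0,4,5,3,0,2,4,0]) (.word [2,4,2,0,5,4,0])) (.node (.word [2,5,3,0,1,3,0]) (.word [4,0,5,0,2]))))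 (.node (.node (.node (.node (.word [4,3,5,0,5,0,2,5,3,2,0,2]) (.word [0,4,0,3,5])) (.word [4,2,1,4,0,3,1])) (.node (.word [0,5,0,1,4,2,0]) (.word [3,0,4,1,2,0,2]))) (.node (.node (.word [3,0,1,2,0]) (.word [0,4,0,3,5,0])) (.node (.word [4,0,5,0,5,0]) (.word [4,1,2,3,0,5,2]))))) (.node (.node (.node (.node (.node (.word [2,5,2,0,3,1,5,0,3,1]) (.word [4,3,0,3,0,4,3])) (.word [0,1,5,4,0,4,3])) (.node (.word [1,3,5,0,3,1]) (.word [2,0,3,0,5,3,1]))) (.node (.node (.word [1,5,0,3,0,3,0]) (.word [1,5,3,2,3])) (.node (.word [0,2,5,3,0,3,0]) (.word [1,2,4,0,3,2])))) (.node (.node (.node (.node (.word [0,2,1,2,4,0]) (.word [4,0,3,4,5])) (.word [0,5,2,0,2,0,2])) (.node (.word [5,3,0,5,2,0]) (.word [4,3,0,2]))) (.node (.node (.word [0,4,0,2,0]) (.word [2,4,0,2,0,2,1])) (.node (.word [0,4,3,0]) (.word [1,3,2,0,3])))))))) (.node (.node (.node (.node (.node (.node (.node (.node (.word [0,1,3,4,2,4,0]) (.word [0,4,0,3]))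 (.word [0,4,2,4,5,0])) (.node (.word [0,2,0,5,0,2,0]) (.word [0,5,0,2,1]))) (.node (.node (.word [2,0,4,0,1]) (.word [0,1,4,2,3,4,0])) (.node (.word [0,2,0,5,0,5,3,0,2,4,2,1]) (.word [4,2,0,4,0,2])))) (.node (.node (.node (.node (.word [3,5,2,0,1]) (.word [2,4,0,5,3])) (.word [0,3,4,0,4,3,5])) (.node (.word [1,2,4,3,2,0]) (.word [3,0,4,1,3,5]))) (.node (.node (.word [1,4,0,1,5,3,0]) (.word [0,4,2,0,2,5,0])) (.node (.word [2,0,5,4,0,1,3,4,0,5,3]) (.word [2,5,3,2]))))) (.node (.node (.node (.node (.node (.word [0,3,4,0,2,4,5]) (.word [2,0,4,0,2,3])) (.word [1,4,2,0,1,4,0])) (.node (.word [1,5,1,2,0,1,5,2,0,3,0]) (.word [5,4,3,0,3,1]))) (.node (.node (.word [1,2,5,2,3,2,0,1,4,0,2,4,0,2]) (.word [2,5,3,1,5,4,0])) (.node (.word [1,2,3,2,0,3,0]) (.word [3,0,3,5,0,2])))) (.node (.node (.node (.node (.word [4,0,5,1,3,0,1]) (.word [5,0,4,3,5])) (.word [0,2,3,2,4,0])) (.node (.word [0,4,5,0,5,2,3]) (.word [0,3,0,2,0,4,5])))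 (.node (.node (.word [0,2,0,2,0,2]) (.word [4,2,0,4,5,0])) (.node (.word [2,4,0,2,3,0]) (.word [2,0,5,0,5,2])))))) (.node (.node (.node (.node (.node (.node (.word [0,3,4,0,2,0,1]) (.word [0,3,5,0,5,0,3])) (.word [0,5,0,5,3,0])) (.node (.word [1,2,0,3,0,3,1]) (.word [0,5,2,1]))) (.node (.node (.word [1,4,5,0,1,3,5]) (.word [1,4,0,1,5,4,0])) (.node (.word [5,4,5,2,0]) (.word [4,3,0,1,5,0,2])))) (.node (.node (.node (.node (.word [0,2,4,0,2,4,5]) (.word [3,4,0,2,0,3,5])) (.word [2,0,5,0,5,0,2])) (.node (.word [0,1,4,2,0]) (.word [4,2,4,0,2,0,2]))) (.node (.node (.word [4,3,2,0,1,2,0]) (.word [0,3,4,3,5,0,3])) (.node (.word [1,5,2,0,5,4,0]) (.word [4,2,0,5,2]))))) (.node (.node (.node (.node (.node (.word [3,2,4,2,0,1]) (.word [4,3,2,0,4,3])) (.word [5,0,4,1,3,0,2])) (.node (.word [4,0,3,2,0]) (.word [2,1,4,0,2,3]))) (.node (.node (.word [4,5,4,0,1]) (.word [1,3,0,1,5,4,5])) (.node (.word [3,2,3,0,3,0]) (.word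 [4,2,3,0,3])))) (.node (.node (.node (.node (.word [3,0,5,3,4,5,4,2,0]) (.word [5,2,5,0,2,4,5])) (.word [2,1,4,2,0,4,5])) (.node (.word [0,1,5,2,0]) (.word [2,3,5,1,3,0,2]))) (.node (.node (.word [2,1,5,2,0,2,0]) (.word [4,5,4,5,0])) (.node (.word [4,0,5,2,3,0]) (.word [0,3,0,2,0,3]))))))) (.node (.node (.node (.node (.node (.node (.node (.word [0,5,0,2,1,3,5,3,0,3,0]) (.word [2,3,4,5,4,0,3])) (.word [3,0,5,3,0])) (.node (.word [5,3,5,1,5,0,2,0]) (.word [5,3,0,3,2,1]))) (.node (.node (.word [0,3,5,2,5,0,5,2,3]) (.word [2,4,2,0,2,0,3])) (.node (.word [0,2,5,3,5,2,0]) (.word [2,3,4,0,2])))) (.node (.node (.node (.node (.word [5,0,1,3,0,1]) (.word [5,0,5,0,5,3])) (.word [3,1,4,0])) (.node (.word [0,4,0,4,2,4,0]) (.word [2]))) (.node (.node (.word [0,4,5,0,1]) (.word [0,2,1,5,0,2,1])) (.node (.word [3,1,5,4,5,4,3,4,0,4,3,5]) (.word [4,2,0,2,4,2]))))) (.node (.node (.node (.node (.node (.word [3,5,0,4,2,5,0,1,3,0])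 (.word [0,5,0,4,2,3])) (.word [0,3,2,0,4,0])) (.node (.word [2,4,5,1,2,0]) (.word [3,0,5,0,2,3,2]))) (.node (.node (.word [3,0,1,5,4,0,1]) (.word [3,2,0,4,5,4,0])) (.node (.word [0,4,2,1,5,0,3]) (.word [1,2,4,5,0,2])))) (.node (.node (.node (.node (.word [0,2,0,5,0,3,5,2,0,5,4,0,3,2]) (.word [4,0,4,5])) (.word [0,3,1,4,2,4,0])) (.node (.word [2,1,4,3,2,4,0]) (.word [5,2,0,3,0,2]))) (.node (.node (.word [0,1,5,3,4,0,2]) (.word [1,4,2,4,5,0])) (.node (.word [4,3,2,3,0]) (.word [0,4,5,2])))))) (.node (.node (.node (.node (.node (.node (.word [2,5,2,3,0]) (.word [1,3,5,0,3])) (.word [5,0,4,5,3,0])) (.node (.word [2,1,3,5,0,2,1,5,3,2,0,3]) (.word [4,0,2,0,3,1]))) (.node (.node (.word [2,0,5,2,4,0,1]) (.word [2,5,3,0,5,4,0])) (.node (.word [5,0,1,3,0]) (.word [2,0,5,0,5,3])))) (.node (.node (.node (.node (.word [1,3,5,0,3,2,0,3,0,5,2]) (.word [3,5,4,0,3,5])) (.word [1,2,4,0])) (.node (.word [4,0,4,2,0]) (.word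 [4,0,4,2,0,2]))) (.node (.node (.word [5,3,0,1,2,0]) (.word [3,4,1,3,5,0])) (.node (.word [3,0,1,5,1,3,0]) (.word [2,1,4,0,5,2]))))) (.node (.node (.node (.node (.node (.word [5,0,1,5,2,0,1]) (.word [0,5,0,4,3])) (.word [3,5,0,4,0])) (.node (.word [4,2,3,2,0]) (.word [0,2,0,1,3,5]))) (.node (.node (.word [2,4,0,1,4,3,0]) (.word [0,5,3,0,5,2,3])) (.node (.word [0,1,5,1,2,4,0]) (.word [2,0,5,0,3,2])))) (.node (.node (.node (.node (.word [3,0,5,3,0,1]) (.word [5,4,5,4,5])) (.word [5,2,0,3,4,0])) (.node (.word [5,3,5,0,5,2,0]) (.word [0,3,5,4,3,0,2]))) (.node (.node (.word [1,3,5,4,5,0,2,0,2,3,2]) (.word [3,0,5,2,0,2,1])) (.node (.word [2,5,2,5,0,4,3,2,0,1,2,0]) (.word [4,5,4,2,0,3])))))))))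

/-- A subtree. -/
def wt50 : WTree :=
  (.node (.node (.node (.node (.node (.node (.node (.node (.node (.word [5,0,1,2,0,1]) (.word [5,3,0,3])) (.word [4,2,3,4,3,0])) (.node (.word [0,1,5,0,2,0]) (.word [0,1,5,0,2,1]))) (.node (.node (.word [1,5,4,5,4,0]) (.word [1,5,1,3,4,0])) (.node (.word [0,2,4,1,5,2,0]) (.word [0,3,4,5,3,0,2])))) (.node (.node (.node (.node (.word [0,5,0,5,4,2,0]) (.word [4,5,0,2,0,5,3])) (.word [0,2,1,4,0])) (.node (.word [3,4,1,4,2,0]) (.word [4,5,0,1,3,5]))) (.node (.node (.word [1,2,0,3,5,0,1]) (.word [0,2,5,0])) (.node (.word [2,3,5,0,3,0]) (.word [0,4,0,2,3,2]))))) (.node (.node (.node (.node (.node (.word [2,0,3,2,0,1]) (.word [5,3,4,5,0,3])) (.word [2,0,1,4,0])) (.node (.word [3,0,4,2,3,2,0]) (.word [4,1,3,0,3,1]))) (.node (.node (.word [2,1,3,4,0,1]) (.word [1,2,0,2,0,4,3])) (.node (.word [2,5,1,2,0,3,0]) (.word [0,3,2,5,0,2])))) (.node (.node (.node (.node (.word [0,5,4,1,3,0,1])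 (.word [0,4,3,5])) (.word [1,2,5,3,5,4,0])) (.node (.word [0,3,5,1,3,0,2]) (.word [2,5,4,2,0,2]))) (.node (.node (.word [2,4,0,2,4,3,5,2,3,1,2,0,4,5,2,0]) (.word [4,5,0])) (.node (.word [5,4,5,1,3,0]) (.word [0,5,4,0,5,2])))))) (.node (.node (.node (.node (.node (.node (.word [1,4,0,2,0,1]) (.word [0,5,0,5,0,3])) (.word [3,4,0,5,3,0])) (.node (.word [2,3,5,0,4,3,0]) (.word [0,3,0,2,4,2,1]))) (.node (.node (.word [2,0,5,4,0,3,1]) (.word [2,5,3,5,3,4,0])) (.node (.word [0,5,1,4,5,2,0]) (.word [0,5,2,0,4,3])))) (.node (.node (.node (.node (.word [1,5,0,2,0,3,5]) (.word [3,5])) (.word [0,4,5,1,4,0])) (.node (.word [1,4,5,3,2,0]) (.word [0,4,0,4,2,0,2]))) (.node (.node (.word [0,2,0]) (.word [0,3,5,0])) (.node (.word [2,0,1,4,1,3,0]) (.word [0,2,4,5,4,2]))))) (.node (.node (.node (.node (.node (.word [0,2,4,2,0,1]) (.word [2,0,2,0,4,3])) (.word [1,3,0,2,4,2,1])) (.node (.word [1,2,3,0,3,2,0]) (.word [0,5,0,3,1,2,3])))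 (.node (.node (.word [1,3,5,4,0,1]) (.word [0,5,0])) (.node (.word [0,4,2,0,2,4,5]) (.word [3,0,2,3,0,3])))) (.node (.node (.node (.node (.word [1,2,5,0]) (.word [4,0,2,4,5])) (.word [2,3,0,5,2,4,0])) (.node (.word [2,4,5,4,2,0]) (.word [1,3,0,3,5,0,3]))) (.node (.node (.word [1,3,4,0,3,1,2,3,5,0]) (.word [5,4,0,5,4,5,0])) (.node (.word [5,0,5,4,2,3,0]) (.word [0,2,0,3]))))))) (.node (.node (.node (.node (.node (.node (.node (.word [0,1,5,0,5,3,1]) (.word [3,5,4,0,3])) (.word [4,2,0,5,3,0])) (.node (.word [0,3,4,0,2,4,2]) (.word [0,1,2,0,3,1]))) (.node (.node (.word [0,3,0,4,0,1]) (.word [0,4,2,3,4,0])) (.node (.word [2,3,4,2,5,2,0]) (.word [2,5,0,2,4,0,2])))) (.node (.node (.node (.node (.word [0,3,0,1]) (.word [5,0,5,3])) (.word [4,0,4,2,1,4,0])) (.node (.word [0,3,0,1,5,0,2]) (.word [2,4,5,0,4,5,1]))) (.node (.node (.word [1,5,3,5,0,1]) (.word [2,5,4,0,2,5,0])) (.node (.word [2,3,2,1,3,0]) (.word [5,0,5,3,2])))))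 (.node (.node (.node (.node (.node (.word [0,5,3,0,5,3,5,2,0,2,0,3,5]) (.word [4,2,3])) (.word [1,3,4,2,0,4,0])) (.node (.word [4,0,3,5,2,0]) (.word [1,3,5,4,0,3,2]))) (.node (.node (.word [3,5,3,4,0,1]) (.word [2,5,4,3,5,4,0])) (.node (.word [3,2,0,5,0,1,5,0,3]) (.word [0,3,1,2,4,0,3])))) (.node (.node (.node (.node (.word [1,5,1,2,3,0]) (.word [3,0,4,5])) (.word [4,2,4,0])) (.node (.word [2,3,2,3,0,2,1]) (.word [1,5,0,1,3,0,2]))) (.node (.node (.word [4,5,0,2,0,3,5,0,5,3,1]) (.word [4,0,2,4,5,0])) (.node (.word [0,2,0,3,2,3,0]) (.word [0,5,0,3,5,2])))))) (.node (.node (.node (.node (.node (.node (.word [0,4,5,0,5,3,5]) (.word [1,2,3,0,5,3])) (.word [4,5,2,5,3,0])) (.node (.word [1,3,0,3,1,2,0]) (.word [0,2,1,3,0,3,1]))) (.node (.node (.word [0,3,4,2,4,0,1]) (.word [2,1,3,0,5,4,0])) (.node (.word [0,3,0,3,5,2,1]) (.word [3,0,5,0,5,0,2])))) (.node (.node (.node (.node (.word [3,2,5,0,3,0,1]) (.word [3,4,0,3,5]))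 (.word [5,0,2,4,0])) (.node (.word [2,5,4,3,0,3,0]) (.word [5,1,3,2,0,2]))) (.node (.node (.word [5,1,3,0,1,2,0]) (.word [5,4,0,3,5,0])) (.node (.word [2,3,4,1,3,0]) (.word [2,3,4,3,0,5,2]))))) (.node (.node (.node (.node (.node (.word [2,4,5,4,2,0,1]) (.word [3,2,4,0,4,3])) (.word [0,1,2,4,5,0])) (.node (.word [2,3,2,3,0]) (.word [0,2,5,3,1]))) (.node (.node (.word [0,2,3,1,2,0]) (.word [0,2,1,5,0])) (.node (.word [2,0,5,1,3,4,0]) (.word [0,1,5,4,0,3,2])))) (.node (.node (.node (.node (.word [2,0,5,3,0,1]) (.word [2,5,2,0,5,4,5])) (.word [0,1,3,4,0])) (.node (.word [1,4,0,5,2,0]) (.word [5,0,4,3,0,2]))) (.node (.node (.word [0,5,0,4,0,2,0]) (.word [2,4,2,0,2,1])) (.node (.word [1,3,5,0,5,3,0]) (.word [1,2,4,2,0,3])))))))) (.node (.node (.node (.node (.node (.node (.node (.node (.word [2,1,3,0,5,0,3]) (.word [1,2,1,4,0,3])) (.word [4,0,1,5,3,0])) (.node (.word [0,1,4,2,5,2,0]) (.word [2,5,0,2,1]))) (.node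 (.node (.word [1,3,2,0,4,0,1]) (.word [2,5,0,2,3,4,0])) (.node (.word [3,5,0,2,5,2,0]) (.word [2,5,0,4,0,2])))) (.node (.node (.node (.node (.word [2,0,4,5,2,0,1]) (.word [3,0,3,0,5,3])) (.word [0,4,1,2,1,4,0])) (.node (.word [5,4,3,2,0]) (.word [4,5,1]))) (.node (.node (.word [4,0,2,0,4,2,0]) (.word [2,0,3,0,2,5,0])) (.node (.word [1,2,0,2,1,3,0]) (.word [0,5,3,2]))))) (.node (.node (.node (.node (.node (.word [1,5,2,0,3,1]) (.word [1,5,4,0,4,3])) (.word [5,3,0,1,4,0])) (.node (.word [0,2,5,3,0,2]) (.word [2,1,4,0,3,1]))) (.node (.node (.word [2,4,2,4,2,0,2]) (.word [0,3,5,4,0])) (.node (.word [4,2,0,3,0]) (.word [5,1,3,5,0,2])))) (.node (.node (.node (.node (.word [0,4,5,1,3,0,1]) (.word [3,0,5,3,5])) (.word [4,2,3,2,4,0])) (.node (.word [0,4,0,1,3,0,2,0,1,5,0,5,0]) (.word [1,2,0,4,5]))) (.node (.node (.word [1,2,5,2,4,0,5,4,0]) (.word [2,4,3,0,4,0,3])) (.node (.word [0,3,5,0,2,3,0]) (.word [1,5,0,5,2]))))))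 (.node (.node (.node (.node (.node (.node (.word [2,0,2,1,5,0,3,2,4,2,0,1]) (.word [3,2,1,5,0,3])) (.word [2,0,4,1,5,3,0])) (.node (.word [0,2,4,5,0,2,0]) (.word [0,2,3,0,3,1]))) (.node (.node (.word [3,2,3,1,2,0]) (.word [4,0,5,4,5,0,2])) (.node (.word [0,3,0]) (.word [3,2,3,0,5,0,2])))) (.node (.node (.node (.node (.word [1,5,3,0,3,0,2]) (.word [0,5,2,0,3,5])) (.word [5,2,0,2,4,0])) (.node (.word [2,1,2,5,2,0,3,2,5,2,0,2,1]) (.word [2,0,1,2,0,3,5]))) (.node (.node (.word [0,5,2,0,1,2,0]) (.word [2,3,0,3,5,0])) (.node (.word [1,4,1,3,0]) (.word [0,1,3,0,5,2]))))) (.node (.node (.node (.node (.node (.word [0,5,4,2,0,1]) (.word [0,4,5,2,0,4,3])) (.word [2,3,4,0,4,3,5])) (.node (.word [1,3,4,0,5,2,4,5,3,0,5,4,0]) (.word [0,5,3,1]))) (.node (.node (.word [0,3,1,4,0,3,5]) (.word [0,2,5,3,5])) (.node (.word [1,2,4,0,2,5,0]) (.word [2,1,4,0,3,2])))) (.node (.node (.node (.node (.word [0,3,4,2,3,2,0]) (.word [0,3,4,5]))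 (.word [0,5,4,5,4,5,0])) (.node (.word [2,0,1,4,0,5,2]) (.word [2,0,5,3,2,0,3]))) (.node (.node (.word [1,3,5,2,0,2,0]) (.word [0,2,1])) (.node (.word [0,3,5,2,3,0]) (.word [5,2,5,0,2,0,3]))))))) (.node (.node (.node (.node (.node (.node (.node (.word [4,0,4,3,0,2,0,1]) (.word [5,0,1,5,0,3])) (.word [1,2,0,2,0,2])) (.node (.word [5,3,2,5,0,2,0]) (.word [3,0,1,2,3,2]))) (.node (.node (.word [1,2,4,5,3,0,3]) (.word [2,4,0,5,3,4,0])) (.node (.word [1,2,0,4,5,2,0]) (.word [1,5,3,4,0,2])))) (.node (.node (.node (.node (.word [0,1,4,5,2,5,0]) (.word [2,0,2,5,3])) (.word [5,1,4,0])) (.node (.word [0,2,1,4,0,3,1]) (.word [5,0,1,2,0,2]))) (.node (.node (.word [1,3,4,0,4,3]) (.word [0,1,5,4,0,3,1])) (.node (.word [0,5,2,1,3,0]) (.word [1,4,0,2,4,2]))))) (.node (.node (.node (.node (.node (.word [2,0,4,2,0,1]) (.word [0,3,0,5,2,3])) (.word [2,3,5,4,5,4,0])) (.node (.word [5,0,1,2,5,4,0,2,4,2,1]) (.word [5,1,5,0,3,1])))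 (.node (.node (.word [4,0,5,4,0,1]) (.word [2,4,5,4,0])) (.node (.word [0,1,5,3,1,4,0]) (.word [1,2,0,3])))) (.node (.node (.node (.node (.word [0,3,2,4,0,2]) (.word [2,5,0,4,5])) (.word [3,4,2,4,0])) (.node (.word [1,4,0,5,4,2,0]) (.word [1,5,4,0,5,0,2]))) (.node (.node (.word [0,2,0,2,3,2]) (.word [5,3,4,5,0])) (.node (.word [2,1,4,2,3,0]) (.word [5,4,0,4,5,2])))))) (.node (.node (.node (.node (.node (.node (.word [0,4,3,0,4,5,0]) (.word [1,4,3,5,0,3])) (.word [2,3,4,5,3,0])) (.node (.word [0,5,3,1,2,0]) (.word [5,2,0,3,1]))) (.node (.node (.word [0,3,4,0,1]) (.word [4,5,3,0,5,0,3])) (.node (.word [0,3,0,4,5,2]) (.word [1,3,0,4,5,2])))) (.node (.node (.node (.node (.word [0,2,1,3,0,5,3]) (.word [5,2,0,5,0,3,5])) (.word [0,4,3,1,2,4,0])) (.node (.word [3,2,4,0,4,2,0]) (.word [0,5,0,4,0,3,5]))) (.node (.node (.word [2,5,0,1,2,0]) (.word [0,4,0,1,3,0,3])) (.node (.word [1,3,0,5,1,3,0]) (.word [0,4,3,0,5,0,3])))))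 (.node (.node (.node (.node (.node (.word [1,5,0,5,2,0,1]) (.word [5,0,5,4,3])) (.word [0,4,3,5,0,4,0])) (.node (.word [0,5,4,2,3,2,0]) (.word [4,2,0,1,3,5]))) (.node (.node (.word [0,2,3,4,3,0]) (.word [0,2,0,3,1,5,0])) (.node (.word [0,3,1,5,0,3,0]) (.word [0,3,5,0,3,2])))) (.node (.node (.node (.word [1,2,4,0,5,4,0]) (.word [2,5,0,3,4,0])) (.node (.word [1,2,3,5,2,4,0]) (.word [0,5,2,5,3,0,2]))) (.node (.node (.word [0,5,3,4,0,2,0]) (.word [4,0,3,0,2,1])) (.node (.word [0,5,3,5,0,3]) (.word [3,0,3])))))))))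

/-- Points. -/
def levY0pts0 : List ℕ := [0,1,2,3,4,5,6,7,8,9,10,11,12,13,14,15,16,17,18,19,20,21,22,23,24,25,26,27,28,29,30,31,32,33,34,35,36,37,38,39,40,41,42,43,44,45,46,47,48,49,50,51,52,53,54,55,56,57,58,59,60,61,62,63,64,65,66,67,68,69,70,71,72,73,74,75,76,77,78,79,80,81,82,83,84,85,86,87,88,89,90,91,92,93,94,95,96,97,98,99,100,101,102,103,104,105,106,107,108,109,110,111,112,113,114,115,116,117,118,119,120,121,122,123,124,125,126,127,128,129,130,131,132,133,134,135,136,137,138,139,140,141,142,143,144,145,146,147,148,149,150,151,152,153,154,155,156,157,158,159,160,161,162,163,164,165,166,167,168,169,170,171,172,173,174,175,176,177,178,179,180,181,182,183,184,185,186,187,188,189,190,191,192,193,194,195,196,197,198,199]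

/-- Points. -/
def levY0pts1 : List ℕ := [200,201,202,203,204,205,206,207,208,209,210,211,212,213,214,215,216,217,218,219,220,221,222,223,224,225,226,227,228,229,230,231,232,233,234,235,236,237,238,239,240,241,242,243,244,245,246,247,248,249,250,251,252,253,254,255,256,257,258,259,260,261,262,263,264,265,266,267,268,269,270,271,272,273,274,275,276,277,278,279,280,281,282,283,284,285,286,287,288,289,290,291,292,293,294,295,296,297,298,299,300,301,302,303,304,305,306,307,308,309,310,311,312,313,314,315,316,317,318,319,320,321,322,323,324,325,326,327,328,329,330,331,332,333,334,335,336,337,338,339,340,341,342,343,344,345,346,347,348,349,350,351,352,353,354,355,356,357,358,359,360,361,362,363,364,365,366,367,368,369,370,371,372,373,374,375,376,377,378,379,380,381,382,383,384,385,386,387,388,389,390,391,392,393,394,395,396,397,398,399]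

/-- Points. -/
def levY0pts2 : List ℕ := [400,401,402,403,404,405,406,407,408,409,410,411,412,413,414,415,416,417,418,419,420,421,422,423,424,425,426,427,428,429,430,431,432,433,434,435,436,437,438,439,440,441,442,443,444,445,446,447,448,449,450,451,452,453,454,455,456,457,458,459,460,461,462,463,464,465,466,467,468,469,470,471,472,473,474,475,476,477,478,479,480,481,482,483,484,485,486,487,488,489,490,491,492,493,494,495,496,497,498,499,500,501,502,503,504,505,506,507,508,509,510,511,512,513,514,515,516,517,518,519,520,521,522,523,524,525,526,527,528,529,530,531,532,533,534,535,536,537,538,539,540,541,542,543,544,545,546,547,548,549,550,551,552,553,554,555,556,557,558,559,560,561,562,563,564,565,566,567,568,569,570,571,572,573,574,575,576,577,578,579,580,581,582,583,584,585,586,587,588,589,590,591,592,593,594,595,596,597,598,599]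

/-- Points. -/
def levY0pts3 : List ℕ := [600,601,602,603,604,605,606,607,608,609,610,611,612,613,614,615,616,617,618,619,620,621,622,623,624,625,626,627,628,629,630,631,632,633,634,635,636,637,638,639,640,641,642,643,644,645,646,647,648,649,650,651,652,653,654,655,656,657,658,659,660,661,662,663,664,665,666,667,668,669,670,671,672,673,674,675,676,677,678,679,680,681,682,683,684,685,686,687,688,689,690,691,692,693,694,695,696,697,698,699,700,701,702,703,704,705,706,707,708,709,710,711,712,713,714,715,716,717,718,719,720,721,722,723,724,725,726,727,728,729,730,731,732,733,734,735,736,737,738,739,740,741,742,743,744,745,746,747,748,749,750,751,752,753,754,755,756,757,758,759,760,761,762,763,764,765,766,767,768,769,770,771,772,773,774,775,776,777,778,779,780,781,782,783,784,785,786,787,788,789,790,791,792,793,794,795,796,797,798,799]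

/-- Points. -/
def levY0pts4 : List ℕ := [800,801,802,803,804,805,806,807,808,809,810,811,812,813,814,815,816,817,818,819,820,821,822,823,824,825,826,827,828,829,830,831,832,833,834,835,836,837,838,839,840,841,842,843,844,845,846,847,848,849,850,851,852,853,854,855,856,857,858,859,860,861,862,863,864,865,866,867,868,869,870,871,872,873,874,875,876,877,878,879,880,881,882,883,884,885,886,887,888,889,890,891,892,893,894,895,896,897,898,899,900,901,902,903,904,905,906,907,908,909,910,911,912,913,914,915,916,917,918,919,920,921,922,923,924,925,926,927,928,929,930,931,932,933,934,935,936,937,938,939,940,941,942,943,944,945,946,947,948,949,950,951,952,953,954,955,956,957,958,959,960,961,962,963,964,965,966,967,968,969,970,971,972,973,974,975,976,977,978,979,980,981,982,983,984,985,986,987,988,989,990,991,992,993,994,995,996,997,998,999]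

/-- Points. -/
def levY0pts5 : List ℕ := [1000,1001,1002,1003,1004,1005,1006,1007,1008,1009,1010,1011,1012,1013,1014,1015,1016,1017,1018,1019,1020,1021,1022,1023,1024,1025,1026,1027,1028,1029,1030,1031,1032,1033,1034,1035,1036,1037,1038,1039,1040,1041,1042,1043,1044,1045,1046,1047,1048,1049,1050,1051,1052,1053,1054,1055,1056,1057,1058,1059,1060,1061,1062,1063,1064,1065,1066,1067,1068,1069,1070,1071,1072,1073,1074,1075,1076,1077,1078,1079,1080,1081,1082,1083,1084,1085,1086,1087,1088,1089,1090,1091,1092,1093,1094,1095,1096,1097,1098,1099,1100,1101,1102,1103,1104,1105,1106,1107,1108,1109,1110,1111,1112,1113,1114,1115,1116,1117,1118,1119,1120,1121,1122,1123,1124,1125,1126,1127,1128,1129,1130,1131,1132,1133,1134,1135,1136,1137,1138,1139,1140,1141,1142,1143,1144,1145,1146,1147,1148,1149,1150,1151,1152,1153,1154,1155,1156,1157,1158,1159,1160,1161,1162,1163,1164,1165,1166,1167,1168,1169,1170,1171,1172,1173,1174,1175,1176,1177,1178,1179,1180,1181,1182,1183,1184,1185,1186,1187,1188,1189,1190,1191,1192,1193,1194,1195,1196,1197,1198,1199]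

/-- Points. -/
def levY0pts6 : List ℕ := [1200,1201,1202,1203,1204,1205,1206,1207,1208,1209,1210,1211,1212,1213,1214,1215,1216,1217,1218,1219,1220,1221,1222,1223,1224,1225,1226,1227,1228,1229,1230,1231,1232,1233,1234,1235,1236,1237,1238,1239,1240,1241,1242,1243,1244,1245,1246,1247,1248,1249,1250,1251,1252,1253,1254,1255,1256,1257,1258,1259,1260,1261,1262,1263,1264,1265,1266,1267,1268,1269,1270,1271,1272,1273,1274,1275,1276,1277,1278,1279,1280,1281,1282,1283,1284,1285,1286,1287,1288,1289,1290,1291,1292,1293,1294,1295,1296,1297,1298,1299,1300,1301,1302,1303,1304,1305,1306,1307,1308,1309,1310,1311,1312,1313,1314,1315,1316,1317,1318,1319,1320,1321,1322,1323,1324,1325,1326,1327,1328,1329,1330,1331,1332,1333,1334,1335,1336,1337,1338,1339,1340,1341,1342,1343,1344,1345,1346,1347,1348,1349,1350,1351,1352,1353,1354,1355,1356,1357,1358,1359,1360,1361,1362,1363,1364,1365,1366,1367,1368,1369,1370,1371,1372,1373,1374,1375,1376,1377,1378,1379,1380,1381,1382,1383,1384,1385,1386,1387,1388,1389,1390,1391,1392,1393,1394,1395,1396,1397,1398,1399]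

/-- Points. -/
def levY0pts7 : List ℕ := [1400,1401,1402,1403,1404,1405,1406,1407,1408,1409,1410,1411,1412,1413,1414,1415,1416,1417,1418,1419,1420,1421,1422,1423,1424,1425,1426,1427,1428,1429,1430,1431,1432,1433,1434,1435,1436,1437,1438,1439,1440,1441,1442,1443,1444,1445,1446,1447,1448,1449,1450,1451,1452,1453,1454,1455,1456,1457,1458,1459,1460,1461,1462,1463,1464,1465,1466,1467,1468,1469,1470,1471,1472,1473,1474,1475,1476,1477,1478,1479,1480,1481,1482,1483,1484,1485,1486,1487,1488,1489,1490,1491,1492,1493,1494,1495,1496,1497,1498,1499,1500,1501,1502,1503,1504,1505,1506,1507,1508,1509,1510,1511,1512,1513,1514,1515,1516,1517,1518,1519,1520,1521,1522,1523,1524,1525,1526,1527,1528,1529,1530,1531,1532,1533,1534,1535,1536,1537,1538,1539,1540,1541,1542,1543,1544,1545,1546,1547,1548,1549,1550,1551,1552,1553,1554,1555,1556,1557,1558,1559,1560,1561,1562,1563,1564,1565,1566,1567,1568,1569,1570,1571,1572,1573,1574,1575,1576,1577,1578,1579,1580,1581,1582,1583,1584,1585,1586,1587,1588,1589,1590,1591,1592,1593,1594,1595,1596,1597,1598,1599]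

/-- Points. -/
def levY0pts8 : List ℕ := [1600,1601,1602,1603,1604,1605,1606,1607,1608,1609,1610,1611,1612,1613,1614,1615,1616,1617,1618,1619,1620,1621,1622,1623,1624,1625,1626,1627,1628,1629,1630,1631,1632,1633,1634,1635,1636,1637,1638,1639,1640,1641,1642,1643,1644,1645,1646,1647,1648,1649,1650,1651,1652,1653,1654,1655,1656,1657,1658,1659,1660,1661,1662,1663,1664,1665,1666,1667,1668,1669,1670,1671,1672,1673,1674,1675,1676,1677,1678,1679,1680,1681,1682,1683,1684,1685,1686,1687,1688,1689,1690,1691,1692,1693,1694,1695,1696,1697,1698,1699,1700,1701,1702,1703,1704,1705,1706,1707,1708,1709,1710,1711,1712,1713,1714,1715,1716,1717,1718,1719,1720,1721,1722,1723,1724,1725,1726,1727,1728,1729,1730,1731,1732,1733,1734,1735,1736,1737,1738,1739,1740,1741,1742,1743,1744,1745,1746,1747,1748,1749,1750,1751,1752,1753,1754,1755,1756,1757,1758,1759,1760,1761,1762,1763,1764,1765,1766,1767,1768,1769,1770,1771,1772,1773,1774,1775,1776,1777,1778,1779,1780,1781,1782,1783,1784,1785,1786,1787,1788,1789,1790,1791,1792,1793,1794,1795,1796,1797,1798,1799]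

/-- Points. -/
def levY0pts9 : List ℕ := [1800,1801,1802,1803,1804,1805,1806,1807,1808,1809,1810,1811,1812,1813,1814,1815,1816,1817,1818,1819,1820,1821,1822,1823,1824,1825,1826,1827,1828,1829,1830,1831,1832,1833,1834,1835,1836,1837,1838,1839,1840,1841,1842,1843,1844,1845,1846,1847,1848,1849,1850,1851,1852,1853,1854,1855,1856,1857,1858,1859,1860,1861,1862,1863,1864,1865,1866,1867,1868,1869,1870,1871,1872,1873,1874,1875,1876,1877,1878,1879,1880,1881,1882,1883,1884,1885,1886,1887,1888,1889,1890,1891,1892,1893,1894,1895,1896,1897,1898,1899,1900,1901,1902,1903,1904,1905,1906,1907,1908,1909,1910,1911,1912,1913,1914,1915,1916,1917,1918,1919,1920,1921,1922,1923,1924,1925,1926,1927,1928,1929,1930,1931,1932,1933,1934,1935,1936,1937,1938,1939,1940,1941,1942,1943,1944,1945,1946,1947,1948,1949,1950,1951,1952,1953,1954,1955,1956,1957,1958,1959,1960,1961,1962,1963,1964,1965,1966,1967,1968,1969,1970,1971,1972,1973,1974,1975,1976,1977,1978,1979,1980,1981,1982,1983,1984,1985,1986,1987,1988,1989,1990,1991,1992,1993,1994,1995,1996,1997,1998,1999]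

/-- Points. -/
def levY0pts10 : List ℕ := [2000,2001,2002,2003,2004,2005,2006,2007,2008,2009,2010,2011,2012,2013,2014,2015,2016,2017,2018,2019,2020,2021,2022,2023,2024,2025,2026,2027,2028,2029,2030,2031,2032,2033,2034,2035,2036,2037,2038,2039,2040,2041,2042,2043,2044,2045,2046,2047,2048,2049,2050,2051,2052,2053,2054,2055,2056,2057,2058,2059,2060,2061,2062,2063,2064,2065,2066,2067,2068,2069,2070,2071,2072,2073,2074,2075,2076,2077,2078,2079,2080,2081,2082,2083,2084,2085,2086,2087,2088,2089,2090,2091,2092,2093,2094,2095,2096,2097,2098,2099,2100,2101,2102,2103,2104,2105,2106,2107,2108,2109,2110,2111,2112,2113,2114,2115,2116,2117,2118,2119,2120,2121,2122,2123,2124,2125,2126,2127,2128,2129,2130,2131,2132,2133,2134,2135,2136,2137,2138,2139,2140,2141,2142,2143,2144,2145,2146,2147,2148,2149,2150,2151,2152,2153,2154,2155,2156,2157,2158,2159,2160,2161,2162,2163,2164,2165,2166,2167,2168,2169,2170,2171,2172,2173,2174,2175,2176,2177,2178,2179,2180,2181,2182,2183,2184,2185,2186,2187,2188,2189,2190,2191,2192,2193,2194,2195,2196,2197,2198,2199]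

/-- Points. -/
def levY0pts11 : List ℕ := [2200,2201,2202,2203,2204,2205,2206,2207,2208,2209,2210,2211,2212,2213,2214,2215,2216,2217,2218,2219,2220,2221,2222,2223,2224,2225,2226,2227,2228,2229,2230,2231,2232,2233,2234,2235,2236,2237,2238,2239,2240,2241,2242,2243,2244,2245,2246,2247,2248,2249,2250,2251,2252,2253,2254,2255,2256,2257,2258,2259,2260,2261,2262,2263,2264,2265,2266,2267,2268,2269,2270,2271,2272,2273,2274,2275,2276,2277,2278,2279,2280,2281,2282,2283,2284,2285,2286,2287,2288,2289,2290,2291,2292,2293,2294,2295,2296,2297,2298,2299,2300,2301,2302,2303,2304,2305,2306,2307,2308,2309,2310,2311,2312,2313,2314,2315,2316,2317,2318,2319,2320,2321,2322,2323,2324,2325,2326,2327,2328,2329,2330,2331,2332,2333,2334,2335,2336,2337,2338,2339,2340,2341,2342,2343,2344,2345,2346,2347,2348,2349,2350,2351,2352,2353,2354,2355,2356,2357,2358,2359,2360,2361,2362,2363,2364,2365,2366,2367,2368,2369,2370,2371,2372,2373,2374,2375,2376,2377,2378,2379,2380,2381,2382,2383,2384,2385,2386,2387,2388,2389,2390,2391,2392,2393,2394,2395,2396,2397,2398,2399]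

/-- Points. -/
def levY0pts12 : List ℕ := [2400,2401,2402,2403,2404,2405,2406,2407,2408,2409,2410,2411,2412,2413,2414,2415,2416,2417,2418,2419,2420,2421,2422,2423,2424,2425,2426,2427,2428,2429,2430,2431,2432,2433,2434,2435,2436,2437,2438,2439,2440,2441,2442,2443,2444,2445,2446,2447,2448,2449,2450,2451,2452,2453,2454,2455,2456,2457,2458,2459,2460,2461,2462,2463,2464,2465,2466,2467,2468,2469,2470,2471,2472,2473,2474,2475,2476,2477,2478,2479,2480,2481,2482,2483,2484,2485,2486,2487,2488,2489,2490,2491,2492,2493,2494,2495,2496,2497,2498,2499,2500,2501,2502,2503,2504,2505,2506,2507,2508,2509,2510,2511,2512,2513,2514,2515,2516,2517,2518,2519,2520,2521,2522,2523,2524,2525,2526,2527,2528,2529,2530,2531,2532,2533,2534,2535,2536,2537,2538,2539,2540,2541,2542,2543,2544,2545,2546,2547,2548,2549,2550,2551,2552,2553,2554,2555,2556,2557,2558,2559,2560,2561,2562,2563,2564,2565,2566,2567,2568,2569,2570,2571,2572,2573,2574,2575,2576,2577,2578,2579,2580,2581,2582,2583,2584,2585,2586,2587,2588,2589,2590,2591,2592,2593,2594,2595,2596,2597,2598,2599]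

/-- Points. -/
def levY0pts13 : List ℕ := [2600,2601,2602,2603,2604,2605,2606,2607,2608,2609,2610,2611,2612,2613,2614,2615,2616,2617,2618,2619,2620,2621,2622,2623,2624,2625,2626,2627,2628,2629,2630,2631,2632,2633,2634,2635,2636,2637,2638,2639,2640,2641,2642,2643,2644,2645,2646,2647,2648,2649,2650,2651,2652,2653,2654,2655,2656,2657,2658,2659,2660,2661,2662,2663,2664,2665,2666,2667,2668,2669,2670,2671,2672,2673,2674,2675,2676,2677,2678,2679,2680,2681,2682,2683,2684,2685,2686,2687,2688,2689,2690,2691,2692,2693,2694,2695,2696,2697,2698,2699,2700,2701,2702,2703,2704,2705,2706,2707,2708,2709,2710,2711,2712,2713,2714,2715,2716,2717,2718,2719,2720,2721,2722,2723,2724,2725,2726,2727,2728,2729,2730,2731,2732,2733,2734,2735,2736,2737,2738,2739,2740,2741,2742,2743,2744,2745,2746,2747,2748,2749,2750,2751,2752,2753,2754,2755,2756,2757,2758,2759,2760,2761,2762,2763,2764,2765,2766,2767,2768,2769,2770,2771,2772,2773,2774,2775,2776,2777,2778,2779,2780,2781,2782,2783,2784,2785,2786,2787,2788,2789,2790,2791,2792,2793,2794,2795,2796,2797,2798,2799]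

/-- Points. -/
def levY0pts14 : List ℕ := [2800,2801,2802,2803,2804,2805,2806,2807,2808,2809,2810,2811,2812,2813,2814,2815,2816,2817,2818,2819,2820,2821,2822,2823,2824,2825,2826,2827,2828,2829,2830,2831,2832,2833,2834,2835,2836,2837,2838,2839,2840,2841,2842,2843,2844,2845,2846,2847,2848,2849,2850,2851,2852,2853,2854,2855,2856,2857,2858,2859,2860,2861,2862,2863,2864,2865,2866,2867,2868,2869,2870,2871,2872,2873,2874,2875,2876,2877,2878,2879,2880,2881,2882,2883,2884,2885,2886,2887,2888,2889,2890,2891,2892,2893,2894,2895,2896,2897,2898,2899,2900,2901,2902,2903,2904,2905,2906,2907,2908,2909,2910,2911,2912,2913,2914,2915,2916,2917,2918,2919,2920,2921,2922,2923,2924,2925,2926,2927,2928,2929,2930,2931,2932,2933,2934,2935,2936,2937,2938,2939,2940,2941,2942,2943,2944,2945,2946,2947,2948,2949,2950,2951,2952,2953,2954,2955,2956,2957,2958,2959,2960,2961,2962,2963,2964,2965,2966,2967,2968,2969,2970,2971,2972,2973,2974,2975,2976,2977,2978,2979,2980,2981,2982,2983,2984,2985,2986,2987,2988,2989,2990,2991,2992,2993,2994,2995,2996,2997,2998,2999]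

/-- Points. -/
def levY0pts15 : List ℕ := [3000,3001,3002,3003,3004,3005,3006,3007,3008,3009,3010,3011,3012,3013,3014,3015,3016,3017,3018,3019,3020,3021,3022,3023,3024,3025,3026,3027,3028,3029,3030,3031,3032,3033,3034,3035,3036,3037,3038,3039,3040,3041,3042,3043,3044,3045,3046,3047,3048,3049,3050,3051,3052,3053,3054,3055,3056,3057,3058,3059,3060,3061,3062,3063,3064,3065,3066,3067,3068,3069,3070,3071,3072,3073,3074,3075,3076,3077,3078,3079,3080,3081,3082,3083,3084,3085,3086,3087,3088,3089,3090,3091,3092,3093,3094,3095,3096,3097,3098,3099,3100,3101,3102,3103,3104,3105,3106,3107,3108,3109,3110,3111,3112,3113,3114,3115,3116,3117,3118,3119,3120,3121,3122,3123,3124,3125,3126,3127,3128,3129,3130,3131,3132,3133,3134,3135,3136,3137,3138,3139,3140,3141,3142,3143,3144,3145,3146,3147,3148,3149,3150,3151,3152,3153,3154,3155,3156,3157,3158,3159,3160,3161,3162,3163,3164,3165,3166,3167,3168,3169,3170,3171,3172,3173,3174,3175,3176,3177,3178,3179,3180,3181,3182,3183,3184,3185,3186,3187,3188,3189,3190,3191,3192,3193,3194,3195,3196,3197,3198,3199]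

/-- Points. -/
def levY0pts16 : List ℕ := [3200,3201,3202,3203,3204,3205,3206,3207,3208,3209,3210,3211,3212,3213,3214,3215,3216,3217,3218,3219,3220,3221,3222,3223,3224,3225,3226,3227,3228,3229,3230,3231,3232,3233,3234,3235,3236,3237,3238,3239,3240,3241,3242,3243,3244,3245,3246,3247,3248,3249,3250,3251,3252,3253,3254,3255,3256,3257,3258,3259,3260,3261,3262,3263,3264,3265,3266,3267,3268,3269,3270,3271,3272,3273,3274,3275,3276,3277,3278,3279,3280,3281,3282,3283,3284,3285,3286,3287,3288,3289,3290,3291,3292,3293,3294,3295,3296,3297,3298,3299,3300,3301,3302,3303,3304,3305,3306,3307,3308,3309,3310,3311,3312,3313,3314,3315,3316,3317,3318,3319,3320,3321,3322,3323,3324,3325,3326,3327,3328,3329,3330,3331,3332,3333,3334,3335,3336,3337,3338,3339,3340,3341,3342,3343,3344,3345,3346,3347,3348,3349,3350,3351,3352,3353,3354,3355,3356,3357,3358,3359,3360,3361,3362,3363,3364,3365,3366,3367,3368,3369,3370,3371,3372,3373,3374,3375,3376,3377,3378,3379,3380,3381,3382,3383,3384,3385,3386,3387,3388,3389,3390,3391,3392,3393,3394,3395,3396,3397,3398,3399]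

/-- Points. -/
def levY0pts17 : List ℕ := [3400,3401,3402,3403,3404,3405,3406,3407,3408,3409,3410,3411,3412,3413,3414,3415,3416,3417,3418,3419,3420,3421,3422,3423,3424,3425,3426,3427,3428,3429,3430,3431,3432,3433,3434,3435,3436,3437,3438,3439,3440,3441,3442,3443,3444,3445,3446,3447,3448,3449,3450,3451,3452,3453,3454,3455,3456,3457,3458,3459,3460,3461,3462,3463,3464,3465,3466,3467,3468,3469,3470,3471,3472,3473,3474,3475,3476,3477,3478,3479,3480,3481,3482,3483,3484,3485,3486,3487,3488,3489,3490,3491,3492,3493,3494,3495,3496,3497,3498,3499,3500,3501,3502,3503,3504,3505,3506,3507,3508,3509,3510,3511,3512,3513,3514,3515,3516,3517,3518,3519,3520,3521,3522,3523,3524,3525,3526,3527,3528,3529,3530,3531,3532,3533,3534,3535,3536,3537,3538,3539,3540,3541,3542,3543,3544,3545,3546,3547,3548,3549,3550,3551,3552,3553,3554,3555,3556,3557,3558,3559,3560,3561,3562,3563,3564,3565,3566,3567,3568,3569,3570,3571,3572,3573,3574,3575,3576,3577,3578,3579,3580,3581,3582,3583,3584,3585,3586,3587,3588,3589,3590,3591,3592,3593,3594,3595,3596,3597,3598,3599]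

/-- Points. -/
def levY0pts18 : List ℕ := [3600,3601,3602,3603,3604,3605,3606,3607,3608,3609,3610,3611,3612,3613,3614,3615,3616,3617,3618,3619,3620,3621,3622,3623,3624,3625,3626,3627,3628,3629,3630,3631,3632,3633,3634,3635,3636,3637,3638,3639,3640,3641,3642,3643,3644,3645,3646,3647,3648,3649,3650,3651,3652,3653,3654,3655,3656,3657,3658,3659,3660,3661,3662,3663,3664,3665,3666,3667,3668,3669,3670,3671,3672,3673,3674,3675,3676,3677,3678,3679,3680,3681,3682,3683,3684,3685,3686,3687,3688,3689,3690,3691,3692,3693,3694,3695,3696,3697,3698,3699,3700,3701,3702,3703,3704,3705,3706,3707,3708,3709,3710,3711,3712,3713,3714,3715,3716,3717,3718,3719,3720,3721,3722,3723,3724,3725,3726,3727,3728,3729,3730,3731,3732,3733,3734,3735,3736,3737,3738,3739,3740,3741,3742,3743,3744,3745,3746,3747,3748,3749,3750,3751,3752,3753,3754,3755,3756,3757,3758,3759,3760,3761,3762,3763,3764,3765,3766,3767,3768,3769,3770,3771,3772,3773,3774,3775,3776,3777,3778,3779,3780,3781,3782,3783,3784,3785,3786,3787,3788,3789,3790,3791,3792,3793,3794,3795,3796,3797,3798,3799]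

/-- Points. -/
def levY0pts19 : List ℕ := [3800,3801,3802,3803,3804,3805,3806,3807,3808,3809,3810,3811,3812,3813,3814,3815,3816,3817,3818,3819,3820,3821,3822,3823,3824,3825,3826,3827,3828,3829,3830,3831,3832,3833,3834,3835,3836,3837,3838,3839,3840,3841,3842,3843,3844,3845,3846,3847,3848,3849,3850,3851,3852,3853,3854,3855,3856,3857,3858,3859,3860,3861,3862,3863,3864,3865,3866,3867,3868,3869,3870,3871,3872,3873,3874,3875,3876,3877,3878,3879,3880,3881,3882,3883,3884,3885,3886,3887,3888,3889,3890,3891,3892,3893,3894,3895,3896,3897,3898,3899,3900,3901,3902,3903,3904,3905,3906,3907,3908,3909,3910,3911,3912,3913,3914,3915,3916,3917,3918,3919,3920,3921,3922,3923,3924,3925,3926,3927,3928,3929,3930,3931,3932,3933,3934,3935,3936,3937,3938,3939,3940,3941,3942,3943,3944,3945,3946,3947,3948,3949,3950,3951,3952,3953,3954,3955,3956,3957,3958,3959,3960,3961,3962,3963,3964,3965,3966,3967,3968,3969,3970,3971,3972,3973,3974,3975,3976,3977,3978,3979,3980,3981,3982,3983,3984,3985,3986,3987,3988,3989,3990,3991,3992,3993,3994,3995,3996,3997,3998,3999]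

/-- Points. -/
def levY0pts20 : List ℕ := [4000,4001,4002,4003,4004,4005,4006,4007,4008,4009,4010,4011,4012,4013,4014,4015,4016,4017,4018,4019,4020,4021,4022,4023,4024,4025,4026,4027,4028,4029,4030,4031,4032,4033,4034,4035,4036,4037,4038,4039,4040,4041,4042,4043,4044,4045,4046,4047,4048,4049,4050,4051,4052,4053,4054,4055,4056,4057,4058,4059,4060,4061,4062,4063,4064,4065,4066,4067,4068,4069,4070,4071,4072,4073,4074,4075,4076,4077,4078,4079,4080,4081,4082,4083,4084,4085,4086,4087,4088,4089,4090,4091,4092,4093,4094,4095,4096,4097,4098,4099,4100,4101,4102,4103,4104,4105,4106,4107,4108,4109,4110,4111,4112,4113,4114,4115,4116,4117,4118,4119,4120,4121,4122,4123,4124,4125,4126,4127,4128,4129,4130,4131,4132,4133,4134,4135,4136,4137,4138,4139,4140,4141,4142,4143,4144,4145,4146,4147,4148,4149,4150,4151,4152,4153,4154,4155,4156,4157,4158,4159,4160,4161,4162,4163,4164,4165,4166,4167,4168,4169,4170,4171,4172,4173,4174,4175,4176,4177,4178,4179,4180,4181,4182,4183,4184,4185,4186,4187,4188,4189,4190,4191,4192,4193,4194,4195,4196,4197,4198,4199]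

/-- Points. -/
def levY0pts21 : List ℕ := [4200,4201,4202,4203,4204,4205,4206,4207,4208,4209,4210,4211,4212,4213,4214,4215,4216,4217,4218,4219,4220,4221,4222,4223,4224,4225,4226,4227,4228,4229,4230,4231,4232,4233,4234,4235,4236,4237,4238,4239,4240,4241,4242,4243,4244,4245,4246,4247,4248,4249,4250,4251,4252,4253,4254,4255,4256,4257,4258,4259,4260,4261,4262,4263,4264,4265,4266,4267,4268,4269,4270,4271,4272,4273,4274,4275,4276,4277,4278,4279,4280,4281,4282,4283,4284,4285,4286,4287,4288,4289,4290,4291,4292,4293,4294,4295,4296,4297,4298,4299,4300,4301,4302,4303,4304,4305,4306,4307,4308,4309,4310,4311,4312,4313,4314,4315,4316,4317,4318,4319,4320,4321,4322,4323,4324,4325,4326,4327,4328,4329,4330,4331,4332,4333,4334,4335,4336,4337,4338,4339,4340,4341,4342,4343,4344,4345,4346,4347,4348,4349,4350,4351,4352,4353,4354,4355,4356,4357,4358,4359,4360,4361,4362,4363,4364,4365,4366,4367,4368,4369,4370,4371,4372,4373,4374,4375,4376,4377,4378,4379,4380,4381,4382,4383,4384,4385,4386,4387,4388,4389,4390,4391,4392,4393,4394,4395,4396,4397,4398,4399]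

/-- Points. -/
def levY0pts22 : List ℕ := [4400,4401,4402,4403,4404,4405,4406,4407,4408,4409,4410,4411,4412,4413,4414,4415,4416,4417,4418,4419,4420,4421,4422,4423,4424,4425,4426,4427,4428,4429,4430,4431,4432,4433,4434,4435,4436,4437,4438,4439,4440,4441,4442,4443,4444,4445,4446,4447,4448,4449,4450,4451,4452,4453,4454,4455,4456,4457,4458,4459,4460,4461,4462,4463,4464,4465,4466,4467,4468,4469,4470,4471,4472,4473,4474,4475,4476,4477,4478,4479,4480,4481,4482,4483,4484,4485,4486,4487,4488,4489,4490,4491,4492,4493,4494,4495,4496,4497,4498,4499,4500,4501,4502,4503,4504,4505,4506,4507,4508,4509,4510,4511,4512,4513,4514,4515,4516,4517,4518,4519,4520,4521,4522,4523,4524,4525,4526,4527,4528,4529,4530,4531,4532,4533,4534,4535,4536,4537,4538,4539,4540,4541,4542,4543,4544,4545,4546,4547,4548,4549,4550,4551,4552,4553,4554,4555,4556,4557,4558,4559,4560,4561,4562,4563,4564,4565,4566,4567,4568,4569,4570,4571,4572,4573,4574,4575,4576,4577,4578,4579,4580,4581,4582,4583,4584,4585,4586,4587,4588,4589,4590,4591,4592,4593,4594,4595,4596,4597,4598,4599]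

/-- A level. -/
def levY0 : Level :=
  ⟨0, (.node (.node (.node (.node wt35 wt36) (.node wt37 wt38)) (.node (.node wt39 wt40) (.node wt41 wt42))) (.node (.node (.node wt43 wt44) (.node wt45 wt46)) (.node (.node wt47 wt48) (.node wt49 wt50)))), levY0pts0 ++ levY0pts1 ++ levY0pts2 ++ levY0pts3 ++ levY0pts4 ++ levY0pts5 ++ levY0pts6 ++ levY0pts7 ++ levY0pts8 ++ levY0pts9 ++ levY0pts10 ++ levY0pts11 ++ levY0pts12 ++ levY0pts13 ++ levY0pts14 ++ levY0pts15 ++ levY0pts16 ++ levY0pts17 ++ levY0pts18 ++ levY0pts19 ++ levY0pts20 ++ levY0pts21 ++ levY0pts22⟩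

/-- A subtree. -/
def wt51 : WTree :=
  (.node (.node (.node (.node (.node (.node (.node (.node (.node WTree.none (.word [0,4,3,5,4,2,3,2,0,3,4,1])) WTree.none) (.node WTree.none (.word [5,3,4,1,3,5,4,2,3]))) (.node WTree.none (.word [1,4,5,0,1,4,2]))) (.node (.node (.node (.node (.word [3,2,3,0,2,5,2,4,0,2]) (.word [0,2,4,2,0,3,0,3,2,0,2])) (.word [2,4,0,5,2,1,2,4,1])) (.node (.word [0,5,0,5,1,5,1,4,0,5,0]) (.word [2,5,3,5,2,0,5,3,5,0,2]))) (.node (.word [0,4,3,0,2,0,1,5,3,2,0,2]) (.node (.word [5,4,5,3,5,4,0,1,5]) (.word [3,2,4,3,2,0,5,1,4]))))) (.node (.node (.node (.node WTree.none (.word [3,5,0,5,3,5,0,1,5,3])) WTree.none) (.node (.word [0,2,1,4,3,0,2,1,4,3]) (.word [3,4,2,1,4,3,1]))) (.node (.node WTree.none (.word [5,2,4,1,4,0,5,4])) (.node (.node (.word [1,5,0,4,2,5,2,5]) (.word [1,2,4,1,3,0,1,4,2,1])) (.node (.word [2,4,3,0,1,2,5,1]) (.word [0,2,4,5,3,5,3,0,2,3,4])))))) (.node (.node (.node (.node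 (.node (.node WTree.none (.word [4,5,2,0,1,4,3,1,5,2,3])) WTree.none) (.node (.word [2,4,1,4,1,2]) (.word [5,0,2,3,2,3,1,5]))) (.node (.node (.word [5,0,5,2,4,0,5,1,4]) (.word [0,5,0,4,2,1,5,4,0,5])) WTree.none)) (.node (.node (.word [0,3,4,3,5,2,0,5,4,0,2,0]) (.node (.word [2,0,5,1,5,4,0,4,2,5]) (.word [3,2,5,1,4,2,5,3]))) (.node (.node (.word [5,3,1,3,1,2,0,4,1,2]) (.word [2,5,4,5,3,0,2,3,5,4,5,2])) (.word [0,2,1,2,5,0,1,4,3])))) (.node (.node (.node (.node (.node (.word [1,5,0,1,4,2,3,1,3]) (.word [1,5,0,1,3,4,1,2])) (.word [0,3,1,4,5,0,2,3,0,2,4,2,0])) (.node WTree.none (.word [0,5,0,3,4,3,2,0,5,0]))) (.node (.word [3,5,4,5,1,3,4]) (.node (.word [3,2,4,5,2,3,5,3]) (.word [0,4,5,3,2,1,3,0,5,2,1])))) (.node (.node (.node (.node WTree.none (.word [2,5,3,5,3,4,5,3,0,4,2])) WTree.none) (.node (.word [2,4,5,0,5,4,2]) (.word [4,5,0,4,1,4,5]))) WTree.none)))) (.node (.node (.node (.node (.node (.node (.node (.word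 [2,4,5,0,2,1,2,5,4,2]) (.word [2,5,4,5,1,3,0,5,4,2,1])) WTree.none) WTree.none) (.node (.node (.word [0,3,1,3,5,3,4,2,0]) (.word [0,2,5,3,2,1,3,5,4,3,0])) (.word [3,0,4,1,3,0,4,5,0,1]))) (.node (.node (.node WTree.none (.word [1,2,4,2,0,5,3,0,3,1])) (.node (.word [5,4,2,4,5,4,3,2]) (.word [2,3,2,0,3,0,3,2,3,1,2]))) (.node (.word [1,0,4,1,4,5,0,5,0,5]) (.node (.word [3,2,4,3,2,0,1,5,1]) (.word [5,3,5,4,3,0,4,0,3,5,3]))))) (.node (.node (.node (.node WTree.none (.word [0,5,0,4,2,5,3,5,2,3])) (.node (.word [0,5,1,0,2,5,1,4,0,2,5]) (.word [1,5,0,1,3,0,5,1,4]))) (.node (.node (.word [1,2,3,0,1,5,4,2,4,0]) (.word [5,4,5,2,4,0,1,5,0,4])) (.node (.word [3,2,0,5,2,4,3,0,4]) (.word [5,3,5,2,5,2,5,1,3,0,5,0])))) (.node (.node WTree.none (.node (.word [2,5,0,5,4,5,0,2,5,2]) (.word [3,5,0,4,0,1,5,3,5,2,1,4]))) (.node (.node WTree.none (.word [2,5,4,2,3,4,1,5,0,5,0])) (.node (.word [2,1,4,0,5,4,1,4]) (.word [1,5,0,2,5,4,1,3,5]))))))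 (.node (.node (.node (.node (.node (.node (.word [2,1,3,5,4,2,4,5]) (.word [1,5,0,1,4,1,2])) (.word [0,2,5,4,3,4,5,2,0])) WTree.none) (.node (.word [1,5,0,2,1,2,4,2,4]) (.node (.word [5,4,1,4,0,5,4]) (.word [3,5,1,4,5,1,3])))) (.node (.node (.word [1,4,5,0,3,4,1,2]) (.node WTree.none (.word [3,2,5,4,2,5,3,1]))) (.node (.node (.word [1,5,2,1,5,4,1,4]) (.word [1,5,0,3,1,3,4,2])) WTree.none))) (.node (.node (.node (.node (.node WTree.none (.word [1,0,3,4,2,0,1,4,3])) (.word [0,5,2,1,2,0,2,1,2,4,3])) (.word [0,2,4,5,1,5,3,0,4,3])) (.node (.node WTree.none (.word [2,4,5,1,5,1,3,0,5,1])) WTree.none)) (.node (.node (.node (.node (.word [5,0,2,0,2,5]) (.word [1,5,4,1,4,2,0,4,2])) WTree.none) (.node (.word [0,5,4,3,0,2,5,4,2,0]) (.word [3,5,0,2,0,3,0,2,0,2,5,3]))) WTree.none))))) (.node (.node (.node (.node (.node (.node (.node (.node (.word [1,2,4,1,3,4,2,4,1]) (.word [1,2,3,5,3,2,4,0,4,2])) (.word [3,0,2,3,0,3,2,4,0,3,4,5]))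 (.node WTree.none (.word [4,5,0,2,1,5]))) (.node (.node (.word [2,4,5,0,1,5,0,5,4,1]) (.word [2,0,4,5,4,1,2,4,5,0,5,3])) (.node (.word [0,5,0,3,1,2,1,5,3,5]) (.word [5,3,1,2,3,0,4,2])))) (.node (.node (.word [0,2,0,4,5,0,5,3,2,1,4,0,3]) (.word [3,5,0,4,0,2,0,4,0,5,1,3])) (.node (.node WTree.none (.word [2,4,2,0,5,2,1,3,0,3,4])) (.node (.word [2,4,5,3,2,4,2,3,5]) (.word [1,2,5,4,2,0,2,0,4,5,2,1]))))) (.node (.node (.node (.node (.node WTree.none (.word [0,5,0,2,1,5,4,5])) (.word [0,2,3,2,0,3,0,3,2,0,3])) (.node (.word [5,0,3,4,2,5,4,2]) (.word [5,3,0,4,2,5,0,3,5]))) (.node (.node WTree.none (.word [0,2,3,5,3,1,2,3,0])) (.node (.word [3,4,2,4,5,3,5,1,3]) (.word [2,4,0,1,5,1])))) (.node (.node (.node (.node (.word [0,5,4,3,2,1,5,3,0,2,4]) (.word [0,3,2,1,4,5,4,5,2,3,4,0])) (.word [2,5,0,5,4,5,0,2,1,5,2])) (.node (.word [1,5,0,5,0,5,4,2]) (.word [5,4,5,1,2,4,0,5,0,4]))) (.node WTree.none (.word [0,4,1,3,0,1,3,1,4,0])))))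 (.node (.node (.node (.node (.node WTree.none (.word [0,3,5,1,3,5,3,5,0])) (.node (.word [3,2,4,5,3,4,3,5]) (.word [1,5,2,0,3,1,4,2,4]))) (.node (.node WTree.none (.word [1,3,0,3,4,1,2,3,0,1,3,1])) (.node (.word [0,2,5,3,5,0,4,0,1,2,5,3]) (.word [0,3,0,4,0,3,0,5,1,5])))) (.node (.node (.node (.node WTree.none (.word [3,2,0,3,1,3,0,5,0,1])) (.word [0,5,0,5,3,4,5,3,2,3,1])) WTree.none) (.word [1,3,0,3,5,0,3,4,1,2,3]))) (.node (.node (.node (.node WTree.none (.word [2,5,2,5,4,0,5,1])) (.word [1,0,5,3,1,3,0,1,2,3,4])) (.word [1,0,5,0,4,3,0,3,4,0,2,3])) (.node (.node (.node (.node WTree.none (.word [0,2,5,1,4,1,0,5,1,2,0,3,0])) WTree.none) (.node (.word [2,3,2,0,3,0,5,2,4,5,1]) (.word [5,0,1,3,2,3,5,4]))) (.node WTree.none (.word [3,0,2,5,3,4,0,1,2,3])))))) (.node (.node (.node (.node (.node (.node (.node (.word [1,5,1,2,0,3,4,2,4]) (.word [3,2,3,5,1,2,0,2,4,1,3,0])) (.word [5,0,1,5,2,1,2])) (.node (.word [1,4,1])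 (.word [1,2,0,5,3,1,5,0,1,2]))) (.node (.node (.word [3,2,4,3,2,0,1,2,5,1]) (.word [4,5,2,1,5])) (.word [0,4,0,3,4,1,5,3,1,5,0]))) (.node (.node WTree.none (.word [5,3,4,3,5,4,2,1,3])) (.word [3,4,0,2,5,3,0,4,0,2,4,3]))) (.node (.node (.node (.node (.node WTree.none (.word [5,4,5,2,0,1,5,0])) (.word [1,5,0,1,3,1,4,2,4])) (.node (.word [5,3,4,5,0,5,3,0,3,1]) (.word [3,2,4,3,2,0,2,0,4,2]))) (.node (.node (.word [2,0,3,4,5,1,2,3,1,4,0,2]) (.word [0,5,2,4,3,5,0,4])) (.word [3,4,5,2,4,2,5,2,3]))) (.node (.node (.node (.node (.word [5,3,0,5,2,4,0,3,0,5]) (.word [5,3,1,2,1,3,5])) WTree.none) (.node (.word [0,3,5,0,5,1,3,2,0,4,3,0]) (.word [2,4,1,3,1,3,4,2]))) (.node WTree.none (.node WTree.none (.word [2,4,1,3,1,4,2])))))) (.node (.node (.node (.node (.node (.node WTree.none (.word [2,4,0,1,2,1,5,1])) (.word [5,4,5,4,0,2,0,5,3,5,1,4])) (.word [2,4,0,3,1,2,3,5])) (.node (.node (.word [5,4,0,2,5,2,0,1,2,4]) (.word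 [2,3,5,4,2,4,0,2,5])) (.node WTree.none (.word [0,5,0,3,4,3,5,4,5,1])))) (.node (.node (.node (.node (.word [3,1,5,4,5,3]) (.word [2,3,5,0,5,2,4,0,5,3,2,4,1])) (.word [2,5,3,1,4,3,5,1,2])) (.node WTree.none (.word [2,4,3,0,5,1,4]))) (.node (.node WTree.none (.word [2,4,5,1,5,3,4,1,2])) (.node WTree.none (.word [3,5,0,5,3,5,0,5,1,3,4]))))) (.node (.node (.node (.node (.word [3,5,0,3,5,1,3,5,0,3,1,5]) (.word [5,3,4,2,0,1,5,4,1,2])) (.node WTree.none (.word [3,0,3,1,5,0,3,4,2,3]))) (.node WTree.none (.node WTree.none (.word [1,5,0,3,1,4,2])))) (.node (.node (.node (.node (.word [2,5,0,2,3,1,3,0,3,5,3,5]) (.word [3,2,3,4,0,5,4,2,1])) (.word [5,3,1,4,5,2,0,1,5,1])) (.node (.word [3,2,3,5,1,2,5,0,5,0]) (.word [5,4,0,3,1,3,4,0,2,4]))) (.node (.node (.word [3,0,1,3,2,3,0,3,2]) (.word [2,0,4,5,1,5,0,4,1,5])) (.node WTree.none (.word [2,5,4,0,5,4,1,2,3,0,3])))))))))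

/-- A subtree. -/
def wt52 : WTree :=
  (.node (.node (.node (.node (.node (.node (.node (.node WTree.none (.word [1,2,4,0,1,4,1,2,4,1])) (.node WTree.none (.word [1,2,4,0,1,4,2,1,4]))) (.node (.node (.word [0,2,4,1,4,2,3,4,2,0,4,3]) (.word [0,4,2,4,2,4,3,0,2,4,1])) (.node WTree.none (.word [5,3,5,1,3,5,3,0,2,5])))) (.node (.node (.node WTree.none (.word [0,5,2,5,4,3,4,1,5,2,5,0])) (.word [1,2,4,0,1,4,2,1])) (.node (.node WTree.none (.word [0,4,0,3,0,3,0,4,0])) (.node WTree.none (.word [3,2,5,3,4,1,2,0,4,2]))))) (.node (.node (.node (.node (.word [1,2,4,2,3,4,2,3,1]) (.word [1,2,5,1,5,4,0,4,2,1])) WTree.none) (.word [3,4,0,5,0,4,1,4,2,4,3,0])) (.node (.node (.word [3,5,3,4,5,3,5,0,5]) (.node (.word [3,4,0,3,5,1,3,5,4,2,0]) (.word [1,5,0,4,5,2,5,2]))) (.node (.node (.word [0,2,4,0,2,0,1,5,3,0,4,3,1]) (.word [3,2,3,4,2,0,5,4,2,1])) (.word [0,3,5,2,0,2,5,3,5,0,4]))))) (.node (.node (.node (.node (.node (.node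 (.word [2,4,0,2,1,5,4,1,4]) (.word [1,2,4,3,0,4,1,2,1,4])) WTree.none) (.node WTree.none (.word [0,5,1,0,2,5,4,5,4]))) (.node (.node WTree.none (.word [5,0,1,5,2,1,2,4])) WTree.none)) (.node (.node (.node (.word [1,5,2,1,2,5,4,1]) (.word [1,3,5,2,5,3,5,4,3,5])) (.word [3,0,2,3,0,3,0,2,3,2,0,4])) (.node (.node (.word [2,4,1,3,0,2,5,1]) (.word [0,5,0,5,1,5,2,5,4,1,5])) (.node WTree.none (.word [1,0,2,5,0,2,4,5,0,3,5,2]))))) (.node (.node (.node (.node WTree.none (.word [2,4,5,3,0,3,5,4,2,4])) (.word [1,3,1,2,5,3,4,0,5])) (.node (.node (.word [5,3,0,3,0,2,3,1,5]) (.word [2,4,0,1,2,0,4,1,2])) WTree.none)) (.node (.node (.node (.node (.word [1,0,5,4,2,0,1,2,4,0]) (.word [2,0,2,3,2,3,0,1,3,2,3,4])) (.word [1,0,2,1,4,2,5,2,3,0,4])) (.word [2,0,5,0,2,0,5,0,1,2])) (.node WTree.none (.word [1,5,0,2,3,4,2,1,3])))))) (.node (.node (.node (.node (.node (.node (.word [3,2,3,4,0,2,3,2,5,3,1]) (.word [5,3,2,3,2,0,2,5,4]))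 (.node WTree.none (.word [5,4,5,1,3,5,1,4,0,4,2]))) (.node (.node (.word [2,4,0,4,1,4,5,1]) (.word [5,4,1,4,2,5,4])) (.word [3,2,5,3,4,2,0,4,1,2]))) (.node (.node (.node (.node (.word [3,4,0,5,0,2,5,0,4,5,4,0]) (.word [1,0,2,1,2,0,2,1,3])) (.word [5,3,2,1,3,0,4,1,2])) (.word [1,0,4,2,5,3,0,2,3,2,0,1])) (.node WTree.none (.node (.word [2,4,5,0,1,5,0,5,1]) (.word [1,5,0,1,3,1,4,1,2]))))) (.node (.node (.node (.node (.node WTree.none (.word [3,2,1,5,3,4,0,2,5,4])) (.word [2,1,4,0,5,4,1])) (.word [5,3,2,3,1,4,1,4,5])) (.node (.node WTree.none (.word [3,4,0,2,4,2,5,0,2,3,0,4])) (.node (.word [3,2,5,3,4,5,1]) (.word [5,3,4,5,1,2,0,4,2,1])))) (.node (.node (.node (.word [2,4,0,1,3,1,3,0,5]) (.word [0,5,1,0,3,4,5,4,0,1,5])) (.node (.word [1,0,4,1,4,5,0]) (.word [5,0,4,1,4,5]))) (.node (.node (.word [0,5,0,3,2,1,5,3,5]) (.word [5,3,4,1,2,0,5,4,1,2])) (.node (.word [3,0,4,1,3,0,4,5,0,1,4]) (.word [3,4,1,3,1,2,4,1,3]))))))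 (.node (.node (.node (.node (.node (.node (.word [0,3,2,0,2,3,0,4,3]) (.word [3,0,2,1,4,2,3,2,0,3])) (.word [1,2,5,4,2,4,2,5,0,5,0])) (.word [5,3,4,2,0,5,0,5,1])) (.node (.word [2,5,1,2,5,2]) (.word [3,2,4,5,2,1,5,3]))) (.node (.node (.node (.node (.word [2,1,2,5,2,0,2,5]) (.word [5,4,5,4,3,0,1,5,0,4])) (.word [1,3,2,0,5,0,4,3,1])) WTree.none) (.node (.word [2,1,3,5,3,2,4,5]) (.node WTree.none (.word [3,5,0,5,2,5,2,5,0,1,2]))))) (.node (.node (.node (.node (.node (.word [5,3,2,4,2,5,4,2]) (.word [1,5,0,1,5,0,5,4,2])) (.word [2,5,3,1,3,5,2])) (.word [0,3,1,5,2,0,1,2,4,5,3,0])) (.node (.node WTree.none (.word [2,4,2,4,0,1,3,0,5,4,5,2])) (.node (.word [5,4,2,3,5,3,1,2,4]) (.word [0,5,1,0,2,1,5,4,5,1])))) (.node (.node (.node (.word [5,4,0,2,5,2,0,1,2]) (.word [5,3,1,3,0,3,0,5,1])) (.node (.word [3,0,5,2,3,2,4,2,4,0,1]) (.word [5,4,5,0,3,0,5,4,5,4]))) (.node (.node (.word [1,2,4,0,2,5,4,3,1,5]) (.word [1,5,1,5,4,1,5,0,5]))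 (.node WTree.none (.word [1,5,1,2,0,4,1,2])))))))) (.node (.node (.node (.node (.node (.node (.node (.node (.word [3,5,4,5,3,5,0,2,5]) (.word [0,4,1,5,3,0,3,5,1,4,0])) (.word [1,5,1,2,0,1,4,2,4])) (.node WTree.none (.word [3,2,3,4,0,2,4,1,3,5,4]))) (.node (.node (.word [2,0,5,1,5,4,0,1,4,0,5]) (.word [5,4,2,4,5,3,2])) (.node WTree.none (.word [0,5,2,1,2,0,3,1,4,3])))) (.node (.node (.node (.node (.word [2,4,2,5,4,3,2,0,4,2]) (.word [0,4,2,4,2,1,4,3,0,2,1])) (.word [5,4,5,1,4,3,0,5,0])) (.node WTree.none (.word [3,5,0,5,3,5,0,4,5,1,3]))) (.node (.word [5,4,2,3,4,3,5,3,2]) (.node WTree.none (.word [2,4,1,3,0,5,4,1]))))) (.node (.node (.node (.node (.word [3,0,4,5,2,0,3,4,0,4,3]) (.word [3,0,3,1,2,5,0,3,4,2,3])) (.node (.word [5,0,2,3,2,3,5]) (.word [2,4,5,0,5,4,1,2]))) (.node (.node WTree.none (.word [5,0,2,1,5,1,4,1])) WTree.none)) (.node (.node (.node (.word [0,5,0,2,5,4,2,5,1,4]) (.word [1,5,3,2,3,0,4,1,2]))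 WTree.none) (.node (.node WTree.none (.word [2,4,5,2,1,4,3,1,5])) (.node WTree.none (.word [0,5,1,2,1,2,0,4,3])))))) (.node (.node (.node (.node (.node (.node (.word [0,5,0,2,5,4,5,4,1]) (.word [3,5,1,3,1,5,3])) WTree.none) (.node WTree.none (.word [2,0,5,1,3,5,0,2,1]))) (.node (.node (.word [2,4,2,3,5,1,2,5,3]) (.word [2,3,5,3,2,4,0,2,5])) (.node WTree.none (.word [3,5,1,4,5,3,5,0,5])))) (.node (.word [5,3,4,2,0,3,5,4,2]) (.node (.word [4,5,0,1,2,5,4]) (.node (.word [2,4,1,5,3,0,5,4,2]) (.word [0,2,0,4,3,2,4,2,0,2,0]))))) (.node (.node (.node (.node (.node (.word [0,5,0,2,3,2,4,0,5,0]) (.word [2,5,0,2,4,3,5,4,2,0,2])) WTree.none) (.word [1,5,2,0,5,0,5,4,2])) (.node (.node (.word [5,3,4,1,5,2,0,4,2,1]) (.word [2,0,3,4,3,2,1,5,0,1,3,2])) (.node (.word [0,5,2,1,4,3,0,1,5,0,5]) (.word [5,2,5,2,1,2])))) (.node (.node (.node (.word [0,4,1,3,0,2,5,3,0,1,5,3]) (.word [2,0,4,1,5,2,0,5,2,0])) (.node (.word [2,0,5,0,2,0,5,0,1,2,4])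 (.word [2,4,3,0,2,1,2,5,1]))) (.node (.node (.word [1,3,5,1,5,3,4,1]) (.word [2,4,5,1,5,0,2,0,4,2])) (.word [3,5,0,5,1,3,5,0,4,5,4])))))) (.node (.node (.node (.node (.node (.word [5,2,5,2,1,2,4]) (.node WTree.none (.word [0,2,4,3,0,4,1,4,2,3]))) (.node (.node (.word [0,2,4,3,0,2,3,4]) (.word [0,5,1,0,4,2,3,5,4,5,4])) (.node (.word [0,2,3,1,4,3,2,4,5,0,3]) (.word [1,2,0,3,2,4,2,4,2,0,4])))) (.node (.node (.word [3,2,1,4,2,0,4,0,3,5,2]) (.node WTree.none (.word [3,0,2,5,2,5,3,0,4,0,2,5]))) (.node (.node (.word [3,0,2,1,4,2,3,2,0,1,3]) (.word [5,3,5,2,5,1,5,3,0,5,0,4])) (.node (.word [1,0,4,2,0,5,3,4,1,0,4,5,2,0,4,2,4,0,5,4,5]) (.word [2,0,5,3,2,1,2,5,0,2,1]))))) (.node (.node (.node (.node (.word [0,4,2,4,5,0,3,2,1]) (.word [0,3,0,3,2,0,5,3,2,5,0])) (.node WTree.none (.word [3,0,4,2,3,2,4,0,3,4]))) (.node (.word [2,1,2,5,2,5,4]) (.node (.word [3,0,2,1,2,0,3,2]) (.word [5,3,0,5,2,4,0,3,0,2,5])))) (.node (.node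 (.node WTree.none (.word [2,4,5,0,2,4,3,5])) (.node (.word [1,3,0,4,0,2,3,5,2,0,1]) (.word [5,3,5,2,4,1,5,4,0,5]))) (.node (.node WTree.none (.word [2,4,2,4,3,0,5,4,2,1,4])) (.node (.word [3,0,4,3,4,0,1,3,4]) (.word [2,4,3,2,1,2,0,5,1])))))) (.node (.node (.node (.node (.node (.node WTree.none (.word [0,5,4,0,3,5,3,2,1,2,0,4,0])) (.word [3,2,0,4,1,4,5,2,1,2,0])) (.word [5,3,1,2,3,0,3,1,4,2])) (.node (.node WTree.none (.word [3,4,2,5,3,5,4,1,3])) (.node (.word [5,3,1,3,0,4,2,4]) (.word [5,3,4,1,5,2,4,2,1])))) (.node (.node (.node (.node (.word [3,4,0,4,3,2,5,3,4,0,2]) (.word [5,3,5,2,5,3,5,3,0,5,0])) WTree.none) (.word [2,4,5,0,5,3,1,4,2])) (.node WTree.none (.word [5,2,1,4,1,4,5])))) (.node (.node (.node (.word [4,2,1,2,5,0,5]) (.word [1,5,2,5,1])) (.node (.node (.word [1,5,2,4,1,3,5,2,3]) (.word [1,2,5,0,2,0,1,5,2,1])) WTree.none)) (.node (.node (.node (.word [2,1,2,5,0,2,5]) (.word [5,3,4,2,5,3,0,5,4,1]))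 (.node WTree.none (.word [5,4,5,1,3,2,0,5,0,4]))) (.node (.node (.word [5,4,1,4,2,5,1,4,1]) (.word [5,4,5,0,3,0,3,5,4,5])) (.node WTree.none (.word [5,3,0,5,2,4,0,2,3,5])))))))))

/-- A subtree. -/
def wt53 : WTree :=
  (.node (.node (.node (.node (.node (.node (.node (.node (.node (.word [1,0,4,0,5,3,4,0,2,4,2,0]) (.word [4,2,1,2,5,1,5])) (.word [5,0,5,1,4,1,4])) (.node WTree.none (.word [1,2,4,2,5,4,2,3,0,5]))) (.node (.word [3,2,5,2,4,5,2,4,3]) (.node (.word [5,4,0,3,2,4,2,1,4,2,0,1]) (.word [1,5,1,2,0,3,1,4,2])))) (.node (.node (.word [2,4,5,4,0,2,1,5,2,0,2]) (.word [3,2,4,1,3,2,3,0,5,1])) (.node (.node WTree.none (.word [3,2,3,0,2,1,2,0,2])) WTree.none))) (.node (.node (.node (.node (.node (.word [1,2,4,3,0,3,4,2,1]) (.word [3,5,1,2,3,4,3,5])) WTree.none) (.word [5,0,1,5,1,4,1])) (.node WTree.none (.node (.word [3,5,3,5,3,4,5,0,5]) (.word [0,5,0,4,0,5,0,5,0,5])))) (.node (.node (.word [0,5,0,2,1,5,1,4,2,5])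 (.node (.word [3,5,1,3,5,3,4]) (.word [0,4,5,2,1,5,4,0]))) (.node (.node (.word [3,5,4,3,1,5,1,3,4]) (.word [1,5,0,5,2,4,3,5,4])) (.node WTree.none (.word [2,5,0,5,4,5,0,5,1,2])))))) (.node (.node (.node (.node (.node (.node (.word [2,5,0,2,0,1,2,0,5,2]) (.word [5,3,4,2,0,3,2,4,3,5])) (.word [3,5,2,5,4,2,1,3])) (.node (.word [1,5,0,2,3,4,2,3]) (.word [1,0,3,1,3,0,5,0,2,3]))) (.node (.node (.word [2,4,5,0,3,0,2,4,3,5]) (.word [1,2,5,4,2,3,5,0,5,0,4])) WTree.none)) (.node (.node (.word [5,4,0,5,1,5,4,0,2]) (.word [1,5,0,5,0,5,4,1,2])) (.node (.node (.word [1,5,2,1,2,0,3,4,1,2]) (.word [2,4,5,1,3,5,0,5,1,4])) (.word [5,3,5,2,3,2,4,3,0,5,0])))) (.node (.node (.node (.node (.node (.word [1,4,5,2,0,4,2]) (.word [0,3,5,1,5,3,5,0])) (.word [3,0,4,3,4,0,3,5,1,5])) (.node WTree.none (.word [2,5,4,2,0,2,5,3,0,3]))) (.node (.word [1,5,2,0,4,2,4]) (.node WTree.none (.word [4,1,4,5,2,5,1])))) (.node (.node (.node (.node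 (.word [1,3,4,2,4,3,1]) (.word [3,2,0,3,4,2,0,4])) (.word [5,0,5,4,2,1,2])) (.word [1,5,4,2,1,4,5,3,1,2])) (.node (.node WTree.none (.word [5,3,5,2,0,1,5,3,0,1,3,2])) (.node (.word [5,3,1,3,2,0,4,2,4]) (.word [2,4,1,3,0,5,1]))))))) (.node (.node (.node (.node (.node (.word [2,5,0,5,3,0,5,1,2,5,3,5]) (.node (.word [2,3,0,1,3,2,3,0,3]) (.word [5,0,1,2,4,1,4,5]))) (.word [0,2,1,4,3,0,1,3,2,4,3])) (.node (.node (.node (.node WTree.none (.word [0,2,4,5,1,5,3,0,3,4,3])) (.word [2,0,5,3,1,3,5,4,0,5,3])) (.node WTree.none (.word [3,0,2,5,1,3,4,5,0,4,1]))) (.node (.node WTree.none (.word [1,2,4,0,4,5,2,5,2,1])) (.word [3,1,2,0,3,4,2,0])))) (.node (.node (.node (.node (.word [5,4,5,3,1,2,4,0,5,0]) (.word [2,4,0,2,0,3,4,2])) (.word [3,5,4,5,3,2,1,2])) (.node (.node (.word [1,3,0,2,1,5,3,4,0,4,3]) (.word [5,4,5,1,4,3,0,5,0,4])) (.node WTree.none (.word [1,0,4,5,4,0,5,1,2,0,1])))) (.node (.node (.node (.node (.word [3,2,4,3,2,3,0,5,1])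 (.word [3,4,0,4,0,3,5,1,2,1,5,0])) WTree.none) WTree.none) (.node WTree.none (.word [1,5,2,1,2,0,4,1,2]))))) (.node (.node (.node (.node (.node (.node (.word [4,1,5,0,1,4,2]) (.word [0,5,3,4,2,1,4,1,4,0])) (.word [2,0,5,4,1,2,0,4,5,0,4,5])) (.node (.word [1,2,1,2,5,2,0,4,2]) (.word [5,3,1,3,0,4,1,2]))) (.node (.node WTree.none (.word [0,3,0,2,0,2,3,5,4,5,0])) (.node (.word [1,0,2,1,0,4,0,2,0,2,3]) (.word [2,4,2,5,4,1,2,3,5])))) (.node (.node (.node (.word [5,1,2,5,1,4,1]) (.word [3,0,4,5,4,3,0,1,5,2,1,3,0])) (.word [5,2,1,4,1,4,0,5])) (.node WTree.none (.node (.word [5,3,2,1,3,2,0,4,2]) (.word [2,1,2,5,2,1,5]))))) (.node (.node (.node (.node (.node (.word [3,5,3,4,5,1,3,4]) (.word [5,0,2,5,2,1,2])) (.word [3,2,1,5,3,4,5])) (.word [2,4,5,0,5,3,4,1,2])) (.node (.node WTree.none (.word [5,3,1,0,5,1,3,1,2,3,4,0])) (.word [5,1,5,3,5,3,5,3]))) (.node (.node (.node (.node WTree.none (.word [1,4,5,2,0,1,4,2])) (.word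 [2,0,2,1,5,2,1,4,0,2])) (.node WTree.none (.word [3,4,0,4,2,4,1,5,0,2,5,3,1]))) (.node (.node (.word [3,5,1,5,3,4]) (.word [5,3,2,3,0,2,5,4])) (.node (.word [1,4,0,4,1,4,5,0]) (.word [2,4,0,1,5,4,1])))))))) (.node (.node (.node (.node (.node (.node (.node (.node WTree.none (.word [0,4,0,5,2,3,4,5,3,0,3,4])) (.word [2,1,4,3,0,2,5,1])) (.node (.word [3,5,0,4,5,2,1,2,5,0,2]) (.word [2,3,5,2,3,4,0,5,0,5,1]))) (.node (.node WTree.none (.word [0,4,5,2,1,5,4,0,4])) WTree.none)) (.node (.node (.node (.node (.word [1,5,0,1,3,0,1,5,1]) (.word [3,0,2,0,2,3,2,0,3,0,3])) (.word [3,5,2,3,4,1,3,0,4,2])) (.node WTree.none (.word [0,5,3,2,1,0,5,3,0,1,4,0,4,2,0]))) (.node (.word [5,0,3,1,2,1,3,5]) (.word [3,4,2,3,2,4,3])))) (.node (.node (.node (.node WTree.none (.word [0,3,2,5,2,1,3,0,4,2,5,3])) (.word [5,3,4,2,0,1,5,1,4,2])) (.node (.node WTree.none (.word [1,3,0,2,1,5,4,1,3,1,2,0])) WTree.none)) (.node (.node WTree.none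 (.node (.word [2,4,5,3,0,1,5,4,2,4]) (.word [3,5,1,3,5,3]))) (.node (.node (.word [5,3,4,1,2,0,5,4,2,4]) (.word [5,4,3,0,3,1,4,2,0,2,3])) (.word [3,0,4,2,5,2,3,2,3,0,1]))))) (.node (.node (.node (.node (.node (.node WTree.none (.word [2,4,5,1,3,5,1,4,2])) (.word [0,5,1,0,5,2,5,3,2,3])) (.node WTree.none (.word [3,2,3,4,0,3,0,4,3,2,3]))) (.node (.word [1,3,5,0,5,2,0,1,4,5,4,5,0]) (.word [0,4,1,2,4,5,3,5,0,4,5,2]))) (.node (.node (.node WTree.none (.word [3,5,0,5,2,0,1,5,2,5,0,2])) (.node (.word [1,2,4,0,4,2,5,2,5,1]) (.word [2,5,3,5,2,5,3,5,2]))) (.node (.node (.word [0,4,0,2,0,1,4,2,0,3]) (.word [3,1,5,1,4,3,5,3])) (.node WTree.none (.word [4,5,0,5]))))) (.node (.node (.word [0,5,0,3,2,1,5,3,1,5]) (.node (.node (.word [3,4,0,4,1,3,5,2,0,3,4]) (.word [3,4,0,4,1,4,5,0,1,4,3])) (.node (.word [5,0,4,3,1,5,2,3]) (.word [0,4,2,0,4,2,3,5,2,3,0,2])))) (.node (.node WTree.none (.node WTree.none (.word [4,5,4,1,4,0,5])))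 (.node (.node (.word [5,3,2,3,4,1,4,0,5]) (.word [1,2,5,4,2,3,4,5,0,5,0,4])) (.node (.word [5,3,0,5,2,4,0,3,2,5]) (.word [2,5,4,2,3,1,5,4,0,5,0]))))))) (.node (.node (.node (.node (.node (.node WTree.none (.word [1,2,5,3,5,0,4,0,5,3])) WTree.none) (.node (.node (.word [2,4,1,3,0,1,2,5,1]) (.word [0,2,1,4,3,0,4,2,1,2,3])) (.node (.word [3,4,1,0,5,2,1,2,0]) (.word [2,4,0,4,1,3,5,2,3])))) (.node (.node (.node (.node (.word [1,2,0,4,2,5,2,0,4,0,2]) (.word [0,2,4,3,0,1,2,3,1])) (.word [2,4,5,3,1,5,0,1,5,1])) (.word [3,2,4,1,3,2,1,4,2])) (.node WTree.none (.node (.word [5,4,5,0,5,3,5,3,0,2]) (.word [5,3,4,2,5,0,2,5,1,4]))))) (.node (.node (.node (.node (.word [0,5,0,2,5,3,1,3,4,5]) (.word [5,3,0,5,3,1,5,3,0,5,3])) (.node WTree.none (.word [5,0,1,3,1,3,5,1]))) (.node (.node WTree.none (.word [2,3,5,1,3,2,4,2,0,4,2])) (.node (.word [3,4,5,3,2,5,4,1,3]) (.word [3,5,0,4,0,1,3,4,5,3,5,4])))) (.node (.node (.node (.node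 WTree.none (.word [1,0,2,1,0,3,0,2,5,4,5,0])) (.word [3,2,4,3,5,4,1,3,5])) (.node (.word [5,4,5,0,3,0,2,0,1,5,0]) (.word [2,5,4,0,5,2,1,5,0,5,1,2]))) (.node (.node WTree.none (.word [5,4,0,5,2,0,2,5,0,5,3])) (.node (.word [5,3,0,3,0,3,0,2,5]) (.word [0,4,2,4,5,0,5,1,5,3,2])))))) (.node (.node (.node (.node (.node (.node (.word [5,3,5,2,5,2,5,3,0,5,0,4]) (.word [0,5,1,0,2,5,4,5])) (.word [0,4,2,0,3,4,1,5,0,3,4,3,0])) (.node WTree.none (.word [1,5,4,2,1,2,4,0,5]))) (.node (.node WTree.none (.word [3,4,2,4,5,4,5,3])) (.node WTree.none (.word [3,2,5,1,3,4,5,4])))) (.node (.node (.node (.node WTree.none (.word [1,0,2,3,1,0,3,1,4,0,3,5,1])) WTree.none) WTree.none) (.node (.node WTree.none (.word [3,4,5,3,5,4,3])) (.node (.word [5,3,2,0,3,0,3,5,4]) (.word [2,5,3,5,3,4,5,2,3,0,4,2]))))) (.node (.node (.node (.node (.node WTree.none (.word [3,5,4,3,5,3])) (.word [2,3,5,0,5,1,3,2,3,4,0])) (.word [2,5,4,5,1,4,2,0,1,5,1]))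 (.node (.node (.word [3,4,5,2,3,5,4,3]) (.word [0,5,0,4,1,2,3,5,4,5])) (.word [2,4,2,1,2,0,1,5,1,4]))) (.node (.node (.node (.node (.word [5,1,2,0,3,2,3,5]) (.word [5,3,0,4,5,0,4,2,4,2,0,4])) (.word [0,4,1,3,2,4,2,5,2,5,0,1])) (.node (.word [5,3,4,5,2,3,0,4,2,1]) (.word [1,2,1,2,5,0,4,1,2]))) (.node (.word [3,0,3,2,3,0,3,4,1,4,2]) (.node (.word [1,3,5,0,4,0,5,1,3,1]) (.word [1,5,0,4,2,4])))))))))

/-- A subtree. -/
def wt54 : WTree :=
  (.node (.node (.node (.node (.node (.node (.node (.node (.node (.word [1,5,0,1,3,1,3,4,2]) (.word [2,4,3,0,5,4,1])) WTree.none) WTree.none) (.node (.node (.word [5,3,4,2,0,5,0,5,1,4]) (.word [3,0,2,1,5,3,2,1,2,4,0])) (.node WTree.none (.word [3,1,5,4,3,5,3])))) (.node (.node (.node (.node (.word [3,4,2,3,4,3]) (.word [3,5,3,4,1,5,3])) (.word [0,2,1,2,4,3,5,2,0,3])) WTree.none) (.node (.node WTree.none (.word [5,3,4,2,3,5,3,0,5,1])) (.node (.word [3,4,2,4,5,3,5,3]) (.word [0,5,3,2,3,5,3,1,2,5,0])))))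 (.node (.node (.node (.node (.node (.word [2,1,4,0,2,5,1,4]) (.word [1,5,0,1,3,0,5,4,1])) WTree.none) (.word [2,4,2,3,5,2,5,3])) (.node (.node WTree.none (.word [1,4,5,2,0,3,4,2])) (.node WTree.none (.word [5,3,2,5,2,3,0,5,0])))) (.node (.node (.node (.node WTree.none (.word [3,5,0,4,0,5,4,3,5,2,1])) (.word [1,2,4,2,1,2,0,4,2,1])) (.node (.word [5,2,4,1,4,2,5]) (.word [1,2,5,4,3,4,5,2,1]))) (.node WTree.none (.node WTree.none (.word [5,3,4,2,0,5,0,5,4,1])))))) (.node (.node (.node WTree.none (.node (.node (.word [0,5,3,2,3,1,5,3,2,0,1]) (.word [4,1,2,4,0,3,4,1,2,1,4])) WTree.none)) (.node (.node (.node (.word [5,4,3,1,5,2,1,3]) (.word [0,2,4,0,5,2,4,5,0,2,5,0])) (.node WTree.none (.word [5,3,4,2,0,3,5,0,5,1]))) (.node (.node WTree.none (.word [1,4,5,2,5,1])) (.node (.word [5,4,5,1,2,0,5,0,5,0,5]) (.word [1,5,0,5,3,5,4,2,4]))))) (.node (.node (.node (.node (.word [3,5,0,4,0,2,0,1,4,0,5,3]) (.word [4,2,4,0,5,1]))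 (.word [2,5,4,5,4,2,0,4,2,1])) (.word [5,3,5,2,0,5,3,0,4,3,1,2])) (.node (.node (.node (.node (.word [5,3,0,3,0,3,2,5]) (.word [0,2,1,3,5,1,3,2,1,3,0])) WTree.none) WTree.none) (.node (.word [4,3,5,3,5,3]) (.word [0,5,0,2,5,4,0,1,4,2])))))) (.node (.node (.node (.node (.node (.node (.node (.word [5,2,1,5]) (.word [0,4,1,3,2,0,5,2,0,5,0,3])) (.word [1,4,1,2,4,1,4,2])) WTree.none) (.node (.word [5,3,0,3,0,1,2,1,3,5]) (.word [1,0,3,5,2,3,4,5,4,5,4,0]))) (.node (.node WTree.none (.word [5,3,4,3,5,4,2,3])) (.node (.node WTree.none (.word [1,0,5,0,1,5,0,1])) (.word [0,5,0,2,4,1,2,5,3,5])))) (.node (.node (.node (.node (.node WTree.none (.word [0,5,0,5,4,5,0,5,0,4])) WTree.none) (.node (.word [5,3,5,3,5,2,3,5]) (.word [0,5,4,0,5,4,0,2,3,2,5,0]))) (.node (.node (.word [5,3,1,4,5,2,0,2,5,1]) (.word [2,4,5,0,5,0,5,4,1,4])) (.node (.word [2,3,0,3,2,3,0,3]) (.word [2,0,5,2,4,0,2,0,3,0])))) (.node (.node (.node (.word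 [5,4,0,2,5,2,4,1,4,0,2]) (.word [1,2,5,4,2,3,5,0,5,0])) (.word [3,4,5,1,0,5,0,3,1,4,5])) (.node (.node WTree.none (.word [2,4,0,3,1,3,5])) (.word [5,4,0,5,1,5,1,4,0,2]))))) (.node (.node (.node (.node (.node (.node (.word [5,4,5,3,5,1,4,0,1,5]) (.word [0,5,2,1,5,0,4,3,0,5,1,2])) (.word [3,2,0,4,1,0,5,0,4,0,2,3])) (.node WTree.none (.word [3,1,5,4,1,5,3,4]))) (.node (.node (.word [2,4,5,0,1,2,1,4,3,5]) (.word [2,4,5,1,3,5,1,4,2,4])) (.node WTree.none (.word [1,3,5,3,5,3,4,1])))) (.node (.node (.node (.node WTree.none (.word [3,2,0,4,1,0,2,3,5,2,0,2,3])) WTree.none) (.node WTree.none (.word [5,4,5,1,0,2,4,2,0,5,3,2]))) (.node WTree.none (.node WTree.none (.word [2,4,0,2,0,4,2]))))) (.node (.node (.node (.word [2,4,2,0,5,1,4,3,0,3]) (.word [0,3,2,5,2,1,3,0,3,4,5,4])) (.node WTree.none (.word [5,1,2,4,1,4,5]))) (.node (.node (.node (.node WTree.none (.word [1,0,5,0,3,1,3,0,2,3])) (.word [5,4,2,1,2,5,2,4,0,5,0]))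 (.node (.word [2,5,0,2,5,1,3,0,3,2]) (.word [0,5,0,4,0,5,0,5,2,5]))) (.node WTree.none (.node WTree.none (.word [3,2,1,0,5,0,1,3,4,3])))))))) (.node (.node (.node (.node (.node (.node (.node (.node WTree.none (.word [2,0,4,5,3,1,5,0,4,5])) (.word [5,3,4,3,2,5,3,5,0,5])) (.node WTree.none (.word [1,4,1,5,0,5]))) (.node (.node (.word [1,2,0,2,5,2,1,4,0,3,2,3,1]) (.word [2,1,4,5,3,5,4,2])) (.word [3,5,2,3,1,4,3,0,5]))) (.node (.node (.node (.node (.word [0,2,5,1,5,4,3,0,5,2,5]) (.word [5,3,1,3,0,1,4,1,2])) (.word [0,4,2,1,4,1,5,0,3])) (.node WTree.none (.word [2,4,2,0,3,1,4,0,1,5,2,0]))) (.node (.node (.word [0,5,0,2,1,5,4,0,2,5]) (.word [3,0,3,1,5,0,2,4,2,4])) (.word [2,0,3,5,3,5,0,5,4,0,5])))) (.node (.node (.node (.node (.node (.word [0,2,0,4,2,4,0,2,0]) (.word [0,5,4,2,0,5,0,2,3,2,5,0])) (.word [2,4,5,0,5,1,4,2])) (.word [0,2,0,2,5,0,2,3,0,1,3,5,0])) (.node (.node (.word [5,1,5,4,5,0,2,5]) (.word [2,0,5,3,5,0,5,3,5,2]))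 WTree.none)) (.node (.node (.node (.node WTree.none (.word [0,2,1,5,0,5,1,4,3,0])) (.word [3,2,5,3,1,5,2,0,5,0])) (.word [5,3,5,1,5,3,0,2,5])) (.node (.node WTree.none (.word [3,4,1,0,5,1,3,4,2,0])) (.node (.word [3,5,0,2,5,2,4,0,5,3]) (.word [2,4,5,0,1,2,4,3,5])))))) (.node (.node (.node (.node (.node WTree.none (.word [0,5,1,0,2,5,4,0,5])) (.node (.word [3,4,1,2,1,4,1,3]) (.word [3,5,0,2,3,5,2,5,0,3]))) (.node (.node (.word [2,0,4,5,0,2,0,5,4,0,2,4]) (.word [5,3,1,2,3,0,3,4,1,2])) (.node WTree.none (.word [5,0,1,5,1,4,1,4])))) (.node (.node (.node (.node WTree.none (.word [0,5,2,4,3,5,0,5,0,5])) WTree.none) (.node WTree.none (.word [1,0,3,4,2,3,4,1,2,0]))) (.node WTree.none (.node WTree.none (.word [2,4,0,1,2,5,1]))))) (.node (.node (.node (.node (.node WTree.none (.word [3,0,2,3,0,2,3,4,0,3,5,1])) (.word [0,3,2,0,3,1,5,3,2,5,0])) (.node (.word [3,5,0,5,3,5,0,5,3]) (.word [0,4,2,5,2,5,2,1,4,0,1]))) (.node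 (.word [2,4,0,2,0,1,4,1,2]) (.word [1,5,0,4,1,2,1,4,1]))) (.node (.node (.node (.node (.word [1,2,0,3,1,3,4,0,2,1]) (.word [0,4,2,5,2,3,0,1,4,2,0,5,3])) (.word [2,4,0,1,5,1,4])) (.node WTree.none (.word [5,3,5,4,0,2,3,4,2,1,5,0,2]))) (.node (.node WTree.none (.word [5,3,4,2,3,5,0,2,5,1])) (.node (.word [3,2,1,0,4,2,4,5,0,3]) (.word [2,3,5,1,4,2,4,5,1]))))))) (.node (.node (.node (.word [2,1,4,5,0,5,4,2]) (.node (.node (.node (.node (.word [5,2,5,3,5,3,5,3]) (.word [0,4,1,2,3,4,2,4,5,2,4,5,0])) (.word [1,5,1,2,0,1,4,1,2])) (.word [0,4,3,0,2,1,2,0,3,4,0])) (.node (.node (.word [3,4,0,5,2,4,2,0,2,3,0]) (.word [5,3,0,4,2,5,0,3,5,4])) (.node WTree.none (.word [3,0,2,0,3,4,0,2,0,1,3]))))) (.node (.node (.node (.node (.word [1,5,1,5,4,1]) (.word [3,0,2,5,1,3,4,5,0,1])) (.word [1,0,3,5,2,0,1,2,4,3,0,4,0])) (.node (.node (.word [1,2,4,2,5,1,4,3,5]) (.word [3,4,0,2,1,2,1,5,0,4])) (.node (.word [2,5,2,5,1,2,4]) (.word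 [1,0,2,1,2,5,3,1,3,0])))) (.node (.node (.node WTree.none (.word [0,2,5,1,3,2,3,5,4,3,0])) WTree.none) (.node (.word [2,4,5,1,3,0,5,4,2]) (.node WTree.none (.word [3,0,5,4,2,3,4,1,3,2,0])))))) (.node (.node (.node (.node (.node (.node WTree.none (.word [1,0,5,3,1,3,0,2,3,1])) (.word [3,2,5,3,1,4,0,1,4,2])) (.node (.word [2,5,0,3,4,0,5,1,2,5,0]) (.word [2,0,4,3,1,3,0,4,2,5,4]))) (.node (.word [2,4,2,4,5,2,3,5,0,5,0]) (.node WTree.none (.word [3,5,2,5,3,2,3,0,5,1])))) (.node (.node (.node (.node (.word [1,5,0,1,3,1,4,2]) (.word [1,3,1,3,4,1])) (.word [0,2,4,5,0,2,0,3,2,4,3,0])) (.node (.word [5,2,0,5,1,4,1,4]) (.word [2,0,5,3,2,4,3,0,5,4,5,4,2]))) (.node (.node (.word [0,2,4,3,2,1,2,0,4,1]) (.word [2,3,0,2,4,3,1,2,0,3])) WTree.none))) (.node (.node (.node (.node (.word [1,2,4,5,0,4,1,3,2,3]) (.word [0,2,1,4,3,0,1,4,3])) (.node (.word [0,4,2,3,5,3,1,4,5,0,3,2]) (.word [0,5,4,1,4,0,1,4]))) WTree.none) (.node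 (.node (.node (.word [3,4,1,3,2,4,3,1]) (.word [0,5,2,3,5,3,2,4,2,0])) (.word [5,3,2,1,4,5,2,4,2])) (.node WTree.none (.node (.word [3,4,3,5,3,2,5,4,3]) (.word [2,4,5,0,2,4,3,1,5])))))))))

/-- A subtree. -/
def wt55 : WTree :=
  (.node (.node (.node (.node (.node (.node (.node (.node WTree.none (.word [3,5,3,1,5,3,5,0,5])) (.node (.word [3,1,4,5,3,5,4,3]) (.word [3,4,5,1,0,5,0,3,4,2,5]))) (.node WTree.none (.word [0,5,2,1,2,0,4,3,1]))) (.node (.node (.node (.word [2,0,2,4,5,3,4,2,0,5,2,4]) (.word [0,3,5,3,5,0,4,0,3,0])) (.node (.word [0,3,1,5,0,5,0,5,3,4,0]) (.word [2,4,0,3,2,1,3,1,5]))) (.node (.node WTree.none (.word [5,3,5,3,5,2,3,0,5])) (.node (.word [3,4,2,3,4,3,5,0,5]) (.word [1,5,0,3,0,2,5,1,4]))))) (.node (.node (.node (.node (.node (.word [2,4,0,5,1,4,5,0,5]) (.word [5,3,4,2,3,5,0,5,4,1])) (.word [1,2,4,2,5,4,1,3,0,4,2])) (.word [1,3,0,2,3,4,2,0,3,4,1])) (.node (.node WTree.none (.word [5,3,2,4,1,2,5,4,2]))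 WTree.none)) (.node (.node (.node WTree.none (.word [2,0,5,4,5,4,5,3,5,1,4,0])) WTree.none) (.node (.node (.word [1,5,4,3,5,2,3]) (.word [0,2,5,0,2,1,5,0,4,5])) (.word [2,4,5,0,2,4,1,3,5,1]))))) (.node (.node (.node (.node (.node WTree.none (.word [2,3,5,2,5,2,3,2])) WTree.none) (.node (.node WTree.none (.word [2,4,0,2,0,3,4,2,4])) (.node WTree.none (.word [5,3,1,2,3,0,1,4,2])))) (.node (.node WTree.none (.word [3,2,4,5,2,5,3])) (.node WTree.none (.node WTree.none (.word [3,0,4,2,3,4,2,1,4,0,3]))))) (.node (.node (.node (.node (.node (.word [5,2,5]) (.word [2,5,0,5,4,2,5,0,5,2,4])) (.word [2,3,5,4,2,4,5,4])) WTree.none) (.word [5,0,5,2,1,2,4])) (.node (.node (.node (.word [3,2,5,1,3,4,0,2,5,4]) (.word [1,0,5,4,0,3,1,4,0,3])) (.node (.word [3,2,4,0,4,1,4,0,3]) (.word [3,0,3,1,2,5,0,1,2,4,2]))) (.node (.node (.word [5,3,1,3,1,2,0,4,2,4]) (.word [0,3,1,5,4,5,4,1,5,1,4,2,0])) (.node (.word [0,4,1,0,3,4,5,3,1,5,0])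 (.word [3,2,5,3,4,2,0,4,2,4]))))))) (.node (.node (.node (.node (.node (.node (.node (.word [1,4,5,3,1,3,0,5]) (.word [2,4,5,3,5,0,5,4,1])) (.word [5,3,1,3,5,1])) (.node (.word [1,5,0,1,4,2,1,4,1]) (.word [0,5,2,5,0,1,5,4,3,5,0]))) (.node (.node (.word [2,4,2,0,3,4,5,0,5,2,0]) (.word [2,5,4,5,4,2,3,0,4,2,1])) WTree.none)) (.node (.node (.node (.node WTree.none (.word [3,5,2,1,3,1,4,3,0,5])) (.word [3,2,1,4,5,2,5,3,1,4])) (.word [1,0,4,5,3,5,0,4,3,0,3,5,2,1])) (.node (.word [1,2,4,5,2,5,2,4,2]) (.node (.word [2,5,0,5,4,5,0,1,5,2]) (.word [5,3,4,3,2,5,3,4]))))) (.node (.node (.node (.node (.node (.word [3,2,1,3,5,3,2,5,0,5,0]) (.word [5,3,5,2,1,4,3,2,0,5,0])) (.word [0,2,5,4,2,3,2,0,3,5,4])) (.node WTree.none (.word [3,0,2,0,2,3,0,4,3,0,3]))) (.node (.node (.word [5,2,0,3,2,3,5,4]) (.word [0,2,5,0,4,5,4,0,5,2,0])) (.node WTree.none (.word [2,4,0,1,2,0,4,2])))) (.node (.node (.node (.node (.word [2,4,0,1,3,2,3,5,1])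 (.word [1,0,3,0,4,1,3,0,2,0])) WTree.none) (.node WTree.none (.word [3,0,2,3,2,4,1,2,0,3]))) (.node WTree.none (.node (.word [1,3,0,2,4,0,3,2,0,3,1]) (.word [0,2,4,5,1,2,4,0,3,2,0])))))) (.node (.node (.node (.node (.node (.node WTree.none (.word [0,4,3,1,0,5,2,4,5,2,0,4,3])) WTree.none) WTree.none) (.node (.node (.word [5,3,1,3,0,3,0,5,4,1]) (.word [1,0,5,4,0,3,1,4,0,3,4])) (.node WTree.none (.word [5,4,3,2,1,2,3,4,0,1,5])))) (.node (.node (.node (.node WTree.none (.word [0,4,3,5,4,0,3,4,5,0,3,1,4])) (.word [1,2,5,4,1,2,3,5,0,5,0])) (.node (.word [3,2,5,1,4,1,2,5,3]) (.word [2,4,5,3,0,3,5,4,1,2]))) (.node (.node WTree.none (.word [1,5,0,2,1,3,4,2,3])) WTree.none))) (.node (.node (.node (.node (.word [0,2,1,4,3,0,4,3,1]) (.word [2,4,2,5,4,2,3,0,4,2])) (.word [1,0,3,5,4,1,3,0,4,0])) (.node (.node (.word [2,0,4,0,5,2,3,0,2,5,0,3]) (.word [1,2,4,5,0,2,0,5,4,2,1])) (.node (.word [2,4,1,3,0,2,5,4,1]) (.word [5,4,3,1,3,5,2,0,5,0]))))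 (.node (.node WTree.none (.node (.word [0,5,2,1,2,0,2,4,3,1]) (.word [5,3,4,0,5,1,4,3,0,3,2]))) (.node (.node WTree.none (.word [0,2,4,5,1,2,3,5,2,5,3,0])) WTree.none)))))) (.node (.node (.node (.node (.node (.node (.node (.node WTree.none (.word [4,5,0,5,3,4,2,4,3])) (.word [2,0,2,3,2,3,0,3,2,3])) (.node WTree.none (.word [0,4,2,3,5,4,1,2,5,3,2,0]))) (.node (.node (.word [2,4,5,0,5,0,5,4,1]) (.word [1,2,4,0,4,1,2,4,1,4])) (.node WTree.none (.word [0,5,0,2,3,5,4,1,5,1])))) (.node (.node (.node (.word [0,4,2,1,3,1,3,0,2,4,0,4]) (.word [5,3,4,2,3,0,5,0,5,1])) (.node (.word [3,5,0,3,2,0,2,3,0,5,3]) (.word [5,3,0,3,0,1,3,5,1]))) (.node (.node (.word [1,5,0,3,4,2]) (.word [5,4,1,4,0,1,5])) WTree.none))) (.node (.node (.node (.node (.word [2,4,0,1,5,1,2,1,2]) (.word [0,3,2,0,3,0,1,2,3,0,3,0])) (.word [2,4,0,1,5,4,1,4])) (.node (.node WTree.none (.word [0,5,0,3,4,5,4,1,5,1])) (.node (.word [5,3,1,3,2,0,3,4,2]) (.word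 [1,2,5,4,5,4,2,0,5,1])))) (.node (.node (.node (.word [3,1,3,4,5,0,2,5]) (.word [3,2,4,5,3,2,5,0,5,1])) WTree.none) (.node (.node (.word [5,3,0,3,0,3,0,2,1,5]) (.word [0,2,0,3,0,2,0,4])) (.node (.word [1,2,4,0,2,5,4,3,5,4]) (.word [5,3,1,5,0,5,3,0,1,4,2,3])))))) (.node (.node (.node (.node (.node (.node WTree.none (.word [1,3,2,0,2,1,2,0])) (.word [3,0,5,4,2,3,5,2,0,3])) (.word [0,4,5,1,5,0,3,1,4,0,3])) (.node (.node WTree.none (.word [2,0,4,5,0,2,0,5,4,0,2])) (.node (.word [3,4,1,0,3,4,1,2,0]) (.word [2,0,3,5,3,5,0,3,5,4,5])))) (.node (.node (.node (.word [3,5,2,1,5,4,2,1,3]) (.word [0,5,1,0,3,2,5,3,5,1])) WTree.none) (.node (.node WTree.none (.word [5,4,1,4,0,5])) (.node WTree.none (.word [1,0,3,2,3,2,5,2,4,0,3]))))) (.node (.node (.node (.node (.word [3,0,2,5,2,5,3,0,4,5,4]) (.word [0,3,0,2,3,0,1,3,2,0,3,0])) (.node WTree.none (.word [5,4,5,1,2,0,5,0]))) (.node (.word [3,0,3,1,5,0,3,4,2,3,4]) (.word [2,4,0,1,2,5,4,1])))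 (.node (.node (.node (.node (.word [5,0,1,2,5,2,1,2]) (.word [2,4,5,3,5,3,0,5,4,1])) (.word [2,4,5,3,1,2,4,3,0,5])) (.word [1,2,5,4,2,1,3,4,5,0,5,0])) (.node (.node (.word [2,4,3,1,5,0,5,4,2]) (.word [2,4,5,3,5,0,2,5,1])) (.word [3,2,4,2,0,4,0,2,4,2,3])))))) (.node (.node (.node (.node (.node (.node (.node WTree.none (.word [0,3,2,0,4,1,2,3,4,0,2,1])) WTree.none) WTree.none) (.node (.node WTree.none (.word [1,5,1,2,1,2,0,4,2])) (.word [5,3,0,5,3,2,5,2,0,3,2]))) (.node (.node (.node (.node WTree.none (.word [1,3,5,3,4,5,1,3,1])) WTree.none) (.node WTree.none (.word [3,2,0,3,4,2,0,1,4,1]))) (.node (.node (.word [0,2,4,3,1,5,0,4,3,1]) (.word [1,5,0,4,1,2,3,1,3])) (.word [3,0,5,3,5,1,3,1,5,0,3,1])))) (.node (.node (.node (.node (.node WTree.none (.word [2,4,5,3,0,5,4,2])) (.word [1,5,0,3,1,4,2,4])) WTree.none) (.node (.node (.word [2,0,5,3,5,0,5,3,5,1,2]) (.word [3,0,3,2,4,1,5,0,4,2,3,5])) WTree.none)) (.node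 (.node (.node (.node (.word [5,2,0,2,5,2,1,2]) (.word [1,4,1,4,5,2,5,4])) (.word [5,4,1,4,0,3,2,3,5])) WTree.none) (.node (.word [5,3,4,2,5,4,2]) (.word [0,2,1,2,0,2,3,1]))))) (.node (.node (.node (.node (.node WTree.none (.word [5,3,4,1,2,5,0,2,5,1])) (.node WTree.none (.word [0,3,2,1,3,5,3,2,0]))) (.node (.word [0,5,0,2,3,5,4,5,1,4]) (.node WTree.none (.word [5,3,1,4,5,2,4,1,2])))) (.node (.node (.node (.node (.word [3,5,1,4,1,5,1,3,4]) (.word [5,3,5,2,4,2,4,0,5,0])) WTree.none) (.word [1,5,0,3,4,1,2])) (.node (.node (.word [0,2,4,3,5,3,1,3,0]) (.word [5,3,4,3,2,5,3])) (.node (.word [5,4,2,1,2,4,0,4,2]) (.word [3,5,0,2,5,2,4,0,3,5,3]))))) (.node (.node (.node WTree.none (.node (.word [1,5,0,3,0,1,2,5,1]) (.word [1,2,4,5,0,4,3,2,3]))) (.node (.word [3,2,1,5,3,4,2,1,5]) (.node (.word [5,3,5,2,4,5,4,5,1]) (.word [0,5,1,2,4,3,5,0,5,2,3])))) (.node (.node (.node (.node WTree.none (.word [3,5,0,4,0,4,5,1,3,5,2,1]))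 (.word [0,2,4,2,1,2,1,3,0])) (.node WTree.none (.word [0,2,1,3,5,3,0,1,2,3,0]))) (.node (.node (.word [3,2,1,3,2,5,2,4,0,1,5]) (.word [5,3,4,2,0,5,4,2])) (.node (.word [5,3,4,3,2,3,5,3]) (.word [5,3,4,2,3,5,0,5,1,4])))))))))

/-- A subtree. -/
def wt56 : WTree :=
  (.node (.node (.node (.node (.node (.node (.node (.word [5,4,1,4,0,2,1,5]) (.node (.word [2,1,5,1,2,5,2]) (.word [2,4,5,0,2,3,5,4,2,3]))) (.node (.node (.word [0,4,0,2,0,2,4,2,0,2,5,3]) (.word [2,4,1,3,0,5,1,4])) (.node (.word [0,3,4,2,5,0,2,3]) (.word [5,2,0,1,5])))) (.node (.node (.node (.word [1,5,1,2,0,1,4,2]) (.word [3,4,5,1,5,0,5,0,2,3,1])) (.node (.word [0,5,0,4,2,5,4,5,4,1]) (.word [1,2,0,4,2,0,4,5,0,5,3,0]))) (.node (.word [0,2,1,4,3,5,2,1,2,0]) (.node WTree.none (.word [2,4,5,0,3,5,4,2,4]))))) (.node (.node (.node (.node (.node WTree.none (.word [3,4,5,1,0,5,0,3,4,5])) (.word [2,4,2,1,2,3,0,2,5,1])) (.node WTree.none (.word [5,0,3,2,3,5])))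 (.node (.node (.word [3,0,3,2,5,0,1,3,0,5,0]) (.word [5,4,2,3,5,4,3,2])) (.node (.word [3,5,1,4,5,4,2,4,3]) (.word [5,3,1,2,3,2,0,4,2])))) (.node (.node WTree.none (.node WTree.none (.word [2,4,0,5,1,4]))) (.node (.node WTree.none (.word [2,4,5,1,3,5,0,1,5,1])) WTree.none)))) (.node (.node (.node (.node (.node (.node (.word [3,0,2,4,5,3,5,2,0,2,3,2]) (.word [0,3,4,3,1,5,3,2,3,5,0])) WTree.none) WTree.none) (.node (.node WTree.none (.word [2,4,3,5,0,5,4,1,2])) (.node WTree.none (.word [5,4,2,4,5,3,2,5,0,5])))) (.node (.node (.node WTree.none (.word [5,3,1,4,2,3,0,4,3,2,3])) (.node WTree.none (.word [1,5,3,1,3,0,2,5]))) (.word [4,1,5,0,4,2]))) (.node (.node (.node (.node WTree.none (.word [0,4,2,5,4,3,2,3,5,0,1])) WTree.none) (.node (.node (.word [0,5,1,0,2,4,1,4,5,4,5]) (.word [1,3,0,3,5,0,2,1,4,2,1])) (.word [3,2,5,1,3,1,4,0,2,5]))) (.node (.node (.node (.node (.word [3,0,2,1,2,0,1,3,2]) (.word [0,3,1,3,5,0,2,3]))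 (.word [2,4,5,0,3,5,0,2,5,1])) (.word [1,2,0,4,2,0,3,0,5,0,4,0])) (.node (.node (.word [2,4,5,0,3,5,4,1,2]) (.word [5,3,5,1,3,5,2,3,5])) (.node WTree.none (.word [5,3,4,0,2,0,4,3,2,5]))))))) (.node (.node (.node (.node (.node (.node (.node (.word [1,5,0,5,2,4,2,3,5]) (.word [0,4,1,4,0,2,5,4,0,5])) (.word [2,4,5,0,5,1,3,4,2,4])) (.node (.word [1,2,3,2,4,5,2,4,5]) (.word [5,3,2,3,0,1,2,5,4]))) (.node (.word [5,4,5,4,0,2,0,5,2,1,3,5]) (.word [1,2,4,5,0,2,4,3,2,3]))) (.node (.node (.node (.node WTree.none (.word [3,2,3,5,2,4,5,0,1,5,0])) (.word [5,4,5,2,4,0,1,5,0])) WTree.none) (.node (.word [2,1,2,4,5,0,5]) (.node (.word [1,5,2,0,3,0,5,1]) (.word [2,5,4,5,1,4,2,0,2,5,1]))))) (.node (.node (.node (.node (.word [5,3,0,5,2,4,0,3,5,4]) (.word [0,4,2,5,4,1,5,3,1,4,3,0])) (.node (.word [0,3,5,1,4,3,0,3,4,5,3,0]) (.word [0,3,2,1,4,2,1,4,5,4,2,4,2,0]))) (.node (.node WTree.none (.word [2,4,5,3,0,2,4,2,3,5])) (.node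 (.word [0,2,4,3,5,2,4,3,0]) (.word [0,2,0,3,0,2,0,2,1,2])))) (.node (.node (.node (.node (.word [5,3,0,3,0,2,3,5]) (.word [3,2,3,5,2,5,0,1,5,0])) WTree.none) (.word [1,0,4,0,1,4,0,4,5,0])) (.node WTree.none (.word [0,2,1,4,3,0,1,2,4,1,3]))))) (.node (.node (.node (.node (.node (.node (.word [3,1,3]) (.word [5,3,0,4,2,5,3,0,3,5])) WTree.none) (.node WTree.none (.word [1,4,5,0,3,0,5,1]))) (.node (.word [5,4,2,3,5,3,2]) (.node WTree.none (.word [2,4,5,0,5,0,2,5,1])))) (.node (.node (.node (.node WTree.none (.word [1,2,3,4,0,5,4,2,4,0])) WTree.none) (.node (.word [3,2,4,2,5,2,3,4,0,5]) (.word [1,2,3,0,5,4,2,4,0]))) (.word [2,4,5,0,3,0,5,0,5,1]))) (.node (.node (.node (.node (.node WTree.none (.word [1,5,0,4,2,5,0,5])) (.word [5,3,4,2,0,2,3,2,5,3])) WTree.none) (.node (.node WTree.none (.word [2,5,4,5,3,0,4,3,1,2,3,4])) (.word [5,0,4,1,4,2,5]))) (.node (.node (.node (.word [2,4,5,0,2,1,4,3,5,4]) (.word [1,5,0,1,3,0,2,5,1]))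 (.node (.word [2,4,3,0,5,1,3,1,3]) (.word [3,2,3,4,2,0,5,4,2,4,1]))) (.node (.node (.word [1,0,5,0,1,5,0,1,4]) (.word [3,5,1,4,1,5,3])) (.node (.word [5,4,2,1,3,1,5,3,2]) (.word [0,3,1,0,2,0,5,4,2,0])))))))) (.node (.node (.node (.node (.node (.word [5,3,5,1,5,3,0,5,4]) (.node WTree.none (.node WTree.none (.word [2,4,5,0,3,5,0,1,5,1])))) (.node (.node (.node (.node WTree.none (.word [1,5,0,5,3,1,5,4,2])) WTree.none) (.word [1,5,1,2,0,3,4,2])) (.node (.node WTree.none (.word [5,1,3,2,3,5,4])) (.node WTree.none (.word [1,0,4,5,3,1,0,4,0,4,3,5,1]))))) (.node (.node (.node (.node (.word [0,2,1,4,3,0,2,3,1,4,3]) (.word [2,3,1,3,4,0,5,1])) (.node WTree.none (.word [2,0,5,2,4,0,2,0,3,0,4]))) (.node (.node (.word [4,5,2,0,2,5,4]) (.word [2,4,2,0,5,1,4,3,0,1,3])) (.node WTree.none (.word [5,1,3,2,3,0,5])))) (.node (.node (.node (.word [3,4,0,4,1,2,4,5,0,3,4]) (.word [3,2,5,0,1,5,0,5,4,3,1])) (.word [3,2,1,4,1,3,2,0,4,2,1]))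 (.node (.node WTree.none (.word [1,4,5,0,3,0,1,5,4,1])) (.node (.word [2,0,3,2,1,4,2,4,2,0,1]) (.word [5,2,4,3,5,1,2,3])))))) (.node (.node (.node (.node (.node (.node WTree.none (.word [3,2,1,0,5,0,2,1,4,1,3])) (.word [0,4,3,1,5,1,2,0,4,1,2,3])) (.node WTree.none (.word [5,3,1,4,5,2,4,2]))) (.node (.node WTree.none (.word [1,3,4,1,2,4,1,3])) (.word [3,4,0,2,0,4,0,2,0,4,3]))) (.node (.node (.node (.node WTree.none (.word [2,5,4,0,5,1,3,0,2,5,3])) WTree.none) (.node WTree.none (.word [3,2,5,1,3,1,4,5,4]))) (.node (.node (.word [1,5,0,5,2,3,2,5,3]) (.word [5,3,1,3,5,4,1,5,0,5])) WTree.none))) (.node (.node (.node (.node WTree.none (.word [5,3,1,4,5,2,0,5,1])) (.node (.word [1,0,3,4,2,0,4,3,1]) (.word [5,3,1,2,3,2,0,1,4,2]))) (.node (.node WTree.none (.word [2,4,0,5,1,3,1,3])) (.node (.word [1,3,5,3,5,3,1,4]) (.word [0,3,2,4,3,5,2,0,3,5,2])))) (.node (.node (.node (.node WTree.none (.word [5,3,4,2,5,0,5,4,1,4]))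 WTree.none) (.node (.word [1,5,4,5,4,3,0,5,0]) (.word [1,2,4,1,4,2,5,0,4,2]))) (.node (.node WTree.none (.word [2,4,0,5,1,2,1,2,4])) (.node WTree.none (.word [3,1,3,5,2,5]))))))) (.node (.node (.node (.node (.node (.node (.node WTree.none (.word [5,3,4,2,3,0,5,4,2,4])) WTree.none) (.node (.word [2,4,1,3,4,2]) (.word [2,4,5,0,1,5,4,1,2]))) (.node (.node (.word [2,4,5,0,2,4,2,3,1,5]) (.word [2,4,1,3,4,2,4])) (.node WTree.none (.word [5,3,0,2,1,3,5,0,3,4,0])))) (.node (.node (.word [3,5,4,5,3]) (.node (.word [2,4,0,4,5,2,0,5,0]) (.word [0,4,2,4,2,4,3,0,2,1]))) (.node (.node WTree.none (.word [2,5,4,2,0,2,0,5,3,0,3])) (.node (.word [3,2,1,0,5,0,2,1,3,4,3]) (.word [5,2,0,1,2,1,5]))))) (.node (.node (.node (.word [2,3,5,1,4,2,4,0,4,2]) (.word [2,4,0,2,0,4,1,2])) (.node (.node (.word [3,5,4,1,5,1,3]) (.word [1,3,1,3,5,2,0,4,2])) (.node WTree.none (.word [2,4,0,2,0,3,1,4,2])))) (.node (.node (.word [0,4,5,1,5,4,5,0,1])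 (.node (.word [5,4,1,4,0,2,3,2,3,5]) (.word [2,3,5,4,2,1,4,0,5]))) (.node (.word [5,2,0,1,3,2,3,5]) (.node (.word [3,5,0,3,1,0,2,0,5,0,4,5]) (.word [2,4,5,3,5,0,2,1,5,1])))))) (.node (.node (.node (.node (.node (.node WTree.none (.word [0,5,0,2,5,4,5,1,4])) (.word [3,2,1,4,0,2,1,5,1,3,4,0])) (.word [0,4,2,0,5,1,4,5,3,4,3,0])) (.node (.node (.word [1,3,5,2,3,5,2,0,2,5,1]) (.word [2,1,2,4,5,0,2,5])) (.node WTree.none (.word [2,4,5,0,1,5,4,2])))) (.node (.node (.node WTree.none (.word [2,0,3,1,0,3,0,5,2,0,5,2])) (.word [2,4,5,2,4,2,3,0,5,4])) (.node WTree.none (.node (.word [0,5,4,5,3,1,5,3,0,3,4,0]) (.word [3,2,5,0,5,3,4,2,1,5,0,4]))))) (.node (.node (.node WTree.none (.word [2,3,4,5,4,2,4,0,5])) WTree.none) (.node (.node (.node WTree.none (.word [1,2,4,3,0,4,2,1])) (.word [2,3,2,5,1,2,5,3,2])) (.node (.word [2,1,5,2,1,5,2]) (.node WTree.none (.word [0,2,0,3,1,4,0,3,0,1])))))))))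

/-- A subtree. -/
def wt57 : WTree :=
  (.node (.node (.node (.node (.node (.node (.node (.node (.node WTree.none (.word [3,4,2,4,3])) WTree.none) (.node (.word [4]) (.word [2,4,5,3,5,3,0,5,1,4]))) (.node (.node WTree.none (.word [3,0,2,5,2,5,3,0,4,5])) (.word [5,3,5,2,1,3,4,0,5,0,4]))) (.node (.node (.node WTree.none (.word [2,4,2,1,2,0,3,1,3,5])) (.node (.word [1,2,4,0,2,4,5,4,5,2]) (.word [2,0,4,2,4,1,3,5,2,4,0]))) (.node (.node (.word [1,5,0,5,3,5,4,1,2]) (.word [0,3,0,2,0,5,0,2,0,3,0])) (.node (.word [5,0,1,2,0,2,5,4]) (.word [3,2,5,3,4,2,0,1,4,2]))))) (.node (.node (.node (.node (.node (.word [5,4,5,4,2,5,3,2,0,4,2]) (.word [3,4,0,3,2,0,2,3,0])) WTree.none) (.node WTree.none (.word [5,3,1,5,3,5,3,5,1]))) (.node (.node (.word [0,5,4,2,4,2,5,2,3,4,0,2]) (.word [2,5,3,2,3,5,1,2])) (.node (.word [0,3,0,5,2,0,1,2,5,4,0,3,0]) (.word [3,4,1,2,0,5,0,2,3,1])))) (.node (.node (.node (.node WTree.none (.word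 [3,4,0,2,1,2,1,5,0])) (.word [2,4,5,0,2,1,3,2,5,3])) (.node WTree.none (.word [2,4,2,1,2,0,1,5,1]))) (.node (.node WTree.none (.word [5,3,4,2,0,5,1,4,2])) (.node (.word [0,3,2,4,2,3,4,0,3,1,5,2]) (.word [0,5,3,0,5,3,5,4,0,2,0])))))) (.node (.node (.node (.node WTree.none (.word [1,2,4,0,2,1,5,4,3,5])) (.node (.node (.word [3,0,4,5,0,1,2,4,2,0,2,3]) (.word [5,0,4,2,4,5,3,2])) (.word [2,4,5,0,2,4,3,0,5,4]))) (.node (.node WTree.none (.word [3,4,2,3,2,4,1,3])) (.node (.node WTree.none (.word [5,3,1,5,3,5,3,0,4,2])) (.node WTree.none (.word [5,4,3,0,5,0,5,4,3,1]))))) (.node (.node (.node (.node (.word [3,0,3,1,5,0,2,3,4,2]) (.word [3,0,3,5,3,2,0,4,3,1,5,4,0])) (.node (.word [0,5,0,2,5,3,5,2,3,4]) (.word [1,5,0,5,1,2,4,3,5]))) (.node (.node (.word [3,4,0,2,4,1,3,0,5,0,5,0]) (.word [5,3,4,2,5,3,0,1,5,1])) (.node (.word [5,2,0,4,1,4,2,5]) (.word [1,5,0,3,0,1,5,1])))) (.node (.node (.node (.node (.word [1,0,3,0,4,0,1,2,0])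 (.word [2,0,4,3,1,3,0,4,5,4])) (.word [1,3,0,2,4,3,2,0,3,1])) (.node (.word [2,4,5,1,5,3,0,2,5,1]) (.word [5,3,5,4,2,4,5,3,0,5,4]))) (.node (.node (.word [2,4,5,2,4,2,3,5]) (.word [5,3,4,2,3,0,5,4,1,2])) (.node (.word [3,0,4,1,3,0,5,1,5,4,0]) (.word [0,5,0,5,1,5,4,0,1,5,0,4]))))))) (.node (.node (.node (.node (.node (.node (.node (.word [5,3,4,2,3,5,1,4,2]) (.word [0,3,0,2,0,3,0,5,3,5,1,4])) (.word [2,5,4,1,4,5,1,2])) (.word [1,4,1,4])) (.node (.node (.word [2,4,2,0,5,2,5,0,2,4,2]) (.word [3,2,4,1,5,2,5,3])) (.word [1,2,4,5,3,5,0,4,2,1]))) (.node (.node (.node (.node WTree.none (.word [2,4,5,1,3,5,0,5,1])) (.word [3,5,0,2,5,2,4,0,5,3,4])) (.node (.word [2,4,5,0,5,0,2,1,5,1]) (.word [2,4,5,3,0,2,4,3,1,5]))) (.node (.node WTree.none (.word [0,5,0,3,2,5,3,0,5])) (.word [3,2,4,3,2,3,0,1,5,1])))) (.node (.node (.node (.node (.word [2,0,4,5,1,5,0,4,5]) (.word [1,5,2,0,3,0,1,5,1])) (.node (.word [5,3,1,2,3,5,1])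 (.word [0,5,4,1,4,0,1]))) (.node (.word [0,2,1,4,2,4,3,2,0,2]) (.node WTree.none (.word [5,0,5,2,4,1,4,2])))) (.node (.node (.word [0,2,4,3,0,2,4,2,4,3]) (.node (.word [2,4,0,2,0,3,0,5,1]) (.word [0,5,1,0,3,4,5,4,5]))) (.node WTree.none (.word [5,3,4,2,1,3,5,0,5,1]))))) (.node (.node (.node (.node (.node (.node (.word [2,3,5,1,4,1,2,4,5]) (.word [5,3,5,2,5,4,5,4,2,0,5,0])) WTree.none) WTree.none) (.node WTree.none (.node (.word [3,5,3,5,4,2,4,3]) (.word [2,5,3,4,2,3,5,2])))) (.node (.node (.node (.node (.word [5,1,2,0,2,5]) (.word [0,3,0,5,2,0,3,0,3,0,4,5,2])) WTree.none) (.node (.word [2,1,2,4,2,1,2]) (.word [0,2,1,4,3,0,3,2,1,4,3]))) (.node (.node WTree.none (.word [5,4,0,4,5,1,5,0,2])) (.node (.word [3,5,0,3,2,3,2,0,3,5,3]) (.word [1,3,0,3,0,5,0,4,2,0,3,5,1]))))) (.node (.node (.node (.word [5,3,1,3,5,4,1]) (.node (.word [5,4,5,1,2,4,0,5,0]) (.word [1,4,5,3,1,3,5]))) (.node WTree.none (.node WTree.none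 (.word [2,3,2,0,3,0,3,2,4,3,2])))) (.node (.node (.node (.node (.word [2,4,0,2,1,2,5,1]) (.word [4,1,5,2,1,5,1])) (.word [1,5,4,5,4,1,3,0,5,0])) (.word [3,0,3,5,2,0,2,4,5,2])) (.node WTree.none (.node (.word [2,4,5,0,5,1,4,2,4]) (.word [2,4,2,0,3,4,0,5,0,3,2,0])))))))) (.node (.node (.node (.node (.node (.node (.node (.node (.word [3,2,5,3,2,1,2,4,5]) (.word [0,3,4,1,0,3,0,2,5,0,1])) WTree.none) WTree.none) (.node (.node WTree.none (.word [3,5,4,2,5,4,2,3])) (.word [2,3,5,3,2,1,4,5]))) (.node (.node (.node (.node (.word [1,5,0,1,4,2]) (.word [5,4,0,1,2,5,2,0,2])) (.word [5,4,5,4,5,1,5,3,0,1,5,0])) (.node (.word [3,4,5,3,5,4,1,3]) (.word [0,5,2,3,5,1,3,0,2,3,0]))) (.node (.node WTree.none (.word [2,0,2,3,5,0,2,0,3,4,0])) (.word [3,5,2,1,2,5,3,4])))) (.node (.node (.node (.node (.node (.word [1,2,4,0,3,4,2,1,4]) (.word [2,4,5,0,3,5,0,5,4,1])) (.word [0,5,2,1,2,3,4,1,2,0])) (.node (.word [5,3,4,0,1,2,0,2,5,4,2])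 (.word [5,3,4,2,1,5,0,5,1,4]))) (.node (.node WTree.none (.word [5,4,5,4,1,3,0,1,5,0,4])) (.node WTree.none (.word [5,3,5,1,5,3,0,2,5,4])))) (.node (.node (.node (.node (.word [2,5,3,5,2,5,3,5,1,2]) (.word [2,4,5,0,2,4,3,5,4])) (.word [3,4,5,1,0,5,0,5,1,2,3])) (.node WTree.none (.word [0,5,2,1,4,3,0,1]))) (.node (.node WTree.none (.word [1,2,4,0,3,4,2,1])) (.node (.word [3,2,4,0,2,5,0,3,1,4,0]) (.word [0,5,0,2,1,3,5,4,5])))))) (.node (.node (.node (.node (.node (.node WTree.none (.word [5,3,4,5,3,4,1,2,3])) (.word [2,0,2,5,2,0,4,5])) (.word [3,2,4,1,3,2,4,2])) (.node (.node (.word [5,3,0,3,0,5,3,5,3,5]) (.word [1,5,2,0,1,3,4,2])) (.node (.word [0,5,0,3,1,2,5,3,5]) (.word [5,2,0,1,4,1,4,5])))) (.node (.node (.node WTree.none (.word [0,4,0,5,2,3,4,5,3,0,3])) (.node WTree.none (.word [1,0,2,4,1,3,0,5,4,1,3]))) (.node (.word [3,5,1,5,3,4,5,0,5]) (.node (.word [3,5,3,1,5,3,2,1,2]) (.word [3,0,5,4,2,1,4,0,4,3])))))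 (.node (.node (.node (.node (.node (.word [5,3,4,3,2,4,3,5,3]) (.word [5,4,5,1,3,2,4,0,5,0])) (.word [5,4,5,3,1,5,4,0,4,2])) (.word [2,4,0,3,1,3,0,2,5])) (.node (.node (.word [0,4,5,4,3,1,4,1,5,1,4,0]) (.word [2,0,4,5,3,2,0,5,2,0])) WTree.none)) (.node (.node (.node (.node WTree.none (.word [1,2,4,2,1,2,0,3,4,2,1])) WTree.none) (.word [2,4,5,0,3,1,5,4,2])) (.node (.node (.word [2,3,5,3,2,4,5]) (.word [0,4,5,1,2,5,4,0,4])) (.word [3,0,3,2,5,0,3,0,5,0])))))) (.node (.node (.node (.node (.node (.node WTree.none (.word [5,3,4,1,3,2,1,5,3])) (.node WTree.none (.word [5,0,1,2,0,2,5]))) (.node (.node WTree.none (.word [4,2,1,2])) (.node (.word [2,0,2,1,5,2,4,0,2]) (.word [1,5,0,4,1,2])))) (.node (.word [3,5,1,4,5,3]) (.node (.node WTree.none (.word [1,0,5,3,1,3,0,2,3,1,4])) (.node (.word [2,4,0,2,0,1,4,2,4]) (.word [2,5,2,5,4,3,0,5,1]))))) (.node (.node (.node (.node WTree.none (.word [5,3,0,2,4,2,3,0,3,2,4,5]))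 (.word [3,0,2,1,4,3,2,0,3,2])) (.node (.node (.word [5,1,2,1,5]) (.word [3,0,4,1,3,0,4,5,0,4,1])) WTree.none)) (.node (.node (.node (.word [5,4,3,1,5,2,3,5,0,5]) (.word [4,5,0,5,4])) (.node (.word [5,3,4,1,2,0,5,1,4,2]) (.word [2,4,5,3,5,4,1,2]))) (.node (.word [4,5,0,3,2,3,5]) (.word [1,5,0,4,2,3,1,3]))))) (.node (.node (.node (.node (.node (.word [3,2,1,0,2,1,4,3,0,2,3]) (.word [1,2,3,0,4,3,4,2,5,3,4,0])) (.node (.word [2,0,3,5,0,2,0,3,5,0]) (.word [3,2,4,5,3,4,2,3,0,5]))) (.node WTree.none (.node WTree.none (.word [0,5,3,4,2,5,0])))) (.node (.node (.node (.node WTree.none (.word [5,3,4,0,2,0,1,2,5,4,2])) (.word [5,3,0,4,2,5,0,2,3,2,5])) WTree.none) (.node (.node (.word [5,3,2,5,3,5,3,5]) (.word [1,3,5,2,4,3,5,2,0,5,0])) (.node (.word [5,1,2,0,4,1,4,5]) (.word [5,4,2,1,2,4,0,3,0,5,1]))))) (.node (.node (.node (.node (.word [5,4,1,4,5,2,1,2]) (.word [0,3,0,4,0,3,0,1,4,1])) (.node (.word [3,5,2,0,2,5,1,3,4,0,1])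 (.word [1,3,5,2,3,5,1,2,0,5,1]))) (.node (.node (.word [2,3,5,3,2,1,4,1,5]) (.word [3,2,5,1,3,1,4,1,5])) (.node (.word [1,5,0,5,0,5,1,4,2]) (.word [5,4,5,2,4,2,5,4,0,5])))) (.node (.node (.node (.node (.word [3,4,2,1,3,1,4,3]) (.word [2,4,3,0,1,5,1])) WTree.none) (.word [3,5,0,4,5,3,1,3,5,0,2,4])) (.node (.node (.word [0,4,0,3,0,1,4,5,3,0,1]) (.word [2,4,1,4,2,5,0,5])) (.node WTree.none (.word [2,0,3,2,1,5,3,1,2,5,0,3])))))))))

/-- A subtree. -/
def wt58 : WTree :=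
  (.node (.node (.node (.node (.node (.node (.node (.node (.word [1,2,4,0,4,1,2,1,4]) (.word [5,4,5,4,5,0,1,3,4,3,0,3,1])) (.word [3,2,1,5,1,3,4,5,1])) (.node (.node WTree.none (.word [0,5,0,3,4,2,0,5,0,4])) (.node (.word [0,2,4,2,3,5,3,2,5,0]) (.word [5,0,2,5,4,2,1,2])))) (.node (.node (.word [2,4,3,4,2]) (.node WTree.none (.word [3,2,5,3,1,4,5,1]))) (.node (.node WTree.none (.word [5,4,5,1,5,4,2,0,4,2])) (.node (.word [5,3,1,3,0,1,3,4,2]) (.word [2,4,5,0,2,4,2,3,5,4]))))) (.node (.node (.node (.node (.node (.word [1,2,4,2,0,5,3,0,3,1,4]) (.word [1,3,0,2,3,0,3,2,0,3,1])) WTree.none) (.word [3,2,5,1,3,4,5])) (.node WTree.none (.node (.word [2,3,5,4,1,2,4,5,1]) (.word [2,5,3,0,4,1,2,3,4,2,3,0])))) (.node (.node (.node WTree.none (.word [1,2,5,4,0,2,0,2,4,5,2,1])) (.node WTree.none (.word [2,0,2,3,2,0,3,2,0,2,0,2]))) (.node (.node (.word [2,1,2,3,4,2,4,3]) (.word [2,5,3,0,2,5,3,4,2,3,0])) (.node (.word [3,2,0,3,4,0,3,0,2,0])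 (.word [3,5,0,4,3,2,1,3,1,2,0,4,5])))))) (.node (.node (.node (.node (.node (.node WTree.none (.word [0,5,1,5,3,1,3,0,4,3,1])) (.word [2,5,4,1,4,5,2])) (.node (.word [3,5,1,3,4,5,1,3,4]) (.word [2,0,2,3,2,4,5,3,2,0,5,3]))) (.node (.node (.word [3,4,1,0,5,0,2,3,1]) (.word [3,4,5,0,3,1,4,2,0,1])) (.node WTree.none (.word [2,4,2,0,3,4,5,2,5,4,0,2])))) (.node (.node (.node (.word [5,3,5,3,5,3,0,5]) (.word [5,3,4,5,2,0,4,2,1])) WTree.none) (.node (.node (.word [0,3,5,3,1,5,3,5,0]) (.word [2,4,2,4,3,2,0,5,4,2,1])) (.word [3,0,3,2,3,0,3,1,2])))) (.node (.node (.node (.node (.node (.word [2,4,2,1,2,0,5,4,1,4]) (.word [1,5,2,0,3,4,1,2])) (.word [1,3,5,0,4,0,5,3,4,1])) (.word [1,5,0,3,0,1,5,1,4])) (.node (.word [3,5,0,2,3,5,2,5,0,1,3]) (.node WTree.none (.word [3,2,5,3,5,1,5,4,5])))) (.node (.node (.word [1,5,2,5,4,5,0,4,2]) (.node (.word [2,4,5,3,0,2,4,3,5,4]) (.word [2,4,1,4,2,4]))) (.node (.word [4,5,2,5,4]) (.node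 (.word [1,2,5,3,0,4,0,3,5,2,1]) (.word [3,2,4,3,2,3,0,5,4,1]))))))) (.node (.node (.node (.node (.node (.node (.node (.word [1,5,0,1,5,3,5,4,2]) (.word [5,4,5,3,2,4,0,1,5,0])) WTree.none) (.node WTree.none (.word [5,3,1,3,2,0,4,1,2]))) (.node (.node (.word [0,2,3,0,2,0,3,2,0,4]) (.word [0,4,5,1,2,5,4,0])) WTree.none)) (.node (.node (.node (.node (.word [0,5,3,4,2,0,4,0,5,0]) (.word [2,4,5,3,5,1,4,2])) WTree.none) WTree.none) (.node (.node (.word [5,0,3,1,3,5,4,1]) (.word [4,3,5,1,5,3,4])) WTree.none))) (.node (.node (.node (.node WTree.none (.word [2,0,2,0,2,4,2,0,2,0,2])) (.node (.word [5,3,4,0,4,0,3,5,4,0,4,3]) (.word [0,2,5,3,0,4,0,2,3,5,2,5,0]))) (.node (.node (.word [5,4,2,1,2,5,2,0,5,0]) (.word [2,0,2,1,4,1,5,3,4,0,2,4,2])) (.node WTree.none (.word [5,4,2,1,3,4,2,4,0,4,2])))) (.node (.node (.node (.node (.word [3,0,5,4,5,4,3,5,1,2,3,0]) (.word [2,0,3,2,1,4,5,1,2,3,5,0])) WTree.none) (.node (.word [0,5,0,5,1,2,5,3,2,3])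 (.word [1,2,1,2,5,2,5,4,1]))) (.node (.node WTree.none (.word [2,4,5,3,0,5,4,1,2])) WTree.none)))) (.node (.node (.node (.node (.node (.node WTree.none (.word [3,4,1,2,4,3,5,0,4,2])) (.word [0,5,0,5,2,5,3,1,2,3])) WTree.none) (.node (.word [2,4,0,2,1,5,1]) (.node (.word [1,2,4,3,2,5,4,3,0,5]) (.word [1,5,1,2,0,3,0,5,1])))) (.node (.node (.node (.node (.word [5,1,2,3,2,3,5]) (.word [2,5,3,0,2,3,4,5,2,3,0])) WTree.none) (.node (.word [1,4,1,5,0,2,5]) (.word [3,5,0,4,0,1,4,5,3,5,2,1]))) (.node (.word [1,3,5,0,4,0,1,5,3,1]) (.node (.word [2,4,0,2,5,1,4]) (.word [2,5,3,5,3,4,1,5,3,0,4,2]))))) (.node (.node (.node (.word [3,2,4,0,3,4,5,0,2,4,2]) (.word [0,2,1,2,5,0,1,3,4,3])) (.node (.node (.word [5,3,1,4,2,0,4,1,3,2,3]) (.word [1,5,2,4,1,4,0,4,2])) WTree.none)) (.node (.node WTree.none (.node (.word [5,4,3,5,1,2,3]) (.word [5,3,1,4,2,0,4,3,2,3]))) (.node (.word [3,4,1,2,0,5,2,1,2,0]) (.node WTree.none (.word [2,4,0,5,4,1]))))))))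 (.node (.node (.node (.node (.node (.node (.node WTree.none (.word [3,5,2,3,2,5,4,2,4])) WTree.none) (.node (.node (.word [1,5,4,0,5,3,5,0,3,5,2,3]) (.word [2,4,5,4,1,4,0,3,5,4,2])) (.node (.word [5,3,5,2,1,2,5,3,0,5,4]) (.word [2,4,1,4,2,5,0,1,5])))) (.node (.node (.node (.node WTree.none (.word [2,3,0,5,2,4,3,0,2])) WTree.none) (.node (.word [3,5,0,5,3,5,0,1,3,5,3]) (.word [0,5,0,2,4,1,3,0,5,0]))) (.node (.word [1,2,0,2,5,3,4,1,2,3,0]) (.word [2,4,3,0,1,3,1,3,5])))) (.node (.node (.node (.node (.node (.word [3,4,5,1,4,1,2,3,4,5]) (.word [2,4,1,5,3,5,4,2])) (.word [5,2,0,2,4,1,4,5])) (.node (.word [5,3,4,3,2,1,5,3,4]) (.word [0,2,3,2,0,1,2,4,0,1]))) (.node (.node (.word [2,4,5,0,2,3,2,4,5,3]) (.word [3,2,0,5,3,1,3,0])) (.node WTree.none (.word [2,5,3,5,3,1,4,5,3,0,4,2])))) (.node (.node (.node (.node (.word [0,3,4,0,4,0,1,2,5,0,1]) (.word [2,0,2,0,4,3,0,2,3,4,2,0,2])) (.word [2,4,2,1,2,0,5,1])) WTree.none)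 (.node WTree.none (.node (.word [1,0,2,4,1,3,0,5,4,3]) (.word [5,2,0,3,2,3,5])))))) (.node (.node (.node (.node (.node (.node (.word [2,5,3,2,4,3,5,1,2]) (.word [3,0,2,1,4,3,1,2,0,3,4])) (.word [5,3,4,0,2,0,3,2,1,5,3])) (.word [1,2,4,1,4,2,4,1])) (.node (.word [2,0,3,4,3,2,5,3,1,3,0,3]) (.word [0,3,4,3,5,3,2,1,3,0,1]))) (.node (.node (.word [3,4,5,2,5,4,1,3]) (.node (.word [2,3,2,0,2,4,2,0,2,3,2]) (.word [2,1,4,2,3,4,2,3]))) (.node WTree.none (.word [5,3,1,3,2,0,1,4,2,4])))) (.node (.node (.node (.node (.word [0,3,1,3,5,0,2,1,3,4]) (.word [5,4,5,3,2,0,1,5,0])) (.word [3,0,3,0,2,0,4,3,0,3])) (.node (.word [3,5,0,3,2,3,2,0,4,3,5,3]) (.node WTree.none (.word [0,5,0,2,5,4,1,2,5,1])))) (.node (.node (.node (.word [5,4,1,4,1,5]) (.word [0,3,1,0,3,4,0,4,2,0,3,5])) (.node (.word [1,2,3,0,5,4,2,4,0,4]) (.word [3,2,0,3,4,2,0]))) (.node WTree.none (.node (.word [1,0,4,0,4,1,4,0,4,5,0]) (.word [5,2,4,1,4,5]))))))) (.node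 (.node (.node (.node (.node (.word [0,5,1,2,3,0,2,0,3,2,0,3]) (.node WTree.none (.word [0,5,4,5,3,0,4,0,3,0,4,2]))) (.node (.node (.word [2,4,2,5,1,4,3,0,4,2]) (.word [2,5,3,2,1,3,5,2])) (.node WTree.none (.word [3,2,1,2,3,1])))) (.node (.node (.node (.node (.word [5,4,3,5,1,2,1,3]) (.word [0,5,0,5,1,4,1,5,0,5,0])) (.word [1,5,0,5,3,0,5,4,2])) (.node (.word [1,5,1,2,4,1,4,5,1]) (.word [2,4,5,3,0,2,4,3,5]))) (.node WTree.none (.node (.word [0,3,1,4,5,2,4,3,5,0,3,5]) (.word [3,4,0,5,0,1,3,1,4,2,5,0]))))) (.node (.node (.node (.node (.node (.word [1,4,5,0,1,4,2,4]) (.word [5,3,5,2,3,4,0,5,0])) (.word [1,0,5,3,5,2,0,5,0,4,1,2,0,2])) (.node (.word [3,0,3,2,3,0,3,1,2,4]) (.word [1,0,3,1,3,0,2,4,3,0]))) (.node (.node (.word [5,1,4,3,5,1,2,3]) (.word [0,5,4,3,5,2,3,5,0,5,2,1])) (.node (.word [1,5,2,1,4,3,5,2,3]) (.word [2,4,3,0,1,5,4,1])))) (.node (.node (.node (.node (.word [3,0,3,0,4,0,3,0,3]) (.word [0,4,1,3,5,3,2,0,2,0,4,0]))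 (.word [1,2,5,4,0,2,0,3,5,0,5,0])) (.word [1,0,4,3,2,5,1,3,0,3,2,3])) (.node WTree.none (.node (.word [0,5,0,4,0,5,0,4]) (.word [0,3,1,3,5,0,1,2,3,1])))))) (.node (.node (.node (.node (.node (.node (.word [2,4,3,0,2,0,3,4,2]) (.word [0,4,3,1,2,3,5,0,2,4,5])) WTree.none) (.node (.word [5,3,0,5,2,4,0,3,1,5]) (.word [2,4,5,3,5,0,1,5,4,1]))) (.node (.node WTree.none (.word [5,0,5,3,1,3])) (.node (.word [5,4,1,4,0,2,5]) (.word [5,3,1,4,2,0,1,4,3,2,3])))) (.node (.node (.node (.node (.word [2,0,3,5,3,5,0,5,4,5,4]) (.word [2,4,5,0,2,1,4,3,1,5])) (.word [0,5,3,5,3,1,5,3,0])) (.node WTree.none (.word [3,2,4,1,3,2,0,2,5,1]))) (.node (.node (.word [3,4,3,2,1,4,3,1]) (.word [2,4,2,5,2,5,0,4,2,1])) (.word [5,0,5,3,5,3,5,3])))) (.node (.node (.node (.node (.node (.word [2,4,5,2,3,5,4,2,3]) (.word [2,4,5,3,5,0,1,2,5,1])) WTree.none) (.node (.word [0,5,0,5,2,4,2,4,5,2,1]) (.word [0,5,0,2,1,5,4,1,5]))) (.node (.node WTree.none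 (.word [1,5,1,2,0,3,4,1,2])) (.node WTree.none (.word [0,5,1,0,2,5,1,4,0,5])))) (.node (.node (.node (.word [4,5,0,2,5]) (.word [0,4,0,3,0,4,5,3,0,4,1])) (.node (.word [0,5,0,5,2,5,3,2,3,1]) (.word [0,3,5,1,5,3,5,0,4]))) (.node WTree.none (.node WTree.none (.word [2,4,0,1,2,1,2,5,1])))))))))

/-- A subtree. -/
def wt59 : WTree :=
  (.node (.node (.node (.node (.node (.node (.node WTree.none (.node (.word [1,5,1,2,1,5,4,1]) (.word [5,3,4,3,2,3,1,5,3]))) (.node (.word [1,4,5,0,3,4,2,4]) (.word [5,3,5,1,3,5,3,1,5]))) (.node (.node (.node WTree.none (.word [0,2,4,1,3,0,5,0,1])) (.node (.word [0,4,3,0,2,4,5,1,4,2,0]) (.word [2,4,0,5,4,1,5,0,5]))) (.node WTree.none (.word [3,5,2,3,2,5,4,2])))) (.node (.node (.node (.node (.node WTree.none (.word [5,3,5,1,2,4,2,0,5,0])) (.word [1,0,4,1,4,5,0,2,1,2])) (.word [2,4,5,0,3,0,5,1,4,2])) (.node (.node (.word [0,5,4,2,4,1,2,5,3,2,0,2,1]) (.word [2,3,1,5,3,2,1,4,5])) WTree.none))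 (.node (.node (.node (.node (.word [5,2,0,2,5,1,4,1]) (.word [2,3,1,4,3,1,2])) (.word [0,2,4,5,0,3,2,0,1,3,0,4])) (.word [5,4,2,4,3,2,1,4,0,5])) (.node WTree.none (.word [0,5,0,3,2,1,5,3,0,5]))))) (.node (.node (.node (.node WTree.none (.node WTree.none (.word [0,2,5,4,2,3,2,0,3,0,5]))) (.node (.node (.word [2,5,2,1,5,4,0,5,1]) (.word [5,4,1,5,2,0,1,5,0])) (.word [3,4,1,2,4,3,1]))) (.node (.node (.node (.node (.word [3,0,3,1,2,5,0,2,4,2]) (.word [1,5,4,3,5,2,3,4])) (.word [2,3,2,1,3,5,4,5,3,2])) (.node WTree.none (.word [5,3,5,2,4,1,5,4,5]))) (.node WTree.none (.word [0,5,3,5,1,5,3,0])))) (.node (.node (.node (.node (.node WTree.none (.word [1,5,4,1,4,2,0,1,4,2])) (.word [5,4,0,5,1,5,4,0,2,4])) (.node WTree.none (.word [3,0,3,2,3,0,1,3,2,4]))) WTree.none) (.node (.node (.node (.word [3,2,3,5,1,2,4,5,0,5,0]) (.word [3,5,4,5,3,5,0,5])) WTree.none) (.node (.node (.word [2,4,3,0,3,2,1,3,5]) (.word [5,3,2,3,0,5,1,4,1]))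 WTree.none))))) (.node (.node (.node (.node (.node (.node (.node WTree.none (.word [2,0,3,1,4,5,3,5,2,0,2])) (.word [5,0,3,1,3,5,1])) WTree.none) (.node (.word [5,4,3,0,5,0,1,5,2,4,3]) (.word [5,3,4,2,1,5,0,5,4,1]))) (.node (.node (.node WTree.none (.word [5,3,4,0,2,0,3,2,5,3])) (.word [1,5,4,1,4,2,0,4,1,2])) (.node WTree.none (.word [2,4,3,0,4,3,5,2,3])))) (.node (.node (.node (.node (.node WTree.none (.word [1,5,4,5,2,0,5,0,4])) (.word [0,3,0,3,0,1,3,4,0,3,0])) (.node (.word [2,4,5,0,3,2,4,3,5,4]) (.word [2,4,3,0,1,2,0,4,2]))) (.node (.node (.word [5,0,3,2,3,5,4]) (.word [5,3,5,1,2,3,0,5,0])) (.node (.word [1,3,1,4,2,4,3,1]) (.word [0,5,0,3,2,5,3,0,5,4])))) (.node (.node (.node (.node (.word [3,4,0,4,3,2,5,3,4,0,1,2]) (.word [2,0,2,3,5,0,2,0,3,4,0,4])) (.word [0,5,1,5,0,5,4,1,4,0])) (.node (.word [2,4,0,5,4,1,4]) (.word [1,3,5,0,5,3,5,0,4,0,2]))) (.node (.node WTree.none (.word [0,4,3,0,4,0,3,4,0,4])) (.node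 (.word [5,3,5,0,5,1,3,0,4,1,2,3]) (.word [1,0,2,0,2,5,1,2,3,0,5,3,2,0])))))) (.node (.node (.node (.node (.node (.node WTree.none (.word [3,0,2,5,1,3,5,2,5,4,0,4])) WTree.none) (.node (.word [2,1,2,4]) (.word [1,2,4,5,2,4,1,3,0,1,5]))) (.node (.node WTree.none (.word [3,4,5,2,3,5,2,4,3])) (.word [5,0,1,3,2,3,5]))) (.node (.node (.node (.node (.word [3,1,5,3,5,1,3,4]) (.word [3,0,2,5,3,4,2,1,2,0])) (.word [0,5,0,2,3,1,5,4,1,5])) (.node WTree.none (.word [5,1,5]))) (.node (.word [2,4,1,4,5,2,1,5,2]) (.node WTree.none (.word [5,2,5,4]))))) (.node (.node (.node (.node (.node (.word [0,3,4,1,2,5,0,1]) (.word [2,3,1,4,3,2,5,0,5])) (.word [5,4,3,1,5,2,3])) (.word [2,4,5,3,0,5,3,4,2,4])) (.node (.node WTree.none (.word [5,3,0,2,3,2,4,5,2,0])) (.node (.word [1,3,1,3,5,0,3,4,2]) (.word [5,3,4,1,4,0,3,0,3,5])))) (.node (.node (.node (.node WTree.none (.word [2,4,1,2,3,1,4,2,3])) (.word [5,2,3,0,3,0,3,5])) (.word [1,2,4,0,5,3,5,4,2,1]))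 (.node (.word [1,5,2,0,1,4,2,4]) (.word [0,5,0,3,2,3,5,3,5,4]))))))) (.node (.node (.node (.node (.node (.node (.node (.node (.word [3,2,3,2,4,2,1,3,2]) (.word [3,0,3,2,3,0,4,1,3,2])) (.word [5,3,0,3,0,3,5,4])) (.node (.word [3,5,3,5,3]) (.word [3,5,0,4,0,3,4,5,3,5]))) (.node (.node WTree.none (.word [5,4,5,4,1,4,1,2,0,5,0])) (.word [5,4,5,1,5,4,0,4,2]))) (.node (.node (.node (.node (.word [2,1,5,2,5,2]) (.word [1,5,2,4,5,2,0,5,0])) (.word [5,3,5,2,3,0,5,0])) (.word [5,3,0,4,2,5,0,3,0,5])) (.node (.word [1,5,4,2,1,2,4,0,1,5]) (.node WTree.none (.word [3,5,0,4,0,3,1,4,5,3,5]))))) (.node (.node (.node (.node (.word [2,3,5,2,3,4,5,0,5,1]) (.word [2,0,3,4,3,2,1,5,0,3,2])) (.node (.word [3,2,3,5,1,4,3,5,0,5,0,4]) (.word [3,2,3,5,1,2,1,5,0,1,5,0]))) (.node (.node (.word [0,3,5,2,0,1,3,2,5,3,0,4]) (.word [0,5,0,5,4,5,4,0,5,0,4])) (.node WTree.none (.word [2,5,2,5,4,0,1,5,1])))) (.node (.node (.node (.word [5,0,2,5,1,4,1])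 (.word [0,3,2,4,0,4,2,3,0])) (.node (.word [0,3,5,2,1,2,5,3,5,0]) (.word [2,4,5,3,0,5,1,4,2]))) (.node (.node (.word [2,3,0,4,1,3,4,0,2,3,4,5]) (.word [1,2,0,5,1,3,1,5,4,0,5,3])) (.node (.word [2,0,4,3,1,3,0,4,2,1,5]) (.word [5,2,5,2,4,0,5,1])))))) (.node (.node (.node (.node (.node (.node (.word [1,5,2,1,2,0,3,4,2]) (.word [5,3,4,3,2,4,5,3])) (.word [1,5,0,3,5,3,5,4,2])) (.node (.word [1,5,2,0,5,3,5,4,2]) (.word [5,3,1,4,2,3,5,0,4,2,1]))) (.node (.node WTree.none (.word [3,0,2,0,2,3,0,3,0,3,4])) (.node (.word [2,4,5,3,1,5,0,5,1,4]) (.word [0,2,5,1,4,5,4,5,4,3,0])))) (.node (.node (.node (.node WTree.none (.word [3,0,3,2,3,0,3,2,1,4,1])) (.word [3,4,0,5,4,0,4,0,3,1,3,0])) (.word [2,4,5,1,5,0,5,1,4])) (.node (.word [5,0,1,2,5,4]) (.node WTree.none (.word [2,5,0,2,0,2,0,5,2,4]))))) (.node (.node (.node (.node (.word [5,3,5,2,4,2,0,5,0,4]) (.word [0,3,1,0,4,0,3,0,4,0,2,0])) (.word [0,5,3,4,2,5,0,2,1,2])) (.word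 [1,0,4,5,2,5,4,0,4,1,4])) (.node (.node (.node (.word [1,5,0,3,0,2,1,5,1]) (.word [4,5,0,1,5])) (.node WTree.none (.word [3,0,3,2,3,0,1,4,1,3,2]))) (.node WTree.none (.word [0,3,4,2,0,5,1,5,0,4,3])))))) (.node (.node (.node (.node (.node (.node (.node (.word [1,2,4,1,3,0,3,4,2,1]) (.word [0,5,4,5,3,2,4,2,5,0,2])) WTree.none) (.node WTree.none (.word [3,0,3,0,2,0,3,0,1,3]))) (.node (.node (.word [3,2,3,5,2,5,0,1,5,0,4]) (.word [2,4,5,3,0,5,3,1,4,2])) (.node (.word [1,2,1,2,4,1,5,0,5]) (.word [0,2,1,4,3,0,1,3,4,3])))) (.node (.node (.node (.node WTree.none (.word [1,3,5,2,4,5,2,3])) (.word [0,2,1,4,0,2,4,3,0,2,0,2])) (.node WTree.none (.word [1,2,5,0,2,0,5,2,1]))) (.node (.node (.word [0,2,0,2,4,2,3,2,4,0,2,0]) (.word [1,3,4,2,1,4,3])) (.word [0,2,5,0,2,1,5,0,4,2,5])))) (.node (.node (.node (.node (.node WTree.none (.word [4,2,4,0,5,4,1])) (.word [5,2,1,5,2,1,2])) (.node WTree.none (.word [2,4,5,1,3,5,0,5,4,1])))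 (.node (.node (.word [3,5,0,5,4,1,4,2,0,5,2,0]) (.word [1,3,5,0,3,1,2,4,1,2,4,2,0])) (.node WTree.none (.word [2,4,5,1,3,5,0,2,5,1])))) (.node (.node (.node (.node (.word [2,4,5,0,3,5,4,2]) (.word [1,5,1,4,3,5,2,3])) (.word [1,4,1,5,0,5,4])) (.word [5,3,4,2,3,5,0,5,1])) (.node WTree.none (.node WTree.none (.word [1,2,4,0,3,1,3,4,2,1])))))) (.node (.node (.node (.node (.node (.node (.word [1,5,2,0,4,2]) (.word [5,4,1,4,2,0,2,5])) (.word [5,3,0,3,0,3,5,1,4,1])) (.node (.word [1,5,0,4,2,1,4,1]) (.word [0,2,5,0,2,3,5,4,0,2]))) (.node (.node (.word [2,4,1,3,0,1,5,4,1]) (.word [3,5,2,1,5,4,2,3])) (.word [1,5,3,2,3,0,3,4,2]))) (.node (.node (.node (.node (.word [1,5,4,1,2,1,2,4,0,5]) (.word [3,2,1,0,5,0,3,1,4,3])) WTree.none) (.node (.word [5,0,2,5]) (.word [2,4,1,5,3,5,0,5,1]))) (.node (.node (.word [1,4,1,5,2,0,2,5]) (.word [1,2,4,0,4,2,1,4])) (.node (.word [5,3,4,0,2,0,4,1,3,5,1]) (.word [1,5,0,3,0,5,1])))))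 (.node (.node (.node (.node (.node WTree.none (.word [5,3,4,0,1,2,0,3,2,5,3])) (.word [2,4,5,2,4,3,5,4])) (.node (.word [1,4,5,0,4,2,4]) (.word [5,3,0,3,0,3,5]))) (.node (.node (.word [2,0,2,1,3,2,3,0,2,4]) (.word [2,0,4,3,1,5,2,5,2,0,3])) (.node WTree.none (.word [2,4,1,5,0,5,0,5,1])))) (.node (.node (.node (.node (.word [5,0,2,1,3,2,3,5]) (.word [3,2,0,3,4,2,0,2,1,2])) (.word [5,4,2,4,5,3,4,0,5,1])) (.node (.word [2,4,3,5,0,5,0,5,1]) (.word [4,1,5,0,4,1,2]))) (.node (.node (.word [5,4,0,2,5,2,0,2,4]) (.word [1,0,2,5,1,2,4,2,3,4,0])) (.node WTree.none (.word [0,3,0,5,4,5,2,0,2,4,3,2,0])))))))))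

/-- A subtree. -/
def wt60 : WTree :=
  (.node (.node (.node (.node (.node (.node (.node (.node (.node (.word [5,3,2,3,0,2,1,5]) (.word [3,2,5,1,3,1,4,0,5])) WTree.none) (.word [])) (.node (.node (.word [0,4,3,1,2,5,1,3,0,5,3]) (.word [5,3,2,1,3,0,4,2])) WTree.none)) (.node (.node (.node WTree.none (.word [2,0,5,1,5,1,4,0,4,5])) WTree.none) (.node (.node (.word [2,4,2,1,2,5,0,5,4,2]) (.word [3,5,0,3,2,0,3,2,0,5,3,4])) WTree.none))) (.node (.node (.node (.node (.word [1,3,4,0,3,4,1,2,0]) (.word [0,4,2,4,2,0,4,3,0,2,1])) (.word [1,3,5,0,1,4,0,5,1,3,1])) (.node (.word [0,3,4,1,0,3,0,1,4,3,0]) (.word [3,0,4,5,3,0,4,5,2,0,2]))) (.node (.node (.node (.node (.word [2,3,0,3,2,4,3,0,3]) (.word [0,2,4,3,0,2,5,4,5,3])) (.word [3,2,4,3,1,2,0,2,5,1])) (.word [3,4,1,2,0,5,0,1,2,3])) (.node (.node (.word [2,4,1,2,3,4,2,3]) (.word [0,2,4,5,0,2,0,1,3,0])) (.node (.word [3,5,0,4,0,5,2,3,5,2,1]) (.word [2,4,0,3,1,2,3,2,5]))))))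 (.node (.node (.node (.node (.node (.node (.word [5,2,5,1,4,1,4]) (.word [2,4,5,2,5,2,4,2,1])) (.word [2,4,1,4,2,5,2,5])) (.word [1,2,3,1,4,3,2,4,1])) (.node (.node WTree.none (.word [2,4,5,0,2,3,2,5,3])) (.node (.word [5,3,4,2,5,0,2,0,4,2]) (.word [0,2,1,0,4,0,3,0,1])))) (.node (.node (.word [3,4,5,4,2,3,4,5,1]) (.node (.word [5,4,0,5,2,0,5,2,5,0,2]) (.word [2,4,2,5,3,2,5,3,1]))) (.node (.node (.word [3,4,5,3,5,3,4,3]) (.word [1,2,0,5,3,5,0,4,0,4,5])) (.node WTree.none (.word [3,0,4,0,5,0,1,4,0,3,4]))))) (.node (.node (.node (.word [2,5,0,4,5,4,0,5,1,4,3,5]) (.node (.word [3,0,4,0,3,1,5,2,0,4,3]) (.word [3,0,3,2,4,1,5,0,2,5,4,2]))) (.node (.word [0,4,5,3,2,1,3,0,2,5,2,1]) (.word [3,2,5,3,4,0,3,4,2]))) (.node (.node (.word [5,3,1,5,0,3,0,2,0,3,0,4]) (.word [1,5,0,5,0,5,0,5,1])) (.node (.node (.word [1,2,4,0,3,2,5,4,3,5]) (.word [3,5,2,5,4,2,3,4])) (.node (.word [3,2,5,0,2,4,3,5,0,1]) (.word [1,2,0,2,4,0,3,5,2,1,4,0,4])))))))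 (.node (.node (.node (.node (.node (.node (.node WTree.none (.word [2,0,4,2,5,1,2,0,1,4,1,3,4,2])) (.word [5,0,5,2,1,2])) (.node (.word [1,5,3,4,5,2,4,2]) (.word [5,4,5,1,3,5,4,0,4,2]))) (.node (.word [0,5,1,3,5,4,3,0,1,4,0]) (.word [5,3,4,2,5,0,5,4,1]))) (.node (.node (.node (.node (.word [2,5,0,2,3,1,3,0,5,3,2,5]) (.word [5,4,5,1,2,0,5,0,4])) (.word [0,4,0,3,1,4,3,5,3,0,1])) (.node (.word [3,0,4,1,0,5,0,3,4,0,3]) (.word [2,5,3,5,3,2,5,4,0,5,4,2]))) (.node (.word [0,2,1,3,4,5,2,0,2,3,4,5]) (.node (.word [0,3,4,2,5,3,4,2,0]) (.word [3,0,2,1,5,3,4,0,5,2,3]))))) (.node (.node (.node (.node (.node (.word [5,3,5,3,2,3,0,5,0,4]) (.word [3,2,1,5,3,4,2,5])) (.word [2,3,1,3,4,0,5,4,1])) (.node (.word [1,2,5,1,2,5,2,1]) (.word [0,2,4,0,4,0,1,5,0,3,4,0,4]))) (.node (.node WTree.none (.word [2,4,5,0,5,3,0,2,5,1])) (.node (.word [4,5,0,2,0,2,5]) (.word [5,3,4,5,2,0,1,4,2,1])))) (.node (.node (.word [2,4,0,1,3,1,3,5])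 (.word [2,0,2,5,2,0,1,4,2,5])) (.node (.node WTree.none (.word [3,2,1,4,5,2,5,3,1])) (.node WTree.none (.word [0,5,1,0,4,2,1,2,0,5,0])))))) (.node (.node (.node (.node (.node (.node WTree.none (.word [2,4,5,0,1,5,1,4,2])) (.word [1,2,5,0,3,4,5,2,1,5,0,2])) (.word [1,5,0,1,4,2,4])) (.node (.node WTree.none (.word [3,2,4,1,5,2,5,3,4])) (.node (.word [2,4,5,0,4,1,4,5,4,2]) (.word [2,4,3,4,2,5,0,5])))) (.node (.node (.node (.node WTree.none (.word [3,0,2,0,2,3,4,0,3,0,3])) (.word [5,4,5,1,2,1,4,0,1,5,0])) (.node WTree.none (.word [3,5,2,3,1,2,5,0,5,1]))) (.node (.node WTree.none (.word [1,2,5,2,5,2,1,5,0,5])) (.node WTree.none (.word [0,2,5,4,0,4,0,1,4,0,5,0,2]))))) (.node (.node (.node (.node (.node (.word [5,1,2,0,5,2,1,2]) (.word [2,0,3,2,3,1,2,0,2,4])) (.word [1,2,4,5,2,5,2,0,5,1])) (.word [0,2,5,0,4,2,3,5,4,0,1,4])) (.node WTree.none (.node WTree.none (.word [2,4,5,1,3,0,5,0,5,1])))) (.node (.node (.node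 (.node WTree.none (.word [0,5,1,0,2,4,3,0,1,5,0])) (.word [0,5,0,2,3,2,0,5,0])) (.node WTree.none (.word [2,4,5,1,5,0,5,1]))) (.node (.word [3,4,1,3,0,3,4,1,2,0]) (.node WTree.none (.word [0,2,5,1,3,1,2,4,3,5,2,0])))))))) (.node (.node (.node (.node (.node (.node WTree.none (.word [3,4,2,4,1,3])) (.node (.node (.word [5,3,5,2,1,3,0,5,0]) (.word [2,4,5,0,1,3,5,4,2])) (.node (.word [5,3,4,3,2,1,5,3]) (.word [2,4,2,3,1,5,2,5,3])))) (.node (.node (.node (.node (.word [0,4,5,4,2,0,3,2,0,4,1,5,0]) (.word [0,2,4,3,0,2,1,3])) WTree.none) WTree.none) (.node WTree.none (.word [5,3,1,3,0,4,2,3,1,3])))) (.node (.node (.node (.node WTree.none (.word [2,0,2,4,5,3,4,2,0,5,2])) (.node (.word [3,2,1,3,1,2,5,2,4,0,5]) (.word [5,4,0,5,2,0,2,5,0,3,5,3]))) (.node (.node (.word [3,5,0,4,2,5,2,0,4,5,3]) (.word [5,4,0,2,3,1,4,2,3,0,4,1])) WTree.none)) (.node (.node (.node (.word [3,0,5,4,2,4,2,1,2,0]) (.word [0,3,2,5,0,1,5,3,4,0,3]))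 (.node (.word [0,3,0,5,1,0,3,1,4,2,0,2]) (.word [1,2,4,2,3,4,1,2,3]))) (.node (.node (.word [0,5,0,3,2,5,3,5]) (.word [5,3,4,3,5,3,2,0,5,1])) WTree.none)))) (.node (.node (.node (.node (.node WTree.none (.word [2,4,3,0,2,5,1])) (.node (.word [5,3,5,3,5,3,5,4]) (.word [3,1,5,3,1,5,3]))) (.node (.word [1,5,0,1,4,2,5,2,5]) (.word [3,2,5,3,4,0,4,2]))) (.node (.node WTree.none (.node (.word [3,5,2,3,4,3,0,2,5]) (.word [5,3,1,3,0,1,4,2,4]))) (.node (.node (.word [5,3,4,2,5,0,2,5,1]) (.word [0,5,0,3,1,3,0,5,0])) (.node WTree.none (.word [1,0,4,1,4,5,0,4]))))) (.node (.node (.node (.node (.node WTree.none (.word [0,2,4,0,3,4,0,3,4,0,5,3])) (.word [5,3,1,5,0,5,4,1,3,0,3,4])) (.word [2,5,3,0,4,0,2,4,1,2,3,4])) (.node (.node (.word [2,5,4,5,3,2,0,4,3,2,3,1]) (.word [0,3,2,0,2,3,0,3,4,3])) WTree.none)) (.node (.node (.node (.word [5,4,2,1,4,5,1,3,2,1]) (.word [0,5,4,1,4,0,4,1,4])) (.node (.word [2,4,2,4,3,0,5,0,4,2,1])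 (.word [1,5,3,1,3,0,2,1,5]))) (.node (.node (.word [2,4,5,1,5,1,4,2]) (.word [2,4,5,3,0,3,1,5,4,2])) (.node (.word [2,0,3,0,4,2,3,1,4,0,2,0]) (.word [3,0,3,2,1,4,5,0,4,5,2]))))))) (.node (.node (.node (.node (.node (.node WTree.none (.word [1,2,4,5,0,4,3,2,3,4])) WTree.none) (.node (.node WTree.none (.word [0,5,2,1,2,5,1,3,4,2,0])) (.node (.word [2,4,5,3,5,0,5,4,1,4]) (.word [1,2,4,3,0,1,4,2,1])))) (.node (.node (.node (.node (.word [4,3,5,4,5,3]) (.word [0,2,4,1,2,3,5,3,2,0])) (.word [1,4,5,0,4,2])) (.word [5,0,5,4])) (.node (.node WTree.none (.word [0,4,3,0,4,0,3,4,0])) (.node (.word [3,0,3,5,2,0,2,4,5,2,4]) (.word [3,0,3,4,5,0,5,3,0,3]))))) (.node (.node (.node (.node (.node (.word [2,0,5,2,5,2,5,0,5,3]) (.word [2,4,5,0,1,2,4,2,3,5])) (.word [1,5,0,5,1,3,5,4,2])) (.node (.word [0,5,1,2,1,2,0,3,4,1,3]) (.word [3,0,4,2,3,2,4,0,3]))) (.node WTree.none (.node WTree.none (.word [0,5,4,1,4,0,4,1])))) (.node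 (.node (.node (.word [5,0,2,0,2,5,4]) (.word [1,2,4,2,5,3,2,1,5,3])) (.word [1,0,4,5,4,0,5,2,0,2,3])) (.node (.word [1,4,1,5,0,1,5]) (.node WTree.none (.word [3,0,4,0,3,1,5,1,2,1,5,0])))))) (.node (.node (.node (.node (.node (.node (.word [3,5,2,5,4,2,3]) (.word [3,2,1,0,2,4,3,0,1,4,3])) WTree.none) (.node WTree.none (.word [1,5,3,1,3,0,5]))) (.node (.word [0,3,2,3,5,3,2,0,4,1]) (.node WTree.none (.word [3,2,5,1,4,2,5,1,3])))) (.node (.node (.node (.node (.word [0,5,1,0,5,3,2,4,5,1,2]) (.word [0,5,4,1,4,0,1,2,1,2])) (.word [0,3,0,2,5,2,0,1,4,1,5,0,5,2])) (.word [4,5,2,0,1,5])) (.node (.node (.word [3,2,5,1,3,4,1,2,5,4]) (.word [2,4,0,3,2,3,5,1])) (.node WTree.none (.word [1,0,3,5,4,3,0,4,0]))))) (.node (.node (.node (.node (.node (.word [3,4,0,5,3,1,4,2,5,0,4]) (.word [0,3,2,0,3,5,3,1,2,0,1])) (.word [1,5,2,0,1,3,0,5,1])) (.word [5,4,1,4,2,5])) (.node (.node WTree.none (.word [5,3,5,3,2,3,4,0,5,0])) (.word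 [1,3,2,0,5,0,1,4,3]))) (.node (.node (.node (.word [3,4,5,1,4,2,3,4,5]) (.word [3,4,1,0,5,2,1,2,0,4])) (.node (.word [1,5,4,1,4,0,4,2]) (.word [0,3,1,0,2,3,0,5,4,2,0]))) (.node (.node (.word [3,1,3,4]) (.word [3,2,3,5,2,1,4,5,0,5,0])) WTree.none)))))))

/-- A subtree. -/
def wt61 : WTree :=
  (.node (.node (.node (.node (.node (.node (.node (.node (.node WTree.none (.word [2,3,1,3,1,2])) WTree.none) WTree.none) (.node (.word [3,2,5,1,4,2,1,5,3]) (.node (.word [1,2,0,3,5,4,2,5,2,0,1]) (.word [5,4,5,0,3,0,1,5,4,5,1])))) (.node (.node (.node (.node (.word [0,5,0,2,1,5,4,0,5]) (.word [3,0,4,0,2,0,4,0,3])) (.word [0,2,3,2,5,4,5,2,3,2,0])) (.node (.word [3,0,2,1,5,0,4,1,3,1,2,0,1]) (.word [2,3,5,2,3,4,5,0,1,5,1]))) (.node (.node WTree.none (.word [1,5,4,1,3,5,2,3])) (.node WTree.none (.word [2,0,3,1,5,2,4,3,2,0,1,4]))))) (.node (.node (.node (.node (.word [1,5,0,4,2]) (.word [0,3,1,2,1,2,4,2,0])) (.node WTree.none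 (.word [3,2,1,5,3,4,0,5]))) (.node (.word [3,0,3,4,0,2,0,3,0,3]) (.node (.word [2,3,5,3,1,2,4,0,4,2]) (.word [3,2,5,2,4,5,4,3])))) (.node (.node (.node WTree.none (.word [3,4,1,5,0,5,0,3,4,5])) (.node WTree.none (.word [3,5,0,5,0,2,4,5,0,5,0,2]))) (.node (.node (.word [3,4,1,2,3,1,4,3]) (.word [2,0,2,3,2,4,2,5,0,3,4])) (.node (.word [3,2,0,4,1,4,2,1,2,5,0]) (.word [5,3,4,0,2,0,1,4,3,0,5])))))) (.node (.node (.node (.node (.node (.node (.word [2,0,3,5,0,2,0,4,2,5,0,4]) (.word [1,3,5,3,5,2,1,2,3])) WTree.none) (.node (.word [2,4,5,2,3,2,3,5,3]) (.word [0,2,0,4,3,2,0,1,2,0,2,1]))) (.node WTree.none (.node WTree.none (.word [3,5,3,1,5,1,3,4])))) (.node (.node (.node (.node WTree.none (.word [5,3,5,1,5,0,3,0,3,5])) WTree.none) WTree.none) (.node (.node WTree.none (.word [3,2,1,2,3,5,0,4,2])) (.node (.word [5,3,4,0,5,3,0,2,3,4,5]) (.word [5,0,2,4,1,4,2,5]))))) (.node (.node (.node (.node (.word [5,3,0,3,0,3,1,5])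 (.word [2,5,0,5,4,2,5,0,5,2])) (.node (.word [0,3,2,4,3,2,4,0,3,1,5,2]) (.word [2,4,1,3,0,2,5,1,4]))) (.node (.node (.word [1,0,3,5,3,4,3,0,4,0]) (.word [0,5,1,0,2,5,4,5,1,4,1])) (.node WTree.none (.word [2,4,5,1,5,0,5,4,1])))) (.node (.node (.node (.word [1,0,5,0,1,5,0,4,1,4]) (.word [2,5,0,2,0,2,0,5,2])) (.node (.word [5,4,2,1,4,5,3,2,1]) (.word [4,2,4,1,4,2,4]))) (.node (.node WTree.none (.word [5,3,4,0,3,4,5,2,5,0,2,4])) (.node (.word [4,5,0,5,2,1,3,5,4,2,4,5]) (.word [5,3,5,2,0,5,3,0,3,2,4]))))))) (.node (.node (.node (.node (.node (.word [5,3,4,3,1,5,4,2,3]) (.word [2,5,2,5,2,5,0,5,4])) (.node (.word [3,5,0,5,0,3,1,2,0,5,1,4,0]) (.word [3,2,4,0,5,1,4,1,2,1,4,0,1]))) (.node (.node (.node (.node WTree.none (.word [0,2,0,3,0,2,0])) (.word [3,0,3,2,3,0,1,3,2])) (.word [5,3,4,2,5,3,0,5,1])) (.node (.node (.word [5,4,0,5,1,2,0,5,2,0]) (.word [1,5,1,2,0,4,2,4])) (.word [3,0,4,2,5,2,3,2,3,0,1,4])))) (.node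 (.node (.node (.node (.node WTree.none (.word [5,4,5,3,5,4,0,5,4])) (.word [2,1,4,0,3,1,3,5])) WTree.none) (.node (.node (.word [5,3,4,2,0,5,3,1,4,2]) (.word [0,3,1,2,1,3,5,3,2,5,0])) (.node WTree.none (.word [0,5,0,2,5,1,4,2,5,1])))) (.node (.node (.node (.node (.word [2,0,3,1,3,0,4,0,1,4,5]) (.word [2,4,5,0,3,1,3,5,4,2])) WTree.none) (.node WTree.none (.word [0,5,1,5,3,1,4,1,2,0]))) (.node (.word [5,4,5,3,0,3,0,5,4,5]) (.node (.word [2,4,1,5,0,5,1,4,2]) (.word [1,2,0,3,2,1,4,5,2,3,5,0])))))) (.node (.node (.node (.node (.node (.node (.word [3,5,2,3,4,3,2,5]) (.word [0,4,3,5,3,0,3,5,3,4,0])) (.word [3,0,3,2,5,0,1,2,5,3,5])) WTree.none) (.node (.node (.word [2,5,3,2,3,1,5,2]) (.word [2,3,5,3,4,5,1,3,2])) WTree.none)) (.node (.node (.node (.node (.word [0,2,4,3,1,5,0,1,4,3]) (.word [2,4,5,0,3,5,1,4,2,4])) (.word [2,0,4,0,1,4,0,4,5,1,4])) (.node WTree.none (.word [2,3,0,2,4,3,2,0,3,2]))) (.node (.node WTree.none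 (.word [3,2,4,5,2,5,3,4])) (.node WTree.none (.word [5,3,5,2,0,1,5,3,0,3,2,4]))))) (.node (.node (.node (.node (.node (.word [2,3,5,3,2,1,4,2,5]) (.word [2,3,5,1,4,1,2,4,0,5])) WTree.none) (.node WTree.none (.word [0,5,1,0,2,3,5,4,5,4]))) (.node (.word [1,5,1,2,0,4,2]) (.node WTree.none (.word [3,2,0,4,1,4,2,4,3,0,1])))) (.node (.node (.node (.node WTree.none (.word [1,5,2,1,5,1])) (.word [2,4,5,3,0,1,5,1,4,2])) (.node (.word [1,0,4,5,3,1,4,3,5,4,5,0]) (.word [2,5,1,5,4,0,1,5,1]))) (.node (.node WTree.none (.word [0,5,0,4,0,5,0])) (.node (.word [5,3,4,0,5,3,0,1,2,3,4,5]) (.word [2,5,4,2,3,5,0,1,5,0])))))))) (.node (.node (.node (.node (.node (.node (.node (.node (.word [3,5,2,1,3,2,0,5,4,2]) (.word [1,2,0,2,5,4,2,3,4,3,2,0,4,3,2,0])) (.word [3,5,2,3,2,0,5,4,2])) WTree.none) (.node WTree.none (.node WTree.none (.word [5,2,0,1,5,2,1,2])))) (.node (.node (.node (.node (.word [1,5,0,4,5,2,5,1,2]) (.word [1,0,5,4,5,2,5,4,0,4]))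 WTree.none) (.node (.word [2,4,1,5,0,1,5,4,2]) (.word [3,0,3,2,3,0,3,2,4]))) WTree.none)) (.node (.node (.node (.node (.word [2,4,0,5,4,5,2,5,1]) (.word [3,2,5,3,1,4,5,4,1])) (.node (.word [5,3,0,3,0,3,0,5]) (.word [5,1,5,4,2,1,2]))) (.node (.node WTree.none (.word [3,4,0,2,5,3,4,0,3,4,0,3])) (.word [1,5,2,0,3,4,2]))) (.node (.node (.node (.node (.word [2,3,0,3,2,3,0,1,3]) (.word [2,4,5,0,2,5,2,4,2,1])) WTree.none) WTree.none) (.node (.node WTree.none (.word [0,3,4,1,2,1,3,1,4,2,0])) (.node (.word [1,5,0,3,0,2,5,1]) (.word [3,5,1,3,5,1,3,4])))))) (.node (.node (.node (.node (.node (.node WTree.none (.word [5,4,1,3,5,2,3,4,1])) (.word [0,2,4,3,0,2,5,1,5,3])) WTree.none) (.node (.node (.word [1,3,5,2,3,4,3,0,4,2]) (.word [3,4,5,0,2,4,1,3,1,5,0])) (.node WTree.none (.word [0,2,0,4,2,4,3,0,2,0])))) (.node (.node WTree.none (.node (.word [2,3,5,4,1,2,4,0,4,2]) (.word [0,3,4,2,0,1,5,1,2,1,2,0]))) (.node (.node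 WTree.none (.word [5,2,0,4,1,4,5,4])) (.node WTree.none (.word [5,0,5]))))) (.node (.node (.node (.node (.word [1,4,5,1,2,0,4,2]) (.word [3,0,2,0,3,2,4,0,2,0,3,4])) (.word [3,2,5,2,4,5,4,1,3])) (.node (.node (.word [2,4,5,3,0,5,0,1,5,1]) (.word [2,4,5,2,4,3,0,2,5])) WTree.none)) (.node (.node (.node (.word [1,5,0,4,2,4,2,1,2]) (.word [2,1,4,0,5,1,4])) WTree.none) (.node (.node WTree.none (.word [0,5,1,5,4,1,3,0,4,3,2,0])) (.node (.word [2,4,0,4,3,5,2,3]) (.word [1,5,2,5,4,1]))))))) (.node (.node (.node (.node (.node (.node (.node (.word [2,4,5,0,1,5,0,2,5,1]) (.word [5,3,1,0,4,0,3,5,4,5,0,4])) WTree.none) WTree.none) (.node (.node (.word [2,4,5,0,3,0,1,5,4,2]) (.word [4,5,1,2,1,5])) (.node WTree.none (.word [2,5,0,3,4,0,5,4,3,0,1])))) (.node (.node (.node WTree.none (.word [0,3,2,3,1,5,3,1,2,5,0])) WTree.none) (.node (.node WTree.none (.word [1,3,0,3,4,1,2,3,0,3,1])) (.node (.word [0,3,4,2,0,1,5,3,4,2,0])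 (.word [0,5,1,0,3,1,4,5,4,5]))))) (.node (.node (.node (.node (.node WTree.none (.word [1,3,5,2,5,3,2,0,4,2,1])) (.word [2,4,5,1,5,0,1,5,1])) (.node WTree.none (.word [1,5,0,4,1,5,2,5,2]))) (.node (.word [1,2,5,3,2,3,5,2,1]) (.node WTree.none (.word [3,2,3,5,1,2,5,0,5,0,4])))) (.node (.node (.node (.node (.word [3,5,1,2,3,4,3,0,5]) (.word [1,4,5,0,4,1,2])) WTree.none) (.word [3,2,3,4,0,5,1,3,4,2,1])) (.node (.node WTree.none (.word [3,2,4,3,2,3,0,5,1,4])) (.word [2,4,0,1,3,1,2,3,5]))))) (.node (.node (.node (.node (.node WTree.none (.word [0,5,4,1,4,0,1,5,0,5])) WTree.none) (.node (.node (.word [1,2,0,3,1,3,0,1,4,0,2,1]) (.word [3,4,0,5,2,5,0,5,4,3,5,0])) (.node WTree.none (.word [2,4,5,3,2,4,3,5])))) (.node (.node (.node (.node WTree.none (.word [2,4,5,0,5,3,0,5,4,1])) WTree.none) (.word [2,4,1,3,4,2,3,1,3])) (.node (.node (.word [5,3,4,2,1,5,4,2,4]) (.word [5,0,2,1,4,1,4,5])) (.node WTree.none (.word [0,4,2,4,0,4,5,0,5,3,2,0])))))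 (.node (.node (.node (.node (.node WTree.none (.word [3,5,4,1,5,3,4])) WTree.none) (.node WTree.none (.word [1,5,0,3,1,4,1,2]))) (.node (.node (.word [1,5,1,2,5,1]) (.word [5,3,5,2,1,3,4,0,5,0])) (.word [2,3,1,3,4,0,5,1,4]))) (.node (.node (.node WTree.none (.word [2,3,5,0,3,5,1,2,4,0,3,5])) (.word [2,0,4,2,3,4,2,3,0,1])) (.node (.word [5,2,0,5,2,1,2]) (.node (.word [5,3,2,3,1,5]) (.word [0,2,5,0,2,5,4,0,1,2,4])))))))))

/-- A subtree. -/
def wt62 : WTree :=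
  (.node (.node (.node (.node (.node (.node (.node (.node WTree.none (.word [5,3,1,5,0,1,2,0,4,5,4,5])) (.node WTree.none (.word [2,0,4,3,1,3,0,4,1,5]))) (.node (.node (.word [2,0,3,5,0,2,0,4,2,5,0]) (.word [5,4,5,4,0,2,0,5,3,1,5,1])) (.node WTree.none (.word [0,5,1,2,0,2,3,2,0,3,0,2,3])))) (.node (.node WTree.none (.node (.word [5,4,5,4,3,1,4,0,5,0]) (.word [0,2,1,2,5,0,3,1,4,3]))) (.node (.node (.word [4,1,5,0,3,4,2]) (.word [2,4,1,3,0,2,0,4,2])) (.node (.word [2,4,5,2,3,2,5,3]) (.word [2,4,5,0,2,1,4,2,3,5]))))) (.node (.node (.node (.node (.node (.word [3,2,3,4,0,3,5,4,2,1]) (.word [5,3,4,2,5,1,3,0,5,1])) WTree.none) (.node (.word [5,3,2,3,2,5]) (.word [2,4,5,3,5,1,4,2,4]))) (.node (.word [0,5,2,1,3,5,1,3,2,3,0]) (.node (.word [3,5,3,1,5,3]) (.word [3,2,4,3,2,0,3,1,3,5])))) (.node (.node (.node (.word [0,3,5,0,5,3,4,2,0,4,3,0]) (.word [1,4,2,4,0,4,2,1])) (.node (.word [2,0,2,4,0,2,1,4,5,0,1,4]) (.word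 [5,4,3,5,2,3,4,1]))) (.node (.node WTree.none (.word [1,0,3,5,3,4,1,3,0,4,0])) (.node (.word [5,4,5,3,1,2,0,5,0]) (.word [1,5,0,3,4,2,3,1,3])))))) (.node (.node (.node (.node (.node (.node (.word [5,3,5,2,0,5,3,0,3,2]) (.word [2,4,5,1,3,2,4,3,5])) (.word [4,5,3,2,3,0,5])) (.node WTree.none (.word [2,4,5,1,5,3,0,5,1]))) (.node (.node (.word [5,3,2,0,3,0,3,1,5]) (.word [1,3,5,0,3,2,1,4,2,1,3,5,0])) (.word [5,3,4,2,5,0,1,5,1]))) (.node (.node (.node WTree.none (.word [2,3,0,5,3,4,2,3,2,0,1])) (.node WTree.none (.word [3,2,4,5,1,2,5,3]))) (.word [0,4,5,3,4,1,2,3,0,2,4,2]))) (.node (.node (.node (.node (.node (.word [0,5,0,2,5,1,4,0,4,2]) (.word [0,5,3,0,2,0,5,3,0,2,4])) (.word [5,3,1,3,0,3,0,1,5,1])) (.node (.word [1,3,2,0,1,3,4,2,0]) (.word [2,0,4,2,5,2,0,3,2,3]))) (.word [0,4,2,0,2,1,4,5,0,5,4,3])) (.node (.node (.node (.node (.word [0,3,2,1,0,2,1,4,2,5,0]) (.word [0,5,1,3,0,3,5,0,4,1,3,0])) (.word [5,3,1,3,0,3,4,2]))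 (.node (.word [2,3,5,2,3,4,3,5,0,5,1]) (.word [1,5,1,2,5,4,1]))) (.node (.node WTree.none (.word [2,3,5,1,4,1,2,4,0,1,5])) (.node (.word [2,4,5,1,3,0,5,1,4,2]) (.word [5,4,5,2,4,1,4,0,5,0]))))))) (.node (.node (.node (.node (.node (.node (.node WTree.none (.word [0,5,0,3,4,5,4,5,1])) (.word [3,4,5,0,5,4,0,2,0,2,4,0])) (.node WTree.none (.word [1,5,4,5,2,0,5,0]))) (.node (.node (.word [2,5,1,5,4,0,5,1]) (.word [2,5,4,5,0,3,0,5,3,4,5,2])) (.node WTree.none (.word [1,5,0,1,3,4,2])))) (.node (.node (.node (.word [3,2,0,4,1,4,5,0,1,2,3]) (.word [5,3,4,3,2,1,4,5,3])) (.word [2,4,2,1,3,4,2,3])) (.node WTree.none (.node (.word [3,2,3,0,2,3,2,3,0,2,4]) (.word [0,2,4,2,1,2,3,5,0,2,3]))))) (.node (.node (.node (.node (.node (.word [2,4,5,3,0,5,3,4,1,2]) (.word [1,0,4,1,4,5,0,3,1,3])) (.word [2,0,3,4,3,1,2,1,5,0,3,2])) (.node (.word [5,4,0,4,5,3,5,0,1,2,1]) (.word [2,4,3,0,2,0,4,2]))) (.node (.node WTree.none (.word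 [2,4,0,1,2,0,1,4,2])) (.node (.word [5,4,5,4,2,5,2,1,3,0,5]) (.word [1,2,4,5,2,5,2,0,5,1,4])))) (.node (.node (.node (.word [2,3,5,1,4,2,5,2,0,5,0]) (.word [2,0,2,1,5,2,4,0,2,4])) (.node WTree.none (.word [3,4,5,2,5,4,3]))) (.node (.node WTree.none (.word [5,3,0,3,0,3,0,2,5,4])) WTree.none)))) (.node (.node (.node (.node (.node (.node WTree.none (.word [5,4,3,5,0,5,0,4,3,1])) WTree.none) (.node (.word [5,1,3,0,3,0,3,5]) (.word [5,3,4,0,5,1,4,2,3,0,3]))) (.node WTree.none (.node (.word [3,2,5,1,3,4,0,5]) (.word [5,4,1,3,5,1,2,3])))) (.node (.node (.node (.node (.word [2,1,2,5,2,0,1,5]) (.word [1,5,0,5,0,3,5,4,2])) (.word [1,2,4,2,5,1,4,3,0,5])) (.node WTree.none (.word [1,5,4,0,5,3,1,5,0,4,0,2]))) (.node (.node WTree.none (.word [1,2,4,0,4,2,4,1])) (.node (.word [5,3,1,2,3,0,1,4,1,2]) (.word [0,5,0,3,1,2,5,3,1,5]))))) (.node (.node (.node (.node (.node (.word [2,5,4,2,4,2,1,5,0,5,0]) (.word [0,5,2,3,1,4,0,1,3,1,4,0]))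 WTree.none) (.node (.word [0,2,1,4,3,0,1,4,1,3]) (.word [5,3,2,0,3,0,2,3,5]))) (.node (.word [0,5,1,0,5,3,2,4,5,2]) (.node (.word [2,5,4,1,3,1,4,5,2]) (.word [1,2,4,5,3,0,4,3,2,3])))) (.node (.node (.word [1,4,1,4,5,0,2,5]) (.node WTree.none (.word [5,4,0,5,1,3,5,4,0,2]))) (.node WTree.none (.node (.word [0,2,3,1,5,3,2,4,1,2,0]) (.word [3,2,0,4,5,1,2,5,4,0,2,4,3])))))))) (.node (.node (.node (.node (.node (.node (.node (.node (.word [3,5,0,4,0,3,4,5,3,1,5]) (.word [2,4,5,4,1,4,0,5,4,1,2])) WTree.none) (.node (.word [1,4,1,3,5,3,5,3]) (.word [3,5,3,4,3,5,3]))) (.node (.word [2,4,1,3,1,3,0,5,1]) (.node WTree.none (.word [5,2,5,3,5,1,5,3])))) (.node (.node (.node WTree.none (.word [3,2,1,0,5,0,4,3,1])) (.word [3,2,3,4,2,0,5,4,2,1,4])) (.node (.word [2,4,5,3,5,3,0,2,5,1]) (.node WTree.none (.word [2,4,5,3,0,5,0,5,1]))))) (.node (.node (.node (.node (.node (.word [0,5,0,2,4,3,0,5,0,4]) (.word [5,3,4,1,2,0,5,0,5,1]))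 WTree.none) (.node (.word [5,1,2,4,1,4,0,5]) (.word [0,4,5,4,3,2,5,4,2,0,3]))) (.node (.node (.word [5,2,0,2,5,4]) (.word [2,5,3,0,4,2,3,4,2,3,0])) (.node (.word [1,0,4,3,2,1,5,1,3,0,2,4]) (.word [0,3,1,5,4,0,3,1,2,5,0,2])))) (.node (.node (.node (.node (.word [5,3,1,5,0,1,5,4,1,3,0,3]) (.word [2,0,4,0,5,3,5,0,5,3,1])) (.word [3,0,2,4,2,3,4,2,4,2,0,3])) (.word [5,4,1,4,0,1,2,1,5])) (.node (.node WTree.none (.word [1,5,4,5,3,2,0,5,0])) (.node (.word [0,3,2,5,0,2,1,3,4,5,4,0,2]) (.word [1,5,0,3,4,2,4])))))) (.node (.node (.node (.node (.node (.word [5,3,1,5,1,3,5,3,0,4,2]) (.word [5,4,3,5,0,5,0,1,4,3])) (.node WTree.none (.word [3,2,3,4,0,2,5,3,4,2,3]))) (.node (.node (.word [1,2,4,0,4,2,4,1,4]) (.word [0,2,3,2,0,5,4,5,3,2,0])) (.node (.word [0,4,5,3,4,2,4,0,5,4,3,0]) (.word [5,2,0,5,4,2,1,2])))) (.node (.node WTree.none (.node (.word [3,2,3,5,2,4,1,5,0,5,0]) (.word [2,4,5,1,3,5,4,2]))) (.node (.node WTree.none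 (.word [1,2,4,5,2,4,2,1,3,0,5])) (.node (.word [1,4,1,4,5,0,5]) (.word [1,5,0,4,2,3,1,3,4]))))) (.node (.node (.node (.node (.node WTree.none (.word [2,5,1,2,5,1,2,4])) WTree.none) (.word [0,2,4,3,0,2,3])) (.node (.node WTree.none (.word [2,3,2,1,3,5,2,4,0,1,5])) (.node (.word [2,3,1,4,3,2]) (.word [5,3,1,4,5,1,2,0,1,5,1])))) (.node (.node (.node (.node WTree.none (.word [1,2,4,0,4,2,1])) WTree.none) (.node WTree.none (.word [1,3,4,0,2,4,3,0,1]))) (.node (.word [3,1,5,3,4,3,5,3]) (.node (.word [5,0,2,5,1,4,1,4]) (.word [1,2,1,2,4,1]))))))) (.node (.node (.node (.node (.node (.node (.node (.word [2,4,3,5,0,3,5,4,2]) (.word [5,3,5,3,5,3,0,5,4])) (.word [0,5,0,2,4,2,5,3,0,5])) (.node WTree.none (.word [2,0,2,5,2,0,4,2,5]))) (.node WTree.none (.node WTree.none (.word [0,2,3,0,5,1,5,0,3,2,5,0])))) (.node (.node (.node WTree.none (.word [2,0,2,3,2,4,2,5,0,3])) (.word [5,3,0,5,2,4,0,3,5])) (.node (.node (.word [2,5,4,0,5,4,1,3,0,4,3,2])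 (.word [0,2,5,0,2,3,1,5,0,4,5])) (.node (.word [3,4,1,0,5,0,1,2,3,4]) (.word [3,0,4,2,5,2,3,2,3,0,4,1]))))) (.node (.node (.node (.node WTree.none (.word [5,3,5,2,5,1,3,5,3,0,5,0])) (.node WTree.none (.word [3,5,0,5,1,3,5,0,4,5]))) (.node (.node (.word [3,2,4,3,2,4,2]) (.word [1,0,2,3,5,3,2,3,0])) (.word [5,3,5,3,5,3,0,2,5,4]))) (.node (.node (.node (.node (.word [2,1,2]) (.word [2,3,5,3,2,4,1,5])) (.word [1,5,1,4,5,2,0,5,0])) (.word [2,4,0,2,3,1,2,3,5])) (.node (.node (.word [5,0,2,1,5,2,1,2]) (.word [0,5,0,3,2,5,3,0,1,5])) (.word [0,4,1,3,0,1,3,1,4,0,4]))))) (.node (.node (.node (.node (.node (.node (.word [1,5,4,1,4,1,2,0,4,2]) (.word [3,0,3,2,3,0,3,2])) WTree.none) (.node (.word [0,2,3,4,0,1,3,4,0,2,3]) (.word [1,2,0,5,2,1,2,3,5,0,2]))) (.node (.word [3,0,4,3,4,0,1,3]) (.node WTree.none (.word [0,2,0,4,5,3,5,0,3,5,0])))) (.node (.node (.node (.node (.word [2,4,0,3,1,3,0,5,4]) (.word [2,5,4,3,4,2,5,2]))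 (.word [0,3,1,2,0,1,5,2,0,3,5,1])) (.node WTree.none (.word [3,2,3,0,5,3,5,0,3,2,3]))) (.node (.node (.word [1,4,1,5,1,5]) (.word [3,2,4,3,2,0,5,1])) (.word [5,4,1,4,1,2,5,4])))) (.node (.node (.node (.node (.node (.word [1,3,0,3,5,0,2,4,2,1]) (.word [2,0,5,2,1,5,2,1,5,4,0,2])) (.word [2,5,4,5,3,0,3,1,4,2,4,2])) WTree.none) (.node (.node (.word [2,5,2,5,4,0,5,4,1]) (.word [3,1,3,5,2,0,2,5])) (.node WTree.none (.word [2,4,0,2,5,1,3,1,3])))) (.node (.node WTree.none (.node WTree.none (.word [5,3,4,2,0,1,5,0,5,1]))) (.node (.node WTree.none (.word [5,4,5,4,1,3,2,5,4,0,5])) (.node (.word [3,2,5,1,3,4,2,0,1,5]) (.word [1,3,4,0,2,1,2,5,0])))))))))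

/-- A subtree. -/
def wt63 : WTree :=
  (.node (.node (.node (.node (.node (.node (.node (.node (.node (.word [1,5,2,0,1,4,2]) (.word [5,2,1,5,1,4,1])) WTree.none) (.node (.word [2,0,2,4,0,5,2,5,2,4,0,1]) (.word [3,4,0,5,0,1,5,0,2,4,3]))) (.node (.node WTree.none (.word [2,3,0,2,4,2,3,2,0,3])) WTree.none)) (.node (.node (.node (.node WTree.none (.word [5,4,5,4,0,2,5,3,0,4,2,3])) (.word [0,2,3,2,5,4,5,2,3,2,0,4])) (.node (.word [3,0,3,1,3,4,0,4,5,0,1]) (.word [0,5,0,4,1,2,5,4,5]))) (.node (.node (.word [4,1,4,5,0,4,2]) (.word [1,5,1,2,0,1,3,4,2])) (.node WTree.none (.word [1,2,4,2,5,1,2,5,0,5,1]))))) (.node (.node (.node (.node (.node WTree.none (.word [0,2,5,1,5,4,3,0])) (.word [2,0,4,2,4,0,2,3,4,3,5,0,1])) WTree.none) (.node WTree.none (.node WTree.none (.word [1,0,2,3,4,2,5,1,3,0,2])))) (.node (.node (.node WTree.none (.word [3,5,2,4,1,5,2,3])) (.word [3,5,4,1,4,5,3])) (.node (.node (.word [3,0,4,3,4,0,3,2,1,2])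 (.word [0,2,5,3,2,5,3,1,5,2,0])) (.node (.word [0,5,0,5,3,2,4,5,2,1]) (.word [3,2,4,3,1,2,0,5,1])))))) (.node (.node (.node (.node (.node (.node (.word [2,5,2,5,1,2]) (.word [5,3,1,3,0,3,4,2,4])) (.word [5,4,3,1,2,4,5,4,3])) (.word [3,5,2,3,4,3,0,5])) (.node (.node WTree.none (.word [2,4,0,4,3,5,2,1,3])) (.node (.word [3,1,5,1,3,5,3]) (.word [5,0,5,2,3,4,3,2])))) (.node (.node (.node WTree.none (.word [5,4,2,1,2,3,5,2,3])) WTree.none) (.node WTree.none (.node (.word [3,2,1,0,5,0,1,4,3]) (.word [5,4,2,1,2,5,4,3,0,5,0]))))) (.node (.node (.node (.word [2,0,4,1,4,0,2,5,0,5]) (.word [2,4,2,1,2,0,2,5,1])) (.node (.node (.word [5,3,5,2,1,4,1,5,4,0,5]) (.word [2,5,4,5,1,4,2,3,0,5,1])) (.node WTree.none (.word [1,2,0,4,5,1,5,0,2,1])))) (.node (.node (.node (.node WTree.none (.word [3,4,1,0,5,0,5,3,4,5])) (.word [5,4,1,2,4,5,3,2])) (.node WTree.none (.word [3,1,5,3,5,3,4]))) (.node (.node (.word [5,2,5,4,2,1,2]) (.word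 [0,5,0,5,0,2,4,1,3,0,4])) WTree.none))))) (.node (.node (.node (.node (.node (.node WTree.none (.word [2,5,3,2,1,3,5,2,4])) (.node (.word [5,0,4,1,4,5,4]) (.word [2,1,4,0,2,0,4,2]))) (.node (.node (.word [0,4,1,0,2,0,2,0,1,4,0,4]) (.word [1,0,4,5,2,5,4,0,4,1])) (.node (.word [0,4,1,5,2,5,1,4,0]) (.word [1,4,5,0,1,3,4,2])))) (.node (.node (.node (.node (.word [1,2,5,3,1,3,5,2,4,1]) (.word [2,4,1,3,0,1,5,1,4])) (.word [1,5,0,3,0,5,4,1])) (.node (.word [3,5,2,5,3,2,0,5,4,1]) (.word [2,0,4,3,2,4,2,1,4,1,2,0]))) (.node (.word [2,4,5,1,2,3,2,4,5,3]) (.word [1,2,0,2,3,5,4,1,3,0,5,3,1])))) (.node (.node (.node (.node (.node (.word [0,5,0,2,1,5,4,0,5,4]) (.word [2,4,5,2,4,0,3,0,3,5])) WTree.none) (.word [0,5,3,4,2,5,0,4])) (.node (.node WTree.none (.word [2,0,3,5,1,3,5,0,2,3,2,3])) (.word [1,5,4,1,4,0,4,2,4]))) (.node (.node (.node (.node (.word [5,3,2,0,3,0,3,2,5]) (.word [2,4,0,5,1])) (.word [1,5,0,5,0,2,4,3,5]))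 (.node (.word [3,0,3,1,4,2,4,3,0,3,2]) (.word [1,0,5,1,3,1,4,2,0]))) (.node (.node WTree.none (.word [3,1,2,4,5,2,5,3])) (.node (.word [3,2,3,5,1,2,4,5,4,0,5,0]) (.word [0,2,1,2,5,0,4,3,1])))))) (.node (.node (.node (.node (.node (.node WTree.none (.word [3,2,5,3,1,4,1,5,1])) WTree.none) (.node WTree.none (.word [2,4,5,3,5,1,3,0,5,1]))) (.node (.node (.word [2,4,0,1,2,5,1,4]) (.word [3,0,4,1,4,0,4,2,3,4])) WTree.none)) (.node (.node (.node (.node WTree.none (.word [0,5,4,2,4,3,5,3,5,0,3,1])) (.word [2,5,4,0,5,4,1,3,0,3,2])) (.word [0,2,1,5,0,5,2,5,0,1])) WTree.none)) (.node (.node (.word [3,4,2,5,2,5,4,3]) (.node (.node WTree.none (.word [0,3,0,5,2,3,2,5,0,3,0])) (.node (.word [5,3,1,3,0,3,4,1,2]) (.word [2,4,5,1,3,0,5,4,1,2])))) (.node (.node (.node (.word [0,4,5,4,3,0,2,4,5,0,2]) (.word [3,2,1,0,5,0,2,4,3,1])) (.node WTree.none (.word [0,4,1,0,3,4,3,5,3,1,5,0]))) (.node (.node WTree.none (.word [5,2,4,1,4,0,5]))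 (.node (.word [5,3,0,3,0,3,0,5,4]) (.word [2,4,3,4,1,2])))))))) (.node (.node (.node (.node (.node (.word [2,1,4,0,2,5,4,1]) (.node (.node WTree.none (.word [0,3,2,5,4,0,2,1,3,0,2,1])) (.node WTree.none (.word [5,4,0,5,1,3,5,1,4,0,2])))) (.node (.node (.node WTree.none (.word [1,2,4,0,3,4,2,4,1])) (.word [2,4,3,0,5,4,1,4])) (.node (.node (.word [1,5,0,5,3,2,4,3,5]) (.word [2,4,0,2,3,2,3,5,1])) (.node (.word [5,4,1,4,1,2,0,2,5]) (.word [1,2,4,0,1,3,4,2,1]))))) (.node (.node (.node (.node WTree.none (.word [3,0,4,0,2,0,3,4,0,3,4])) (.node (.word [1,3,4,0,5,0,2,3,1]) (.word [2,1,2,5,2,5]))) (.node (.node (.word [3,5,0,5,3,5,0,3,5,3]) (.word [4,3,5,3,1,5,3])) (.node WTree.none (.word [3,4,5,1,0,5,0,3,1,4,0,5])))) (.node (.node (.node (.node WTree.none (.word [5,3,1,3,0,1,3,0,5,1])) (.word [0,5,3,2,1,5,2,4,2,0,1])) (.node (.word [3,5,0,4,0,3,4,1,5,3,2,5]) (.word [2,3,5,3,4,5,4,3,2]))) (.node (.node WTree.none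 (.word [2,0,5,0,2,0,5,0,2])) (.word [1,0,5,4,0,2,3,2,4,0,3,2]))))) (.node (.node (.node (.node (.node (.node WTree.none (.word [1,2,0,5,1,5,4,0,2,4,1])) (.word [3,4,1,4,1,3,1])) (.word [5,4,5,3,5,4,0,5])) (.node (.node (.word [1,3,5,0,4,0,5,3,1]) (.word [2,4,5,0,5,0,5,1,4])) WTree.none)) (.node (.node (.node (.node (.word [1,5,2,0,3,1,3,4,2]) (.word [3,5,1,5,3])) WTree.none) WTree.none) (.node (.node (.word [3,2,4,5,3,4,3,0,5]) (.word [3,5,3,5,3,5,0,2,5])) (.node WTree.none (.word [2,3,5,1,3,2,4,0,1,4,2]))))) (.node (.node (.word [0,5,0,2,5,4,1,5,1]) (.node (.node (.word [3,0,3,1,4,3,0,4,2,3,4]) (.word [2,0,2,5,2,0,1,4,5,4])) (.node (.word [5,3,2,3,0,5,4]) (.word [5,4,2,5,4,1,2,3,2])))) (.node (.node (.node (.node WTree.none (.word [1,5,2,0,3,0,5,4,1])) (.word [5,0,1,5])) (.node WTree.none (.word [3,4,1,2,0,2,1,2,5,0]))) (.node (.node (.word [2,4,3,5,2,4,3,0,5]) (.word [0,3,0,5,4,3,4,2,5,0,2,0])) (.word [0,5,0,4,2,5,4,5,1]))))))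 (.node (.node (.node (.node (.node (.node (.node WTree.none (.word [5,4,0,2,5,2,0,2])) (.word [1,2,4,5,2,4,3,5,4,1])) (.node WTree.none (.word [1,5,1,3,1,3,0,5]))) (.node (.node (.word [3,0,2,5,3,4,0,2,3,1]) (.word [2,5,0,2,0,2,0,1,2,5,2])) (.node (.word [5,4,0,1,2,5,2,0,1,2]) (.word [1,5,2,0,3,0,5,1,4])))) (.node (.node (.node (.node WTree.none (.word [1,2,3,5,1,4,2,4,0,5])) (.word [5,4,2,0,5,4,0,5,0,3,0,4,3,5])) (.node WTree.none (.word [0,4,3,1,3,0,1,4,5,0,2,3]))) (.node (.node (.word [3,5,0,4,0,5,3,5,2,1,4]) (.word [2,4,2,3,4,2,3])) (.word [3,2,3,1,3,0,3,4,2,0])))) (.node (.node (.node (.node (.node (.word [3,4,1,0,5,0,5,3,4,2,5]) (.word [2,5,2,5,2,5,0,2,5])) (.word [5,3,4,2,1,5,0,2,5,1])) (.word [5,4,2,5,2,3,5,3,4,0,5])) (.node (.node (.word [2,4,0,2,0,1,4,2]) (.word [1,0,3,5,1,3,5,3,1,5,0])) WTree.none)) (.node (.node (.node (.node WTree.none (.word [0,3,5,0,2,0,4,2,0,4,0,1])) WTree.none) WTree.none)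 (.node (.node (.word [3,4,1,3,2,1,2,4,3]) (.word [0,4,2,1,2,0,3,5,1,2,5,0])) (.word [1,2,5,2,5,2,1]))))) (.node (.node (.node (.node (.node (.node WTree.none (.word [5,3,2,3,0,4,1,4,5])) (.word [0,4,3,2,4,2,1,5,2,0,1])) (.node (.word [0,4,2,5,3,4,5,2,0,5,3]) (.word [2,3,1,5,4,2,4,0,5]))) (.node (.node (.word [1,5,0,5,3,5,0,5,1]) (.word [5,4,0,2,3,5,4,1,3,0,2])) (.node (.word [2,3,5,3,1,2,4,5,1]) (.word [1,5,1,2,1,5,1])))) (.node (.node (.node (.node WTree.none (.word [2,4,0,4,3,5,2,3,4])) (.word [3,2,1,0,2,1,2,0])) (.node (.word [3,4,1,2,4,3,1,5,0,5]) (.word [3,5,3,5,1,3]))) (.node WTree.none (.node (.word [5,3,4,1,2,5,0,5,4,1]) (.word [3,5,2,3,2,0,5,1,4,2]))))) (.node (.node (.node (.node (.node WTree.none (.word [0,2,5,3,5,3,4,5,4,5,2,0])) (.word [3,4,2,1,4,1,3,1])) (.word [3,5,0,4,2,3,4,1,2,3,0,1])) (.node WTree.none (.node (.word [3,4,2,3,2,3,4,3]) (.word [2,0,5,2,1,2,5,4,0,5,3])))) (.node (.node (.node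 (.node WTree.none (.word [3,5,0,4,0,3,4,3,5,3,5])) (.word [3,0,3,2,3,0,4,3,1,2])) (.node WTree.none (.word [1,2,4,2,1,2,0,1,4,2,1]))) (.node (.node (.word [5,1,2,0,1,5]) (.word [3,4,1,0,2,4,3,0,4,1])) (.node WTree.none (.word [4,1,5,0,4,2,4])))))))))

/-- A subtree. -/
def wt64 : WTree :=
  (.node (.node (.node (.node (.node (.node WTree.none (.node (.node WTree.none (.word [3,0,3,5,4,3,2,5,0,4,0])) (.node WTree.none (.word [5,0,4,5,3,5,4,5])))) (.node (.node (.node (.word [1,3,0,3,5,0,2,4,2,4,1]) (.word [3,5,0,5,3,5,0,1,5,1,3])) WTree.none) (.node (.word [3,4,5,3,5,2,4,3]) (.node (.word [2,5,4,3,4,5,1,2]) (.word [2,4,3,0,2,1,5,1]))))) (.node (.node (.node (.node (.node (.word [3,4,1,0,5,0,1,2,3]) (.word [5,3,1,4,5,2,0,5,4,1])) WTree.none) (.node (.word [5,3,2,3,5]) (.word [5,3,0,4,2,5,0,3,1,5]))) (.node (.word [5,3,5,2,4,2,0,5,0]) (.word [1,4,5,0,3,4,2]))) (.node (.node (.node (.node WTree.none (.word [3,5,2,3,2,5,0,5,1]))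 (.word [3,5,2,5,4,0,3,4,2,0])) (.node WTree.none (.word [5,4,5,1,4,1,3,0,5,0]))) (.node (.node (.word [0,4,1,2,5,4,5,3,2,0,1]) (.word [0,4,2,4,2,4,3,0,1,2,1,4])) (.node (.word [0,4,2,5,0,2,0,5,2,4,0]) (.word [0,3,2,3,5,3,2,0,1])))))) (.node (.node (.node (.node (.node (.word [3,2,5,3,4,0,1,4,2]) (.word [5,3,2,3,0,5])) WTree.none) (.node (.node (.word [2,4,0,2,0,1,3,4,2]) (.word [1,2,4,0,3,4,1,2,1,4])) (.node WTree.none (.word [2,3,5,1,3,1,2,4,5])))) (.node (.node (.node (.node WTree.none (.word [5,3,0,4,3,1,2,3,0,4,2,0,2])) (.word [0,2,4,1,5,3,5,1,3,0,2,3])) (.node (.word [2,5,3,0,4,0,5,2,5,2,3,4]) (.word [2,4,0,2,4,1,4,5,1]))) (.node (.node WTree.none (.word [2,4,2,5,4,1,3,5])) (.word [0,5,0,2,5,4,5,1])))) (.node (.node (.node (.node (.word [2,3,5,3,1,2,4,5,4,1]) (.word [2,5,4,2,0,2,0,5,3,0,1,3])) WTree.none) (.word [0,5,0,5,1,3,2,4,2,5,2])) (.node (.node (.node (.node (.word [5,2,1,3,2,3,5]) (.word [2,4,1,3,0,2,1,5,1]))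 (.word [5,2,4,1,4,0,2,5])) (.node (.word [3,0,3,1,3,1,4,0,4,5,0,1]) (.word [5,2,0,4,1,4,5]))) (.node (.word [4,2,4,1,4,2]) (.node (.word [2,4,5,3,5,0,1,5,1]) (.word [1,3,0,2,3,0,4,2,0,1,3,1]))))))) (.node (.node (.node (.node (.node (.node (.node (.word [3,2,4,5,2,5,1,3]) (.word [2,4,5,0,5,0,5,1])) (.word [5,4,5,1,3,5,4,0,3,4,2])) (.node WTree.none (.word [2,4,5,3,0,5,1,4,2,4]))) (.node (.word [5,3,4,0,2,0,2,1,5,4,2]) (.node WTree.none (.word [3,2,1,5,3,4,5,4])))) (.node (.node (.node (.node WTree.none (.word [0,5,2,4,1,3,5,0,4,3])) (.word [5,4,0,5,2,3,0,5,4,5,3,5,0])) (.word [5,3,4,2,3,5,1,4,2,4])) (.node WTree.none (.node (.word [5,3,0,3,0,2,3,0,5,4]) (.word [3,4,0,4,1,2,4,5,0,3]))))) (.node (.node (.node (.node WTree.none (.word [2,0,3,2,3,5,2,4,0,2])) (.node (.word [5,4,2,4,5,3,1,2]) (.word [2,4,5,0,2,4,3,0,1,5]))) (.node (.node (.word [3,2,3,5,3,1,2,5,0,5,0]) (.word [1,0,4,0,1,4,0,4,5,0,4])) (.node WTree.none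 (.word [0,5,2,3,0,4,2,5,3,5,0])))) (.node (.node (.node (.node (.word [1,5,0,3,0,5,1,4]) (.word [2,4,1,3,0,1,5,1])) (.word [3,5,0,5,1,2,0,1,5,2,0])) (.node (.word [0,2,0,3,0,2,0,5,2,5]) (.word [3,2,1,3,2,5,2,4,0,2,5]))) (.node (.word [5,3,4,2,5,0,1,2,5,1]) (.node WTree.none (.word [5,4,0,3,2,0,2,3,0,4,0,5])))))) (.node (.node (.node (.node (.node (.node (.word [2,4,5,2,3,1,2,5,3]) (.word [2,5,1,2,5,4,0,5,1])) (.word [2,1,4,0,2,5,1])) (.node WTree.none (.word [5,3,1,4,2,5,0,4,2,1]))) (.node (.node (.word [3,0,4,3,4,0,3,4]) (.word [2,0,3,5,1,2,4,3,2,5,0])) (.word [0,2,3,1,4,5,2,0,3]))) (.node (.node (.node (.node (.word [2,4,5,1,3,5,4,1,2]) (.word [1,3,4,0,5,0,1,2,3])) (.word [3,2,5,1,3,1,4,0,1,5])) (.node WTree.none (.word [2,4,0,2,0,4,2,4]))) (.node (.word [3,2,1,0,2,0,1,3,0,2,0]) (.node (.word [2,5,0,4,0,2,0,2,0,4,0,5,2]) (.word [3,2,4,0,2,5,1,3,1,4,0]))))) (.node (.node (.node (.node (.word [0,5,0,2,5,4,2,0,4,2])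 (.word [5,3,0,3,0,3,2,5,4])) (.node (.word [0,4,3,5,2,5,4,0,2,4,0]) (.word [3,0,3,0,3,2,0,2,0,3,4]))) (.node (.node (.word [1,0,4,5,2,5,4,0,1]) (.word [2,0,5,4,5,3,5,4,5,0,2])) (.node WTree.none (.word [1,5,3,0,1,3,0,3,5])))) (.node (.node (.node (.node (.word [5,0,1,2,5,1,4,1]) (.word [2,4,0,4,1,4,2,5,1])) (.word [3,1,3,4,2,1,2])) (.node (.word [5,0,4,3,5,1,2,3]) (.word [2,4,5,4,1,4,1,5,0,5,1]))) (.node (.word [0,2,3,5,3,1,2,3,0,4]) (.node WTree.none (.word [3,4,0,5,1,5,0,2,4,3,0])))))))) (.node (.node (.node (.node (.node (.node (.node (.word [5,4,1,4,0,4,1,4,5]) (.word [4,2,1,3,4,3,2])) (.node (.word [3,4,3,2,4,1,3]) (.word [1,5,2,0,3,4,2,4]))) (.node (.node WTree.none (.word [3,1,2,5,3,4,5,1])) (.node WTree.none (.word [0,4,0,2,5,0,5,2,0,4,0])))) (.node (.node (.node WTree.none (.word [0,4,0,5,4,2,1,4,5,3,4,5,3,0])) (.node (.word [2,0,3,2,1,5,3,2,5,0,3]) (.word [2,5,1,5,4,3,0,5,1]))) (.node (.node (.word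 [2,4,5,4,3,5,2,3,2]) (.word [0,5,3,1,3,5,0,4,3])) (.node (.word [3,2,4,3,2,0,5,4,1,4]) (.word [3,2,1,0,4,2,4,5,0,1,3]))))) (.node (.node (.node (.node (.word [0,5,0,2,3,5,4,5,1]) (.word [3,0,5,3,4,3,1,5,2,1,4,0,3])) WTree.none) (.node (.node WTree.none (.word [1,0,2,4,3,1,5,0,5,0,5,0])) (.node (.word [3,2,1,5,4,5,4,2,3]) (.word [2,4,1,4,2])))) (.node (.node (.node (.node (.word [0,5,2,5,3,0,1,4,0,5,2,3]) (.word [3,2,3,5,2,1,5,0,5,0])) (.word [3,5,0,3,4,5,0,1,4,2,3,0])) WTree.none) (.node (.node (.word [1,5,0,5,3,5,4,2]) (.word [0,3,2,0,2,3,0,4,1,3])) (.node (.word [5,3,4,2,3,5,0,1,5,1]) (.word [1,3,5,1,3,5,3,4,1])))))) (.node (.node (.node (.node (.node (.node WTree.none (.word [2,5,3,0,2,3,4,5,2,3,0,4])) (.word [1,2,0,3,2,4,2,4,2,0])) (.node (.word [2,1,2,4,5,2,1,5]) (.word [0,2,4,5,3,5,3,0,2,3]))) (.node (.word [1,2,4,5,2,4,3,0,4,2]) (.node (.word [1,0,2,3,5,1,3,2,3,5,0]) (.word [2,3,5,4,2,4,5])))) (.node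 (.node (.node (.node (.word [2,3,5,3,2,4,0,5]) (.word [0,5,0,3,0,5,3,0,3,2])) WTree.none) (.word [3,5,1,4,3,5,3])) (.node (.node (.word [5,2,1,5,1,4,1,4]) (.word [3,1,5,2,5,4,2,3])) (.word [3,2,4,3,2,1,4,2])))) (.node (.node (.node (.node (.word [2,0,4,2,5,1,2,0,1,2]) (.word [1,0,4,0,5,3,0,2,3,4,1,4,0])) (.word [0,2,0,3,0,4,3,0,2,3])) (.node (.word [0,4,5,4,3,0,2,4,5,0,1,2]) (.node WTree.none (.word [0,3,4,1,0,4,5,2,0,4,2,0])))) (.node (.node (.node (.node WTree.none (.word [0,3,4,2,0,1,3,1,3,0])) (.word [1,2,0,5,3,5,4,0,4,5])) (.node (.word [2,3,5,1,3,2,4,0,4,2]) (.word [2,4,5,0,1,5,3,0,5,1]))) (.node (.node WTree.none (.word [0,4,2,1,4,1,5,0,3,4])) (.word [0,2,4,5,0,2,1,4,0,3,0])))))) (.node (.node (.node (.node (.node (.word [1,0,2,4,0,3,5,0,2,0,3,2]) (.node WTree.none (.word [0,3,0,4,0,3,0,2,1,2]))) (.node (.word [2,1,2,5,0,5]) (.word [1,2,4,3,4,2,4,1]))) (.node (.node (.node (.word [5,4,5,3,5,4,5]) (.word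 [2,3,5,2,5,2,3,2,4])) (.word [1,4,1,4,5,0,5,4])) (.node (.node (.word [0,5,1,0,3,2,5,2,1,3,5]) (.word [2,4,5,0,3,1,5,1,4,2])) (.node WTree.none (.word [2,4,5,0,1,2,4,3,5,4]))))) (.node (.node (.node (.node (.node WTree.none (.word [1,3,0,2,1,2,5,4,2,4,0,4])) (.word [1,4,5,0,3,1,4,2])) (.word [1,3,5,0,5,3,5,0,1,4,0,2])) WTree.none) (.node (.node (.node (.word [2,4,2,1,2,0,5,1,4]) (.word [1,2,4,2,0,1,5,3,0,3,1])) (.node (.word [2,4,5,1,2,4,3,0,5]) (.word [2,4,5,3,0,5,4,2,4]))) (.node (.node WTree.none (.word [2,4,3,0,3,2,3,5,1])) (.node (.word [3,5,0,3,4,5,1,4,2,3,0]) (.word [0,5,1,2,0,3,2,0,3,0,2,4])))))) (.node (.node (.node (.node (.node (.node (.word [1,3,5,0,4,0,5,3,4,1,4]) (.word [3,2,4,3,2,0,1,5,1,4])) (.word [0,5,0,2,3,4,3,0,5,0])) (.word [2,4,3,0,1,5,4,1,4])) (.node (.word [2,4,5,4,1,4,0,5,4,2]) (.word [0,2,5,1,4,3,4,5,4,3,0]))) (.node (.node (.node WTree.none (.word [0,2,4,5,3,1,5,3,0,4,3])) (.node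 (.word [1,0,3,2,4,3,2,4,0,2]) (.word [5,4,5,4,3,0,1,5,0]))) (.node (.word [0,2,3,5,1,3,1,2,3,5,0]) (.node WTree.none (.word [4,2,4,3,0,5,1]))))) (.node (.node (.node (.word [0,5,0,2,5,1,3,5,2,3]) (.node (.word [2,5,0,4,5,4,0,5,4,3,5]) (.word [0,5,2,4,3,5,0,1,4,1]))) (.node (.node WTree.none (.word [3,5,2,3,2,0,5,0,5,1])) (.node WTree.none (.word [4,5,2,5,2,1,2])))) (.node (.node (.node WTree.none (.word [0,3,2,0,4,1,3,2,0,3,5,2])) WTree.none) (.node (.node (.word [5,1,2,0,2,5,4]) (.word [2,4,0,2,4,3,5,2,3])) (.node (.word [5,0,5,1,4,1]) (.word [1,5,0,2,3,5,2,5,3])))))))))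

/-- A subtree. -/
def wt65 : WTree :=
  (.node (.node (.node (.node (.node (.node (.node (.node (.node (.word [2,4,0,2,5,4,1]) (.word [3,2,5,1,3,4,0,2,5])) WTree.none) WTree.none) (.node (.word [3,2,1,5,4,2,1,5,3]) (.node WTree.none (.word [3,0,3,2,4,2,5,0,5,3,5,1])))) (.node (.node (.node (.node (.word [3,2,5,3,1,4,0,4,2]) (.word [5,3,1,2,4,5,2,4,2])) (.word [2,0,5,1,5,4,0,4,5])) (.node (.word [5,3,1,5,0,5,4,2,1,3,0,3]) (.word [2,4,0,3,2,1,3,5]))) (.node (.node (.word [1,0,5,0,1,5,0,4,1]) (.word [0,4,0,3,0,3,0,4,0,4])) (.node WTree.none (.word [3,2,5,3,4,2,0,4,2]))))) (.node (.node (.node (.node (.node WTree.none (.word [5,3,5,2,3,0,5,0,4])) (.word [0,2,1,0,4,0,3,0,4,1])) (.node WTree.none (.word [1,2,4,2,5,4,3,0,5]))) (.node (.node (.word [0,4,5,4,1,3,0,5,2,1,5,0]) (.word [3,2,5,1,4,2,3,5,3])) WTree.none)) (.node (.node (.node WTree.none (.word [0,2,5,0,2,5,4,0,2,4])) (.node (.word [3,2,4,3,1,2,4,1,2])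 (.word [2,1,4,0,1,5,1,4]))) (.node (.node WTree.none (.word [2,5,4,0,5,3,2,5,3,4,0,1])) (.node (.word [5,4,3,5,0,1,3,4,2,0]) (.word [0,4,2,5,2,5,2,4,5,0])))))) (.node (.node (.node (.node (.node WTree.none (.word [2,4,5,0,5,4,2,4])) (.node WTree.none (.word [5,3,0,3,0,3,4,1,4,5]))) (.node (.word [5,4,5,2,1,4,0,5,0]) (.node WTree.none (.word [3,5,1,3,4,1,5,3])))) (.node (.node (.node (.node (.word [4,2,4,0,2,5,1]) (.word [1,2,4,5,1,3,0,4,3,2,3])) WTree.none) (.node WTree.none (.word [0,3,5,1,5,4,2,5,0]))) (.node (.node (.word [0,5,0,2,4,2,5,3,5]) (.word [5,4,5,4,1,3,4,0,1,5,0])) (.node WTree.none (.word [2,4,3,0,1,2,1,5,1]))))) (.node (.node (.node (.node (.node (.word [3,2,1,5,3,1,4,0,5]) (.word [3,0,5,2,5,2,3,0,5,3,4])) (.word [3,2,3,0,1,2,5,2,4,0,2])) WTree.none) (.node (.node (.word [1,0,2,5,0,4,5,0,1,3,5,2]) (.word [1,0,3,2,0,4,0,3,2,0,2,4])) (.node WTree.none (.word [2,1,4,0,1,5,4,1])))) (.node (.node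 (.node (.node (.word [0,2,5,0,2,5,1,4,0,2]) (.word [5,3,4,0,1,2,0,4,3,2,5])) (.word [0,4,2,4,2,1,4,3,0,2,4,1])) (.node (.word [0,4,5,1,3,0,3,1,5,4,0,4]) (.word [1,5,2,5,1,4,5,0,5]))) WTree.none)))) (.node (.node (.node (.node (.node (.word [2,4,2,3,4,2,1,3]) (.word [3,5,3,5,3,4])) (.node (.node (.word [5,3,4,2,0,5,3,4,2,4]) (.word [5,4,2,4,5,3,2,4])) (.node WTree.none (.word [3,2,3,4,0,5,3,4,2,4,1])))) (.node (.node (.node (.node (.word [0,2,4,3,0,2,1,3,4]) (.word [1,2,1,2,4,5,0,4,2])) (.word [5,3,5,4,5,4,0,4,3,2,3])) (.word [3,2,3,4,0,2,4,1,3,0,5])) (.node (.node WTree.none (.word [2,4,3,0,2,5,1,4])) (.node WTree.none (.word [1,2,5,0,1,2,0,5,2,1]))))) (.node (.node (.node (.node (.word [2,0,4,3,1,3,0,4,0,5]) (.word [1,4,5,2,0,4,1,2])) (.node WTree.none (.word [2,4,1,5,0,5,4,1,2]))) (.node (.node WTree.none (.word [0,5,0,3,2,5,3,2,1,5])) WTree.none)) (.node (.node (.node (.word [0,4,1,0,5,1,0,3,0,2,0,2,1])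 (.word [1,2,0,3,1,3,4,0,2,4,1])) (.node (.word [3,2,4,2,1,2,3,2,0,5,1]) (.word [2,4,3,0,1,5,1,4]))) (.node (.node WTree.none (.word [2,4,2,5,4,3,0,4,2])) (.node (.word [5,0,2,0,5,2,1,2]) (.word [1,2,4,1,4,2,4,1,4])))))) (.node (.node (.node (.node (.node (.node WTree.none (.word [2,1,4,3,0,5,4,1])) (.word [1,2,0,5,4,0,4,1,3,5,0,2,4])) (.word [2,0,2,1,4,2,1,2,4,5,2,0,2])) WTree.none) (.node (.node (.node (.node (.word [4,5,1,2,0,2,5]) (.word [0,5,0,2,5,4,0,4,2])) WTree.none) (.node (.word [5,3,4,2,3,0,1,5,4,2]) (.word [5,3,5,2,1,4,2,0,5,0]))) (.node (.node WTree.none (.word [2,4,5,0,4,3,5,2,3,2])) (.node WTree.none (.word [3,0,5,4,2,4,0,1,2,3,4]))))) (.node (.node (.node WTree.none (.node (.word [3,4,0,4,1,3,5,2,0,3]) (.word [5,3,4,1,2,5,4,2]))) (.word [5,4,2,3,5,3,2,4])) (.node (.node (.node (.word [0,2,4,3,0,2,3,5,0,5]) (.word [5,4,0,5,2,1,5,2,5,0,2])) (.node (.word [5,4,5,1,3,2,0,5,0]) (.word [2,4,5,0,2,4,2,3,5])))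 (.node (.word [0,2,1,2,5,3,4,1,2,0]) (.node WTree.none (.word [5,3,4,1,2,5,3,0,5,1])))))))) (.node (.node (.node (.node (.node (.node (.node (.node (.word [5,4,5,3,5,4,0,2,5]) (.word [2,0,3,2,3,5,2,4,0,1,2])) WTree.none) (.word [2,4,5,3,5,4,2])) (.node (.node (.word [1,3,0,3,4,1,5,0,5,2,1]) (.word [3,5,2,3,4,3,5])) (.word [2,5,4,2,1,2,4,5,2]))) (.node (.node (.node (.word [1,2,4,5,2,4,3,2,0,4,2]) (.word [5,4,3,2,4,1,5,4,3])) (.node (.word [3,2,4,0,2,3,2,4,2,0,3,4]) (.word [0,5,0,5,1,4,3,2,4,5,2]))) (.word [2,4,5,0,5,4,2,1,4,1]))) (.node (.node (.node (.node (.node (.word [3,4,0,5,4,1,4,0,3,1,3,0]) (.word [0,5,0,2,1,5,4,5,4])) (.word [0,4,2,4,1,2,4,3,0,4,0,2])) (.node WTree.none (.word [2,4,2,1,2,3,0,5,1]))) (.node (.node WTree.none (.word [3,0,5,2,3,1,2,4,2,4,0,1])) (.node (.word [5,4,5,4,2,5,1,3,0,5]) (.word [0,3,2,5,2,4,2,0,2,3])))) (.node (.node (.node (.word [3,1,3,5,0,2,5]) (.word [1,2,4,5,4,5,3,0,4,0,5,3]))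 (.node WTree.none (.word [3,5,4,5,3,4,5,0,5]))) (.node (.node WTree.none (.word [0,5,0,3,4,5,3,5,2,3])) (.node (.word [1,5,0,4,2,5,0,5,4]) (.word [3,1,5,3,4,1,5,3])))))) (.node (.node (.node (.node (.node WTree.none (.word [5,4,0,3,1,3,4,0,2])) (.node (.word [2,4,5,1,2,4,3,0,1,5]) (.word [2,4,2,1,2,3,0,1,5,1]))) (.node WTree.none (.node WTree.none (.word [2,4,5,0,5,1,3,4,1,2])))) (.node (.node (.word [5,0,4,1,4,2,5,4]) (.word [5,3,4,0,2,0,4,3,0,5,4])) (.node (.node (.word [2,3,0,3,2,3,0,3,4]) (.word [2,5,4,2,0,2,1,5,3,0,1,3])) (.node (.word [3,2,1,4,3,5,4,2,3,5]) (.word [5,3,4,2,0,5,3,0,5,1]))))) (.node (.node (.node (.node (.word [4,2,4,0,5,1,4]) (.word [2,3,2,0,4,5,0,3,1,2,0,5,3])) (.word [5,4,3,1,5,0,3,4,2,0])) (.node (.node (.word [0,3,1,5,2,3,4,0,3,2,5,0]) (.word [2,5,3,5,0,5,3,5,0,2])) WTree.none)) (.node (.node (.node (.node WTree.none (.word [1,2,5,2,0,2,0,5,2,1])) (.word [2,0,4,5,4,1,4,5,0,5,3]))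 (.node (.word [0,5,0,2,5,1,4,1,5,1]) (.word [2,4,0,5,1,2,1,2]))) (.node (.node (.word [1,4,1,2,1,2]) (.word [1,2,4,2,5,2,5,0,5,1,4])) (.node (.word [1,2,0,2,0,3,1,4,1,2,0,2,0]) (.word [3,4,5,2,5,2,4,3]))))))) (.node (.node (.node (.node (.node (.node (.node (.word [5,3,2,1,3,0,4,2,4]) (.word [0,5,2,1,0,2,3,0,4,1,2,0])) (.word [2,4,5,2,4,3,0,5])) (.node WTree.none (.word [2,4,3,0,5,1]))) (.node (.node WTree.none (.word [2,4,1,4,2,4,5,0,5])) (.node WTree.none (.word [3,5,0,4,0,2,3,4,5,2,3,5])))) (.node (.node (.node (.node (.word [5,2,5,1,4,1]) (.word [1,2,1,4,0,4,2,4,1])) WTree.none) (.word [5,4,5,4,3,2,5,4,0,5])) (.node (.node (.word [0,2,4,2,3,0,2,3,0,3,0]) (.word [0,2,5,3,0,1,4,3,5,2,0])) (.node (.word [1,2,4,1,3,0,4,2,1]) (.word [1,5,0,1,3,0,5,1]))))) (.node (.node (.node (.node WTree.none (.word [3,0,5,0,3,0,2,4,0,5,4,5])) (.node (.word [0,5,0,3,2,3,5,3,5]) (.word [3,2,5,3,1,4,0,4,2,4]))) (.node (.node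 (.word [3,2,5,1,3,4,2,5]) (.word [0,5,0,2,1,5,1,4,5,4])) (.word [5,4,1,4,5]))) (.node (.node (.node (.node WTree.none (.word [2,4,5,3,5,3,0,5,1])) WTree.none) (.node (.word [0,3,2,1,2,3,0,5,0,4,1]) (.word [1,2,1,2,4,1,4]))) (.node WTree.none (.node (.word [0,5,4,5,4,1,3,4,5,4,0,1]) (.word [2,5,0,2,0,2,0,1,5,2])))))) (.node (.node (.node (.node (.node (.node (.word [4,1,5,2,0,4,2]) (.word [1,5,0,4,2,5,0,1,5])) (.word [0,5,1,2,5,0,3,1,4,5,4,0])) (.node (.word [0,3,2,5,2,4,2,0,2,3,4]) (.word [2,4,1,5,0,5,4,2]))) (.node WTree.none (.node (.word [2,3,2,5,2,5,1,3,2]) (.word [3,5,3,5,1,3,4])))) (.node (.node (.node (.node WTree.none (.word [3,2,3,4,0,2,5,2,0,5,1])) WTree.none) WTree.none) (.node (.word [5,3,1,3,5,4,1,4]) (.word [5,4,1,4,2,0,1,5])))) (.node (.node (.node (.word [2,0,4,2,5,2,0,1,3,2,3]) (.node (.word [2,1,4,0,2,1,5,1]) (.word [3,4,0,4,1,4,0,2,3,1]))) (.node (.node WTree.none (.word [5,4,1,4,5,4]))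 WTree.none)) (.node (.node (.node WTree.none (.word [0,4,0,3,4,5,3,0,1,4])) (.node (.word [1,0,3,5,3,4,0,3,0,4,0]) (.word [0,2,3,0,2,0,3,2,0]))) (.node (.node WTree.none (.word [0,4,3,0,2,0,5,3,2,0,2])) (.node WTree.none (.word [3,2,4,3,2,1,3,0,5,1])))))))))

/-- A subtree. -/
def wt66 : WTree :=
  (.node (.node (.node (.node (.node (.node (.node (.node (.node WTree.none (.word [5,0,5,3,4,2,4,3])) (.word [5,4,0,1,2,5,2,0,2,4])) (.node WTree.none (.word [5,0,2,1,5]))) (.node (.node (.word [5,4,3,2,0,3,5,0,4,3,5]) (.word [5,3,1,3,2,0,1,4,1,2])) (.node (.word [5,4,2,1,3,5,3,2,1]) (.word [3,5,0,4,0,4,5,3,1,5,2,1])))) (.node (.word [2,4,5,0,3,5,0,5,1]) (.node (.node WTree.none (.word [5,4,5,0,3,0,5,4,5])) (.node (.word [3,4,5,1,5,1,4,3]) (.word [1,5,0,3,0,1,5,4,1]))))) (.node (.node (.node (.node (.node (.word [5,4,2,0,2,3,2,4,5,1,2,0]) (.word [1,2,5,4,2,5,1,5,3,5,0,5,0])) (.word [2,5,4,5,1,2,4,2,0,5,1])) (.word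 [2,5,1,2,5,1,2])) (.node (.node (.word [0,4,3,2,0,4,5,0,2,0,1]) (.word [5,2,0,2,5])) (.node WTree.none (.word [2,0,4,0,3,2,4,1,2,3,5,0])))) (.node (.node (.node (.node (.word [0,3,0,2,1,3,1,2,0,3,0]) (.word [3,0,5,1,2,4,2,4,2,3,5,0,1])) (.word [3,2,4,3,2,0,2,5,1])) (.node WTree.none (.word [0,5,2,4,3,5,0]))) (.node (.word [4,5,0,5,1,4,1]) (.node (.word [0,2,3,2,0,1,2,4,0,1,4]) (.word [3,2,3,4,2,0,2,4,1,3,5])))))) (.node (.node (.node (.node (.node (.node WTree.none (.word [5,4,0,3,0,1,5,0,2,5,0])) WTree.none) (.word [0,3,5,3,5,3,0,5,0,5])) (.node (.node (.word [3,5,0,3,0,2,0,3,0,4,5,3]) (.word [2,5,4,2,3,4,1,5,0,5,0,5,0,1,3,2,3,5])) WTree.none)) (.node (.node (.node (.word [3,4,3,2,4,3,5,0,5]) (.word [5,3,5,2,5,2,5,3,0,5,0])) (.node (.word [2,4,0,5,1,5,0,2,5]) (.word [1,3,5,3,5,1,3,1]))) (.node (.node WTree.none (.word [5,0,3,4,3,2,5,3])) WTree.none))) (.node (.node (.node (.node WTree.none (.word [5,0,2,4,1,4,5]))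 (.word [2,4,0,2,5,1])) (.word [3,0,5,0,3,0,5,3,0,2,3,2])) (.node (.node (.node (.node (.word [5,4,5,1,5,4,2,0,1,4,2]) (.word [3,4,1,0,5,0,2,3,1,4])) (.word [2,1,2,5,0,5,4])) WTree.none) (.node (.node (.word [2,5,3,2,3,5,2,4]) (.word [1,5,2,5,1,4])) (.word [2,0,2,1,5,2,4,0,1,2])))))) (.node (.node (.node (.node (.node (.node (.node (.word [1,2,5,1,2,5,1,2,1,4]) (.word [2,0,5,3,5,0,2,5,3,5,2])) WTree.none) WTree.none) (.node (.word [1,0,4,5,1,5,3,0,4,3,2,0]) (.word [3,0,5,3,4,0,2,3,1,3,4,0]))) (.node (.node (.node (.word [5,2,0,1,5,1,4,1]) (.word [3,4,5,3,5,1,4,3,1])) WTree.none) (.node (.node (.word [5,0,1,2,3,2,3,5]) (.word [2,5,2,5,2])) (.word [0,4,3,2,5,1,3,0,3,5,2,4])))) (.node (.node (.node (.node (.word [2,0,2,3,1,0,5,3,2,0,3,1]) (.word [3,5,0,4,0,3,4,5,3,0,5])) (.node (.word [2,0,2,1,5,2,1,4,0,1,2]) (.word [2,4,0,1,4,3,5,2,3]))) (.node (.node (.word [1,0,3,2,0,3,4,5,0,4,0,1]) (.word [0,3,1,5,3,5,3,2,4,3,0]))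 (.node WTree.none (.word [3,2,1,0,5,0,4,2,1,2,3])))) (.node (.node (.node (.node (.word [5,3,0,3,0,4,3,2,5,3]) (.word [1,5,0,4,5,1,2,5,2])) WTree.none) (.word [1,5,0,4,2,5,2,1,5])) (.node (.node (.word [3,5,4,5,1,3]) (.word [0,3,0,4,0,3,0])) (.word [5,0,1,4,1,4,5]))))) (.node (.node (.node (.node (.node (.node (.word [3,5,1,4,3,5,3,4]) (.word [3,2,4,0,2,3,2,4,2,0,3])) (.word [3,5,2,5,3,2,0,5,1])) WTree.none) (.node (.node WTree.none (.word [0,5,4,5,3,0,4,0,1,3,0,5])) (.node (.word [3,5,2,4,5,1,2,3]) (.word [0,2,4,1,5,2,0,5,2,3,2,0])))) (.node (.node (.node (.node (.word [1,0,2,1,2,0,2,3,4]) (.word [5,3,1,2,3,0,4,1,2])) (.word [2,5,1,5,4,0,5,1,4])) (.node WTree.none (.word [0,4,0,3,4,3,5,3,0,4,1]))) (.node (.word [4,3,5,1,4,5,3]) (.node (.word [5,3,5,2,1,3,0,5,0,4]) (.word [0,3,2,0,2,3,0,2,4,3]))))) (.node (.node (.node (.node (.node WTree.none (.word [2,3,2,0,3,0,2,3,2,3])) (.word [2,4,0,3,1,3,0,5])) (.node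 (.word [5,3,0,3,0,1,2,3,5,1]) (.word [1,2,0,2,3,4,2,1,3,0]))) WTree.none) (.node (.node (.node (.node (.word [5,3,5,2,0,5,2,3,0,3]) (.word [2,4,5,0,1,3,5,4,2,4])) WTree.none) (.node (.word [0,2,5,3,2,5,4,3,5,4,3,0]) (.word [1,2,3,0,4,2,0,3,4,3,0]))) (.node (.node (.word [5,0,2,1,5,3,1,3]) (.word [2,4,0,2,1,2,5,4,1])) (.node (.word [2,4,5,2,3,2,4,5,1,3]) (.word [1,0,2,0,2,4,0,5,0,1,3])))))))) (.node (.node (.node (.node (.node (.node WTree.none (.node (.word [5,3,4,2,0,2,1,4,3,5]) (.word [3,2,5,0,2,3,1,4,0,4,3,2,0]))) (.node (.node (.word [0,2,4,2,3,1,3,0,2,3,0]) (.word [2,3,5,3,4,3,2,4,0,5])) (.node WTree.none (.word [3,4,1,0,3,4,1,2,0,4])))) (.node (.node (.node (.node WTree.none (.word [3,4,5,1,5,4,3,1])) WTree.none) (.word [0,3,4,2,3,1,3,0])) (.node (.node (.word [3,0,2,1,4,2,3,2,0,3,4]) (.word [2,1,4,0,1,2,5,1])) (.node (.word [3,2,5,0,2,4,3,5,0,1,4]) (.word [5,0,2,4,1,4,0,5]))))) (.node (.node (.node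 (.node (.node WTree.none (.word [2,4,5,3,1,5,0,2,5,1])) (.word [1,5,3,4,5,2,0,5,1])) (.word [2,4,2,0,1,5,1,4,3,0,3])) (.node (.node (.word [0,4,2,5,3,4,2,4,0,5,3,4]) (.word [5,4,5,0,3,0,5,4,0,5])) (.node (.word [2,3,5,4,2,4,0,5]) (.word [2,4,3,0,3,1,2,3,5])))) (.node (.node (.node (.node (.word [2,4,5,1,3,1,5,0,5,1]) (.word [2,3,5,1,3,2,1,4,0,4,2])) (.word [1,2,4,0,1,3,4,2,1,4])) WTree.none) (.node (.node WTree.none (.word [0,5,1,5,0,5,4,1,4,0,4])) WTree.none)))) (.node (.node (.node (.node (.node (.node (.word [0,3,1,4,0,3,4,0,3,0,5,3]) (.word [2,4,5,3,5,0,5,1])) (.word [5,3,5,3,2,3,0,5,0])) (.word [5,3,5,2,3,4,0,5,0,4])) (.word [2,4,0,2,5,1,2,1,2])) (.node (.node (.node (.word [1,2,3,5,1,4,2,4,5]) (.word [1,0,2,4,1,3,0,2,5,4,3])) (.node (.word [2,3,5,2,1,2,3,2,4,0,5]) (.word [3,1,3,5,1,5]))) (.node (.word [3,5,2,3,2,0,3,5,4,2]) (.node (.word [0,3,2,1,2,3,0,5,0,1]) (.word [5,0,3,2,3,0,5,4]))))) (.node (.node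 (.node (.node (.node (.word [1,4,5,1,2,5,1]) (.word [3,2,5,4,2,1,5,3,1])) (.word [0,5,2,3,5,3,2,4,2,0,4])) (.node (.word [2,4,0,1,5,1,3,1,3]) (.word [0,5,1,0,5,4,5,0,1,5,0]))) (.node (.node (.word [0,4,0,2,0,5,4,5,4,0,3]) (.word [2,5,4,2,0,2,0,5,3,0,3,4])) (.word [3,5,2,3,1,4,2,3,0,5]))) (.node (.node WTree.none (.node (.word [2,3,0,3,5,0,3,0,5,0]) (.word [1,2,4,0,3,0,1,4,2,1]))) (.node (.node (.word [2,4,2,1,2,3,4,2,4]) (.word [3,5,0,4,2,5,2,0,5,3,4])) (.word [2,4,5,0,2,3,2,5,3,4])))))) (.node (.node (.node (.node (.node (.node (.node (.word [2,5,3,0,4,3,2,4,2,3,0,4]) (.word [3,2,5,3,4,1,5,1])) (.word [2,5,4,5,3,0,1,3,5,4,5,2])) (.node (.word [5,3,1,3,0,1,3,4,1,2]) (.word [2,5,3,5,0,1,5,3,5,0,2]))) (.node WTree.none (.node (.word [5,0,5,4,5,0,2,5]) (.word [2,4,5,0,3,1,5,4,1,2])))) (.node (.node (.node (.node WTree.none (.word [3,0,3,5,0,1,5,4,3,0,3])) (.word [3,5,0,5,1,3,5,0,4,0,5])) WTree.none) (.node (.node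 WTree.none (.word [0,2,0,2,4,2,3,4,0,2,0])) (.node WTree.none (.word [3,5,2,0,3,5,2,0,3,4,2,3]))))) (.node (.node (.node (.node (.word [3,2,1,2,3,4,1]) (.word [5,3,1,2,3,0,3,0,5,1])) (.node (.word [2,4,0,1,2,0,3,4,2]) (.word [2,0,4,5,2,0,5,2,0]))) (.node (.node WTree.none (.word [5,3,1,5,0,5,4,1,3,0,1,3])) (.node WTree.none (.word [1,5,2,0,4,1,2])))) (.node (.node (.node (.node (.word [3,4,1,3,0,5,0,2,3,1]) (.word [3,0,2,0,4,3,0,2,0,1,3])) (.word [5,0,1,5,4,2,1,2])) WTree.none) (.node (.node (.word [2,5,3,0,4,0,2,5,4,5,2,3]) (.word [0,2,4,3,0,1,5,3,4,5])) (.node (.word [3,0,3,2,3,0,4,1,3,2,4]) (.word [0,3,0,3,4,5,4,0,2,0,3,4,5])))))) (.node (.node (.node (.node (.node (.node (.word [3,4,5,1,5,1,4,1,3]) (.word [0,2,4,3,0,2,3,5,1,5])) (.word [2,5,0,5,4,5,0,1,5,1,2])) (.word [1,5,2,1,5,4,1])) (.node (.node (.word [3,4,0,3,1,3,5,0,5,0,1]) (.word [3,0,2,1,2,0,3,1,2])) (.node WTree.none (.word [3,2,5,2,3,1,5,0,5,4,2,1]))))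 (.node (.node (.node (.node (.word [3,0,3,5,0,5,4,3,0,3]) (.word [3,0,4,3,4,0,3])) WTree.none) (.node (.word [5,3,1,2,3,0,3,4,2]) (.word [2,0,2,3,4,2,3,0,4,3,1]))) (.node (.node (.word [5,4,3,1,5,2,3,4]) (.word [2,4,2,4,3,0,2,4,1,3,5])) (.node WTree.none (.word [2,4,5,0,1,5,3,4,2,4]))))) (.node (.node (.node (.word [0,4,0,2,0,1,4,2,0,1,3]) (.node (.word [1,5,4,2,4,5,3,2,1]) (.word [2,0,2,3,0,3,0,2,4,2,0]))) (.node (.node (.word [0,2,3,4,0,3,4,1,5,0,1]) (.word [1,5,4,3,1,5,1,2,3])) (.node WTree.none (.word [2,3,5,4,2,1,4,0,1,5])))) (.node (.node (.word [5,4,5,1,2,0,2,4,3,5,0]) (.word [2,0,2,3,5,3,2,5,0,3,2,1])) (.node WTree.none (.word [5,0,3,2,3,1,5]))))))))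

/-- Points. -/
def levY1pts0 : List ℕ := [3,4,7,9,10,12,14,16,17,19,21,22,23,24,26,27,29,32,34,36,37,38,39,40,42,43,44,46,47,48,49,53,55,56,59,60,61,62,63,67,68,69,72,73,74,75,77,81,88,93,94,95,96,100,101,102,104,106,107,108,111,113,116,118,119,121,123,125,126,127,130,132,133,134,136,137,139,140,141,142,143,145,146,149,150,151,152,154,155,156,157,158,162,163,164,166,167,169,170,173,175,179,180,184,185,186,188,190,191,192,194,195,196,197,198,199,201,203,204,205,206,209,210,211,212,213,214,215,216,219,222,223,225,226,227,228,229,230,232,233,235,236,237,238,240,246,247,248,249,251,252,253,254,255,256,258,260,261,263,266,267,268,270,271,272,273,274,276,277,278,279,280,281,284,291,295,296,297,301,302,303,308,310,311,312,313,314,315,316,318,320,321,324,327,328,329,332,334,335,338]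

/-- Points. -/
def levY1pts1 : List ℕ := [339,343,344,347,350,351,352,353,356,357,358,359,360,363,365,366,367,368,369,370,376,377,380,381,382,383,385,388,392,393,397,399,400,401,402,405,406,407,408,409,410,411,413,414,415,417,418,419,420,421,422,423,424,425,426,427,428,429,430,431,432,433,434,437,438,441,442,443,445,446,447,449,450,452,453,454,455,456,457,458,459,460,461,462,463,465,466,469,472,473,476,478,480,483,486,487,488,490,491,493,495,496,497,500,502,504,505,508,510,511,513,516,517,519,520,521,522,524,525,527,528,530,535,536,537,540,541,542,543,544,545,546,547,548,549,550,551,552,553,554,555,556,557,558,559,560,561,563,564,565,568,570,571,574,576,577,580,582,583,587,588,589,590,591,595,596,597,598,600,601,603,604,605,606,607,608,610,611,613,616,618,619,620,622,624,625,626,627,629,633,634,635,636,637,639,640,641,645,646,647]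

/-- Points. -/
def levY1pts2 : List ℕ := [648,649,650,651,653,655,657,659,665,666,668,669,670,671,672,673,674,676,677,678,683,684,686,687,688,689,690,691,693,694,695,696,698,700,701,702,704,706,707,708,709,710,711,712,713,714,715,716,717,718,719,720,721,722,723,724,725,726,727,728,729,731,732,734,735,738,741,743,747,749,750,753,754,756,757,758,760,765,767,768,771,774,775,777,778,779,781,785,786,787,788,791,792,795,796,797,798,799,800,802,803,805,809,810,814,815,816,817,818,819,823,824,827,828,829,832,836,839,840,841,842,845,846,848,849,851,852,854,855,856,857,858,859,863,864,865,872,874,875,878,879,881,882,885,886,887,889,891,892,893,894,895,896,898,899,900,901,904,905,907,910,911,913,914,916,921,923,933,936,939,943,946,947,950,953,954,956,957,959,961,962,963,966,969,970,971,972,974,975,978,979,980,982,983,984,985,989,991,993,996]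

/-- Points. -/
def levY1pts3 : List ℕ := [999,1000,1001,1002,1003,1006,1007,1008,1009,1010,1011,1012,1013,1014,1016,1017,1018,1019,1025,1026,1027,1030,1033,1034,1038,1041,1044,1047,1049,1051,1053,1055,1058,1059,1060,1061,1062,1063,1065,1066,1072,1082,1087,1088,1091,1092,1093,1094,1097,1102,1103,1104,1105,1106,1107,1110,1111,1113,1115,1116,1118,1119,1121,1124,1127,1128,1129,1133,1136,1137,1139,1142,1143,1144,1146,1147,1148,1149,1150,1151,1153,1154,1156,1161,1163,1164,1165,1166,1167,1168,1169,1170,1171,1172,1173,1174,1176,1177,1180,1181,1182,1183,1184,1185,1187,1188,1190,1192,1193,1194,1195,1196,1197,1198,1199,1200,1203,1206,1207,1209,1210,1211,1212,1214,1215,1219,1221,1222,1224,1225,1228,1229,1230,1231,1232,1233,1237,1238,1239,1240,1241,1242,1243,1244,1245,1246,1247,1248,1249,1250,1252,1254,1255,1256,1257,1259,1260,1261,1262,1263,1265,1266,1267,1268,1270,1271,1272,1273,1274,1275,1276,1278,1279,1280,1281,1282,1283,1284,1285,1286,1287,1288,1290,1293,1296,1297,1298,1299,1301,1302,1303,1306,1307,1309,1310,1311,1312,1313,1314,1315]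

/-- Points. -/
def levY1pts4 : List ℕ := [1317,1318,1319,1320,1321,1323,1324,1325,1328,1332,1335,1337,1338,1339,1340,1341,1342,1344,1346,1348,1350,1352,1353,1355,1359,1361,1364,1365,1367,1369,1371,1373,1374,1375,1378,1379,1380,1382,1383,1386,1390,1393,1394,1395,1397,1400,1401,1402,1403,1404,1407,1408,1409,1411,1412,1415,1416,1417,1420,1421,1424,1425,1427,1428,1433,1434,1436,1437,1440,1441,1443,1446,1447,1448,1449,1450,1451,1452,1454,1455,1456,1457,1460,1461,1462,1463,1464,1465,1466,1467,1469,1470,1472,1474,1476,1477,1478,1479,1480,1481,1482,1483,1485,1486,1488,1490,1494,1495,1496,1497,1498,1499,1502,1503,1504,1505,1506,1509,1510,1511,1512,1514,1515,1516,1518,1519,1520,1521,1524,1525,1526,1527,1529,1530,1532,1534,1535,1536,1537,1538,1540,1541,1542,1546,1550,1551,1552,1553,1558,1559,1561,1564,1566,1568,1569,1571,1573,1574,1576,1577,1578,1580,1583,1584,1585,1586,1587,1588,1590,1592,1593,1595,1599,1601,1603,1606,1609,1613,1616,1617,1618,1620,1622,1625,1626,1627,1629,1630,1632,1633,1636,1638,1640,1641,1643,1645,1646,1647,1649,1651]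

/-- Points. -/
def levY1pts5 : List ℕ := [1655,1656,1659,1662,1664,1668,1669,1670,1673,1674,1675,1677,1678,1680,1682,1685,1687,1691,1693,1695,1696,1697,1699,1704,1705,1706,1708,1709,1712,1716,1719,1720,1724,1725,1726,1728,1734,1737,1738,1746,1747,1748,1752,1754,1756,1757,1759,1761,1762,1763,1764,1768,1770,1772,1773,1778,1779,1780,1781,1782,1785,1792,1793,1794,1798,1803,1804,1805,1806,1807,1808,1811,1812,1814,1817,1819,1820,1822,1823,1824,1825,1826,1827,1828,1829,1830,1832,1833,1834,1835,1836,1837,1839,1841,1842,1843,1844,1845,1846,1847,1848,1849,1850,1853,1854,1856,1857,1859,1860,1861,1867,1868,1870,1878,1879,1880,1883,1885,1886,1887,1892,1894,1899,1901,1902,1903,1905,1906,1907,1908,1910,1911,1912,1914,1917,1918,1920,1921,1922,1923,1925,1926,1927,1928,1929,1931,1933,1934,1935,1936,1937,1938,1939,1940,1941,1942,1943,1946,1947,1948,1949,1950,1952,1953,1954,1955,1956,1957,1958,1959,1960,1962,1964,1967,1970,1971,1972,1973,1974,1975,1976,1978,1979,1981,1982,1983,1986,1988,1989,1990,1992,1993,1995,1996,1997,1998,1999,2000,2001,2002]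

/-- Points. -/
def levY1pts6 : List ℕ := [2003,2004,2005,2006,2007,2008,2009,2011,2012,2013,2014,2015,2017,2019,2020,2021,2022,2026,2029,2031,2034,2036,2037,2043,2044,2045,2047,2050,2052,2056,2061,2062,2063,2064,2065,2066,2068,2069,2072,2075,2076,2078,2081,2082,2083,2086,2088,2089,2090,2091,2092,2093,2096,2099,2100,2102,2103,2105,2109,2111,2114,2115,2116,2119,2121,2123,2125,2126,2128,2129,2130,2131,2132,2133,2134,2135,2137,2138,2139,2140,2141,2142,2143,2144,2148,2149,2151,2152,2153,2155,2156,2158,2159,2160,2161,2162,2163,2164,2165,2166,2167,2168,2170,2171,2172,2175,2176,2177,2178,2179,2181,2183,2184,2185,2186,2191,2192,2193,2194,2195,2196,2197,2198,2199,2200,2201,2202,2203,2204,2206,2207,2208,2209,2210,2212,2213,2214,2215,2216,2217,2218,2219,2221,2222,2223,2224,2225,2226,2227,2228,2229,2230,2231,2232,2233,2235,2236,2237,2238,2239,2240,2241,2242,2244,2245,2246,2247,2248,2250,2251,2252,2253,2254,2255,2256,2257,2258,2261,2262,2263,2265,2266,2267,2268,2270,2271,2272,2273,2274,2276,2280,2281,2282,2283,2287,2288,2289,2291,2292,2294]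

/-- Points. -/
def levY1pts7 : List ℕ := [2297,2300,2301,2304,2305,2306,2307,2309,2310,2311,2312,2313,2314,2315,2316,2321,2322,2323,2324,2326,2327,2328,2331,2332,2333,2336,2337,2338,2339,2340,2341,2342,2343,2344,2345,2346,2347,2349,2351,2353,2355,2356,2357,2361,2363,2364,2365,2366,2367,2369,2371,2376,2378,2379,2380,2381,2382,2383,2384,2385,2386,2388,2390,2399,2401,2402,2403,2404,2405,2408,2409,2411,2413,2415,2416,2419,2422,2425,2426,2427,2428,2429,2430,2433,2434,2435,2437,2438,2439,2441,2443,2444,2445,2446,2447,2448,2449,2450,2451,2454,2455,2456,2457,2458,2459,2460,2461,2462,2463,2465,2467,2471,2472,2475,2476,2477,2481,2482,2484,2486,2488,2489,2491,2492,2493,2494,2495,2497,2498,2499,2500,2501,2502,2503,2504,2506,2507,2509,2511,2513,2514,2515,2517,2519,2520,2521,2523,2524,2526,2529,2531,2532,2533,2534,2535,2536,2537,2538,2539,2540,2544,2545,2546,2547,2548,2549,2551,2552,2553,2554,2555,2556,2558,2563,2566,2568,2569,2570,2571,2572,2573,2574,2575,2576,2577,2578,2579,2580,2582,2583,2584,2585,2587,2588,2590,2591,2592,2594,2595,2598]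

/-- Points. -/
def levY1pts8 : List ℕ := [2599,2600,2605,2606,2608,2609,2610,2611,2612,2613,2614,2615,2616,2617,2618,2622,2624,2625,2626,2627,2628,2630,2632,2633,2634,2635,2636,2637,2638,2639,2640,2641,2642,2643,2645,2646,2648,2650,2652,2653,2657,2658,2659,2660,2661,2665,2667,2668,2671,2672,2673,2675,2676,2677,2680,2682,2686,2687,2689,2690,2694,2695,2698,2700,2703,2704,2705,2706,2707,2708,2709,2710,2711,2712,2713,2714,2715,2716,2717,2718,2719,2720,2721,2722,2723,2724,2725,2727,2728,2729,2730,2731,2732,2733,2734,2735,2736,2737,2738,2739,2740,2742,2743,2746,2748,2749,2750,2751,2755,2757,2758,2759,2760,2762,2771,2772,2773,2774,2775,2776,2777,2778,2781,2783,2784,2785,2786,2787,2788,2792,2794,2795,2798,2801,2804,2805,2806,2807,2808,2809,2811,2813,2814,2815,2818,2819,2820,2821,2822,2823,2824,2825,2828,2829,2830,2831,2832,2834,2835,2838,2842,2843,2844,2847,2852,2853,2854,2855,2860,2862,2863,2865,2866,2867,2869,2870,2871,2872,2873,2874,2875,2876,2877,2879,2880,2884,2885,2886,2887,2888,2889,2891,2892,2894,2895,2898,2899,2900,2901,2903]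

/-- Points. -/
def levY1pts9 : List ℕ := [2905,2906,2907,2909,2912,2914,2917,2918,2919,2921,2925,2928,2929,2930,2932,2933,2934,2937,2940,2941,2942,2943,2944,2946,2947,2948,2949,2950,2951,2952,2953,2954,2955,2957,2958,2961,2962,2963,2964,2965,2966,2967,2968,2969,2970,2971,2972,2973,2975,2976,2977,2979,2983,2984,2985,2988,2989,2990,2991,2995,2996,2997,3000,3003,3005,3007,3009,3010,3011,3012,3013,3014,3017,3018,3021,3023,3026,3027,3028,3029,3030,3031,3032,3033,3034,3035,3036,3039,3042,3043,3044,3045,3048,3050,3055,3056,3057,3058,3059,3062,3063,3064,3065,3067,3069,3072,3073,3074,3075,3076,3078,3080,3082,3085,3087,3088,3089,3090,3092,3096,3099,3100,3101,3103,3106,3107,3108,3112,3113,3114,3115,3117,3118,3120,3121,3123,3126,3127,3128,3130,3131,3133,3134,3135,3136,3137,3140,3141,3143,3144,3149,3150,3152,3153,3156,3159,3160,3161,3162,3163,3164,3165,3169,3171,3172,3178,3179,3180,3181,3185,3186,3187,3188,3190,3191,3193,3196,3197,3198,3205,3206,3207,3210,3211,3213,3216,3217,3219,3221,3222,3223,3224,3225,3226,3229,3230,3232,3233,3234,3238]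

/-- Points. -/
def levY1pts10 : List ℕ := [3239,3241,3242,3243,3244,3245,3246,3247,3248,3249,3252,3253,3255,3256,3257,3261,3262,3263,3264,3265,3268,3269,3270,3273,3277,3282,3290,3292,3295,3301,3302,3303,3307,3309,3311,3312,3313,3314,3317,3318,3319,3323,3324,3326,3327,3328,3329,3330,3331,3333,3334,3335,3338,3341,3342,3346,3348,3349,3350,3351,3352,3355,3356,3358,3360,3363,3364,3366,3369,3377,3378,3379,3384,3386,3390,3392,3393,3399,3401,3402,3403,3404,3405,3407,3412,3413,3414,3417,3418,3420,3421,3422,3423,3424,3425,3426,3429,3430,3431,3433,3434,3435,3436,3437,3438,3439,3440,3441,3443,3451,3452,3453,3454,3455,3460,3461,3462,3463,3464,3466,3467,3468,3469,3470,3471,3472,3473,3475,3476,3478,3479,3481,3488,3489,3490,3491,3493,3494,3495,3496,3499,3501,3502,3504,3508,3510,3511,3512,3514,3515,3520,3522,3523,3525,3526,3527,3531,3533,3534,3536,3537,3539,3540,3543,3544,3545,3546,3547,3548,3549,3550,3551,3552,3554,3555,3556,3557,3559,3560,3561,3562,3563,3564,3565,3566,3567,3568,3569,3570,3571,3572,3575,3576,3577,3581,3582,3588,3589,3591,3592]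

/-- Points. -/
def levY1pts11 : List ℕ := [3594,3595,3596,3597,3598,3599,3600,3602,3603,3605,3608,3609,3610,3611,3613,3614,3615,3619,3623,3627,3629,3633,3635,3636,3637,3638,3639,3640,3641,3642,3645,3646,3647,3650,3651,3653,3655,3657,3658,3659,3662,3664,3665,3666,3669,3670,3671,3672,3675,3676,3677,3680,3682,3684,3686,3689,3690,3692,3693,3694,3695,3696,3698,3699,3700,3701,3702,3703,3704,3705,3706,3708,3709,3710,3711,3715,3716,3717,3718,3722,3724,3725,3726,3727,3728,3729,3730,3731,3734,3735,3738,3739,3741,3742,3743,3744,3745,3746,3748,3749,3750,3752,3753,3754,3755,3756,3757,3758,3759,3761,3764,3765,3768,3769,3770,3772,3774,3775,3776,3779,3780,3781,3782,3783,3790,3795,3796,3800,3802,3803,3805,3806,3809,3810,3811,3813,3814,3816,3817,3819,3821,3824,3825,3826,3827,3830,3835,3837,3838,3839,3840,3842,3843,3845,3846,3847,3848,3850,3851,3852,3853,3854,3855,3856,3857,3859,3864,3866,3867,3869,3871,3872,3874,3879,3880,3881,3882,3883,3885,3892,3893,3894,3895,3896,3897,3898,3899,3900,3901,3902,3903,3906,3907,3909,3910,3911,3912,3913,3916,3921]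

/-- Points. -/
def levY1pts12 : List ℕ := [3922,3923,3924,3925,3926,3927,3928,3929,3932,3933,3935,3937,3940,3941,3942,3943,3944,3945,3947,3948,3949,3950,3951,3952,3953,3954,3955,3956,3957,3958,3961,3962,3963,3967,3968,3971,3972,3973,3974,3975,3977,3979,3980,3981,3982,3983,3985,3986,3989,3990,3991,3992,3994,3995,3996,3997,3998,4000,4001,4002,4003,4005,4007,4008,4009,4011,4016,4017,4020,4023,4024,4025,4026,4027,4028,4030,4031,4034,4036,4037,4038,4041,4042,4043,4045,4046,4052,4053,4055,4057,4058,4060,4061,4062,4067,4068,4069,4070,4071,4072,4073,4074,4075,4076,4077,4078,4079,4080,4081,4082,4083,4084,4085,4086,4087,4088,4090,4091,4092,4093,4094,4096,4099,4100,4101,4102,4103,4105,4108,4111,4112,4113,4114,4116,4117,4118,4119,4120,4124,4125,4128,4129,4130,4134,4137,4138,4139,4140,4141,4142,4143,4144,4145,4146,4147,4149,4151,4154,4157,4159,4160,4163,4164,4165,4168,4169,4170,4173,4174,4175,4177,4178,4179,4180,4181,4182,4184,4186,4187,4190,4191,4192,4193,4194,4195,4196,4197,4198,4199,4200,4201,4202,4203,4204,4205,4206,4207,4208,4209,4211]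

/-- Points. -/
def levY1pts13 : List ℕ := [4212,4215,4216,4217,4218,4219,4220,4221,4222,4223,4225,4226,4227,4228,4230,4231,4234,4235,4236,4237,4238,4239,4240,4246,4247,4252,4253,4254,4255,4257,4258,4259,4261,4264,4265,4268,4269,4272,4273,4274,4275,4277,4281,4283,4286,4288,4289,4290,4292,4295,4301,4302,4310,4312,4313,4316,4317,4319,4320,4321,4324,4325,4328,4329,4330,4333,4335,4337,4339,4340,4341,4345,4349,4350,4352,4355,4357,4359,4364,4369,4372,4373,4374,4376,4377,4378,4380,4382,4383,4386,4387,4388,4389,4390,4391,4392,4393,4394,4395,4398,4401,4402,4403,4404,4407,4409,4412,4414,4415,4417,4421,4423,4427,4432,4433,4435,4442,4443,4444,4449,4450,4451,4453,4454,4455,4456,4457,4458,4459,4460,4461,4462,4463,4464,4465,4466,4467,4468,4469,4470,4471,4472,4473,4476,4477,4478,4479,4481,4486,4489,4491,4492,4495,4496,4499,4501,4502,4507,4508,4509,4510,4511,4513,4514,4515,4516,4517,4522,4523,4526,4527,4528,4529,4530,4531,4532,4533,4535,4541,4542,4543,4544,4547,4548,4550,4551,4552,4554,4555,4556,4557,4559,4560,4562,4563,4566,4567,4570,4571,4572]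

/-- Points. -/
def levY1pts14 : List ℕ := [4573,4576,4577,4580,4581,4582,4585,4587,4588,4591,4592,4593,4594,4595,4596,4598]

/-- A level. -/
def levY1 : Level :=
  ⟨1033, (.node (.node (.node (.node wt51 wt52) (.node wt53 wt54)) (.node (.node wt55 wt56) (.node wt57 wt58))) (.node (.node (.node wt59 wt60) (.node wt61 wt62)) (.node (.node wt63 wt64) (.node wt65 wt66)))), levY1pts0 ++ levY1pts1 ++ levY1pts2 ++ levY1pts3 ++ levY1pts4 ++ levY1pts5 ++ levY1pts6 ++ levY1pts7 ++ levY1pts8 ++ levY1pts9 ++ levY1pts10 ++ levY1pts11 ++ levY1pts12 ++ levY1pts13 ++ levY1pts14⟩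

/-- A subtree. -/
def wt67 : WTree :=
  (.node (.node (.node (.node (.node (.node (.node (.node (.node WTree.none (.word [5,2,0,5,4,5,1,3,5,4,2,4,3,5,3,0,5])) WTree.none) (.node WTree.none (.word [1,4,5,0,5,2,4,1,5,3,5,2,3,0,4,2]))) (.node WTree.none (.word [5,3,2,3,2,1,5,2,3,5,4,1,5,2,3,2,3]))) (.node (.node (.node (.node (.word [3,2,1,5,3,4,5,3,5,3,1,5,4,2,4,3]) (.word [5,3,4,5,3,5,1,5,4,2,3,1,4])) WTree.none) (.node WTree.none (.word [2,3,5,4,2,1,4,2,4,3,1,5,2,3]))) (.node WTree.none (.node WTree.none (.word [4,3,5,4,5,3,5,1,2,5]))))) (.node (.node WTree.none (.word [2,1,2,5,0,2,0,3,5,1,2,3,4,0,5,0])) (.node WTree.none (.node (.node WTree.none (.word [4,5,2,5,1,2,4,2,1,5,4,3,5])) WTree.none)))) (.node (.node (.node (.node (.node (.node WTree.none (.word [1,2,4,3,1,3,0,4,2,5,4,1,4,0,3,4,2,4])) WTree.none) WTree.none) WTree.none) (.node (.node (.word [4,3,1,5,1,4,1,5,0,4,2,1,4,1,2,4,0,3]) (.word [1,5,2,5,1,2,3,5,2,3,4,2,4,2,3,5]))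 (.node WTree.none (.word [3,4,3,5,3,1,5,3,1,4,1,3])))) (.node (.node (.node (.node (.node (.word [1,4,1,5,2,5,0,2,3,1,0,4,1,3,0,3,4,5,0]) (.word [4,0,5,0,2,5,4,5,1,2,4,5,3,1,5,3,0,5,1])) (.word [1,2,3,5,4,1,2,3,4,1,2,4,5,3])) (.node WTree.none (.word [3,2,0,5,2,0,4,0,2,5,0,2,3]))) (.node (.word [4,2,4,3,0,2,5,0,4,2,0,1,2,3,2,0,4]) (.node (.word [4,2,4,5,2,1,4,3,0,3,4,1,2,0,5,4,2,4]) (.word [5,2,5,0,4,0,5,3,2,0,2,3,5,0,4,0])))) (.node (.node (.node (.node WTree.none (.word [4,2,0,2,4,2,0,2,0,2,5,3,5,2,0])) WTree.none) (.node WTree.none (.word [2,5,3,1,3,5,2,5,4,0,5,0,3,0,5,0,1,4,5]))) WTree.none)))) (.node (.node (.node (.node (.node (.node (.node (.word [2,4,0,2,1,2,1,5,3,5,0,1,4,0,5,3,1,4]) (.word [5,4,3,5,1,2,3,5,3,2,4,3,2,3,5,3])) WTree.none) WTree.none) (.node (.word [3,4,3,5,3,5,4,2,4,3,5,4,3,5,1]) (.word [0,5,2,4,3,5,0,5,4,5,4,1,2,5,1,2,3,5]))) (.node (.node (.node WTree.none (.word [2,1,4,5,3,1,5,4,2,3,2,4,1,5,2,1,5,3]))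 (.word [1,5,2,5,0,5,3,0,4,0,3,5,0,1,4])) (.node WTree.none (.node WTree.none (.word [4,2,4,3,1,5,4,5,4,5,3,5,1,4]))))) (.node (.node WTree.none (.node (.node (.word [3,1,4,2,4,3,2,3,5,3,2,4,3,2,3,5]) (.word [0,3,5,3,5,3,0])) (.word [5,1,2,0,3,2,3,5,1,5,2,0,1,4,1,2,4]))) (.node (.node WTree.none (.word [5,2,5,1,3,5,2,3,4,2,3,5,4,1])) (.node (.node WTree.none (.word [5,2,5,3,2,4,3,5,4,3,5,1,4])) (.node (.word [5,4,5,2,1,4,0,1,0,3,2,5,3,5,1,4]) (.word [1,5,4,3,5,2,3,1,5,4,2,5,4,2,4,3,2])))))) (.node (.node (.node (.node (.node (.node (.word [5,2,0,5,4,1,2,0,5,3,5,4,0,1,4,5]) (.word [2,3,5,3,2,5,3,1,5,4,1,5,4,1])) WTree.none) WTree.none) (.node (.word [5,2,0,2,1,0,5,0,3,2,1,5,4,2,1,3,0,2,4]) (.word [4,2,4,0,2,4,3,5,2,4,0,4,1,4,5,0,4,1,3,1]))) (.node WTree.none (.node (.node (.word [5,0,5,1,3,4,2,1,4,2,3,2,1,5,2,4,0,5,4]) (.word [3,1,2,0,3,4,2,0,1,5,0,1,4,1,2,4])) WTree.none))) (.node (.node (.node (.node (.node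 WTree.none (.word [5,3,2,3,4,3,2,5,2,5,2,5,1,3])) (.word [3,4,3,2,4,3,5,3,4,1,3,2,4,1,5,3])) (.word [4,5,2,5,3,2,3,2,5,2,4,5,1])) (.node (.node WTree.none (.word [3,2,4,5,1,2,5,3,5,4,2,4,5,1,3,2])) WTree.none)) (.node (.node WTree.none (.node (.word [1,4,5,2,5,1,3,2,4,2,1,5,2,3,4,5]) (.word [4,5,0,4,1,4,5,2,4,5,2,1,4,3,0,5]))) WTree.none))))) (.node (.node (.node (.node (.node (.node (.node (.node WTree.none (.word [2,5,2,5,4,3,4,5,2,5,2])) (.word [2,1,5,3,5,3,4,3,5,1,3,5])) WTree.none) (.node (.node (.word [5,2,0,1,2,0,1,2,5]) (.word [3,1,2,3,5,4,2,4,2,5,2,4])) (.word [3,5,4,5,1,3,2,5,4,1,3,4,2,1,5,2]))) (.node (.node WTree.none (.word [5,2,4,3,5,3,0,2,0,4,2,0,2,0])) (.node (.node WTree.none (.word [1,4,5,2,0,4,1,3,5,3,2,1,4,2,0,5])) (.node WTree.none (.word [3,2,4,5,1,3,4,5,2,4,5,4,2,5,1]))))) (.node (.node (.node (.node WTree.none (.word [1,5,1,4,1,3,2,4,1,2,1,5,4,3])) (.node WTree.none (.word [1,4,5,1,0,3,5,1,5,3,0,5,4,1])))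 (.node WTree.none (.node (.word [5,0,3,4,2,5,4,0,5,3,0,3,0,2,5,2,0,3,5]) (.word [1,5,3,4,2,5,1,4,2,1])))) (.node (.node (.node (.node (.word [3,2,4,1,3,2,1,5,2,0,2,0,4,3,5]) (.word [3,5,4,1,4,5,3,5,3,4,3,2,1,3,5,3])) (.word [3,1,3,5,3,1,4,5,1,2,4,2])) (.node WTree.none (.word [2,1,2,3,4,2,4,5,2,3,4,1,3,5,1]))) WTree.none))) (.node (.node (.node (.node (.node WTree.none (.word [3,2,3,2,4,2,3,1,2,4])) (.word [5,4,5,4,1,3,0,1,5,2,5,0,4,1,3,0,4,5,4,5])) (.node WTree.none (.node (.word [3,5,4,5,3,1,2,5,0,4,1,4,0,4,5,2]) (.word [4,5,4,2,4,3,2,1,4,5,4])))) (.node (.node (.node (.node WTree.none (.word [2,4,3,5,4,2,3,2,3,4,2,5])) (.word [4,5,2,5,2,4,3,1,5,1,5,4,2])) WTree.none) (.word [4,2,1,2,5,0,5,0,5,1,0,4,2,5,4,2,0,5]))) (.node (.node (.node (.node WTree.none (.word [5,2,0,2,0,5,3,5,2,3,1,4,3,5])) (.word [1,2,0,4,1,4,0,1,2,1])) (.word [2,4,1,5,1,5,1,3,4,5,2,5,2])) (.node (.node (.node (.node WTree.none (.word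 [5,4,2,3,1,0,3,0,1,2,4,5])) WTree.none) (.word [4,2,3,2,1,3,4,1,2,3,2,4])) WTree.none)))) (.node (.node (.node (.node (.node (.node (.node (.word [5,1,2,5,4,5,4,3,0,4,0,2,0,4,0,3,4,5]) (.word [2,4,5,3,1,5,4,3,2,1,4,2,3,2,3,1])) WTree.none) WTree.none) (.word [5,4,3,2,4,1,5,4,2,1,4,1,3,5,4,3,5])) (.node WTree.none (.word [1,5,1,4,3,2,3,2,4,2,4,1,3,5]))) (.node (.node (.node (.node (.node WTree.none (.word [3,5,4,5,4,2,4,0,5,2,4,5,1,5,3,0,2])) (.word [1,3,5,2,4,5,3,2,4,2,4,1,3,1,2])) WTree.none) (.node (.node (.word [5,3,2,3,5,2,5,3,5,3,4,5,3,2,5,4,1]) (.word [4,2,4,1,3,4,1,2,5,2,5])) (.word [2,3,5,3,2,4,3,5,0,2,0,2,0,3,5,3,5]))) WTree.none)) (.node (.node (.node (.node (.node WTree.none (.word [5,3,1,2,1,3,5,1,4,1,5,2,5,4])) (.word [5,2,0,2,3,2,3,0,1,5,4])) (.node (.node (.word [1,2,4,5,3,5,0,2,0,2,0,5,4,3,1,5]) (.word [5,0,4,2,4,5,3,2,1,2,4,5,2,4,1,3,0,5])) (.node WTree.none (.word [1,2,4,2,5,1,4,5,3,5,1,3,5,4,1]))))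 (.node (.node (.node (.node WTree.none (.word [3,2,4,5,2,4,2,1,2,5,3,5,1,5])) (.word [5,3,2,3,0,2,5,3,2,5,0,3,1,2,5,2,1,4,2,0])) (.node WTree.none (.word [5,4,1,5,1,4,3,2,5,4,5,1]))) (.node (.node WTree.none (.word [2,1,2,5,2,0,4,5,1,4,2,5,3,0,5])) (.node WTree.none (.word [2,1,4,3,4,2,3,5,4,3,1,5,3]))))) (.node (.node (.node (.node (.word [3,2,4,3,2,4,3,5,2,3,4,1,2,4,3,5]) (.word [4,5,2,4,1,5,2,1,3,2,5,3,5])) (.node WTree.none (.word [2,3,5,2,4,2,5,1,3,2]))) WTree.none) (.node (.node (.node (.node (.word [2,4,3,4,2,5,4,5,1,4,2,3,1,5,3,5]) (.word [0,2,1,2,0,4,3,4,5,1,4,5,2])) WTree.none) (.word [5,3,1,3,5,4,0,5,0,3,2,1,2,3,0])) (.word [4,2,4,1,4,2,3,2,3,5,2,4,5,2,5,4,5])))))))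

/-- A subtree. -/
def wt68 : WTree :=
  (.node (.node (.node (.node (.node (.node (.node (.node WTree.none (.word [4,5,3,5,3,5,3,5,2,5,0,2,0,2,0,5,1,2,4])) (.node WTree.none (.word [5,4,0,2,5,2,0,2,1,3,5,2,1,5,3,5,4,3,5]))) (.node (.node (.word [2,3,5,3,2,4,3,5,3,5,3,5]) (.word [4,5,2,4,2,5,2,3,2,3,1,4])) (.node WTree.none (.word [5,4,5,1,4,2,5,4,0,5,3,0,2,3,4,1,5])))) WTree.none) (.node (.node WTree.none (.word [4,3,5,1,5,4,1,3,5,4,2,3,4,5])) (.node (.node (.word [3,4,2,4,3,5,0,5,1,2,4,5,2,5,2,0,2,5,1]) (.node WTree.none (.word [2,4,5,3,5,1,4,2,3,0,3,2,3,0,1,3,1,2]))) (.node (.node WTree.none (.word [4,1,4,1,0,4,5,3,5,0,2,1,5,0,3,1,4])) (.word [3,2,4,3,2,4,3,5,2,3,4,1,5,3,4,2]))))) (.node (.node (.node (.node (.node (.node (.word [2,4,0,2,5,0,2,0,2,5,0,4,2,3,5,0,3,1]) (.word [5,3,4,3,2,5,3,2,5,0,3,5,3,0,5,2])) WTree.none) WTree.none) (.node (.node WTree.none (.word [5,3,4,5,1,2,0,2,0,2,0,2,4,2,1])) WTree.none))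 (.node (.node (.node WTree.none (.word [4,5,0,4,5,1,2,0,2,5,4,3,4,0,5,2,5,0,4])) WTree.none) (.node (.node WTree.none (.word [2,4,3,0,2,0,5,1,5,0,2,5,1])) WTree.none))) (.node (.node (.node (.node WTree.none (.word [4,2,4,3,2,1,3,4,2,3,5,2,5])) (.word [5,2,0,2,5,3,1,2,3,5,4,0,2,5,3,0,3])) (.node (.node (.word [0,3,1,3,5,0,2,0,2,5,4,1,3,2,0]) (.word [4,1,2,5,0,2,1,2,0,5,2,1,4])) WTree.none)) WTree.none))) (.node (.node (.node (.node (.node (.node (.word [3,5,1,5,0,3,0,4,2,0,3,0,3,4]) (.word [1,5,2,1,5,4,1,0,5,0,4,1,2,5,1,4,5])) (.node WTree.none (.word [2,5,2,5,2,3,0,5,2,1,2,5,0,3]))) (.node (.node WTree.none (.word [2,4,3,0,2,0,4,2,0,3,4,2,3,1,3,0,4])) (.word [3,0,2,1,2,0,4,3,2]))) (.node (.node (.node (.node WTree.none (.word [4,5,2,0,2,1,0,4,2,1,5,4,2,4,3,1,2])) WTree.none) (.word [4,5,0,5,4,3,1,3,5,0,1,2,5])) (.node WTree.none (.word [5,0,3,0,3,0,3,2,0,2,3,2,3,5])))) (.node (.node (.node (.node WTree.none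 (.word [5,1,3,5,2,1,3,4,2,5,4,5,1,4])) (.word [1,4,5,2,0,4,2,0,2,1,5,1,5,4,3,1,5,0])) (.node (.node WTree.none (.word [1,4,5,4,2,1,3,1,4,5,4,2,3,2,4])) (.word [5,2,0,2,1,5,2,5,3,5,0,1,5,3,5,0,2,4]))) (.node (.node (.node (.word [2,1,2,4,3,4,5,1,4,2,3,4,5,4]) (.word [1,3,4,1,2,4,3,2,5,3,5,4,2,5,3,5,2])) (.node (.word [5,1,5,3,2,3,2,0,3,0,2,1,3,2]) (.word [3,1,0,4,3,4,0,3,2,4,0,1,2,1,5,4,1]))) (.node (.node WTree.none (.word [3,1,4,5,2,5,4,5,3,4,1,5,3,4])) (.node (.word [3,5,1,4,3,5,4,5,2,5,4,5,3,5,3]) (.word [0,4,5,4,5,3,5,3,0,1,3,2,0])))))) (.node (.node (.node (.node (.node (.node (.word [1,3,4,0,5,2,0,2,0,1,2,4,0,4,3,0,3,0,1]) (.word [2,3,4,1,3,2,5,4,2,5,3,1,2,3,2])) (.word [3,5,2,3,4,3,4,2,4,5,3,1,2,4])) (.word [2,1,2,1,4,1,5,3,2,3,2,1,5])) (.node WTree.none (.word [0,4,3,5,0,5,0,5,1,0,5,0,3,4,2,0,1,5,3]))) (.node (.node (.node (.node WTree.none (.word [2,5,4,1,3,1,5,4,5,2,5,4,2])) (.word [2,1,2,4,2,4,5,3,1,2,4,3,5,4]))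 WTree.none) (.word [5,2,3,2,1,3,0,4,3,5,1,0,3,0,1,4,5,3,2]))) (.node (.node (.node (.node (.node WTree.none (.word [5,3,2,3,5,2,0,3,2,4,2,3,0,2,3,1])) WTree.none) WTree.none) (.node (.node WTree.none (.word [5,2,5,4,5,2,5])) (.word [0,5,0,4,0,2,5,2,4,0,3,0,2,0,1,2,0]))) (.node (.node (.node WTree.none (.word [5,4,5,3,2,1,4,5,1,2,5,3,2,1,3])) (.node WTree.none (.word [2,1,4,3,1,4,2,3,5,3,5,3,4]))) (.node (.word [2,5,4,1,3,1,4,5,4,5,2,4,2,3,1,2,5]) (.node WTree.none (.word [4,5,2,5,3,2,1,4,5,3,5,2,4,2])))))))) (.node (.node (.node (.node (.node (.node (.node (.word [3,5,3,1,5,1,4,5,1,0,5,0,4,2,4,5,3]) (.word [5,0,3,5,3,5,3,5,3,2,3,4,0,2,5,2,4,2,4])) (.node WTree.none (.word [1,4,5,2,0,4,2,3,2,1,5,3,1,4,0,1,5]))) (.node (.node WTree.none (.word [5,2,0,2,1,0,5,3,5,2,1,2,5,1,3,4])) (.node WTree.none (.word [3,5,4,5,3,5,4,2,4,2,5,2,3,2,4])))) (.node (.node (.node (.node WTree.none (.word [1,5,4,5,2,0,2,3,0,4,0,2,5,3,0]))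 (.word [0,3,2,4,0,4,3,2,1,2,3,0,2,3,0])) WTree.none) (.node WTree.none (.node WTree.none (.word [1,3,4,1,2,4,2,1,3,1,3,5,4,2,5,3]))))) (.node (.node (.node (.node WTree.none (.word [1,5,4,1,4,2,1,5,3,2,1,4,5,2,5,3])) WTree.none) (.node (.node WTree.none (.word [3,4,3,2,4,5,1,5,3,5,2,5])) WTree.none)) (.node WTree.none (.node (.node WTree.none (.word [4,3,5,3,5,3,2,0,3,1,4,0,3,2,3,0,4,0])) (.node WTree.none (.word [5,3,5,4,2,4,5,0,4,2,5,0,2,3,5])))))) (.node (.node (.node (.node (.word [2,4,3,0,2,0,4,5,1,5,4,0,2,5,1]) (.node WTree.none (.word [3,4,1,2,4,3,0,3,1,2,1,4,2,3,0,2]))) (.node (.node (.word [5,2,0,5,4,3,1,0,3,2,3,0,1,4,3,2]) (.word [1,4,5,0,3,4,0,5,4,1,3,2,4,2,4,5,4,0])) (.node WTree.none (.word [2,5,0,2,5,1,2,3,0,3,5,0,2,0,1,2,5])))) WTree.none) (.node (.node (.node (.word [0,4,0,5,2,3,4,5,2,4,1,5,0,1,4,3,5]) (.word [4,2,5,4,2,4,5,3,2,1,3])) (.node WTree.none (.word [4,2,1,2,5,0,3,2,3,0,1,2,1,5])))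 (.node (.node (.node (.word [2,4,0,5,4,1,3,4,5,1,5,0,2,1,2,5,0]) (.word [0,5,2,4,3,0,4,2,3,5,4,5,1])) WTree.none) (.node (.node WTree.none (.word [4,0,4,5,4,2,0,3,0,2,0,1,4,0])) (.word [4,5,2,4,5,1,4,2,5,3,5,4])))))) (.node (.node (.node (.node (.node WTree.none (.node WTree.none (.word [3,4,5,4,3,2,4,3,5,4,2,1]))) (.node (.node (.word [5,1,2,5,1,3,5,3,5,1,3,4,1]) (.word [4,2,1,5,2,5,2,0,3,4,2,5,0,2,1,3,4])) (.node (.word [2,4,3,1,4,2,3,4,1,5,2,5,1,4,3]) (.word [5,1,0,5,4,3,1,3,5,0,1,5])))) (.node WTree.none (.node (.word [3,4,2,4,5,0,4,2,5,2,0,1,5,3]) (.node (.word [2,1,3,5,4,2,4,3,4,5,2,4,1,2,1]) (.word [4,5,4,1,4,3,1,4,2,3,5,4,2,4,1]))))) (.node (.node WTree.none (.node WTree.none (.node WTree.none (.word [2,1,2,4,3,5,4,2,3,4,3,5])))) (.node (.node WTree.none (.word [5,3,2,3,2,1,5,4,3,1,5,4,5,3])) (.node (.node WTree.none (.word [4,5,4,1,5,4,1,3,2,5,4,5])) (.node WTree.none (.word [2,1,4,0,2,0,3,0,2,0,4,1,2]))))))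 (.node (.node (.node (.node (.node WTree.none (.word [1,5,2,1,5,1,3,2,3,2,5,3,1,5,3,2])) WTree.none) (.node (.node WTree.none (.word [5,2,0,5,4,5,0,5,2,4,1,2,1,3,4,2,3])) WTree.none)) (.node (.node WTree.none (.word [5,1,0,5,0,3,5,2,5,1,5,4,0,3,2,5,0])) (.node WTree.none (.word [4,5,4,0,3,1,3,4,2,0,2,4,2,0,2,0,2,4])))) (.node (.node WTree.none (.word [1,4,5,0,4,1,2,3,0,2,0,3,2,4,0,2,0,3])) (.node (.node (.node (.word [1,5,0,4,3,1,3,2,3,0,5,2,0,2,0,4,0,2,3,2]) (.word [2,4,1,4,5,3,5,3,2,1,4,5,1,3,5])) (.node WTree.none (.word [2,4,3,1,5,3,2,4,3,1,5,4]))) (.node (.node (.word [2,4,5,3,5,0,5,2,4,0,4,1,2,4,1]) (.word [4,5,4,1,2,5,4,1,2,3,1,2,4])) (.node WTree.none (.word [3,1,4,2,4,1,5,1,3,4,5,3])))))))))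

/-- A subtree. -/
def wt69 : WTree :=
  (.node (.node (.node (.node (.node (.node (.node (.node (.word [4,5,4,3,1,5,0,4,1,4,5,0,2,3,4,1]) (.word [2,0,5,1,2,0,1,2,1,5,0,2])) WTree.none) (.node (.word [2,4,0,4,1,4,5,1,0,5,0,2,1,5,4,2,1,5]) (.node (.word [1,4,1,5,3,5,4,2,4,1,5,3,5]) (.word [3,4,5,3,5,4,2,4,5,3,4,3,5,4])))) (.node (.node (.word [3,2,1,5,3,4,2,5,1,3,5,3,4,5,3,4,1]) (.word [4,5,3,2,3,1,5,3,5,4,3,5,1,3,4])) WTree.none)) (.node (.node (.node (.node (.node WTree.none (.word [5,2,5,2,0,3,5,3,5,0,1,2,0,5,0])) WTree.none) (.word [4,3,2,0,3,4,2,4,3,1,3,0,4,1,5,0,3,4,3])) (.node WTree.none (.word [1,2,5,2,5,2,1,3,2,3,2,0,3,0,2,4,3,2]))) (.node (.node WTree.none (.node WTree.none (.word [0,2,1,2,5,0,3,0,5,2,1,2,0]))) (.word [2,4,5,0,5,1,4,0,4,0,3,0,4,5,0,1,5,0,3])))) (.node (.node (.node (.node (.node (.node WTree.none (.word [3,2,0,5,3,1,3,0,3,0,2,0,3,4,0,2,0,3])) (.word [1,3,2,0,5,0,1,4,2,4,3,1,2,3,0,5,1]))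 (.node WTree.none (.word [2,5,2,1,5,3,5,3,2,4,2,5]))) (.node (.node WTree.none (.word [4,1,4,1,2,4,5,4,0,3,2,5,4,3,0,2])) WTree.none)) (.node (.node (.word [4,2,4,5,1,2,4,5,2,5,0,3,5,0,5,2,4]) (.word [4,2,3,2,5,1,2,4,2,4,5,4])) (.node (.node (.word [3,5,1,0,3,2,0,2,3,0,1,5,3]) (.word [5,3,2,3,2,1,4,2,1,3,4,2,4,5,1])) (.word [4,3,1,5,4,5,3,0,4,5,3,0,4,0,3,5,4,0,4])))) (.node (.node (.node (.node (.node (.word [4,3,5,3,5,4,0,4,1,4,2,1,2,0]) (.word [1,2,0,4,3,2,0,2,3,4,0,2,1,4])) (.word [4,5,2,5,2,1,5,0,2,0,1,2,0,5,1,2])) WTree.none) (.word [4,5,2,5,4,3,5,2,0,2,0,3,0,2,0,3,5,3])) (.node (.node (.node (.node WTree.none (.word [5,1,2,0,2,0,1,2,1,2,5])) (.word [2,4,1,5,1,5,3,4,2,5,2,5,4])) (.word [1,0,5,1,3,1,4,2,0,3,2,5,3,4,0,4,2,4])) (.node (.node WTree.none (.word [2,4,3,1,4,2,1,2,5,3,1,2,3,5,2,1,4])) WTree.none))))) (.node (.node (.node (.node WTree.none (.word [3,5,3,1,5,1,4,5,4,2,5,2,3])) (.node (.node (.node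 (.node WTree.none (.word [3,5,1,3,1,5,4,5,2,4,1,2,5,2,3])) WTree.none) WTree.none) (.node (.node WTree.none (.word [5,4,1,4,0,2,5,2,4,5,4,2,5,0,2,4,3,5,1])) (.word [])))) (.node (.node (.word [3,5,2,3,4,3,4,5,4,2,5,1,3,5]) (.node (.node WTree.none (.word [2,1,2,4,3,2,3,2,4,2,5,3,2,4,5])) (.node WTree.none (.word [1,5,1,2,5,2,0,3,4,2,5,2,1,2,0,3,1])))) (.node (.node (.node (.node WTree.none (.word [1,5,2,1,5,4,5,3,4,5,1,2,4,2])) WTree.none) WTree.none) WTree.none))) (.node (.node (.node (.node (.node (.node WTree.none (.word [4,5,4,1,4,5,1,3,5,2,1,3,5,2,4,2])) (.word [4,3,1,2,1,4,2,0,3,2,4,2,3,0])) (.node WTree.none (.word [3,2,0,3,5,4,1,4,5,3,0,2,3]))) (.node WTree.none (.node WTree.none (.word [5,3,1,3,0,4,2,0,3,0,4,0,3,0,4])))) (.node (.node (.node (.word [1,4,2,4,3,5,0,4,3,2,0,2,1,2,3,2,4,3,0,3]) (.word [5,1,4,1,3,1,5,3,5,4,2,3,4,5,2])) (.word [0,5,3,5,1,5,3,4,3,5,2,1,5,4,0,2,4,0])) (.node WTree.none (.word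 [2,5,1,3,2,3,5,2,5,3,4,1,3,2,3,5,3,4])))) (.node (.node (.node (.node (.word [5,3,1,3,0,4,2,5,3,4,2,5,3,0,2,5,1]) (.word [5,1,0,2,5,4,2,5,2,5,2,5,2,0,5])) WTree.none) (.node WTree.none (.word [5,2,0,2,0,5,3,4,3,2,4,3,2,1,2]))) (.node (.node (.node (.node WTree.none (.word [5,3,5,2,4,2,0,5,4,2,5,1,2,5,4,5,0,3])) (.word [4,3,2,5,1,3,5,3,5,1,4,1,5])) (.node WTree.none (.word [0,5,1,0,2,5,4,3,4,2,5,0,5,1,4]))) (.node WTree.none (.node (.word [1,5,3,1,5,2,1,4,3,5,4,5,1]) (.word [5,3,4,3,2,4,5,3,4,2,1,2])))))))) (.node (.node (.node (.node (.node (.node (.node (.node WTree.none (.word [5,2,5,2,4,2,1,5,4,1,3,2,5])) (.word [1,2,4,2,5,2,3,2,5,2,4,2,1])) (.node (.word [5,4,1,4,3,4,0,2,0,4,2,3,2,5]) (.word [3,1,2,0,3,4,5,0,4,3,0,2,0,5,2,4,2]))) WTree.none) (.node (.node (.node WTree.none (.word [1,4,1,0,3,5,2,0,1,2,3,5,3,0])) WTree.none) (.word [1,5,1,2,1,5,0,2,1,0,2,3,4,5,0,5,4,0,1]))) (.node (.node WTree.none (.node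 (.node WTree.none (.word [5,3,2,5,3,5,3,4,2,3,5,4,3,1,2])) WTree.none)) (.node (.node WTree.none (.word [5,1,0,4,1,4,5,2,3,5,1,3,2,4,0,3,4,2])) WTree.none))) (.node (.node (.node (.node (.node (.node WTree.none (.word [1,4,0,4,1,4,2,1,0,4,0,4,1,2,0,4])) (.word [2,3,4,1,3,2,4,3,5,1,5,3])) WTree.none) WTree.none) (.node (.node WTree.none (.word [2,3,4,0,2,1,2,0,3])) WTree.none)) (.node (.node WTree.none (.node (.node WTree.none (.word [2,1,5,2,4,5,2,5,4,2,5,1,2])) (.node WTree.none (.word [3,1,2,5,1,3,4,1,4,2,3,5,3,2])))) (.node (.node WTree.none (.node WTree.none (.word [3,5,2,4,1,5,2,3,0,5,3,1,2,0,3,5,3,2,0]))) (.node (.node (.word [3,5,4,5,1,0,4,1,2,1,4,1,2,1,4,0,3]) (.word [4,3,2,0,3,4,0,5,4,3,0,4,5,0,3,0,3])) (.node (.word [3,5,2,3,4,3,0,5,2,3,5,4,2,4,0,5,4]) (.word [5,3,2,3,2,1,5,2,5,4,1,4,5,2,4]))))))) (.node (.node (.node (.node WTree.none (.node (.node WTree.none (.word [1,5,4,5,3,2,4,0,3,4,2,5,0]))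 (.node (.word [3,1,5,1,4,5,4,1,2,3,2,1,3,4,3]) (.word [2,1,4,3,4,2,1,5,4,3,2,4,5,3,4,3])))) (.node (.node (.node (.word [0,5,0,2,5,1,4,5,0,5,0,1,2,4,3,1,5,0]) (.word [0,5,2,4,3,5,0,3,2,4,5,4,1,5,2,3])) (.word [5,3,5,2,3,0,5,0,1,5,1,4,3,5,2,3,4])) WTree.none)) (.node (.node (.node (.node WTree.none (.word [1,5,3,1,4,1,2,5,3,4,2,4])) (.node WTree.none (.word [2,1,4,1,3,1,0,5,0,5,3,1,3,0,1,2,3]))) WTree.none) (.node (.node WTree.none (.node (.word [5,3,4,3,2,1,0,4,0,3,4,5,2,3,0,5]) (.word [4,1,5,0,3,4,2,3,5,0,2,1,2,4,0,3,5,2,1]))) (.node (.node WTree.none (.word [1,3,5,2,4,2,3,4,1,5,4,3,2,3])) (.node WTree.none (.word [5,4,5,1,5,3,5,3,4,5,2,4,3,5,4,2])))))) (.node (.node (.node (.node (.node (.node (.word [2,1,2,4,5,3,1,4,5,3,5,2,3,5,3]) (.word [5,4,1,4,0,2,0,4,2,3,5,3,2])) (.word [5,0,5,4,5,0,2,0,2,0,5,4])) (.node WTree.none (.word [4,5,2,5,4,5,0,5,0,5,1,0,2,5,4,0,2,5,4]))) (.node (.node WTree.none (.word [4,1,4,1,5,0,2,5,3,0,4,3,4,0,4,2,4,3]))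 (.node WTree.none (.word [5,0,4,1,2,4,5,3,4,2,0,1,5,2,1,3,0,3])))) (.node (.node (.node (.node WTree.none (.word [5,2,5,4,5,1,5,4])) WTree.none) WTree.none) (.node WTree.none (.node (.word [1,4,5,3,1,2,3,4,5,4,5,2,5,4,5,4,5]) (.word [5,4,1,4,2,5,3,5,2,4,1,5,2,1,3]))))) (.node (.node (.node WTree.none (.word [3,5,4,1,4,5,2,5,4,2,4,1,5,3,1])) (.word [2,1,4,3,4,2,5,4,3,0,4,2,0,2,3,2,0])) (.node (.node (.node (.node (.word [4,2,4,0,4,1,4,5,2,4,5,0,4,1,3,2,1,3]) (.word [2,4,1,0,5,3,1,3,5,0,4,2])) WTree.none) (.node (.word [5,1,2,4,2,1,4,1,3,2,4,5]) (.word [0,5,0,5,4,2,3,2,4,5,0,5,0]))) (.node WTree.none (.node (.word [5,2,3,4,2,0,2,4,2,3,2,0,5]) (.word [1,5,2,0,5,2,1,4,3,5,2,5,0,1,5,4,5,0,5,2])))))))))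

/-- A subtree. -/
def wt70 : WTree :=
  (.node (.node (.node (.node (.node (.node (.node (.node (.node (.word [0,2,1,4,3,0,1,4,3,5,3,4,2,0,3,1,5,4,2]) (.word [2,4,0,4,3,5,2,0,2,5,3,4,0,5,3,4,5])) WTree.none) WTree.none) (.node WTree.none (.node WTree.none (.word [2,1,4,0,5,1,2,4,3,0,2,0,4,2,4])))) (.node (.node (.node (.node (.word [1,3,0,4,1,3,0,2,0,1,3,1,2,0]) (.word [5,2,4,0,5,1,2,0,5,2,5,3,2,5,1,4,2,3,0,3,5,2])) (.word [1,5,2,1,5,4,3,5,2,5,4,1,2,3])) WTree.none) (.node (.node WTree.none (.word [4,1,4,5,3,4,5,2,3,4,2])) WTree.none))) (.node (.node (.node (.node (.node WTree.none (.word [2,5,3,5,2,5,3,5,3,5,1,3,2,4,5,1])) WTree.none) (.word [2,4,0,2,4,5,1,5,0,3,4,5,4,5,2,3,0,4])) WTree.none) (.node WTree.none (.node WTree.none (.node WTree.none (.word [1,4,1,2,5,4,5,1,4,2,3,4,2])))))) (.node (.node (.node WTree.none (.node (.node (.word [4,2,1,5,2,1,3,5,2,5,4,3,5,2]) (.word [0,5,4,1,4,0,1,5,4,5,0,3,0,5,4,1,5]))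 WTree.none)) (.node (.node (.word [5,1,2,0,4,1,4,5,1,2,4,0,1,3,1,4,2,1]) (.node WTree.none (.word [3,5,3,1,5,1,3,2,5,0,2,5,1,2,3,0,3]))) (.node (.node WTree.none (.word [5,2,4,1,4,2,0,5,2,0,4,3,1,3,0,4,0,2,5])) (.node (.word [2,1,2,4,2,1,0,2,5,2,0,4,1,5]) (.word [5,2,0,2,0,4,0,2,1,2,0,4,5,3,4,2]))))) (.node (.node (.node (.node WTree.none (.word [4,3,5,1,5,2,1,5,3,4,1,5])) (.word [3,1,2,3,5,4,2,3,4,5,2,4])) WTree.none) (.node WTree.none (.word [1,5,0,5,1,0,3,0,1,5,4,1,2]))))) (.node (.node (.node (.node (.node (.node (.node WTree.none (.word [5,2,3,0,3,0,3,4,3,2,4,0,5,0,3,4,5])) (.word [1,4,0,4,1,4,5,0,3,5,0,5,1,3,1,5,1,4,0,2])) WTree.none) WTree.none) (.node (.node WTree.none (.word [5,0,5,2,4,0,5,1,2,5,4,1,4,2,5,1,2])) WTree.none)) (.node (.node (.node WTree.none (.node WTree.none (.word [5,1,5,1,4,0,5,0,4,5,1,5,4,0,1]))) (.node (.node (.word [3,1,4,5,3,5,2,3,2,4,5,4,5,3]) (.word [2,1,3,4,1,3,4,5,3,2,1,4,3,5]))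 (.node WTree.none (.word [1,2,4,3,0,4,2,5,2,0,1,3,1,4,2])))) (.node (.node (.node (.word [1,3,4,5,0,5,1,0,2,0,5,2,5,4,2,3,0]) (.word [2,1,3,4,1,3,4,5,1,2,4,3,1,2,5])) (.word [1,5,4,1,3,5,1,2,5,3,5,3,4,1])) (.node WTree.none (.word [2,1,5,0,2,0,2,0,5,1,2]))))) (.node (.node (.node (.node (.node (.word [2,3,2,5,1,2,5,3,2,0,3,1,4,1,2,0,5,4,3]) (.word [2,4,1,2,3,1,2,4,2,1,4,2,3,4])) (.node WTree.none (.word [5,3,1,2,1,3,5,0,2,5,4,2,0,4,0,3,2,0,3,5]))) (.node (.node WTree.none (.word [4,3,5,1,5,3,0,4,3,5,0,2,0,5,3,4,0])) WTree.none)) (.node (.node (.node (.node WTree.none (.word [4,5,2,3,4,3,5,3,2,4,2])) WTree.none) (.node WTree.none (.word [0,3,5,4,2,3,0,3,2,4,5,3,0]))) WTree.none)) (.node (.word [1,3,5,2,4,5,2,4,1,3,2,3,1,4,3]) (.node (.node (.node (.node WTree.none (.word [2,5,2,1,4,5,1,2,1,5,4,5,2])) (.word [4,3,1,3,2,5,3,5,2,5,3,1,5,2,4])) (.node WTree.none (.word [5,1,5,3,2,3,2,1,5,4,5,3,2,4]))) (.node WTree.none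 (.node WTree.none (.word [3,4,5,2,5,4,2,4,5,2,4,3,5,3])))))))) (.node (.node (.node (.node (.node WTree.none (.node (.node (.word [2,4,1,4,2,1,4,0,3,4,1,2,5,0,4]) (.word [5,0,4,3,5,2,1,3,5,2,0,4,2,1,4,1])) (.word [5,0,5,4,2,1,2,3,2,1,4,3,5,2,0,5,4,2]))) (.node (.node (.node (.word [2,0,4,5,1,3,1,5,0,2,0,4,0,5,3,5,2,0,4]) (.word [4,5,4,1,5,3,5,1,4,1,2,5])) WTree.none) (.node (.node (.word [5,1,2,5,4,5,2,0,2,0,1,5]) (.word [5,3,2,3,1,2,5,3,0,3,0,2,0,3,0,3])) (.word [4,5,4,1,5,3,5,1,4,5,4])))) (.node (.node (.node (.node (.node WTree.none (.word [2,4,1,5,3,2,4,3,5,3,2,3,1,3,5,3,4,5,1])) (.word [5,4,3,1,5,2,0,2,5,2,5,3,0,4,0,1,5])) WTree.none) (.node (.node WTree.none (.word [2,5,3,1,4,2,3,2,1,5,2])) WTree.none)) (.node (.node (.node (.node WTree.none (.word [3,5,2,3,4,3,5,3,2,4,5,1,2,1,4,5,3])) WTree.none) (.word [5,3,2,3,5,2,5,4,0,3,5,0,5,0,2,0,2])) (.node WTree.none (.word [5,4,2,3,5,3,1,4,5,2,1,4,2,3,5])))))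 (.node (.node (.node (.node WTree.none (.node WTree.none (.word [5,4,3,1,2,5,2,3,2,4,2,1]))) (.node (.node (.word [2,1,5,0,3,2,0,2,3,0,5,1,2]) (.word [1,3,4,0,5,0,1,2,0,3,1,3,0,4,2,0,3,1,2,0])) WTree.none)) (.node (.node (.node (.node WTree.none (.word [5,4,3,5,4,5,2,4,5,3,4,1])) WTree.none) (.node WTree.none (.word [2,1,5,3,4,2,3,5,3,5,1,4,1,2,4,2,5]))) (.node WTree.none (.node WTree.none (.word [3,4,3,2,4,2,1,4,3,1,2,1,4,2,1]))))) (.node (.node (.node (.node (.node WTree.none (.word [4,2,3,5,4,5,1,3,2,1,3,2])) (.word [3,5,3,5,2,4,2,3,1,2,4,2,3])) (.node WTree.none (.word [4,5,4,1,2,3,4,2,4,5,4]))) (.node (.word [2,4,0,3,2,1,4,2,5,0,5,1]) (.word [4,2,4,3,0,5,1,5,3,1,2,1,3,0,2,5,4]))) WTree.none))) (.node (.node (.node WTree.none (.node (.node (.node (.word [2,5,3,0,3,2,1,3,4,0,3,4,3,2,3,0]) (.word [4,3,1,3,5,0,2,0,1,5])) WTree.none) (.node (.node WTree.none (.word [4,2,4,0,2,1,5,1,2,4,0,4,2,1,2,4,5])) (.node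 WTree.none (.word [2,1,2,4,2,4,5,3,5,3,1,4,1,2]))))) (.node (.node (.node (.word [3,2,4,5,1,3,4,1,5,0,2,0,2,5,3,5,1]) (.word [2,1,4,1,5,4,3,2,4,2,4,5])) (.node (.node WTree.none (.word [5,1,2,5,4,2,1,4,5,2,3,5,1,4,2,3])) (.node WTree.none (.word [5,1,2,0,5,4,2,5,0,5,2,5,0,5,2,4])))) (.node WTree.none (.node (.word [0,3,2,1,3,5,3,2,0,2,0,4,0,3,2,3,2,0,4,0,2]) (.node WTree.none (.word [5,0,4,2,1,4,1,5,2,4,5,1,2,4,0,5])))))) (.node (.node (.node (.node (.node WTree.none (.word [5,2,5,3,2,1,4,3,2,1,4,2,1])) (.node WTree.none (.word [2,4,3,4,3,5,1,3,4,5,3,2,1]))) (.node (.word [4,3,5,4,5,3,4]) (.node WTree.none (.word [2,4,2,5,4,3,5,3,5,2,3,5,1,2,4,2])))) (.node (.node (.node WTree.none (.word [2,5,2,5,1,3,4,5,4,2,4,1,5])) (.word [1,2,4,0,2,4,5,4,3,5,0,4,0,5,3,2,5,2])) WTree.none)) (.node (.node (.node (.node WTree.none (.word [4,3,1,4,5,4,2,5,2,3,4])) (.node WTree.none (.word [2,5,2,5,1,2,3,5,3,5,3,5,1,5])))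 WTree.none) (.node (.node (.node (.word [4,5,0,5,1,4,1,3,5,2,3,4,3,2,0,5,4]) (.word [5,3,4,2,3,5,4,3,2,1,5,2,5,3,2,1])) (.word [5,3,2,1,3,0,4,2,0,5,4,1,5,2,5,4,0,1])) (.node WTree.none (.node (.word [5,3,5,1,2,3,0,5,0,3,0,3,5,2,0,1,2,4,5,2]) (.word [2,5,2,1,5,3,5,1,0,3,0,1,2,4,2,5])))))))))

/-- A subtree. -/
def wt71 : WTree :=
  (.node (.node (.node (.node (.node (.node (.node WTree.none (.node (.word [4,3,0,4,2,3,2,4,0,2,4,0,3,4,1,3,0,3,4]) (.word [2,1,5,3,2,3,5,2,3,4,3,5,2,3,5,4,3]))) (.node WTree.none (.word [4,2,1,2,3,2,4,3,2,5,2,4,3,5]))) (.node (.node (.word [4,3,5,0,5,3,5,0,4,5,3,4]) (.node WTree.none (.word [5,4,3,5,4,2,5,4,5,3,4,3]))) (.node (.node WTree.none (.word [3,5,2,3,4,3,5,0,5,1,0,4,2,5,1,4,5,4])) (.node WTree.none (.word [5,3,1,4,2,5,2,1,3,4,2,3,1]))))) (.node (.node (.node WTree.none (.word [4,2,1,2,5,0,3,1,3,2,0,3,4,2,4])) (.node (.node WTree.none (.word [2,1,4,0,5,1,5,4,0,2,0,2,0,5,0,2,0,2,3]))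 WTree.none)) (.node (.node (.node WTree.none (.word [0,2,4,3,0,4,1,3,2,3,0,2,5,1])) WTree.none) (.node (.node (.word [1,5,2,5,4,5,0,5,3,5,0,2,5,1,4]) (.word [4,2,5,4,3,4,2,5,2,4])) (.word [5,3,4,2,3,1,4,1,4,2,1,4,3,5]))))) (.node (.node (.node (.node (.node WTree.none (.word [4,2,1,5,2,1,5,2,0,3,0,2,0,3,0,5,1,3,5])) WTree.none) (.node WTree.none (.node WTree.none (.word [1,4,5,1,5,2,5,3,5,3,4,5,3,2,5])))) (.node (.node WTree.none (.word [4,1,2,4,1,0,5,0,4,1,3,2,3,4])) WTree.none)) (.node (.node (.node (.node (.node WTree.none (.word [4,3,5,3,1,4,5,1,5,4,5,3])) (.word [4,5,0,3,2,0,3,5,1,3,5,3,0,4,0,5])) WTree.none) WTree.none) (.node (.node (.node (.word [4,5,0,5,2,3,2,1,0,2,4,1,2,0,3,5,4]) (.word [4,5,2,1,4,1,4,5,3,0,2,5,1,4,3,2,0,5,2,3])) WTree.none) (.node (.node (.word [5,2,0,5,3,5,0,4,0,2,5,1,3,5,2,1]) (.word [0,4,3,2,0,3,0,3,0,2,3,4,0])) (.node WTree.none (.word [0,4,0,3,4,5,3,0,1,2,4,5,0,5,3,4,2,4])))))))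 (.node (.node (.node (.node (.node WTree.none (.node (.word [1,5,4,1,4,1,2,5,4,1,0,5,0,3,2,5,3,5]) (.word [5,3,4,2,3,1,2,5,2,4,2,4,1]))) (.node (.node (.word [5,2,0,2,0,5,1,5,4,1,2,4,1,5,3,2]) (.word [5,0,4,3,5,1,2,4,5,1,4,2,3,4,2,0,5])) WTree.none)) (.node (.node (.node (.node WTree.none (.word [2,4,0,4,1,4,2,5,1,0,4,5,1,5,4,5,0,4,1])) (.word [1,4,0,4,1,4,2,5,0,5,4,5,1,5,4,2,0])) (.word [5,4,3,2,5,4,5,2,3,4,5])) (.node (.word [4,5,0,4,1,5,4,0,2,0,5,1,3,1,5]) (.word [3,1,5,4,5,3,2,5,3,5,3,5,4,5,4,2])))) (.node (.node (.node (.node WTree.none (.word [4,0,5,0,2,1,2,0,1,5,0,4])) WTree.none) (.node WTree.none (.node WTree.none (.word [3,1,3,5,3,2,1,4,2,5,3,4,2,1])))) (.node (.node (.node (.node (.word [5,2,5,3,2,4,3,1,2,4,1,2,4]) (.word [3,5,2,3,4,3,5,3,2,4,1,5,2,3,5,3])) WTree.none) (.node WTree.none (.word [2,0,4,1,3,1,3,4,1,5,1,5,0,2]))) (.node WTree.none (.node (.word [3,1,5,4,1,5,2,1,4,2,1,4,5,2,5,2,3])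 (.word [3,2,1,5,3,1,2,1,3,1,5,4,1,3,2])))))) (.node (.node (.node WTree.none (.node (.node (.word [3,4,2,4,3,1,2,4,5,2,1,5,2,3,4,2]) (.word [5,1,2,5,2,4,0,5,1,3,0,3,1,5,0,1,2,4,2])) (.node WTree.none (.word [3,5,4,5,1,0,4,2,1,4,1,2,4,0,1,3])))) (.node (.node (.node (.node WTree.none (.word [3,4,2,4,5,2,5,1,4,2,3])) (.word [5,2,4,5,3,5,4,2,5])) (.node WTree.none (.word [2,5,2,0,5,0,4,0,5,0,2,5,2]))) WTree.none)) (.node (.node (.node (.node (.word [0,4,1,0,5,2,0,2,4,2,1,2,0,2,5,0]) (.word [3,4,2,5,2,5,4,3,5,1,2,1,5,1,4,1])) (.word [3,4,5,3,2,0,5,3,2,4,3,2,0,4,5])) (.node (.word [2,4,0,4,1,4,5,0,5,3,1,3,0,5,3,4,5]) (.word [0,5,2,0,2,3,2,0,2,5,0]))) (.node (.node WTree.none (.node WTree.none (.word [3,5,1,3,4,1,5,0,3,5,0,5,3,0,3,4]))) (.node (.node WTree.none (.word [1,4,1,0,2,3,4,0,5,4,1,3,2,0,3,1])) WTree.none)))))) (.node (.node (.node (.node (.node WTree.none (.node (.node WTree.none (.word [1,3,4,1,2,4,5,1,2,3,2,5,4,2]))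 WTree.none)) (.node (.node (.node (.word [0,5,0,3,2,4,2,4,2,3,0,5,0]) (.word [4,3,5,3,5,3,1,4,1,5,2,1,5])) (.node WTree.none (.word [2,1,5,2,1,3,5,2,5,4,2,3,5,2]))) (.node (.node WTree.none (.word [5,2,0,2,1,0,5,2,3,5,1,2,1,3,5,4,5,3,5])) WTree.none))) (.node (.node (.node (.node (.word [3,5,1,4,3,5,2,1,5,4,2,4,5,1,3]) (.word [2,4,2,5,4,3,4,2,5,4,2,1,3,2])) WTree.none) (.node (.node WTree.none (.word [4,3,1,5,3,1,5,4,2,4,5,1,4,5,3])) (.word [3,5,3,2,3,2,5,4,3,0,4,3,2,3,4,2,4,0,3]))) (.node (.node (.node WTree.none (.word [5,3,4,3,2,5,2,1,4,3,5,4,3,5])) WTree.none) (.node WTree.none (.node WTree.none (.word [3,5,4,5,1,5,4,1,3,5,3,4])))))) (.node (.node (.node (.node (.node (.node WTree.none (.word [3,2,5,3,4,0,4,2,3,5,0,3,2,0,5,2,5,0,3])) WTree.none) WTree.none) (.node WTree.none (.word [5,2,3,4,2,3,2,4,3,1,5]))) (.node WTree.none (.node (.node WTree.none (.word [2,4,5,3,2,1,4,1,4,0,3,5,1,3,0,5,2])) WTree.none)))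 (.node (.node (.word [1,3,4,1,2,4,2,0,5,2,4,3,0]) (.node WTree.none (.word [5,2,0,2,0,5,4,2,5,0,3,5,3,0,2,5,2,4]))) (.node (.node (.node (.node WTree.none (.word [2,4,5,2,4,3,5,3,4,1,3,2,1,4,3])) (.word [4,2,1,5,2,5,2,5,3,0,4,0,2,3,2,5,3,0,3])) (.word [3,2,4,3,2,1,4,2,3,4,5,1,3,5,4,3,1])) (.node (.node (.word [4,5,4,3,1,5,2,3,0,5,0,3,2,5,3,5,4]) (.word [5,3,2,3,5,3,5,2,3,1,4,3,5,4])) WTree.none))))) (.node (.node (.node (.node (.node (.node (.node WTree.none (.word [5,4,5,2,0,1,2,1,4,3,0,4,1,4])) WTree.none) WTree.none) (.node (.node WTree.none (.word [1,4,3,2,5,3,5,4,2,1,3,5,3,5,1])) (.word [5,1,3,2,3,5,3,2,5,1,4,2,4,1,5,3]))) (.node WTree.none (.node (.word [1,5,4,2,4,1,5,1,5,3,2,4,5,4]) (.word [5,2,4,3,1,5,2,4,1,5,3,5,2,1,4,3])))) (.node (.node WTree.none (.word [2,1,5,4,3,4,5,4,1,5,3,5,4,2,4])) (.node (.node (.node (.node WTree.none (.word [5,2,0,2,0,5,3,2,4,2,1,2,3,2,4,2])) (.word [2,3,5,3,2,4,0,2,0,4,1,4,5]))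 WTree.none) (.node WTree.none (.word [1,5,4,1,4,0,4,2,5,4,0,2,5,2,0,2,5,0,5]))))) (.node (.node (.node (.node (.node WTree.none (.word [3,5,1,3,5,3,4,3,2,5,4,3,5,2,4,2])) WTree.none) (.node (.word [2,3,5,3,2,4,5,2,4,3,2,1,2,4,2,4]) (.node WTree.none (.word [0,5,0,2,5,4,0,4,2,3,2,4,2,1,5,2,3,4,0,5])))) (.node (.node (.node (.node WTree.none (.word [3,5,3,5,3,1,0,3,5,3,5,3,0,1])) WTree.none) WTree.none) (.node (.word [3,5,4,0,3,0,2,0,1,4,5,1,2,3,0,4,0,2]) (.node (.word [4,5,2,5,4,5,0,2,1,2,0,2,5,4]) (.word [5,3,2,3,5,2,5,3,2,3,5,3,4,3,2]))))) (.node (.node (.node WTree.none (.node WTree.none (.word [4,1,4,2,1,0,3,5,1,5,3,0,3,2,3,1]))) (.node (.word [3,5,3,5,3,5,0,3,5,4,1,2,4,5,3,0,5]) (.node WTree.none (.word [4,2,4,3,1,2,5,1,4,1,3,1,5])))) (.node (.node (.node (.node WTree.none (.word [4,5,1,2,0,2,0,5])) (.word [2,1,5,4,3,4,5,2,1,4,5,4,3,5,2,3])) (.node WTree.none (.word [3,2,0,4,5,3,0,3,5,4,0,2,3]))) (.node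 (.word [3,2,1,5,3,4,2,5,0,2,3,0,4,3,5,2,5,3,0,4]) (.word [4,3,5,1,5,3,1,2,3,0,3,1,5,0,4,5,4,2,5]))))))))

/-- A subtree. -/
def wt72 : WTree :=
  (.node (.node (.node (.node (.node (.node (.node (.word [1,4,5,1,5,1,0,5,0,2,4,2,1,5,3,5]) (.node WTree.none (.word [2,1,2,4,5,2,3,0,2,1,2,0,5,3,2,3,4]))) (.word [2,0,4,5,1,0,3,0,1,5,4,0,2])) (.node (.node WTree.none (.node WTree.none (.word [4,5,0,5,4,3,1,3,5,0,5,4]))) (.node (.word [3,5,3,4,5,1,3,5,3,5,2,5,3,0,3,5,0,5,2]) (.node WTree.none (.word [2,5,1,2,5,2,4,5,2,5,4]))))) (.node (.node (.node (.node WTree.none (.word [2,1,4,5,1,3,5,2,3,4,2,3])) WTree.none) (.node (.node WTree.none (.word [4,3,2,4,3,2,0,5,1,2,4,5,0,3,1,5,4,2,4])) (.node WTree.none (.word [2,4,0,5,1,3,2,5,3,4,0,4,1,2])))) (.node (.node WTree.none (.node WTree.none (.word [4,2,4,0,5,1,3,2,1,4,3,5,4,3,0,2,5]))) (.node (.node WTree.none (.word [3,5,2,5,1,3,2,3,5,3,5,4,1,2])) WTree.none)))) (.node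 (.node (.node WTree.none (.node (.node WTree.none (.word [2,5,2,1,5,2,5,4,5,1,3,4,2,5,3,5,4])) (.node WTree.none (.word [3,4,1,0,3,4,0,5,2,1,5,1,4,0,4,2,0])))) (.node (.node WTree.none (.node WTree.none (.word [2,4,0,5,4,1,0,5,3,1,2,0,1,2,3,0,4]))) (.word [3,5,3,4,3,5,3,2,0,4,1,4,0,1,2,4]))) (.node (.node WTree.none (.node WTree.none (.word [3,5,3,1,5,1,0,3,0,2,4,0,3,0,3]))) (.node (.node (.node (.node WTree.none (.word [4,5,4,5,2,1,3,2,5,2,3,5])) (.word [1,3,4,2,3,1,5,3,2,5,2,4,1,3])) WTree.none) (.node (.word [2,3,2,5,2,0,5,2,4,0,5,3,2,1,4]) (.node WTree.none (.word [4,5,2,5,4,3,4,1,2,4,1,3,1]))))))) (.node (.node (.node (.node (.node (.node (.node (.word [3,4,2,3,2,4,0,4,1,2,4,2,3,4,0,1,3]) (.word [3,1,4,2,1,4,3,1,2,3,2,4,0,3,0,2,3,2])) WTree.none) (.node (.word [1,2,4,5,3,5,4,2,1,5,3,0,3,0,3,2,1,5]) (.word [2,1,2,3,4,2,4,3,2,5,0,3,5,3,0,5,2,4]))) (.node WTree.none (.word [3,5,3,5,3,4,3,2,4,5,2,5,1,3,4])))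 (.node (.node (.node (.node WTree.none (.word [4,2,4,3,2,1,5,4,3,5,1,4])) (.word [3,5,3,5,2,4,2,3,5,4,1,5,4,3])) WTree.none) (.node (.word [2,0,4,3,0,4,2,5,0,4,5,0,4,1,2,1,3,5,4,0,1]) (.word [1,4,5,3,4,2,5,2,4,5,4,1,5,1,2])))) (.node (.node (.node (.node WTree.none (.word [1,2,4,5,3,5,4,3,2,1,5,2,5,3,2])) (.node (.word [5,1,0,4,1,0,5,4,3,2,1,5,1,4,0,3]) (.word [4,5,4,1,3,1,5,1,3,2,4,2,4,3,2,1]))) (.node (.node WTree.none (.word [2,1,2,5,4,1,5,4,3,2,5,4,2,5,4])) (.node (.word [4,1,4,0,4,1,4,5,0,2,4,5,0,5,0,1,5,1,4]) (.word [2,1,2,4,3,1,5,2,3,4,2,3,1,5])))) (.node (.node (.node (.node WTree.none (.word [2,4,3,4,5,3,5,3,4,1,5,1,3,5,4])) WTree.none) (.word [5,2,5,1,2,0,2,3,1,2,3,0,3,5,2,4])) (.node WTree.none (.word [5,1,2,0,3,2,3,5,1,4,1,5,2,0,1,5]))))) (.node (.node (.node (.node WTree.none (.node WTree.none (.word [3,1,5,4,1,3,1,5,3,4]))) (.node WTree.none (.node WTree.none (.word [5,1,0,5,2,4,0,5,1,2,3,5,1,0,3,0,2,4,5,1]))))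 (.node (.node (.node (.node WTree.none (.word [4,5,2,0,5,4,5,2,0,5])) WTree.none) WTree.none) (.word [0,2,0,3,0,2,5,3,1,2,0,1,2,3,0]))) (.node (.node (.node (.node WTree.none (.word [5,3,2,5,3,2,3,2,1,5,4,5,4])) WTree.none) (.node (.node WTree.none (.word [2,4,5,2,4,2,4,5,1,2,4,2,1])) WTree.none)) (.node (.node (.node WTree.none (.word [0,2,3,1,0,3,5,3,5,4,5,4,0])) (.node (.word [5,4,2,3,1,2,5,3,1,4,2,3,2]) (.word [2,5,2,1,5,3,5,3,2,4,1,5,4]))) (.node (.word [3,1,5,4,5,3,0,3,1,5,3,5,1,3,0,4]) (.node WTree.none (.word [5,4,1,4,2,3,5,2,3,2,1,5,4,5])))))))) (.node (.node (.node (.node WTree.none (.node (.node (.node (.node WTree.none (.word [5,0,3,2,4,2,0,2,4,3,2,5])) WTree.none) WTree.none) WTree.none)) (.node (.node (.node (.node (.word [4,3,5,3,5,1,2,4,2,1,2,5,2,5,1,3]) (.word [4,3,5,2,5,4,5,2,1,2,1,3,4,5])) (.node WTree.none (.word [3,4,5,2,5,4,3,2,0,3,4,2,5,0,4,3,2]))) (.node (.node WTree.none (.word [2,3,2,1,4,5,3,5,1,3,1,2,4]))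 WTree.none)) (.node (.node (.node (.word [4,5,2,0,2,5,3,1,3,5,2,0,1,5]) (.word [5,3,2,5,2,4,1,3,5,1,4,5])) (.word [3,5,2,3,2,4,2,5,3,1,5,4,5,2])) (.node WTree.none (.word [3,5,4,5,3,4,3,5,4,2,1,2,5,3,4]))))) (.node (.node (.node (.node (.node (.node WTree.none (.word [4,5,4,3,1,5,3,4,3,2,1,5,4,5,2])) WTree.none) (.node WTree.none (.word [3,1,5,2,4,1,5,2,3,0,3,5,2,4,1,2,0,1,3,2,0]))) WTree.none) (.node (.node (.node (.node WTree.none (.word [1,2,4,5,2,4,3,1,5,1])) WTree.none) WTree.none) (.node (.node WTree.none (.word [1,5,1,2,5,0,2,4,0,5,0,1,2,0,3])) WTree.none))) (.node (.node (.node (.node WTree.none (.word [5,1,3,4,2,3,2,4,3,2,5])) (.node WTree.none (.word [5,4,3,1,2,3,4,2,4,5,4,2,1]))) (.node (.node WTree.none (.word [5,1,5,4,5,0,1,2,0,5])) WTree.none)) (.node (.node (.node (.node WTree.none (.word [5,4,5,2,4,2,5,4,5])) WTree.none) (.node (.word [3,4,2,4,5,3,1,2,5,4,2,3,4]) (.word [3,4,5,3,2,5,4,3,5,3,4,3,2,4,1,5,1,3])))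 (.node (.node WTree.none (.word [3,4,5,1,4,2,3,2,5,3,4,5,2,4,5,4])) WTree.none))))) (.node (.node (.node (.node (.node WTree.none (.node WTree.none (.word [4,3,5,3,5,3,5,4,5,1,4,2,5,3,5]))) (.node WTree.none (.node WTree.none (.word [5,1,2,0,5,3,1,3,5,2,0,5])))) (.node (.node WTree.none (.node WTree.none (.word [2,1,3,5,0,3,0,3,0,5,3,1,2]))) (.node (.node WTree.none (.word [5,3,4,3,0,3,2,3,0,3,4,3,5])) (.word [2,1,4,5,0,5,3,5,0,5,3,1,4,2,4])))) (.node (.node (.node (.word [2,4,3,1,4,5,3,2,4,2,3,5,2,4]) (.word [3,4,5,4,3,2,3,5,1,2,3,2])) (.node (.node WTree.none (.word [5,2,5,3,1,4,5,2,4,2,5,2,3,4])) WTree.none)) (.node (.node (.word [3,2,5,3,4,5,1,3,2,4,1,5,3,4,3,5]) (.word [1,0,2,3,5,3,1,0,3,5,3,1,2,0])) (.node WTree.none (.node WTree.none (.word [2,4,5,0,5,3,5,0,5,4,2])))))) (.node (.node (.node (.node (.node (.node WTree.none (.word [4,5,2,3,1,5,2,4,3,5,4,5,4])) WTree.none) WTree.none) (.word [2,5,3,1,2,3,5,2,1,2,4,1,3,4,2,1,4]))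 (.node (.node (.node WTree.none (.word [5,3,4,2,0,5,4,2,1,3,5,4,5,3,1,5,0,5])) WTree.none) (.node WTree.none (.node (.word [5,1,0,2,1,5,4,5,1,2,0,1,5]) (.word [2,1,5,2,1,3,2,1,4,1,3,5,2]))))) (.node (.node (.node WTree.none (.word [4,5,0,5,2,1,2,3,5,0,4,0,3,2,1,4,5,3,5])) WTree.none) (.node (.node WTree.none (.word [5,2,0,5,1,0,4,3,2,3,5,0,1,2,3,2])) (.node (.word [2,1,4,1,4,2,5,3,2,3,0,2,0,5,4]) (.node WTree.none (.word [5,0,5,4,5,1,2,0,2,1,5])))))))))

/-- A subtree. -/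
def wt73 : WTree :=
  (.node (.node (.node (.node (.node (.node (.node WTree.none (.node WTree.none (.word [5,4,2,0,2,1,2,0,3,2,4,5,1]))) WTree.none) (.node (.node WTree.none (.word [4,3,5,3,5,3,2,4,2,4,1,5,4,5,2,4])) (.node WTree.none (.node WTree.none (.word [3,5,3,2,3,4,3,5,3,4,1,5,3,1,5,4,3]))))) (.node (.node (.node (.node (.node (.word [5,3,1,2,1,3,5,2,5,4,5,2,5,3,4,2,5,2]) (.word [5,1,2,5,2,1,2,5,4,3,2,1,4,5,1,4,3])) WTree.none) (.node WTree.none (.word [1,4,5,2,0,4,1,4,5,3,2,4,3,0,5,4]))) (.node (.node WTree.none (.word [5,0,5,2,0,4,1,0,2,5,2,4,0,2,1,4])) (.node WTree.none (.word [5,3,2,5,3,5,4,5,4,5,4,5,2])))) (.node (.node (.node (.node WTree.none (.word [5,2,0,3,4,1,2,0,5,3,4,2])) (.word [2,4,1,0,2,5,0,5,0,1,4,5,2,5,4,0])) WTree.none) (.node (.node WTree.none (.word [2,5,4,2,1,2,5,0,2,0,4,0,3,0,3,2])) (.node (.word [1,4,5,0,2,5,4,2,3,2,0,4,1,2]) (.word [1,4,3,5,1,3,2,4,5,2,1,3])))))) (.node (.node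 (.node WTree.none (.node (.node (.word [4,2,4,3,1,5,4,3,5,2,4,3,2,4]) (.word [5,0,2,0,2,1,5,4])) (.word [2,1,4,2,1,3,4,1,5,3,1,4,2,1,5]))) (.node WTree.none (.node WTree.none (.node WTree.none (.word [1,4,5,3,1,3,4,3,5,2,1,3,4,1]))))) (.node (.node (.node (.node WTree.none (.word [3,5,3,4,5,2,5,2,4,3,5,2,4,3])) (.node (.word [4,5,4,2,4,5,3,5,3,1,2,3,1,5,2]) (.word [3,5,4,1,5,3,2,0,3,4,2,5,0,4,1,3,2]))) (.node (.node (.word [4,3,1,5,1,3,4,5,0,2,1,2,0,1,3,1,2]) (.word [2,5,2,1,5,3,5,2,3,4,2,4,3,5])) (.node WTree.none (.word [5,2,5,2,1,2,5,4,2,3,5,1,3,2])))) (.node (.node (.node (.node (.word [3,1,2,5,1,3,5,1,4,2,5,3,1,5]) (.word [4,3,5,3,5,1,2,5,4,3,5,2,4,1,2])) WTree.none) (.node WTree.none (.word [5,3,0,3,0,2,0,3,0,3,5]))) WTree.none)))) (.node (.node (.node (.node (.node (.node (.node (.word [4,3,1,0,4,3,4,0,3,1,0,4,0,5,0,4,0,2,0,2,0]) (.word [5,3,5,2,4,2,5,3,2,4,2,5,2,1])) (.word [2,4,3,0,3,1,3,5,0,4,2,4,5,0,3,2,4,1]))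 WTree.none) (.node WTree.none (.word [1,2,4,5,3,4,2,3,4,5,4,3]))) (.node (.node (.node (.node WTree.none (.word [4,2,1,2,5,2,5,3,5,1,3,4,5,1,3])) WTree.none) (.node WTree.none (.word [5,0,5,1,2,4,2,1,2,0,4,2,1,4]))) (.node (.node WTree.none (.word [4,5,4,2,4,2,5,4,2,3,2,3])) WTree.none))) (.node (.node (.node (.node (.word [3,4,2,4,2,5,2,4,1,5,1,4,3]) (.word [3,5,4,5,2,3,5,2,5,2,3,5,4,5])) (.node WTree.none (.word [2,5,2,5,1,2,3,4,1,5,4,2,3,1,4,5]))) (.word [5,1,2,4,0,5,0,5,2,4,0,3,5,0,3])) (.node (.node (.word [2,1,4,2,5,3,5,4,2,1,3,1]) (.word [3,4,1,3,1,2,1,5,4,2,3,4,5,4])) (.node WTree.none (.word [0,5,4,1,5,0,3,0,2,1,3,1,3,0]))))) (.node (.node (.node (.node (.node (.node WTree.none (.word [3,2,1,5,3,4,3,1,0,5,2,4,3,0,2,3,5,1])) WTree.none) WTree.none) (.node WTree.none (.node WTree.none (.word [5,2,3,2,0,3,0,2,3,1,5,4])))) (.node (.node (.node (.node WTree.none (.word [4,5,2,5,4,2,5,2,1,5,2])) WTree.none)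 (.node WTree.none (.word [3,5,4,1,4,5,3,2,0,2,1,2,0,3,2,3]))) (.node (.node WTree.none (.word [0,5,3,4,2,4,0,3,4,0,1,5,0,5,2,4,0])) (.node (.word [5,0,3,4,2,5,4,2,1,2,4,0,1,4,2,4,1]) (.word [5,1,2,5,4,2,5,0,3,4,2,5,0,2,3,5,2]))))) (.node (.node (.node (.word [1,0,3,4,1,2,5,3,0,2,5,4,0,5,3,1,4,0]) (.node (.word [4,1,3,2,0,3,1,0,3,5,2,5,2,0,2,0]) (.word [1,5,2,0,3,1,0,5,3,0,5,2,4,2,4,0,2,3,0]))) (.node WTree.none (.node WTree.none (.word [5,1,2,1,4,5,3,1,5,4,1,5,1])))) (.node (.node (.node (.word [2,4,3,1,4,5,4,5,3,4,3,2,3,1,4]) (.word [3,1,4,2,4,3,2,3,5,2,4,5,2,1,3,2])) WTree.none) (.node WTree.none (.word [4,5,2,5,1,5,4,1,3,5,2,1,3]))))))) (.node (.node (.node (.node (.node (.node (.node (.node (.word [2,1,2,5,2,1,0,5,2,4,0,3,2,3,5,1,4]) (.word [5,0,5,4,0,5,4,3,2,5,2,3,2,0,2])) WTree.none) WTree.none) WTree.none) (.node (.node (.word [4,1,3,0,3,5,0,5,2,0,5,0,5,1]) (.node (.word [5,2,5,3,1,3,5,3,4,0,4,3,5,0,2,1,4,0])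 (.word [3,4,2,4,3,2,5,3,1,2,4,3,2,5,2]))) WTree.none)) (.node (.node (.node (.node (.node (.word [1,5,4,5,3,2,1,2,5,4,2,1,5]) (.word [3,1,2,4,3,2,4,2,3,5,2,3,4,5,3,5,3,5])) (.word [4,1,4,1,5,3,4,0,1,2,0,4,2,3,5])) WTree.none) (.node (.node WTree.none (.word [5,3,4,1,2,1,5,4,3,0,2,1,2,0,3,4])) (.node WTree.none (.word [4,2,4,3,0,2,5,1,5,0,2,5,2,1,2,4])))) (.node (.node (.node (.word [2,4,0,3,2,1,3,4,2,1,2,1,4,0,4,2]) (.word [5,4,5,1,3,1,5,4,5])) (.node WTree.none (.word [0,2,1,0,4,3,0,1,3,4,0,1,2,0]))) (.node WTree.none (.node WTree.none (.word [1,4,2,1,2,1,0,4,1,5,3,0,3,5,1,4,0,4])))))) (.node (.node (.node (.node (.node WTree.none (.word [4,1,4,2,1,4,0,4,2,3,0,3,4,1,2,3,0,3,1,4])) WTree.none) (.node WTree.none (.node (.word [5,3,2,3,5,3,5,2,3,4,2,3,2,5,4]) (.word [1,5,0,4,3,1,3,2,5,3,5,3,1,2,3,0,5,0])))) (.node (.node (.node WTree.none (.word [2,1,2,4,5,4,5,3,1,5,3,5,2,3])) (.node WTree.none (.word [1,5,3,1,3,4,3,0,5,0,3,1,5,4,3])))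 (.node (.word [5,0,5,2,4,0,5,2,5,4,1,5,4,2,4,2]) (.node (.word [1,5,2,0,4,1,2,0,5,0,5,1,4,3,2,1,4,5,2]) (.word [3,5,3,1,5,4,3,4,5,3,4,5,3]))))) (.node (.node (.node (.node (.node WTree.none (.word [4,3,5,3,4,1,5,2,4,1,5,2,5,1,3])) (.word [2,1,2,4,5,3,4,5,3,4,2,3,1])) (.word [1,4,5,3,4,1,5,2,1,4,1,2])) (.node (.node (.word [0,5,0,4,0,5,0,5,0,3,5,1,5,3,5]) (.word [5,2,5,4,5,2,0,2,0,5])) WTree.none)) (.node (.node (.node (.node WTree.none (.word [1,5,0,2,5,2,1,2,5,1,2,0,5,1])) WTree.none) (.word [4,5,2,5,2,3,1,4,3,5,2,5,2])) (.node WTree.none (.word [5,2,4,3,1,5,3,2,4,2,4,3,1,2])))))) (.node (.node (.node (.node (.node (.node WTree.none (.word [2,1,2,5,2,0,4,5,1,4,2,5,3,2,0,5])) WTree.none) (.node (.node WTree.none (.word [4,2,4,1,0,3,1,4,0,5,2,4,5,2,0,2,4,2])) (.word [5,3,2,3,1,0,3,4,0,2,0,4,3,0,2,5]))) (.node WTree.none (.node (.node WTree.none (.word [1,2,4,5,3,4,3,5,1,2,3,2])) (.node (.word [3,4,2,3,2,4,2,4,3,5,4,2,3,5,1])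 (.word [4,3,2,5,2,4,5,3,4,1,3]))))) (.node (.node (.node WTree.none (.word [5,1,4,1,3,2,5,4,2,4,2,3,4])) WTree.none) (.node (.node (.word [5,3,0,3,0,3,1,5,0,3,4,1,5,0,5,1,2,0]) (.node (.word [2,5,3,0,4,2,3,2,3,4,0,3,5,2]) (.word [2,4,1,0,5,1,5,4,0,4,2,5,2,0,4,5,4,2]))) WTree.none))) (.node (.node (.node (.node (.word [1,3,5,2,4,5,2,4,5,1,3,5,3,2,4,3,1]) (.node WTree.none (.word [5,3,2,3,1,2,5,2,0,4,5,3,5,4,0,2,4]))) (.node WTree.none (.node WTree.none (.word [2,4,0,5,1,2,0,2,5,2,0,4,0,1,5])))) (.node (.node (.node (.node WTree.none (.word [2,0,2,1,2,0,3,1,4,5,1,2,3,5,3,1])) WTree.none) WTree.none) (.node WTree.none (.word [0,5,0,4,0,5,0,2,3,2,1,4,5,2,4,0,5])))) (.node (.node (.node (.word [1,5,0,5,2,3,2,5,2,0,5,3,1,3,0,4]) (.node WTree.none (.word [1,2,3,5,4,1,2,4,5,2,4,5,2,3,2,4,5,3]))) (.node (.node WTree.none (.word [2,0,4,5,2,0,5,2,0,3,2,3,2,4,2,4,3,2])) (.word [5,2,5,3,1,3,1,4,1,5,3,2,3,5]))) (.node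 (.node (.node (.node (.word [3,4,1,3,0,2,1,2,5,4,3,5,3,0,3,5,3,4,0,4]) (.word [4,2,4,1,2,5,4,3,5,1])) WTree.none) WTree.none) WTree.none))))))

/-- A subtree. -/
def wt74 : WTree :=
  (.node (.node (.node (.node (.node (.node (.node (.word [5,1,0,2,5,3,0,2,3,2,3,1,2,0,3,4]) (.word [3,1,5,4,2,3,2,5,4,2,0,5,0,4,0,5,0,1,4,1])) (.node (.node WTree.none (.word [5,0,4,3,5,1,2,4,5,1,2,4,2,3,4,0,5])) (.node (.word [5,0,3,4,3,2,4,2,3,4,3,0,5]) (.word [3,4,3,2,4,3,2,1,5,1,2,5,2,4])))) (.node (.node WTree.none (.node WTree.none (.word [4,5,2,0,2,0,4,3,2,5,1,2,4,2,3,4]))) (.node (.node WTree.none (.word [4,5,2,5,3,2,4,3,1,2,1,3,4,2])) (.word [5,0,5,2,1,2,0,3,2,1,4,3,5,2,0,2,4,1])))) (.node (.node (.word [3,4,3,2,4,5,4,1,5,3,5,2,5]) (.node WTree.none (.node (.word [5,1,0,2,0,5,3,1,3,4]) (.word [4,2,3,5,4,1,2,4,1,5,1])))) (.node (.node (.node WTree.none (.word [4,2,3,2,1,4,3,1,2,3,2,4])) WTree.none) (.node WTree.none (.node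 (.word [5,2,5,3,4,5,2,5,2,3,4,3]) (.word [5,2,3,2,5,2,3,4,2,1,5,4,5])))))) (.node (.node (.node (.node WTree.none (.node WTree.none (.word [3,5,3,2,3,2,5,2,5,3,4,5,2,3]))) (.node (.node (.word [3,5,4,1,5,3,5,4,2,5,3,4,1,2,3,2,3]) (.word [3,0,5,1,2,3,0,3,2,1,5,0,3])) (.node WTree.none (.word [4,2,1,2,5,3,1,4,3,2,3,5,3,1])))) (.node (.node (.node WTree.none (.word [0,5,0,2,1,5,0,3,5,3,1,5,0,3,5])) WTree.none) (.node (.node (.word [3,5,4,2,3,4,1,4,1,5,3,5,2,5,3]) (.word [3,4,2,4,2,4,5,1,3,2,5,4,2])) (.word [5,2,0,2,5,4,5,2,0,2,5])))) (.node (.node (.node (.node (.node (.word [3,1,5,1,4,2,1,3,1,2,5,4,2]) (.word [0,5,0,2,4,1,2,5,1,4,5,2,0,5,1,4])) (.word [3,5,2,5,1,4,2,1,5,4,3,5,1,3])) (.word [4,2,1,4,3,4,2,4])) (.node (.word [3,4,5,4,3,5,3,4,5,4,3,5]) (.node WTree.none (.word [4,2,1,2,5,0,3,1,3,2,0,4,1,2,4])))) (.node (.node (.word [2,4,2,5,4,1,2,4,3,2,4,3,5,1,3]) (.node (.word [5,3,2,3,0,3,2,3,0,3,2,3,5]) (.word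 [5,3,2,3,0,4,1,4,5,1,5,4,5,4,2,5,3,0,5]))) WTree.none)))) (.node (.node (.node (.node (.node (.node (.node (.word [5,2,5,3,0,2,4,2,1,5,4,5,1,4,0,3]) (.word [4,2,1,4,3,4,5,2,5,2,4])) WTree.none) (.node WTree.none (.word [3,1,3,0,5,2,1,2,5,0,1,2,3]))) (.node (.node WTree.none (.word [3,4,5,4,2,5,4,0,3,2,4,2,3,0,3])) WTree.none)) (.node (.node (.node (.node WTree.none (.word [5,4,5,2,0,1,5,0,2,3,2,5,1,4,2,5,3,2])) WTree.none) WTree.none) WTree.none)) (.node (.node (.node WTree.none (.node WTree.none (.word [4,2,4,1,4,5,3,4,2,1,3,5,2]))) (.node (.word [4,5,4,1,2,5,2,3,2,3,4,1,4]) (.node WTree.none (.word [5,4,1,4,0,5,2,0,4,2,4,3,5,1,2,4,5,0])))) (.node (.node (.node (.node (.word [5,1,2,0,2,0,1,2,5,4]) (.word [3,5,3,4,1,5,3,5,3,2,4,3,2,5,3])) WTree.none) (.node WTree.none (.word [4,2,5,3,2,3,5,3,5,2,0,3,2,1,3,0,4,2,3]))) WTree.none))) (.node (.node (.node (.node (.node (.node WTree.none (.word [5,2,4,3,5,1,2,3,1,0,3,4,2,0,1,2,4,3]))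 WTree.none) WTree.none) (.node WTree.none (.node (.word [0,2,4,2,1,2,1,5,2,5,3,2,5,3,0,4,3]) (.word [3,2,4,2,1,5,4,1,5,4,3])))) (.node (.node (.node (.node (.word [1,0,3,5,4,1,0,3,5,1,0,5,0,5,0,2,3,2]) (.word [2,3,4,5,4,3,2,1,2,5,4,3,2])) WTree.none) (.node WTree.none (.word [3,5,3,4,5,3,2,4,2,5,4,3,1,5,4,1]))) (.node (.word [4,0,4,5,3,1,0,2,1,3,0,5,2,0]) (.word [2,1,2,4,3,0,5,1,2,4,2,4,1,2,3,0,1])))) (.node (.node (.node WTree.none (.word [3,4,2,5,3,2,5,0,5,2,5,0,5,2,5,0,4])) (.node (.node WTree.none (.word [2,1,2,5,2,5,3,0,4,1,4,0,5,3,4,3,5])) WTree.none)) (.node (.node WTree.none (.word [1,4,1,0,4,1,5,3,0,1,3,1,5,4,0])) (.node (.word [4,2,3,5,4,5,0,1,3,0,2,1,3,2]) (.node WTree.none (.word [2,5,2,5,2,5,0,2,0,2,1,5])))))))) (.node (.node (.node (.node (.node WTree.none (.node (.node (.word [3,1,3,5,1,2,0,5,1,2,4,2,5,4,3,0,1,5]) (.word [2,1,4,0,5,2,1,5,0,2,0,5,2,1,4])) (.node WTree.none (.word [2,1,3,1,3,2,3,0,2,4,5,0,5,4,2,0,3,4]))))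 (.node (.node WTree.none (.word [3,2,5,3,5,4,3,0,1,3,1,4,2,0,5,4,3])) (.node (.word [1,4,5,3,5,3,5,1,2,3,5]) (.word [2,4,1,4,2,1,3,5,4,2,4,5,2,3])))) (.node (.node (.node (.node (.node (.word [1,0,5,3,2,4,0,4,2,3,5,0,1]) (.word [5,1,2,0,2,1,5,4,5,0,5])) (.word [1,2,3,5,4,3,1,5,4,3,2])) (.node (.word [5,2,0,5,4,2,5,4,5,4,5,4,2,3,0,5]) (.word [2,0,4,3,2,5,3,5,2,3,4,0,2]))) (.node (.node (.word [4,5,2,3,1,5,4,5,4,5,3,4,2]) (.word [2,3,1,2,4,5,1,2,3,1,5,1,2,3,4,1])) WTree.none)) (.node (.node (.node (.node (.word [5,1,3,2,3,0,5,2,1,2,5,0,1,5]) (.word [5,4,1,4,2,5,1,3,4,1,2,4,3])) WTree.none) WTree.none) (.node WTree.none (.word [1,4,5,2,5,3,5,2,3,4,1,3,5]))))) (.node (.node (.node (.node (.node (.node (.word [1,4,5,2,1,5,3,0,4,3,1,0,3,4,5,1,3,0]) (.word [2,4,0,2,1,5,1,0,5,0,4,3,2,5,3,0,5])) (.word [3,5,3,5,3,2,4,5,1,2,3,2,3,5,3])) (.word [5,2,0,1,2,0,5,4])) (.word [5,2,4,5,0,3,0,5,4,2,5])) (.node (.node (.word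 [3,5,2,4,1,5,2,3,2,5,0,3,5,3,0,2,5,2]) (.node WTree.none (.word [1,5,1,0,5,2,4,2,1,3,0,1,4,2]))) WTree.none)) (.node (.node (.node (.node (.word [4,1,5,2,5,1,5,4,2,5,1,3,2,4,3,2,4]) (.word [5,4,3,1,2,4,2,3,5,4,3])) WTree.none) (.word [1,5,4,2,4,1,5,1,2,3,4,2,3,2])) (.node (.node (.node WTree.none (.word [3,2,5,1,4,2,5,3,2,4,5,4,1,4,2,4,3,5])) (.node (.word [5,3,5,4,1,3,5,3,5,1,2,4,1]) (.word [4,2,5,4,3,4,5,2,4]))) (.node WTree.none (.word [4,5,2,5,1,4,5,3,2,3,5,1])))))) (.node (.node (.node (.node (.node WTree.none (.node WTree.none (.word [1,4,2,4,5,1,2,4,1,3,5]))) (.word [5,4,5,3,5,4,2,0,4,1,4,0,5])) (.node (.node (.node (.word [5,4,0,2,5,2,0,3,5,1,4,2,4,1,2,5,1]) (.word [1,5,2,0,3,1,5,3,5,1,3,0,2,5,1])) (.word [5,0,3,5,4,2,4,5,3,0,5])) (.node WTree.none (.node (.word [3,5,4,1,5,4,5,3,2,3,5,4,1,3]) (.word [4,1,4,2,4,5,4,1,3,2,1,5,3,2]))))) (.node (.node (.node (.node (.node (.word [4,2,1,2,5,0,5,2,4,5,0,5,1,4,1,2])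 (.word [5,1,2,5,4,5,2,0,2,1,2,0,5])) (.word [5,4,1,5,4,5,0,3,1,2,3,0,3,1])) (.node (.word [1,4,3,0,5,2,0,2,5,0,3,4,1]) (.word [4,5,2,5,3,1,2,1,4,3,2,4,2,1]))) (.node WTree.none (.word [4,2,4,1,4,2,3,0,5,3,4,0,2,4,5,0,2,3]))) (.node (.node (.node (.node WTree.none (.word [4,1,5,1,0,3,1,4,2,5,3,4,5,2,0,4,1,2,1])) WTree.none) WTree.none) WTree.none))) (.node (.node (.node (.node (.node (.node WTree.none (.word [0,3,1,3,1,0,2,3,0,4,2,4,0,3,2,1])) WTree.none) (.node (.word [5,3,2,3,0,5,3,2,4,3,2,0,2,5,4,1]) (.word [5,2,5,2,1,3,5,3,5,4,1,2,3,2]))) (.node WTree.none (.node WTree.none (.word [4,5,4,3,1,5,1,4,3,5,4,3,1,5])))) (.node (.node (.node (.node (.word [0,3,2,3,2,5,3,5,2,3,2,3,0]) (.word [1,2,4,2,3,2,5,2,1,3,4,5])) (.word [5,3,4,2,3,1,5,4,3,4,1,5,4,2,4,5])) (.node WTree.none (.word [3,5,2,4,1,5,3,0,3,5,1,5,3,0,2]))) (.node (.node WTree.none (.word [3,5,2,1,5,4,3,2,5,4,1,5,3,1,2])) WTree.none))) (.node (.node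 (.node (.node (.node WTree.none (.word [3,5,3,4,5,3,2,3,2,4,1,5,4,5,3,2])) WTree.none) (.node (.word [2,4,5,2,1,4,2,1,4,3,5,1,4,1,2,3]) (.word [2,1,2,4,3,2,1,4,1,3,5,4,3,5,4]))) (.node WTree.none (.node WTree.none (.word [2,3,1,5,4,3,4,2,1,4,1,5,4])))) (.node (.node (.node WTree.none (.word [2,4,2,3,5,3,4,3,2,5,4])) (.node (.word [3,5,4,1,5,2,0,2,1,2,0,4,1]) (.word [4,5,0,2,0,1,2,5]))) (.node WTree.none (.node WTree.none (.word [1,5,2,1,4,5,2,5,2,5,3,2,3,1,4])))))))))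

/-- A subtree. -/
def wt75 : WTree :=
  (.node (.node (.node (.node (.node (.node (.node WTree.none (.node WTree.none (.word [2,1,4,0,5,2,4,5,0,3,4,2,0,5,1]))) (.node (.word [1,5,4,5,2,0,2,3,0,4,0,2,3,5,3,0]) (.word [5,3,2,3,0,3,4,0,4,0,2,3,0,4,2,5,2]))) (.node (.node WTree.none (.node (.word [1,5,2,5,4,3,5,1,4,5,3,1,4]) (.word [4,0,4,5,1,2,5,1,5,4,3,4,5,1,4,0]))) (.node WTree.none (.word [2,4,5,3,5,1,4,2,5,3,0,5,2,4,0,3,2,1,5])))) (.node (.node (.node (.node (.node WTree.none (.word [5,0,5,2,1,2,5,0,1,3,2,3,1,5])) (.word [3,4,1,5,1,4,2,3,4,5,1,4])) WTree.none) (.node (.node (.word [2,4,1,5,3,5,4,3,5,4,3,5,3,2]) (.word [5,0,3,5,4,2,4,5,3,2,0,5])) WTree.none)) (.node (.node (.node (.node WTree.none (.word [5,2,0,2,0,5,3,2,4,2,3,1,2,3,2,4,2])) WTree.none) WTree.none) (.node WTree.none (.word [3,5,1,5,0,5,3,0,2,0,3,5,0,1,3]))))) (.node (.node (.node (.node WTree.none (.node WTree.none (.word [5,2,5,2,1,3,1,4,3,2,4])))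 (.node (.node (.word [3,5,3,2,3,4,3,5,3,4,5,3,2,5,4,3]) (.word [5,2,4,5,3,5,4,1,5,4])) (.word [1,4,5,0,5,0,3,0,5,0,5,4,1]))) (.node (.node (.node (.node WTree.none (.word [3,2,1,5,3,1,4,3,5,0,3,0,4,3,0,3,1,5,0])) WTree.none) (.node WTree.none (.word [1,4,1,0,3,4,0,5,0,4,2,3,0,5,3,0]))) (.node WTree.none (.word [5,2,0,3,4,2,0,3,5,1,4,1,2])))) (.node (.node (.node (.node (.node WTree.none (.word [2,1,4,5,3,5,2,3,5,2,4,5,1,3])) (.word [5,1,4,2,3,4,2,4,3,2,3,5])) WTree.none) WTree.none) (.node (.node (.node WTree.none (.word [0,2,0,4,5,3,5,4,5,0,2,5,1,2,5,0])) WTree.none) (.node (.node (.word [4,5,4,2,4,2,5,2,4,3,2,4]) (.word [3,1,4,2,1,4,3,0,5,3,1,3,0,2,3,4,1])) WTree.none))))) (.node (.node (.node (.node (.node (.node (.node WTree.none (.word [5,1,2,0,3,2,3,5,1,2,3,5,1,3,2,4,0,5])) (.word [4,5,0,3,2,0,3,0,3,5,3,2,0,3,4,2,0,5,0,5])) WTree.none) (.node WTree.none (.word [2,1,4,5,4,0,5,2,4,3,0,4,5,2]))) (.node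 (.node (.node WTree.none (.word [2,4,3,0,2,5,1,2,4,3,0,2,5,4,1,4])) WTree.none) (.node WTree.none (.word [3,5,2,4,1,5,2,4,2,4,3,5,2,1,5])))) (.node (.node (.node (.node WTree.none (.word [4,3,5,3,5,2,3,4,0,5,0,4,2,4,1])) (.node WTree.none (.word [2,5,3,1,2,3,5,3,5,2,3,4,2,4,3,5,4]))) (.node (.word [3,4,2,3,2,4,3,5,3,1,4,5,3,1,5,2,5,3]) (.node WTree.none (.word [5,2,5,2,1,2,5,4,2,3,2,4,2,5,3,2])))) (.node (.node (.node (.node WTree.none (.word [2,5,2,3,4,2,4,2,3,5,2])) WTree.none) WTree.none) (.node WTree.none (.node (.word [2,5,1,3,2,3,4,5,4,5,4,3,5,4]) (.word [3,5,3,4,3,5,1,4,1,3,5,3,5,4,3,1])))))) (.node (.node (.node (.node (.node (.node WTree.none (.word [5,1,3,2,3,0,2,0,5,1,4,1])) WTree.none) (.node (.word [0,5,0,5,2,4,2,4,5,0,2,4,0,4,3,4,2,3,0]) (.word [2,4,1,3,5,0,5,0,3,1,2,3,5,4]))) (.node (.node WTree.none (.word [4,5,4,1,5,4,1,3,2,5,4,1,0,2,0,5,3,1,3,4])) WTree.none)) (.node (.node (.node (.node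 (.word [0,5,0,3,0,2,0,2,0,3,0,5,0]) (.word [4,3,5,1,5,3,2,4,2,3,4,5,3,4,5,1])) WTree.none) WTree.none) (.word [4,2,1,2,0,5,0,5,1,3,2,4,5,2]))) (.node (.node (.node (.node (.node (.word [3,1,3,2,4,0,5,2,4,0,3,1,4,2,1]) (.word [1,5,0,4,3,1,3,2,5,4,5,1,3,5,4,0,4,1,2])) WTree.none) (.word [5,2,5,3,2,1,2,5,4,5,3,4,1])) (.node WTree.none (.word [3,4,1,2,0,3,4,1,3,1,2,3,0,1,5,4,0,2,0]))) (.node (.node (.node (.node WTree.none (.word [4,5,0,3,0,3,0,3,5,2,0,2,5,2,0,4,5,4])) WTree.none) (.word [4,1,4,1,0,5,1,2,3,5,3,2,1,3,0,4])) (.word [5,2,3,1,4,0,3,5,1,3,0,5,2,4])))))) (.node (.node (.node (.node (.node (.node (.node WTree.none (.word [5,1,4,1,3,1,5,3,5,2,3,2,4,5,2])) WTree.none) (.node (.node WTree.none (.word [4,3,1,5,4,3,2,3,1,5,2,4,2,1])) (.word [1,4,2,1,5,3,5,3,1,4,5,3,5]))) (.node (.node (.node (.node (.word [5,1,5,2,3,2,0,3,0,3,2,1,3,2]) (.word [1,4,5,2,0,5,3,5,0,2,5,4,1])) (.word [5,2,5,3,2,4,3,1,2,3,4,2,4]))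 WTree.none) (.node (.word [5,1,5,3,2,5,0,2,4,1,3,0,2,3,1]) (.node WTree.none (.word [5,1,3,4,1,2,5,4,5,4,5,4,1,2,4,2,1]))))) (.node (.node (.node (.word [1,5,2,1,5,4,3,5,4,2,5,4,1,2,3]) (.node (.word [3,1,5,4,5,3,5,3,1,2,4,5,2,1,4,2]) (.word [4,3,1,5,3,5,3,2,4,5,3,1,5,4,2]))) (.node (.node WTree.none (.word [5,3,2,3,4,2,4,3,2,4,1,5])) (.node WTree.none (.word [5,2,5,3,2,5,1,3,4,1,5])))) (.node (.node WTree.none (.word [4,3,5,3,1,5,4,1,3,2,3,1,2,4,3])) (.node WTree.none (.word [5,4,3,1,5,2,3,2,0,2,5,2,0,1,4,5]))))) (.node (.node (.node (.node (.node (.node WTree.none (.word [4,2,4,3,0,2,5,3,1,3,4,1,5,0,5])) (.word [5,1,2,5,3,0,4,2,1,2,1,4,3,5,0,5,2])) (.node (.word [0,5,0,3,1,4,1,5,4,5,0,3,5,2,3,0,2,1,5,3,0]) (.word [3,5,1,5,3,5,3,4,1,3,2,5,3]))) (.node (.node WTree.none (.word [5,0,4,3,5,1,2,4,5,1,4,2,3,4,0,5])) (.word [5,1,2,3,5,3,5,3,2,1,5]))) (.node (.node (.node (.node WTree.none (.word [4,1,5,0,3,1,0,5,2,4,5,0,1,4,3,2,3]))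 (.word [4,2,1,2,3,5,2,3,2,1,2,4,3,5])) (.word [2,3,4,1,3,0,4,2,5,3,2,3,0,2])) (.node WTree.none (.node WTree.none (.word [5,3,2,3,1,0,2,4,2,4,3,2,4,0,5]))))) (.node (.node (.node (.node WTree.none (.word [2,1,4,2,1,3,4,3,2,1,5,2,4,5,4])) (.word [2,3,4,1,3,5,4,3,4,2,1,5,2,4])) (.word [4,2,1,5,2,1,3,5,2,5,3,1,5,2])) (.node (.word [3,0,5,1,0,5,3,5,0,1,5,0,3]) (.node WTree.none (.word [5,3,2,4,2,5,4,3,2,5,4,5,2,4,3,2])))))) (.node (.node (.node (.node (.word [5,0,5,4,5,0,2,5,4]) (.node (.word [5,1,4,2,3,1,5,4,3,2,4,1]) (.node WTree.none (.word [2,1,2,4,3,1,3,1,2,4,5,2,5,2,3,4,2])))) (.node (.node (.node WTree.none (.word [2,1,2,5,1,0,2,5,3,0,2,5,3,2,4,5,0,3])) WTree.none) (.node (.node WTree.none (.word [5,3,1,3,1,0,3,5,2,5,2,0,4,2,1])) (.word [5,3,2,3,5,2,3,5,3,2,4,2,1,2,5])))) (.node (.node (.node (.node (.node WTree.none (.word [1,4,1,5,1,2,4,2,1,4,3,5,2,3,2,3])) (.word [3,2,4,0,2,4,2,4,2,3,1,4,5,0,5,1,3,5]))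 WTree.none) (.node (.node (.word [2,1,5,4,1,4,3,1,2,3,2,5,2]) (.word [1,2,4,3,4,1,2,1])) (.node WTree.none (.word [2,3,2,1,4,5,3,5,1,4,3,2,4])))) (.node (.node (.node (.node WTree.none (.word [0,2,4,3,4,3,0,5,4,0,1,3,2,0,3,1])) (.word [3,4,5,1,4,2,3,4,5,0,5,0,3,4,2,4,0,5,0])) (.word [3,4,5,2,5,2,4,3,5,3,4,1,4,2,3,1,2,5])) (.node WTree.none (.node WTree.none (.word [4,3,1,0,5,0,2,3,2,4,0,5,1,3,5,0])))))) (.node (.node (.node (.node (.node (.node WTree.none (.word [5,2,3,2,0,3,0,2,3,2,5])) WTree.none) (.node (.word [3,5,3,1,5,0,3,2,1,5,2,0,2,5,2,4]) (.word [3,5,3,4,3,5,2,3,4,2,4,1,3,2,3]))) (.node (.node (.word [2,4,0,2,4,5,3,5,4,2,0,4,2]) (.word [5,1,0,2,5,4,5,0,1,5,3,1,3])) (.word [4,5,0,5,2,1,3,5,3,2,4,0,5,4]))) (.node (.node (.node (.node (.word [5,0,5,2,4,0,5,2,4,2,5,4,2,3,5]) (.word [3,2,5,2,5,4,5,2,5,2,3])) WTree.none) (.node WTree.none (.word [3,2,4,3,2,5,3,1,5,4,1,2]))) (.node (.node WTree.none (.word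 [1,5,2,1,0,4,3,5,2,0,2,4,1,3,2,0,3])) (.word [2,1,3,0,3,2,3,0,3,2,3,2,5,3,4,5,4,2])))) (.node (.node (.node (.node WTree.none (.word [5,4,1,4,2,5,1,0,2,4,1,3,0,3,5,3,4,3])) (.word [4,5,0,3,2,3,0,2,5,2,4,1,4,2])) (.node (.node (.word [4,5,2,5,4,5,1,2,0,2,0,1,5]) (.word [4,0,4,3,0,4,0,1,5,1,2,0,4,2,3,1])) (.node WTree.none (.word [1,2,3,5,4,2,4,5,3,1,5,3,5,3,1,4])))) (.node (.node WTree.none (.node (.word [4,5,2,5,4,5,0,1,2,0,1,2,1,5]) (.word [2,1,2,4,5,2,3,5,4,5,3,5,2,3,2,1]))) (.node (.node WTree.none (.word [5,1,0,2,3,4,1,2,0,1,5,4,2])) (.node WTree.none (.word [5,3,2,4,5,3,2,4,5,2,1,3,4,5])))))))))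

/-- A subtree. -/
def wt76 : WTree :=
  (.node (.node (.node (.node (.node (.node (.word [2,1,2,4,5,2,5,2,0,5,4,0,2,0,2,0,4,5,0,2]) (.node (.node (.word [3,5,4,1,5,3,2,3,5,2,3,1,4,5,4,2]) (.word [3,4,2,3,2,4,5,2,3,4,2,3,1,5,4])) WTree.none)) (.node (.node (.node WTree.none (.word [4,1,0,4,1,4,5,4,2,4,5,0,3,1,2,4,1])) WTree.none) (.node (.node (.word [1,4,2,1,2,1,3,2,4,0,2,4,2,4,2,0,3]) (.word [5,1,0,5,3,4,2,4,3,5,0,1,5])) WTree.none))) (.node (.node (.node (.node (.word [3,4,5,2,5,4,3,1,3,1,3,5,2,1,5,1]) (.word [3,5,3,5,1,4,2,4,1,3])) (.word [0,3,0,4,0,3,2,5,0,4,2,3,5,4,0,1])) WTree.none) (.node (.node (.node (.node WTree.none (.word [3,1,2,0,3,4,2,0,5,4,5,1,5,4,0,1,4,2,4])) WTree.none) (.word [5,4,1,4,5,1,3,5,2,3,5,2,4,1,2])) (.node (.node (.word [2,5,3,0,4,2,3,4,0,4,2,3,0,3,2,3,1]) (.word [0,4,3,5,2,0,1,2,5,3,4,0])) (.node WTree.none (.word [4,1,4,5,1,2,0,4,2,3,2,5,3,2,1,2,4,0,5])))))) (.node (.node (.node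 (.node (.node (.node (.word [5,2,0,5,4,0,2,3,2,4,2,5,2,3,5,0,3,2]) (.word [5,0,5,2,1,2,3,2,5,2,4,5,4,3,5,0,5])) (.word [2,4,5,3,1,3,0,5,4,2,0,5,4,0,2,0,4,5,2,4,0,3])) (.word [2,4,5,0,3,5,0,5,1,5,4,1,5,1,2,0,5,0])) (.node WTree.none (.node WTree.none (.word [2,0,4,3,1,3,0,5,1,0,2,4,2,0,5,3,2,4])))) (.node (.node WTree.none (.node WTree.none (.word [1,5,3,2,3,0,4,2,3,0,3,0,4,0,3,0,1,3]))) (.node (.node (.word [1,5,1,0,3,0,5,2,0,5,1,5,4,0,1,2,1,4]) (.word [3,1,2,4,3,2,4,3,5,2,5,2,1,4,3,2])) (.node WTree.none (.word [4,5,1,2,5]))))) (.node (.node (.node WTree.none (.word [2,3,2,5,3,4,5,4,2,3,0,4,2,4,2,1,4,0,3])) (.node (.word [4,5,4,1,4,3,2,3,2,5,4]) (.word [2,4,5,0,2,4,5,4,2,4,5,3,0,1,5]))) (.node WTree.none (.node (.node (.word [3,1,2,0,3,4,2,0,1,0,5,4,3,5,4,3,2,0,3]) (.word [5,0,5,2,1,2,0,4,1,5,3,2,3,0,4,3,5])) (.node (.word [5,3,2,0,3,0,2,3,5,0,2,4,1,3,1,2,1,4,3,0]) (.word [3,4,5,3,5,4,3,1,2,4,2,5,4,3,5])))))))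 (.node (.node (.node (.node (.node WTree.none (.node (.word [5,4,0,2,5,2,0,2,1,2,5,3,2,1,3,5,2,1]) (.word [2,4,2,3,1,4,1,4,5,1,3,5,2,4,2]))) (.node WTree.none (.word [1,2,5,4,3,4,5,2,1,2,4,5,0,2,4,3,0,5]))) (.node (.node (.node (.node (.word [4,2,5,3,2,3,5,4,5,2,4,2,3,1,5]) (.word [4,3,5,2,3,4,3,5,2,3,5,4,1,2,3,5,2,3])) (.word [5,1,0,3,2,3,0,1,5])) (.node (.word [3,1,2,5,1,3,4,1,3,5,3,5,3,5]) (.word [2,1,2,5,2,4,0,5,0,3,0,5,0,4,1,5]))) (.node WTree.none (.node (.word [5,1,5,1,5,4,2,1,4,5,3,2,4]) (.word [5,4,2,3,2,1,2,4,2,1,4,5]))))) (.node (.node (.node (.node WTree.none (.word [1,5,3,5,2,4,1,5,4,5,1])) WTree.none) (.node (.node WTree.none (.word [5,3,2,3,5,2,4,5,3,2,4,3,1,5])) (.node WTree.none (.word [5,1,0,3,2,3,1,2,0,5])))) (.node (.node (.word [1,4,3,1,3,1,5,4,5,1,2,3,2,5,3,5]) (.word [4,5,2,5,4,5,4,5,3,5,4,2,1,5])) (.node (.node WTree.none (.word [4,5,0,2,0,5,4])) (.node WTree.none (.word [5,3,1,2,1,3,4,5,3,5,1,4,5]))))))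 (.node (.node (.node (.node (.node (.node WTree.none (.word [4,5,4,3,5,4,2,1,5,2,5,2,3,4])) WTree.none) (.word [5,2,3,2,3,4,2,0,2,0,2,1,4,0,2,0,4,5])) (.node (.node WTree.none (.word [4,1,5,0,4,5,1,5,2,0,3,5,2,0,2,5,3,5,0])) WTree.none)) (.node (.node WTree.none (.node WTree.none (.word [4,5,2,5,4,5,4,2,5,3,2,4,1,3,2,1]))) (.node WTree.none (.node WTree.none (.word [4,2,4,1,4,3,2,4,5,2,1,4,5,1]))))) (.node (.node (.node (.node (.word [4,3,1,5,4,5,0,5,0,3,1,3,2,0,2,0,4,1]) (.word [3,1,2,5,2,5,1,2,4,1,2,3])) (.word [5,2,5,2,1,2,3,4,5,2,5,3,2,4,3])) (.node WTree.none (.node WTree.none (.word [5,1,4,2,5,2,3,2,3,1])))) (.node (.node (.node (.node WTree.none (.word [2,5,1,3,2,5,3,5,4,5,1,3,4,2])) WTree.none) (.node WTree.none (.word [3,0,3,0,2,4,2,0,3,0,3]))) (.node (.word [2,4,3,4,2,0,2,5,0,4,5,4,2,5,4,0,2]) (.node WTree.none (.word [5,0,3,4,3,5,4,2,4,5,3,5,4,3,5,0,5])))))))) (.node (.node (.node (.node (.node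 WTree.none (.node (.node (.word [5,4,1,4,1,3,2,4,3,2,5,3,2,1,2]) (.word [1,5,0,3,1,0,2,5,1,0,5,0,3,1,2,5,3,2,5])) (.node (.word [5,2,0,2,1,5,3,0,4,2,3,2,4,0,1,3,4]) (.word [5,0,5,2,4,0,5,2,4,5,2,1,5,2,1,4,2])))) (.node (.node (.node (.node (.word [4,5,2,0,2,0,3,5,2,4,1,5,4,5,4]) (.word [5,3,2,3,1,2,5,3,0,3,0,4,2,0,3,0,3])) WTree.none) WTree.none) (.node WTree.none (.word [3,2,1,5,3,1,4,5,3,0,4,0,2,0,3,4,0,3])))) (.node (.node (.node WTree.none (.word [1,5,0,3,4,2,5,3,5,2,4,5,4,0,4,2])) (.node (.node (.word [3,5,4,5,1,3,2,5,3,1,2,4,1,3,5,2]) (.word [4,0,5,3,5,3,5,3,5,0,4])) WTree.none)) (.node (.node (.node (.word [2,4,5,2,3,2,5,4,5,3,5,2,3,2,4,3]) (.word [4,3,1,5,3,1,5,2,1,0,5,0,2,1,4,3])) WTree.none) (.node (.node (.word [5,0,5,3,4,3,2,4,3,2,4,2,0,5,2,1,3,0,3]) (.word [5,4,3,1,5,1,4,3,5,1,4,3,1,5])) WTree.none)))) (.node (.node (.node (.node (.node WTree.none (.word [2,4,3,4,2,3,1,4,2,4,3])) (.word [5,2,0,2,0,5,3,4,5,3,2,5,2,3,4,3]))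 (.word [1,5,2,5,4,1,0,3,5,2,4,2,4,2,5,3,0,4])) (.node (.node WTree.none (.node (.word [1,2,0,2,0,3,0,1,3,4,5,2,0,2,4,5]) (.word [5,3,4,2,0,5,0,5,1,5,3,1,3,2,4,3,5,2,3]))) (.node (.word [4,2,1,2,5,4,3,2,4,1,2,5,4,3]) (.node WTree.none (.word [5,2,5,3,0,4,5,4,0,5,2,1,5,0,3]))))) (.node (.node (.node (.node (.node WTree.none (.word [4,5,4,3,2,3,5,4,3,2,3])) (.word [1,3,5,4,5,3,1])) WTree.none) (.node (.node WTree.none (.word [5,4,3,1,5,2,5,3,4,2,3,4,3,5])) WTree.none)) (.node (.node (.node (.word [3,0,3,0,4,0,3,4,0,3,1,5,2,0,4,1,3]) (.word [5,4,2,4,5,3,2,3,4,5,3,5,2,4,1,3])) (.node (.word [5,3,2,4,2,1,0,4,1,4,0,5,1,4,2]) (.word [4,1,4,1,5,2,0,3,0,4,2,5,0,3,2,5,4]))) (.node WTree.none (.word [2,5,4,1,3,1,4,5,4,5,2,4,2,3,5,4])))))) (.node (.node (.node (.node (.node (.node WTree.none (.word [2,1,4,3,4,2,0,3,1,4,1,2,0,1,5,1,4,3])) WTree.none) (.node (.node WTree.none (.word [5,2,5,2,1,2,3,4,5,2,3,5,3,2,4,3])) WTree.none))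 (.node (.node (.node WTree.none (.word [3,1,5,2,4,1,5,3,2,5,2,3,5,2,3])) WTree.none) (.node WTree.none (.node WTree.none (.word [2,1,4,1,4,0,4,2,0,5,2,3,0,5,4,0,4,3]))))) (.node (.node (.node (.node (.node (.word [4,5,2,3,4,5,4,2,5,4,5,2]) (.word [1,5,0,3,5,4,1,4,5,3,0,5,1])) (.word [3,1,4,2,4,1,5,3,5,3])) (.word [5,1,2,5,3,5,2,3,1,2,1,5,4,2])) (.node WTree.none (.node WTree.none (.word [5,3,4,3,2,5,4,1,0,5,0,5,3,1,4,5])))) (.node (.node (.node WTree.none (.word [3,2,5,1,3,4,5,0,5,1,0,2,3,5,4,1,5,4])) (.word [4,5,2,4,2,3,1,5,3,2,4,1])) (.node (.word [3,2,1,3,5,2,5,0,5,3,5,0,5,2,5,3,0,2,5,0]) (.node WTree.none (.word [2,4,5,3,5,4,1,4,2,3,4,2,1,3,4])))))) (.node (.node (.node (.node (.node (.node (.word [2,5,2,5,2,5,1,2,0,2,0,5,4]) (.word [2,1,2,3,0,5,3,0,2,0,3,5,0,3])) WTree.none) (.node WTree.none (.word [5,3,4,3,2,1,5,3,0,2,4,3,0,1,2,3,1,4]))) (.node (.word [5,2,3,2,4,0,2,0,1,4,3,5]) (.node WTree.none (.word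 [4,3,1,3,0,4,5,3,0,2,3,2,5,0,4,5,3])))) (.node (.node (.node (.word [5,3,4,3,5,4,5,1,4,5,3,2,4,2]) (.word [3,1,2,4,5,2,5,2,4,1,5,2,1,3,5,3])) WTree.none) (.node (.word [0,5,3,5,3,1,5,4,0,2,5,3,4,3,0,5,3,0]) (.node WTree.none (.word [1,4,5,1,2,1,4,3,1,5,1,2,3,4]))))) (.node (.node (.node (.node (.node WTree.none (.word [5,4,5,3,5,4,3,5,1,3,1,5,3,2,5])) WTree.none) WTree.none) (.node (.node WTree.none (.word [4,2,1,3,5,4,2,3,4,2,5,3])) (.word [2,4,5,2,4,3,5,2,3,1,5,3,2,4,5]))) (.node (.node (.node (.word [4,1,4,1,5,1,0,3,4,2,0,5,4,2,4]) (.word [3,5,3,5,3,4,2,4,5,3,1,5,1,4,2,4])) (.node WTree.none (.word [3,2,5,4,1,2,3,1,2,4,5,2,3]))) (.node (.node WTree.none (.word [3,5,1,4,1,5,2,4,2,3,5,4,5,4,3,1])) WTree.none)))))))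

/-- A subtree. -/
def wt77 : WTree :=
  (.node (.node (.node (.node (.node (.node WTree.none (.node (.word [5,2,0,3,5,3,1,5,4,0,5,1,4,3,0,3,1,2]) (.node (.word [2,3,1,5,4,3,2,5,3,5,2,4,5,1]) (.word [4,2,5,2,5,2,4])))) (.node (.node (.word [5,1,0,5,1,3,5,2,4,5,2,3,5,0,5]) (.node (.word [5,0,3,2,3,1,5,4,5,0,5,2,1,2]) (.word [0,2,4,2,0,3,0,2,3,0,3,2,3,4]))) (.node (.node WTree.none (.word [4,1,5,2,0,4,1,4,5,4,2,5,0,5,0,4,2,1])) (.node WTree.none (.word [3,5,4,2,4,1,5,2,4,5,1,2,5,1,4,1,3]))))) (.node (.node (.node (.node WTree.none (.word [3,5,1,4,3,5,3,1,0,3,5,3,5,3,0,1,4])) WTree.none) (.node WTree.none (.word [5,1,2,5,4,5,0,2,0,1,2,1,5]))) (.node WTree.none (.node (.node WTree.none (.word [5,3,2,5,3,1,2,1,2,5,2,3,5])) (.node (.word [5,1,2,5,2,1,3,4,5,3,4,5,3,2]) (.word [2,3,5,3,2,3,2,5,1,2,1,4,2,3])))))) (.node (.node (.node (.node (.word [5,1,5,1,4,1,2,5,0,3,4,2,5,0,3,5,2]) (.node WTree.none (.word [3,5,4,1,5,3,2,3,2,1,5,2,1,5,4,3,2])))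 WTree.none) (.node (.node (.node (.node WTree.none (.word [5,4,5,3,1,2,0,5,0,2,4,5,2,3,2,1,4,5,3])) WTree.none) WTree.none) (.node (.node WTree.none (.word [3,5,1,2,3,4,3,5,1,2,5,2,5,1,2,4,1])) (.word [4,2,4,1,4,2,1,0,3,2,1,4,1,2,3,0,4,5])))) (.node (.node (.node (.node (.word [1,5,2,5,1,3,2,5,3,4,3,2,3,5,1]) (.word [5,4,1,5,1,4,2,3,5,3,1,5])) (.word [5,0,5,4,5,0,2,1,2,5])) (.node (.node (.word [4,1,3,2,0,3,1,4,2,0,3,4,5,1]) (.word [1,4,3,2,1,4,2,5,1,2,3,4,5,4])) WTree.none)) (.node (.node (.word [3,2,1,0,4,3,5,3,2,4,2,0,3,1,2]) (.word [2,3,2,0,2,4,2,5,1,5,3,0,1,5,4,5])) (.node (.node WTree.none (.word [1,2,4,0,2,1,0,2,0,4,5,4,5,2])) (.word [2,1,5,3,4,2,5,1,4,2,5,3,5,2])))))) (.node (.node (.node (.node (.word [3,2,1,0,3,1,3,5,0,5,4,0,3,4,5,4,2,3,0]) (.node WTree.none (.word [5,1,4,2,5,3,2,4,3,1,2,1]))) (.node WTree.none (.node (.node (.word [3,5,2,5,4,2,1,5,1,3,1,4,3,5,3]) (.word [4,1,5,4,5,2,0,5,0,3,2,3,5,2,1,5,4,0,5,0]))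 (.word [5,1,2,0,5,3,1,3,5,0,5])))) (.node (.node (.node (.node (.node WTree.none (.word [5,4,1,4,0,3,4,0,4,1,4,2,5,3,0,3,4])) (.word [1,4,1,5,2,3,5,2,4,5,4,2,5,4,1])) WTree.none) (.node WTree.none (.node WTree.none (.word [2,4,5,2,3,2,5,2,1,5,4,2,5,3])))) (.node (.node (.node (.node (.word [5,2,0,3,1,2,1,3,0,1,5,4]) (.word [3,4,2,4,2,5,3,4,1,5,1,5,2,5])) WTree.none) (.node WTree.none (.word [5,1,0,2,5,4,5,3,2,4,2,0,5,4,2]))) (.node (.word [5,1,2,1,0,2,0,5,4,5,2,1,5]) (.node WTree.none (.word [4,3,5,3,1,5,3,2,5,4,5,4,2,1,4,2,1])))))) (.node (.node (.node (.word [2,4,0,5,1,4,0,2,4,2,0,3,4,0,2,3,0,1]) (.word [3,4,2,4,3,2,5,0,5,0,4,0,4,5,0,5,2])) (.node (.node (.node (.node WTree.none (.word [1,3,2,1,5,0,2,3,1,3,4,1,4,2,0])) WTree.none) WTree.none) (.node WTree.none (.node WTree.none (.word [3,5,3,2,4,1,5,0,2,1,2,0,4,1,4]))))) (.node WTree.none (.node (.node (.node (.node WTree.none (.word [5,1,4,2,5,2,3,2,3,1,5,2,0,1,2,0,5,4]))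 (.word [3,1,2,1,4,2,5,2,3,4,1,5,1])) (.node WTree.none (.word [3,4,3,2,4,3,1,2,5,4,5,1,4,5,4,3,5]))) (.node WTree.none (.node (.word [3,5,4,5,1,2,3,4,5,2,4,5,1,4,2]) (.word [3,4,2,4,3,5,4,2,5,4,2,3,2,1,4])))))))) (.node (.node (.node (.node (.node (.node (.node (.node (.word [1,4,3,2,1,2,3,2,3,2,0,4,1,4,3,0,2,4,3,2]) (.word [0,3,5,1,5,3,1,0,3,4,3,5,4,5])) WTree.none) WTree.none) WTree.none) (.node (.node (.node (.node (.word [4,3,1,3,0,5,0,5,1,2,3,5,1,3,2,3]) (.word [2,1,3,1,5,2,0,2,3,0,2,0,4,0,4])) WTree.none) (.node (.word [1,3,4,2,4,0,4,5,4,5,2,0,2,0,4,0]) (.word [3,4,5,2,5,4,2,1,4,1,5,2,3,5,3,1]))) WTree.none)) (.node (.node (.node (.node (.word [5,3,5,0,5,4,2,4,5,0,5,3,5]) (.word [3,5,2,5,4,2,3,2,4,2,0,1,5,1,3,0,3,4])) WTree.none) (.node WTree.none (.word [3,2,1,0,5,0,1,0,2,4,3,0,5,0,5,4,3]))) (.node (.node (.node (.node (.word [3,5,4,2,0,2,1,2,3,5,0,5,2,4]) (.word [5,1,2,5,2,5,0,3,2,0,2,3,0,5,2])) WTree.none)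 WTree.none) (.node WTree.none (.node (.word [3,4,2,5,3,2,5,0,5,3,1,3,5,0,4]) (.word [2,4,0,3,2,1,3,5,3,0,2,1,3,4,2,0,3,2])))))) (.node (.node (.node (.node (.node (.node WTree.none (.word [2,0,5,0,2,0,5,0,4,0,1,4,1,4,5,1])) (.word [1,5,4,5,3,2,3,2,5,3,1,5])) WTree.none) (.node (.node (.word [5,4,1,4,0,2,0,3,5,3,5,3,5]) (.word [5,4,1,4,0,4,1,4,5,1,5,2,0,5,1,5,4,2])) (.node WTree.none (.word [2,3,4,1,3,2,1,2,0,2,4,3,5,2,4,0,2,1,3])))) (.node (.node WTree.none (.node (.word [5,2,5,3,1,2,4,3,1,2,3,4,2]) (.word [5,1,2,5,3,4,0,4,0,2,5,0,4,0,3,4]))) WTree.none)) (.node (.node (.node (.node (.word [5,2,4,3,2,3,2,4,2,4,3,5]) (.word [3,2,1,3,2,5,2,4,3,4,2,5,3,1,4,2])) WTree.none) (.word [5,2,5,1,2,3,5,4,5,2,3,2,3])) (.node (.node (.node (.word [3,0,3,2,3,0,4,0,3,2,3,0,3]) (.word [2,1,4,1,4,2,5,3,2,3,5,4])) WTree.none) (.node (.node WTree.none (.word [5,2,3,4,3,2,3,5,3,5,2,5])) (.node WTree.none (.word [4,5,0,4,2,4,5,3,2,5,4,2,1,2,4,0,4,2,4])))))))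 (.node (.node (.node (.node (.node (.node (.node (.word [1,5,0,4,2,5,0,5,2,4,0,5,1]) (.word [5,1,2,1,3,5,2,3,2,5,4,2,5,1])) WTree.none) WTree.none) (.node (.word [1,4,2,4,2,1,3,1,4,2,3,1]) (.node WTree.none (.word [5,4,5,3,1,2,5,1,5,4,2,5,4,5])))) (.node WTree.none (.node WTree.none (.node (.word [5,4,2,5,2,3,4,3,2,4,2,1]) (.word [1,4,5,1,2,5,3,1,4,1,2,4,3]))))) (.node (.node (.node (.node (.node WTree.none (.word [4,5,2,1,0,2,0,2,1,5])) (.word [1,5,1,2,1,5,1,3,5,1,3,4,1,5,3,4])) (.node WTree.none (.word [3,1,4,2,4,3,5,4,3,0,5,0,5,1,4,3]))) (.node WTree.none (.node WTree.none (.word [5,3,2,3,5,2,5,4,5,1,4,1,2,3,4,2])))) (.node (.node (.node (.node (.word [4,5,0,4,5,3,5,4,3,5,2,0,2,3,1,3,0,5,2]) (.word [0,4,5,2,1,5,4,0,5,3,4,2,1,5,0,5,1])) WTree.none) (.word [3,1,2,3,5,4,2,4,5,2,4])) (.node (.node WTree.none (.word [4,2,1,5,2,5,3,5,2,4,2,5,3,2,4])) (.word [1,5,1,2,1,5,1,3,5,4,3,5,1,3]))))) (.node (.node (.node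 WTree.none (.node (.word [4,3,1,5,3,5,0,5,0,5,4,3,2,0,5,0,5,2]) (.node WTree.none (.word [2,3,5,4,2,3,0,2,0,4,5,4,3,0,3,0])))) (.node WTree.none (.node (.node (.word [3,4,2,4,5,4,1,5,0,2,5,0,5,2,5,3,0,1]) (.word [1,5,3,2,1,3,4,3,5,2,3,5,2,5,1])) WTree.none))) (.node (.node (.node (.node (.node WTree.none (.word [2,4,5,2,3,2,5,0,3,2,1,5,0,2,0,1,5,2])) WTree.none) WTree.none) (.node (.node (.word [0,4,0,3,1,4,5,0,3,5,1,3,5,0,5,0,2]) (.word [1,5,1,2,5,1,5,3,4,1,3,5,1,4,2,3])) WTree.none)) (.node (.node (.node WTree.none (.word [5,0,3,4,2,3,2,4,3,0,5])) (.word [2,5,4,3,4,1,5,2])) (.node (.word [3,0,4,0,2,0,4,0,5,2,1,2,4,3,5,3]) (.node WTree.none (.word [0,4,0,3,1,4,5,0,2,1,4,0,3,0,2,4])))))))))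

/-- A subtree. -/
def wt78 : WTree :=
  (.node (.node (.node (.node (.node (.node (.node WTree.none (.node WTree.none (.word [5,0,4,1,4,1,2,4,0,4,1,5,1,5,0,2]))) (.node (.node WTree.none (.word [3,5,4,1,5,3,5,3,1,4,5,2,3,4,1,2])) (.node WTree.none (.word [3,5,2,1,5,3,2,4,2,3,4,5,2,1,3,5,4,3,1])))) (.node (.node WTree.none (.node WTree.none (.word [5,0,5,4,2,1,2,1,0,2,3,2,4,3,5,0,3,1,2]))) (.node (.word [5,3,2,3,5,2,4,5,0,2,4,2,3,0,5]) (.node (.word [1,4,5,2,5,0,2,0,4,5,0,3,5,2,5,2,0,1]) (.word [3,4,5,3,5,2,5,3,5,4,3]))))) (.node (.node (.node (.node (.node (.word [1,4,3,1,3,1,3,2,5,3,4,5,4,1]) (.word [1,0,5,1,0,5,0,5,2,0,4,2,5,2,5])) WTree.none) (.node WTree.none (.word [3,1,5,1,4,0,3,2,3,2,0,3,5,1,3]))) (.node WTree.none (.node WTree.none (.word [3,1,3,2,5,4,2,4,2,3,2,4,5,2])))) (.node (.node (.node (.word [5,1,4,1,5,4,3,2,5,4,1,5,4]) (.word [1,4,5,0,2,1,2,0,5,4,1])) (.node (.word [2,1,5,4,1,4,5,3,2,5,2,5,4,3,1,2])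 (.word [2,1,2,5,1,0,2,5,3,2,1,2,3,5,0,4,2,4]))) (.node (.node WTree.none (.word [3,4,2,4,3,5,2,5,4,2,1,2,4])) (.node (.word [3,4,2,0,5,2,5,0,5,2,5,0]) (.word [5,2,0,2,0,5,2,3,5,2,1,2,3,2,4,2,5])))))) (.node (.node (.node (.node (.node (.node (.word [1,5,1,4,3,5,2,5,4,2,1,5,4,2,3]) (.word [4,2,1,2,0,4,3,2,0,2,5,0,4,0,2,4,0])) (.word [3,4,1,3,1,2,4,0,4,3,4,0,3,5,0,5])) (.node WTree.none (.word [0,5,2,4,3,5,0,1,2,4,2,4,5,4,5,1,2]))) (.node (.node (.word [3,0,5,4,2,1,4,2,5,1,3,0,4,0,1,3]) (.word [3,5,1,4,3,1,5,3,2,5,4,1,3,4,1,5,1,2])) (.word [5,2,4,3,1,5,2,3,2,4,5,0,1,2,4,3,0,5]))) (.node (.node WTree.none (.node WTree.none (.word [1,4,5,0,4,1,2,0,4,0,3,4,5,3,0,4,1,4]))) (.word [1,5,2,5,1,3,1,5,3,4,5,1,3]))) (.node (.node (.node (.node (.node (.word [2,1,3,1,3,5,3,5,1,2,5,4,3,5,2]) (.word [3,2,5,3,1,4,5,2,4,2,3,4,5,3,4,5,4])) (.word [2,3,5,3,2,5,1,3,1,5,1,4,2,5])) (.node WTree.none (.word [5,1,2,5,4,5,3,4,2,5,4,2,1,4,1])))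 (.word [5,3,1,2,1,3,5,1,3,4,2,4,1,3,1])) (.node (.node WTree.none (.node WTree.none (.word [5,2,5,3,1,0,4,5,3,4,0,1,5,0,2,3,0,3]))) (.node WTree.none (.word [5,0,5,2,4,0,5,2,3,2,4,5,2,1,4,5])))))) (.node (.node (.node (.node (.node (.node (.node WTree.none (.word [1,3,4,2,3,1,5,2,1,4,2,3,4,5])) WTree.none) (.node WTree.none (.word [2,1,3,0,3,2,3,4,5,4,5,0,2,0,4,0]))) (.node (.node WTree.none (.word [1,5,2,5,1,2,3,5,1,3,4,1,4,2,4,5])) (.node WTree.none (.word [4,5,0,5,2,1,2,3,5,0,4,0,2,3,4,5,3,5,4])))) (.node (.node (.node (.word [5,1,2,5,0,2,1,2,0,5,3,4,2,5]) (.word [3,2,1,5,3,4,2,3,0,3,0,3,2,1,5])) (.word [5,3,2,3,0,5,4,1,2,4,3,0,4,2,4,1])) (.node WTree.none (.word [1,4,5,3,2,3,5,4,1])))) (.node (.node (.node (.node (.node (.word [2,4,3,2,5,4,3,5,4,1,4]) (.word [3,2,5,2,4,2,1,2,5,4,1,3,1])) WTree.none) (.word [3,4,5,4,2,5,3,2,5,4,1,5,1,3,2])) (.node WTree.none (.node WTree.none (.word [2,5,2,4,3,5,3,5,2,4,5,4,2,1]))))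 (.word [2,1,5,2,3,5,3,4,3,5,2,3,5,1]))) (.node (.node (.node (.node (.node (.node WTree.none (.word [5,2,0,2,0,3,4,2,3,2,4,3,5,4])) WTree.none) (.node (.word [5,2,3,4,3,2,3,5,3,4,5,2,5]) (.word [5,0,4,1,4,3,5,3,5,3,0,2,5]))) (.node WTree.none (.node WTree.none (.word [2,4,3,0,2,3,1,3,4,0,4,0,1,4,0,4,2,5])))) (.node (.node (.node WTree.none (.word [1,3,2,1,2,3,1,0,4,2,4,1,5,0,2,4,2,4,5])) (.node WTree.none (.word [2,5,4,2,1,2,4,1,3,4,2,3,5,2]))) (.node (.node WTree.none (.word [5,2,0,2,0,5,2,4,5,4,2,1,3,1,2,5,2,3])) (.node WTree.none (.word [3,5,3,5,4,2,4,0,4,1,4,0,4,2,3]))))) (.node (.node (.node (.node (.node (.word [3,5,4,5,3,5,3,1,2,1,3,5,2,1,2]) (.word [3,1,3,2,5,4,5,1,4,2,3,4,1,2])) WTree.none) (.word [2,1,2,5,2,3,5,0,2,1,2,0,1,5,3,5])) (.node (.word [4,1,5,2,5,1,5,4,5,1,3,1,5,4,5,4]) (.node WTree.none (.word [5,1,4,1,5,4,3,2,3,5,4,2,5])))) (.node (.word [5,4,1,4,2,5,1,0,4,2,4,1,5,0,5,2,3,2]) (.node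 WTree.none (.node WTree.none (.word [4,3,5,1,3,1,4,5,1,3])))))))) (.node (.node (.node (.node (.node (.word [4,1,4,1,0,2,5,1,5,0,4,0,4,3,0]) (.node (.word [5,0,5,2,4,0,5,2,4,1,2,1,5,4,3,5]) (.node WTree.none (.word [2,4,3,1,4,5,4,0,5,1,3,0,2,4,5,3])))) (.node (.node (.node WTree.none (.word [2,3,1,5,4,3,4,2,1,4,2,5])) (.word [5,4,3,5,4,5,2,1,5,3,1,4])) (.word [4,3,1,5,4,2,1,4,5,1,2,3,4]))) (.node (.node (.node (.node (.node WTree.none (.word [1,4,3,1,3,1,5,1,3,2,3,5])) WTree.none) (.node WTree.none (.word [1,4,1,5,0,2,0,3,2,3,1,5]))) (.node (.node WTree.none (.word [2,3,2,5,1,4,1,5,2,3,2])) (.word [2,4,3,0,2,5,1,2,4,3,4,1,2,5,0,5]))) (.node (.node (.node (.word [2,5,2,5,4,0,5,1,5,0,3,1,3,0,4,2]) (.word [4,2,4,1,2,1,4,5,4,5,2,1])) (.word [5,0,4,2,4,5,4,3,2,0,2,0,4,2,4,0,2,0,4])) (.node WTree.none (.node (.word [3,2,0,5,2,4,3,0,5,4,3,2,4,5,1,4,3]) (.word [2,4,0,2,5,0,5,3,2,1,2,3,0,4,1])))))) (.node (.node (.node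 (.word [4,5,0,5,2,1,3,5,3,2,4,0,1,2,5]) (.node WTree.none (.word [2,1,2,5,2,0,4,5,3,5,1,4,0,5,4]))) (.node (.node WTree.none (.node WTree.none (.word [3,1,3,5,0,5,0,5,4,3,1,0,4,0,3,2,0]))) (.node WTree.none (.node (.word [5,2,4,3,1,5,2,3,0,2,1,4,3,0,3,1,4,3]) (.word [5,0,3,4,3,2,5,2,1,4,3,2,0,4,2,4,1]))))) (.node (.node (.node (.node (.node WTree.none (.word [1,5,0,5,0,3,5,4,2,1,0,4,2,4,2,3,2,5,0,3])) WTree.none) (.word [2,1,2,4,3,5,2,3,4,3,2,1,5])) (.node WTree.none (.node WTree.none (.word [2,1,2,5,1,2,1,5,3,5,4,5,3])))) (.node WTree.none (.node WTree.none (.node (.word [5,4,1,4,5,0,4,5,4,0,3,5,0,4,0,1,3]) (.word [0,2,4,3,0,2,1,4,1,0,2,4,3,0,1]))))))) (.node (.node (.node (.node (.node (.node WTree.none (.word [1,5,3,2,3,0,3,4,5,0,2,5,4,5,0,4,5,2])) WTree.none) (.node WTree.none (.node WTree.none (.word [3,2,5,3,2,1,2,4,3,2,5,3,5,3,5,4])))) (.node (.node WTree.none (.word [2,4,5,2,4,2,3,0,2,0,3,2,3,5]))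 (.node (.word [3,1,5,1,4,0,3,2,0,3,2,0,3,5,3]) (.word [1,5,0,4,0,5,1,2,0,1,2,1,5,0,1,2])))) (.node (.node (.node (.node WTree.none (.word [5,0,2,0,5])) WTree.none) (.node (.node (.word [1,2,4,0,3,0,3,0,4,2,1]) (.word [4,5,0,3,2,5,1,5,3,2,0,2,5])) (.word [1,5,1,0,3,0,5,1,2,0,5,1,5,4,0,1,4,5]))) (.node (.node (.node (.node WTree.none (.word [2,5,2,5,0,5,0,2,1,4,0,5,4,0,1,3,0])) (.word [5,2,4,5,0,3,0,5,4,1,5,4])) (.word [1,5,1,0,5,2,4,3,5,3,4,1,3,0,2,1,2,5,0])) (.node WTree.none (.word [2,1,4,3,5,1,4,2,5,2,4,3,2,3]))))) (.node (.node (.node (.node (.word [2,4,5,3,1,5,4,2,1,3,4,2,3,1,4,3]) (.node (.word [2,4,2,5,4,3,5,2,4,5,3,5,4,1,2,1]) (.word [2,5,4,1,4,5,2,0,3,5,1,5,4,2,5,0,4]))) (.node WTree.none (.node WTree.none (.word [3,5,3,1,5,2,5,1,4,2,4,3,5,3])))) (.node (.node (.node (.word [5,1,3,2,3,4,3,2,5,2,3,2,4,1,2]) (.word [2,3,5,4,2,1,2,3,2,5,2,3,2])) WTree.none) (.word [0,2,0,3,0,4,3,0,4,2,4,2,3,2,0,5,1])))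 (.node (.node (.word [2,1,3,1,3,4,5,0,5,0,1,2,5,1]) (.node WTree.none (.node WTree.none (.word [3,2,5,1,3,4,5,2,3,2,5,3,4,5,3,4,2])))) (.node WTree.none (.node (.node WTree.none (.word [3,1,4,1,5,1,5,4,2,3,2,0,3,0,2,3,2])) (.node (.word [4,3,5,3,5,1,2,1,0,2,0,4,0,3,0,1]) (.word [4,5,4,3,1,5,2,3,1,3,5,2,3,5,2,4,2])))))))))

/-- A subtree. -/
def wt79 : WTree :=
  (.node (.node (.node (.node (.node (.node (.node (.word [2,5,3,1,2,3,4,2,5,2,5,4,5,3,2,3]) (.node (.word [1,4,3,1,3,1,2,3,5,3,4,3,2,4,5]) (.word [4,1,4,2,1,5,3,5,3,4,5,3,5]))) (.node (.node WTree.none (.word [3,1,4,5,4,2,5,4,2,1,3,1,2,4,2,3])) WTree.none)) (.node (.node (.node (.node WTree.none (.word [3,1,4,2,4,3,2,3,5,3,4,3,2,4,1,5])) (.word [3,2,1,5,4,2,4,1,2,5,4,2,3])) (.word [4,5,2,1,4,1,3,2,4,1,5,3,4,3])) (.node (.node WTree.none (.word [5,2,0,3,5,1,5,3,5,0,4,5,4,3,0,4,5,0,3,2,3])) WTree.none))) (.node (.node (.node (.node (.node WTree.none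 (.word [3,0,4,2,3,2,3,1,4,0,4,2,3])) WTree.none) WTree.none) (.node WTree.none (.node WTree.none (.word [4,1,5,2,5,2,4,2,1,5,4,3,1,5,4])))) (.node WTree.none (.node (.node (.word [1,5,2,5,1,5,4,0,3,0,2,5,4,0,5,3,0]) (.word [2,5,1,3,2,3,5,2,3,2,5,2,4,5,2,3,4,3])) (.word [4,3,2,5,1,3,2,4,5,1,4,3,2,4]))))) (.node (.node (.node (.node (.node (.word [1,5,0,3,0,2,0,4,2,0,2,0,5,4,2,4,5,0,3,5,0]) (.word [1,4,2,4,0,4,2,1,0,5,0,5,0,2,4,1,3,0])) WTree.none) (.node (.node WTree.none (.word [3,4,5,3,5,4,3,1,5,4,1,2,1,3,5,3,2])) WTree.none)) (.node (.node (.node WTree.none (.word [2,1,4,0,2,5,1,3,0,3,1,4,3,0,4,2,1,3])) WTree.none) (.node WTree.none (.node (.word [4,5,2,5,3,2,5,0,2,3,4,1,5,2,0,3]) (.word [3,4,3,2,4,5,1,2,1,3,4,3,5]))))) (.node (.node (.word [1,4,2,1,2,1,3,0,2,4,2,3,2,0,3,2,4,2]) (.node (.node (.word [2,1,3,4,1,3,2,0,5,1,0,3,4,5,1,4,5]) (.word [1,5,3,2,1,3,5,3,1,5,4,5,1,3])) (.node WTree.none (.word [5,2,4,1,4,5,1,0,3,0,5,3,5,0,3,0,1]))))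 (.node (.node (.node WTree.none (.word [1,3,1,5,0,4,1,0,2,3,4,3,0,4,2,4])) WTree.none) (.node (.node WTree.none (.word [4,5,2,1,0,3,2,4,2,3,0,5,3,4,2])) WTree.none))))) (.node (.node (.node (.node (.node (.node WTree.none (.word [5,0,3,4,2,5,4,2,3,2,5,3,4,2,0,3,4,2])) (.node (.word [2,0,5,0,2,0,5,4,0,1,4,0,4,5,1]) (.word [2,4,5,2,4,3,4,2,5,3,1,2,4,3,2,4]))) (.node (.node (.word [2,1,2,1,4,2,3,5,1,3,2,4,5]) (.word [3,5,4,5,2,1,4,2,3,5,2,5,2,3])) WTree.none)) (.node (.node (.node (.word [5,2,3,4,2,0,5,4,2,1,2,4,3,0,4,2,4,1]) (.word [2,4,3,5,2,4,3,5])) WTree.none) (.node (.word [4,5,2,5,4,5,3,5,4,0,4,5,4,0,4,3,0,5]) (.word [5,4,1,4,5,2,5,3,2,3,5,2])))) (.node (.node (.word [2,3,0,3,4,2,4,1,3,2,3,1,4,2,0,2,5,3,2]) (.node (.node WTree.none (.word [4,1,4,3,0,5,0,2,0,5,0,2,3,2])) (.word [4,2,4,3,0,5,1,5,2,0,5,2,1,2,4]))) (.node (.node (.node WTree.none (.word [5,2,0,5,1,5,0,5,4,2,0,3,2,1,5,2,3,0])) (.word [5,4,0,2,5,2,0,4,2,5,2,5,4,2,1]))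 (.node (.node WTree.none (.word [1,4,1,0,2,5,2,0,5,4,1,4,2,0,2,5,4,5,0])) (.node (.word [1,3,5,2,4,5,2,5,2,1,2,3,5,3,4]) (.word [5,2,3,4,2,3,5,1,3,4,2])))))) (.node (.node (.node (.node (.node (.node WTree.none (.word [2,4,1,4,2,3,2,0,4,2,0,3,4,2,3,2,3,0])) WTree.none) WTree.none) (.node (.node (.word [4,1,4,1,3,2,0,4,1,4,0,5,1,5,4,3]) (.word [1,5,0,2,3,5,2,5,3,5,3,1,5,0,3,5,0,2,0,3,0])) WTree.none)) (.node (.node (.node WTree.none (.word [3,1,2,5,1,3,4,5,1,4,1,5,1,2,1,5])) (.word [4,5,3,2,3,0,5,3,4,0,5,0,5,0,3,1,3,0])) WTree.none)) (.node (.node (.word [5,1,2,5,3,0,3,2,1,5,1,2,0,1,5,2]) (.node WTree.none (.node WTree.none (.word [2,1,2,4,3,2,4,3,5,4,1,3,2,5])))) (.node (.node (.node (.word [5,0,3,1,3,5,1,3,5,2,3,2,0,5,4,2,4]) (.word [5,2,4,3,2,3,2,4,5,3,4,2])) WTree.none) (.node WTree.none (.word [2,1,2,5,4,2,0,5,3,2,1,3,4,0,4]))))))) (.node (.node (.node (.node (.node WTree.none (.node (.node WTree.none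 (.word [5,0,4,1,4,3,5,3,5,3,0,1,5,4])) WTree.none)) (.node (.node (.node WTree.none (.word [4,0,5,0,2,1,3,1,2,0,5,0,4])) (.word [5,3,1,4,5,2,5,1,3,5,3,1,4,2])) (.node (.node (.word [5,3,4,0,2,0,4,3,5,2,4,2,1,2,1,3,4,2]) (.word [4,1,5,0,4,1,5,4,2,0,2,5,4,3,0,3,4])) (.word [5,4,1,4,2,3,5,0,5,1,5,0,2,3,4,0,5,2,0])))) (.node (.node (.node (.node WTree.none (.word [2,5,2,4,5,2,1,2,4,2,4,2])) (.word [1,3,5,4,3,5,3,1])) (.node (.word [4,2,4,3,0,2,5,4,1,5,0,2,1,5]) (.node WTree.none (.word [4,3,5,2,5,4,5,2,1,4,2,3,5,4,3])))) (.node (.node (.node (.node WTree.none (.word [4,5,3,2,3,1,5,2,5,3,2,3,2,5,2])) (.word [2,1,5,2,5,2,3,2,1,5,4,5,4,2,3,4])) (.node (.word [1,4,1,5,3,5,2,5,0,3,5,0,1,5,2]) (.word [5,4,1,4,3,1,0,4,5,0,5,1,3,2,0,3]))) WTree.none))) (.node (.node (.node (.node (.node (.node WTree.none (.word [3,4,3,2,4,3,5,3,5,3,1,5,3,2,5])) WTree.none) (.word [1,5,0,5,0,5,4,2,5,3,4,2,0,5,3,4,1,2])) (.node (.node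 WTree.none (.word [1,2,5,3,2,3,5,4,5,2,1,4,1,3,2,5])) WTree.none)) (.node (.word [3,1,2,1,5,3,4,3,0,4,2,5,0,3,1,5,4]) (.node (.node (.word [2,5,2,1,5,0,4,5,3,5,1,4,0,2,4]) (.word [2,4,1,0,2,1,0,4,2,0,5,1,0,2,5,4,0,1,2,5])) (.node WTree.none (.word [2,4,5,2,4,2,5,1,3,1,5,3,5]))))) (.node (.node (.word [5,4,2,0,5,3,1,0,4,5,0,1,3,0,1]) (.word [4,5,2,0,2,1,0,2,0,1,2,0,2,5])) (.node (.node WTree.none (.node WTree.none (.word [3,5,3,5,3,4,3,4,5,1,2,5,3,2,1,4,3]))) (.node (.node WTree.none (.word [5,2,3,1,4,1,5,1,2,4,2,4])) (.word [4,3,5,1,5,3,1,2,4,2,5,3,5,4,2,3])))))) (.node (.node (.node (.node (.node (.node (.node WTree.none (.word [3,4,1,2,4,3,1,2,4,5,2,4,1,2,3,5,1])) (.word [2,5,0,2,3,5,3,1,2,0,5,2])) (.node WTree.none (.word [2,1,4,0,3,1,3,5,0,5,0,4,2,1,5,4,5]))) (.node (.node WTree.none (.word [3,4,5,4,2,5,2,0,3,5,0,5,3,0,3])) (.node (.word [4,3,2,5,1,3,5,4,3,4,2,5,4,2,5]) (.word [3,1,4,2,1,4,5,0,2,3,1,2,3,0,2,1]))))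 (.node (.node (.node (.node WTree.none (.word [3,5,1,4,3,5,3,0,3,2,0,5,0,1,5,1,4,0,3])) (.word [3,1,5,1,4,5,3,5,4,2,1,4,5,4,3,2,4,1])) (.node WTree.none (.word [4,2,5,3,1,2,5,3,4,5,1,2,3,5]))) (.node (.node (.word [3,4,5,3,5,4,2,3,2,4,2,4,1,3,2,4]) (.word [3,1,5,1,0,5,3,5,0,5,2,1,3,5,2,5,4,0,5,0])) (.word [2,1,2,1,0,5,0,3,1,4,2,0,4])))) (.node (.node (.word [3,0,4,0,2,0,4,0,4,1,3,5,1,2,5,4,3]) (.node (.node (.word [2,3,5,2,1,5,2,3,5,3,5,4,1,5,3,1,5,2]) (.word [1,2,3,5,4,1,2,3,4,2,1,3,1,5,3])) WTree.none)) (.node (.node (.node (.node WTree.none (.word [5,4,1,4,1,2,5,1,0,4,3,5,2,1,3,5,0,4,5,2])) WTree.none) WTree.none) (.node (.node WTree.none (.word [1,5,2,5,4,5,4,5,3,1,5,4,2,5])) WTree.none)))) (.node (.node (.node (.node (.node (.node WTree.none (.word [1,5,0,2,3,5,2,5,2,1,4,2,5,2,3,4,0,4,2])) (.word [5,2,5,3,5,3,2,3,4,3,2,5])) (.node (.word [3,4,2,5,1,3,1,5,2,4,3]) (.word [5,2,0,2,5,4,5,2,0,1,5,4]))) WTree.none)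 (.node (.node (.node (.node WTree.none (.word [5,0,5,4,3,1,3,5,2,0,5,3,1,3])) (.word [2,5,1,0,2,0,2,5,4,2,5,0,5,1,2])) (.word [1,3,4,1,2,3,4,3,5,3,0,5,2,4,0,2,3,2,5])) (.node WTree.none (.node (.word [5,1,5,1,4,1,0,5,0,2,1,3,5,1,4,5]) (.word [2,5,3,2,4,3,4,2,1,2,4,1,5,2]))))) (.node (.node (.node (.node (.node WTree.none (.word [3,1,5,3,5,3,2,3,5,2,1,5,2,4,3,2])) (.word [5,1,5,3,1,3,0,5,0,5,1,3,2,4,5,1,2])) WTree.none) (.node WTree.none (.node WTree.none (.word [5,4,2,3,5,2,4,5,1,2,4,5,4])))) (.node (.node (.node WTree.none (.word [4,3,1,3,1,2,5,3,0,3,5,2,5,1,2,0,3])) (.node WTree.none (.word [5,1,5,4,5,1,5]))) WTree.none))))))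

/-- A subtree. -/
def wt80 : WTree :=
  (.node (.node (.node (.node (.node (.node WTree.none (.node (.node WTree.none (.word [4,5,2,5,4,3,2,4,5,1,2,3,5,1,3])) (.node WTree.none (.word [5,2,0,5,3,1,3,0,3,2,4,1,3,5,2,0,5,3,1,4])))) (.node (.node (.node (.word [5,3,4,3,5,4,1,4,3,5,3,2,5,3,4]) (.word [2,3,5,1,4,2,4,5,1,3,2,5,4,3,5,2,4,2])) WTree.none) WTree.none)) (.node (.node (.node (.node (.node (.word [3,5,2,3,4,3,4,0,4,1,4,0,4,5]) (.word [3,5,2,5,1,4,2,5,0,3,2,3,2,0,5,3])) WTree.none) (.node WTree.none (.word [3,2,0,5,2,4,3,4,1,2,3,4,3,0,4,2,4,0,2]))) (.node (.word [3,1,0,2,0,4,2,4,0,2,0,1,3]) (.word [5,4,1,0,5,4,0,3,2,1,5,4,0,3]))) (.node (.node WTree.none (.node WTree.none (.word [1,2,4,2,4,3,4,2,5,2,4,5]))) (.node (.node (.word [4,5,2,1,4,3,1,5,2,4,5,1,0,5,0,4,2,5,3]) (.word [5,1,2,1,0,2,0,2,5,3,1,3,4])) (.node WTree.none (.word [0,2,4,0,5,4,5,0,4,2,0])))))) (.node (.node (.node (.word [4,3,5,1,5,4,5,1,3,1,2,5,3,4,3])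 (.node (.node (.word [4,5,3,4,1,2,3,1,5,3,4,2]) (.word [5,1,0,5,4,5,0,2,1,2,5,4])) WTree.none)) (.node (.node (.node (.node WTree.none (.word [2,4,2,5,2,3,5,2,5,1,4,3,2,5])) (.word [1,5,3,4,5,2,1,4,2,4])) WTree.none) (.node (.node WTree.none (.word [5,0,4,1,4,2,3,2,5,3,5,3,0,5])) (.word [2,5,2,5,2,5,3,5,2,4,1,3,5,4,1,5])))) (.node (.node (.node (.node (.word [4,5,0,5,3,0,5,1,5,3,5,2,0,5,2,4]) (.word [1,4,5,2,1,5,3,2,5,3,1,4,5])) WTree.none) (.word [4,2,1,3,2,4,2,3,2,3])) (.node (.node (.node (.node WTree.none (.word [3,4,5,1,4,5,1,3,2,4,2,3])) WTree.none) WTree.none) (.node (.word [4,5,2,1,0,3,2,1,3,0,1,4,1,2,4]) (.node (.word [3,1,5,3,0,4,1,4,0,3,5,1,3]) (.word [5,2,5,2,4,1,5,1,2,4,2,3,5]))))))) (.node (.node (.node (.node (.node (.node (.word [4,2,5,0,5,0,4,0,5,0,5,2,4]) (.word [3,0,2,1,0,2,1,3,4,5,2,3,4,3,5,4,0,3,0])) (.node WTree.none (.word [5,2,5,3,5,1,5,4,2,3,4,3]))) (.word [3,5,3,4,3,5,2,1,2,4,1,2,4,3]))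 (.node (.node (.node (.node WTree.none (.word [5,3,5,2,3,4,3,2,5,3,5])) (.word [4,2,1,2,1,5,4,5,4,2,5,3,5,4])) (.word [2,4,1,4,3,2,0,4,3,2,3,0,1,2,3,2,0])) (.node WTree.none (.node (.word [5,1,4,3,5,1,2,5,1,5,3,4]) (.word [2,5,2,5,1,5,4,5,2,4,1,5,4,3,5]))))) (.node (.node (.node WTree.none (.word [0,3,1,3,2,4,0,2,1,0,2,1,3,5,4,5,0])) (.node (.node (.word [2,1,2,4,3,1,4,5,1,3,2,1,5,4,1,3]) (.word [1,3,2,4,3,2,4,2,5,3,2,3,5,4,1,4])) (.node WTree.none (.word [3,5,3,5,4,3,2,3,4,1,3])))) (.node (.node (.node (.word [1,3,5,3,4,3,5,3,1]) (.word [5,1,0,2,5,2,4,5,0,1,3,2,4,3,5])) (.word [4,2,3,5,4,2,4,5,1,2,4,5,1,3,2,5,2,4,2])) (.node WTree.none (.node WTree.none (.word [5,4,2,1,3,1,5,3,4,2,5,4,1,3,5,4])))))) (.node (.node (.node (.node (.node (.word [4,0,4,1,4,5,0,5,0,3,1,4,5,4,0,5]) (.word [2,5,2,4,5,4,1,5,4,3,5])) (.node WTree.none (.word [5,3,1,4,2,1,5,4,2,4,1]))) (.node (.node WTree.none (.word [5,2,3,4,2,0,2,4,2,3,0,5]))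 (.word [4,5,2,0,2,0,5,0,5,0,5,2,3,1,5,3,2,3]))) (.node (.node (.node (.node (.word [2,4,3,0,2,5,2,4,1,3,0,4,2,1,4]) (.word [3,2,1,5,3,4,5,1,2,5,4,3,4,5,2,1,4])) WTree.none) (.node WTree.none (.word [5,2,5,3,5,2,1,3,4,3,5]))) (.node (.word [1,4,3,2,1,3,5,1,4,2,4,5,2,4,1]) (.node WTree.none (.word [4,5,4,2,4,2,1,5,2,3,2,4]))))) (.node (.node (.node (.node (.word [4,3,2,0,2,1,2,3,2,5,0,5,4,0,3]) (.word [5,3,2,1,5,3,5,2,3,5,4,1])) (.node WTree.none (.word [3,5,4,5,3,2,0,4,1,4,0,1,2]))) (.node WTree.none (.node WTree.none (.word [5,2,5,3,1,3,5,4,3,2,5,4,2,3,2,4,2])))) (.node (.node (.node (.node (.word [4,3,1,3,5,3,5,3,1,5,3,2,1,5]) (.word [4,5,0,5,4,3,1,3,5,2,0,5,4])) (.word [4,1,5,1,0,4,2,1,0,4,0,3,1,3,0,1,4,5,0])) (.node WTree.none (.word [5,3,2,4,2,5,4,0,4,5,3,5,4,0,2]))) (.node (.word [5,4,2,4,1,2,5,4,2,3,1,2,3]) (.node WTree.none (.word [2,5,1,3,2,3,5,3,5,2,4,5,4,2,3,2,3])))))))) (.node (.node (.node (.node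 (.node (.node WTree.none (.word [1,5,0,3,0,2,5,2,4,5,0,3,4,2,1,4,2])) (.node (.node WTree.none (.word [5,2,0,3,5,4,2,4,5,2,3,0,5])) WTree.none)) (.node (.node (.node WTree.none (.word [5,2,0,3,1,2,1,3,0,2,5])) (.node (.word [3,5,3,4,3,5,2,5,2,1,4,5,4,3]) (.word [0,3,5,4,2,0,3,0,2,4,5,3,0]))) (.node (.node (.word [4,5,4,5,0,5,3,2,1,3,2,0,2,3,2,0]) (.word [4,5,0,5,2,1,2,3,2,4,0,3,4,1,3,0,3])) (.node (.word [5,3,5,1,2,3,2,4,2,5,3,5,4]) (.word [1,0,5,2,1,3,0,5,2,3,5,2,3,0]))))) (.node (.node (.node (.node WTree.none (.word [1,3,2,4,3,2,4,2,5,1,2,1,5,4,1,4])) WTree.none) (.node (.node WTree.none (.word [1,3,2,3,2,5,2,4,1,5])) WTree.none)) (.node (.word [2,4,3,1,5,4,3,5,2,1,3,2]) (.node (.node WTree.none (.word [1,3,4,2,3,1,0,5,3,1,4,2,5,0])) (.node WTree.none (.word [5,3,2,3,0,4,1,4,5,2,4,1,5,0,5,3,4,2])))))) (.node (.node (.node (.node (.node (.node WTree.none (.word [1,3,5,3,5,3,1])) (.word [2,3,2,5,3,4,2,3,4,1,5,2,3]))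 (.word [5,0,4,3,5,1,2,3,0,4,5,3,1,2,3,0,5,2,1,4])) (.node (.word [5,2,3,4,3,2,5,2,4,3,1,2,4,2,4]) (.node (.word [5,1,5,1,4,1,3,5,1,4,5,3,5,1,5]) (.word [5,0,5,2,0,2,1,4,2,0,5,0,3,2,0,3])))) (.node (.node (.node (.node WTree.none (.word [5,1,2,1,5,4,3,2,5,2,3,2,5,4,5,2,3,5])) WTree.none) (.word [5,0,5,0,2,4,5,0,4,3,2,3,0,3,0,3,5,0])) (.node (.node WTree.none (.word [5,1,2,5,2,5,0,2,3,5,3,2,0,5,2])) (.word [4,1,4,5,1,2,0,4,2,3,1,3,1,4,5,0,4,2,4])))) (.node (.node (.node WTree.none (.word [4,3,1,5,4,5,4,2,1,3,2,4,3,1])) WTree.none) (.node (.node (.node (.node WTree.none (.word [5,2,1,5,4])) (.word [5,1,0,2,5,2,4,5,0,1,3,5,3,4,2])) (.node WTree.none (.word [1,4,5,1,5,1,3,5,4,2,3,4,3,5,4]))) (.node WTree.none (.word [4,1,5,4,3,5,2,4,2,4,3])))))) (.node (.node (.node (.node (.node (.word [1,4,5,1,2,5,1,3,2,4,0,2,4,2,4,2,0,1,3]) (.node WTree.none (.word [5,3,5,4,3,2,3,2,4,5,3,5]))) (.node WTree.none (.word [2,5,0,2,1,3,5,3,2,0,5,2])))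 (.node (.node (.node WTree.none (.word [5,2,0,4,1,5,4,0,2,0,1,5,1,3,5])) WTree.none) (.node (.node (.word [2,1,2,1,4,1,3,2,1,4,3,5,1,4,3,5]) (.word [3,4,1,3,2,1,5,1,3,5,1,2,3,4,3])) WTree.none))) (.node (.node (.node (.node WTree.none (.word [3,4,5,3,5,4,3,2,3,5,3,2,4,2,1,5])) (.word [3,1,2,4,5,1,2,4,5,3,5,2,1,5])) WTree.none) (.node (.node WTree.none (.node (.word [2,3,5,4,2,4,5,3,0,4,1,2,4,2,3,4,0,3]) (.word [2,1,2,4,3,0,5,0,4,2,0,2,0,4,1]))) (.node (.node WTree.none (.word [3,4,5,3,5,1,4,2,5,3,1,4,5])) (.word [3,0,3,1,5,0,2,4,2,3,2,1,5,4,2,5,1,3]))))) (.node (.node (.node (.node (.node (.node WTree.none (.word [2,1,5,4,3,4,5,4,5,0,3,0,5,4,2])) (.word [1,4,1,2,4,5,4,3,2,5,3,1,2])) (.word [3,2,1,5,3,4,3,5,4,2,4,5,3,2,5])) (.node WTree.none (.word [5,1,0,2,5,4,5,0,1,2,5,3,1,3]))) (.node (.node WTree.none (.word [1,5,0,3,4,2,0,3,1,5,2,5,0,3,4,5,0,5,3])) (.node (.word [4,5,2,5,1,3,5,3,5,1,2,1,2,3]) (.node WTree.none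 (.word [0,2,4,2,4,2,3,4,2,0,1,2,0,4,3,0]))))) (.node (.node (.node WTree.none (.node (.word [2,1,4,3,2,4,1,5,4,1,5,2]) (.word [4,1,4,1,2,4,3,1,5,3,5,4,2]))) (.node (.node WTree.none (.word [2,3,4,1,3,2,5,4,2,5,3,2,1,4,3,2,1])) WTree.none)) (.node (.node (.node WTree.none (.word [1,5,1,4,3,2,5,2,4,1,2,1,3])) WTree.none) (.node WTree.none (.node WTree.none (.word [3,4,5,3,5,4,1,5,0,3,2,5,1,2,5,0,3,4])))))))))

/-- A subtree. -/
def wt81 : WTree :=
  (.node (.node (.node (.node (.node (.node (.node (.node (.node (.word [3,4,3,2,1,2,1,4,0,3,5,4,1,5,1,4,0,5,2]) (.word [0,5,3,4,1,2,0,1,4,3,2,4,2,1,2,0,2,5,4,1])) WTree.none) WTree.none) (.word [1,5,4,3,5,2,1,2,4,0,3,5,0,5,3,0,4,2])) (.node (.node (.node (.node (.word [5,3,5,4,2,4,5,3,4,3,2,5,2,4,2,3]) (.word [5,3,4,2,3,5,4,2,5,3,0,3,0,2,3,5,4])) (.word [4,5,3,5,3,5,1,2,3,0,5,0,2,4,3,5])) WTree.none) (.node (.node (.word [2,4,0,5,1,5,3,1,3,0,4,2]) (.word [2,3,5,3,4,3,2,0,3,5,2,5,2,0,3,4]))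 WTree.none))) (.node (.node (.node (.node (.node WTree.none (.word [1,4,2,4,5,4,2,3,2,3,4,5,1])) (.word [3,2,5,1,3,2,4,1,5,3,1,2,1])) WTree.none) (.node (.node (.word [2,1,2,1,0,2,5,0,2,0,5,2,0,1]) (.word [2,0,3,4,0,2,4,2,0,4,3,0,2])) WTree.none)) (.node (.node (.node WTree.none (.word [4,3,2,4,5,2,3,2,5,4,2,3])) (.node (.word [3,5,3,1,5,3,2,5,0,3,5,3,0,2,1,5,2]) (.word [3,5,4,1,5,3,1,4,5,1,3,1,3,5]))) (.node (.node WTree.none (.word [1,3,2,1,4,5,2,3,5,1,3,4])) WTree.none)))) (.node (.node (.node (.node (.node WTree.none (.word [3,4,2,3,2,4,3,0,2,1,0,4,0,3,0,1,4])) WTree.none) WTree.none) (.node (.node (.node (.node (.word [3,5,2,5,4,2,3,1,3,5,1,4,3,5,3,1,4]) (.word [4,3,2,3,2,5,2,4,5,4,1])) WTree.none) (.node WTree.none (.word [1,5,4,5,2,0,5,4,0,5,2,0,5,0,1,3,5,0]))) (.node (.node (.word [1,4,3,2,3,2,5,3,4,2,4,5]) (.word [2,4,3,5,2,4,3,2,1,5,4])) (.node WTree.none (.word [2,5,2,5,2,5,0,1,5,4,5,0,5])))))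 (.node (.node WTree.none (.word [5,3,2,5,3,5,3,4,2,4,5,4,3,1,2])) (.node (.node (.node (.word [5,3,4,3,5,4,5,1,3,4,2,1,2,5]) (.word [3,4,3,2,4,3,5,4,5,3,5,4,1,2,5])) (.word [5,3,2,1,3,0,4,2,0,4,0,3,4,5,3,0,1])) WTree.none)))) (.node (.node (.node (.node (.node (.word [5,0,4,1,5,2,0,1,0,4,1,2,5,4,0,5]) (.word [4,5,2,1,0,3,2,1,3,0,1,3,4,2,4])) (.node (.node (.word [5,1,3,2,4,5,2,3,4,2,1,4]) (.word [5,2,0,2,1,0,5,1,3,5,2,3,5,3,4,2,3,4])) (.node WTree.none (.word [3,4,2,3,2,4,0,4,3,4,0,3,5,1,2,0,2,5])))) (.node (.node (.node WTree.none (.word [5,3,2,3,5,3,5,4,3,5,3,5,1,5])) (.word [4,5,0,3,2,3,5,1,5,2,5,1,5,0,5,4])) WTree.none)) (.node (.node (.word [2,1,2,3,4,2,5,2,4,2,5,2,1,3]) (.node (.node WTree.none (.word [3,5,1,3,5,2,5,4,2,5,1,3,1])) WTree.none)) (.node (.node WTree.none (.node (.word [3,1,5,2,1,2,5,4,5,4,2,5,2,3]) (.word [5,1,2,5,4,1,5,0,2,1,2,0,5,1]))) (.node (.node WTree.none (.word [2,4,5,2,4,3,4,2,5,3,1,4,2,3,2,3]))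 (.node WTree.none (.word [1,5,1,0,3,5,0,5,3,0,1,5,1])))))) (.node (.node (.node (.node (.node WTree.none (.word [3,2,4,3,1,2,4,2,3,5,4,2,5,4,2,3,4])) WTree.none) WTree.none) (.node WTree.none (.node (.node WTree.none (.word [3,4,5,1,4,5,1,2,4,2,3])) (.node WTree.none (.word [2,4,3,1,5,3,2,4,3,2,5]))))) (.node (.node (.node WTree.none (.node (.word [3,4,5,3,2,5,4,1,2,5,1,3,4,5]) (.word [3,5,2,3,0,2,0,4,3,4,2,0,5,2,0,5,4,5,3,0,3]))) WTree.none) (.node (.word [2,1,4,5,1,0,3,0,1,5,0,5,1]) (.word [4,5,4,2,4,5,3,2,5,4,3,2,3,2,1,4,5,4,2])))))) (.node (.node (.node (.node (.node (.node (.node (.node WTree.none (.word [4,1,3,5,3,2,3,4,2,1,3,5,4])) WTree.none) WTree.none) WTree.none) (.node (.node (.node WTree.none (.word [3,5,4,1,4,5,3,2,4,2,0,5,1,3,0,3,4])) (.node WTree.none (.word [1,2,5,2,1,4,3,4,2,5,2,1]))) (.word [1,5,0,3,2,1,2,4,2,0,5,0,2,1,5,1,4,5]))) (.node (.node (.node (.node (.node WTree.none (.word [4,3,1,5,4,5,3,1,2,4,2,3,4,2,1,3,1]))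 (.word [5,3,2,1,5,3,5,3,5,4,1])) (.node WTree.none (.word [2,4,1,4,2,4,0,5,2,1,4,3,0,4,1]))) (.node WTree.none (.word [5,1,0,5,4,3,0,3,2,1,2,5,2,0,5,2]))) (.node (.node (.node WTree.none (.word [3,4,3,2,5,2,5,4,3,5,2,5])) (.node WTree.none (.word [5,3,2,1,3,2,0,4,2,3,5,2,3,2,0,1,5,4,2]))) (.node (.node WTree.none (.word [3,2,4,2,3,2,4,2,3])) (.node (.word [5,1,4,1,5,4,3,2,5,4,2,5]) (.word [3,0,3,0,2,3,2,0,2,4,5,0,2,1,2,5,2,4,2,0])))))) (.node (.node (.node (.node (.node WTree.none (.word [1,5,2,0,3,4,1,0,4,5,4,2,0,5,2,0,4,3])) (.word [2,4,0,2,0,5,3,5,0,2,0,4,2])) (.node WTree.none (.node WTree.none (.word [1,4,5,1,0,4,2,3,4,5,1,0,3,2,1,5,0,2,3,0])))) (.node (.node WTree.none (.word [0,4,3,0,2,1,0,3,2,4,2,4,0])) (.node (.node WTree.none (.word [1,3,4,0,3,4,2,0,2,3,4,1])) (.node (.word [5,3,5,3,5,0,3,0,3,5,2,0,5,1,5,0,4,0,1,4,5]) (.word [4,5,2,4,5,1,4,2,5,3,1,2,5]))))) (.node (.node (.node (.node WTree.none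 (.word [4,3,5,0,5,3,5,0,5,3,4])) WTree.none) (.node (.node (.word [1,5,4,3,5,2,1,3,2,4,2,1,3,4,2,1,3]) (.word [2,5,2,5,1,2,3,4,3,5,3,5,4,3])) WTree.none)) (.node (.node (.node (.node WTree.none (.word [4,2,1,2,1,5,4,2,3,5,3,2,4,1])) (.word [5,4,1,4,1,2,4,3,2,5,2,4,1,2,3,1])) (.node WTree.none (.word [5,4,2,3,1,4,1,2,4,2,1,5]))) (.node (.word [5,0,4,2,3,5,3,5,3,0,4,0,2,4,2,3,1]) (.node WTree.none (.word [1,4,1,3,0,3,1,5,0,3,5,2,5,3]))))))) (.node (.node (.node (.node (.node (.node (.node (.word [3,1,0,4,3,4,0,5,0,4,0,3,1,4,5,3,2,5]) (.word [2,1,4,3,2,4,1,5,3,4,5,2])) WTree.none) WTree.none) (.node (.node WTree.none (.word [0,5,0,2,3,2,0,5,0,1,5,4,5,2,4,0,5,0,4])) (.node WTree.none (.word [1,5,2,5,4,1,5,3,1,4,5,1,2,1,3,4,2])))) (.node (.node (.word [1,0,4,5,2,5,4,0,1,0,4,5,1,0,2,0,1,5,4,0]) (.word [0,4,5,1,2,5,3,2,5,1,3,0,3,5,1,2])) (.node (.node (.word [1,5,1,4,1,3,2,3,1,3,4,5,1,4,3]) (.word [2,4,0,5,1,2,4,0,5,1,3,1,3,4]))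 (.node WTree.none (.word [5,3,2,3,0,5,4,2,4,5,0,2,4,3,2,5]))))) (.node (.node WTree.none (.node (.node (.word [1,5,1,2,0,4,3,5,1,4,2,4,2,0,4,2]) (.word [2,4,3,1,4,5,4,5,1,4,2,3,4,2,4])) WTree.none)) (.node (.node (.node (.node WTree.none (.word [4,5,2,5,4,2,5,2,3,4,3,5,2])) WTree.none) WTree.none) WTree.none))) (.node (.node (.node (.node (.node (.node (.word [1,3,2,1,2,4,5,1,3,5,2,1,3,4,3]) (.word [5,1,2,5,4,3,5,1,4,1,5,1,3])) (.word [5,1,5,3,2,3,5,2,3,2,4,2,5,2])) (.node (.word [2,5,4,1,0,2,0,2,0,1,4,5,2]) (.word [4,2,4,0,3,1,2,0,4,1,2,5,3,0,1,5,3,2]))) (.node WTree.none (.node (.word [1,5,1,2,1,5,1,5,3,0,5,2,4,0,2,3,5,4]) (.word [3,1,3,5,3,1,4,0,3,5,1,3,0,2,5,2])))) (.node (.node (.node (.node WTree.none (.word [3,2,5,3,4,1,5,1,2,3,4,5,3,2,4,5])) WTree.none) WTree.none) (.word [2,5,2,5,2,3,0,5,1,0,3,2,3,0,1,5,0,3]))) (.node (.node (.node WTree.none (.node (.word [3,1,4,5,4,2,5,2,5,2,1,2,3,4,3,5,3]) (.word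 [5,2,0,4,1,4,3,1,4,5,2,5,0,5,4,2]))) (.node (.node WTree.none (.word [5,0,5,4,2,1,4,2,5,4,3,0,4,2,4])) WTree.none)) (.node (.node (.node WTree.none (.word [4,5,3,2,3,1,5,2,4,2,5,4,3,5,4,1])) WTree.none) WTree.none))))))

/-- A subtree. -/
def wt82 : WTree :=
  (.node (.node (.node (.node (.node (.node (.node (.node (.node WTree.none (.word [5,1,2,4,5,1,4,2,5,3,2,5])) (.word [4,2,3,5,4,2,3,2,1,4,5,2,1,4,3])) WTree.none) (.node (.node (.word [2,5,4,5,3,2,3,2,5,4,5,2]) (.word [3,2,5,1,3,2,4,1,5,4,3,2,1])) (.node (.word [2,4,5,2,4,3,5,2,0,4,5,4,0,4,3,0,4,5,2,4]) (.word [1,3,4,0,5,2,4,3,5,0,2,3,4,1])))) (.node (.word [5,0,4,1,3,1,5,2,5,4,1,5,3,5,0,5]) (.node WTree.none (.node WTree.none (.word [3,4,2,4,2,3,5,4,2,4,5,2]))))) (.node (.node (.node (.node (.word [2,4,3,5,2,4,3,0,2,0,5]) (.word [1,3,4,0,5,1,3,5,0,2,0,1,3,0,4])) (.word [0,2,1,4,3,5,2,0,5,3,0,5,4,0,4,5,4,2])) (.node WTree.none (.node WTree.none (.word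 [0,2,5,2,0,2,0,2,5,2,0])))) (.node (.node (.node (.node WTree.none (.word [3,4,3,2,4,2,4,2,1,5,2,3,4,1,5])) (.word [4,3,5,3,1,5,3,4,1,5,2,5,4,1])) (.node WTree.none (.word [2,4,1,3,5,1,3,5,3,4,1,2]))) (.word [4,2,0,5,1,2,0,1,2,1,5,0,2,4])))) (.node (.node (.node (.node (.node (.node WTree.none (.word [2,4,1,5,1,5,2,4,1,2,5,3,4,5,2])) WTree.none) WTree.none) (.node (.node (.word [4,0,4,0,3,2,0,1,2,3,0,4,0,4]) (.word [5,2,0,2,3,2,3,0,2,5])) WTree.none)) (.node (.node (.word [0,3,4,2,5,3,4,1,2,0,2,3,4,1,4]) (.word [5,2,5,3,1,4,5,2,5,3,4,1,3])) WTree.none)) (.node (.node (.node (.node WTree.none (.word [3,4,2,4,3,2,5,3,1,4,2,3,5,2])) WTree.none) (.word [4,5,2,0,2,5,2,5,0,2,5,1,3,0,4,3,2])) (.node (.word [3,1,4,2,4,3,1,2,4,2,1,5,3,2,1,5,3]) (.word [4,0,3,4,2,5,0,2,3,1,0,4,2,0,1,2,3,2,0]))))) (.node (.node (.node (.node (.node (.node (.node (.word [5,0,4,3,5,1,2,3,5,3,5,2,5,0,3,2,5,0,5,2]) (.word [5,0,5,2,1,4,0,2,5,4,1,4]))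 WTree.none) WTree.none) (.node (.word [1,3,2,1,2,3,2,3,2,5,3,4,3,5,4,2]) (.word [4,5,2,0,5,4,5,0,5]))) (.node (.node (.node (.word [1,5,2,0,3,5,1,5,2,3,4,0,3,4,2,0]) (.word [1,2,0,5,3,1,5,0,2,1,2,5,0,2,0,1,5,2,1,4])) WTree.none) (.node WTree.none (.word [3,1,4,5,2,5,4,3,5,4,1,3,1,5,2,3,4])))) (.node (.node (.node (.node (.word [3,1,4,3,2,3,4,5,3,5,3]) (.word [4,3,1,5,3,2,5,4,1,2,3,1])) (.node WTree.none (.word [2,5,3,1,2,3,5,2,3,4,2,4,3,5,1,5,4]))) (.node WTree.none (.node WTree.none (.word [5,1,2,5,2,5,0,2,1,2,0,5,2])))) (.node (.node (.node (.node WTree.none (.word [3,5,4,5,3,4,5,3,4,1,5,3,4,2,3,1])) WTree.none) (.word [2,3,5,3,2,4,5,3,5,1,4,5,1,3,4])) (.node WTree.none (.word [1,5,0,3,4,2,3,2,1,3,5,2,5,0,5,0]))))) (.node (.node (.node (.node (.node WTree.none (.word [5,1,2,1,2,0,2,0,2,1,5])) WTree.none) (.node WTree.none (.word [4,3,0,3,2,1,5,2,0,5,2]))) (.node (.node (.node (.node WTree.none (.word [3,5,2,1,4,1,5,3,5,1,3,5,3,2,3,1,4]))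 (.word [3,5,4,5,3,4,5,1,2,5,1,4,1,4])) WTree.none) (.node (.word [4,0,5,0,2,1,3,2,0,1,5,0,4]) (.node WTree.none (.word [1,2,3,5,4,1,2,3,4,2,3,1,4,5,3]))))) (.node (.node (.node (.node (.node WTree.none (.word [1,5,2,1,5,4,1,3,2,5,3,4,1,5,1,4])) (.word [4,5,4,2,4,3,2,1,4,1,2,5])) (.node (.word [5,3,2,3,5,0,3,0,2,4,2,0,3,0,2,3,1]) (.word [3,1,5,4,1,3,1,4,5,3,4]))) WTree.none) (.node (.word [0,5,2,4,3,5,0,2,3,5,2,1,3,4,1,5,4,2]) (.node (.node WTree.none (.word [5,3,4,2,5,3,4,2])) (.word [1,4,5,0,4,5,2,0,3,2,1,3,5,4,0,5,2,3]))))))) (.node (.node (.node (.node (.node (.node WTree.none (.node WTree.none (.word [1,5,3,2,1,3,5,3,4,0,5,4,2,4,5,0,3,1]))) (.word [5,1,0,2,5,4,5,4,1,4,0,5,2,1,2])) (.node (.node WTree.none (.word [4,3,1,3,5,0,2,1,2,0,5])) (.node (.node WTree.none (.word [1,5,4,5,2,1,4,2,5,4,5,4])) (.word [1,4,5,1,2,5,1,2,0,4,1,4,0,2,4])))) (.node (.node (.node (.node WTree.none (.word [3,1,3,5,4,3,2,3,5,4,3,2,1,3]))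 (.word [3,1,4,5,2,3,1,2,3,5,4,3,1])) (.node (.node WTree.none (.word [3,2,0,5,2,4,3,2,4,0,3,2,3,0,3,0,2])) (.node (.word [5,2,5,3,1,0,3,2,1,5,2,0,2,5,2]) (.word [3,5,3,1,5,3,0,4,1,4,0,3,4,5,4,5])))) (.node (.node (.node (.node (.word [3,1,3,1,5,4,0,5,4,1,2,1,4,5,0,2,1]) (.word [5,1,2,1,0,5,4,5,0,1,5])) (.word [5,3,2,3,1,0,5,2,4,3,0,2,5,4,1])) WTree.none) WTree.none))) (.node (.node (.node (.node (.word [3,2,4,5,1,2,5,3,1,5,0,4,2,4,5,0,5]) (.word [5,4,2,4,3,2,1,4,2,1,5])) WTree.none) (.node (.node WTree.none (.word [5,2,0,2,0,3,5,3,5,3,1,2,1,5])) (.node WTree.none (.node (.word [4,0,3,4,2,5,0,2,0,5,2,1,4,3,0,3,2,3]) (.word [4,0,4,5,2,1,5,4,0,1,5,0,2,3,1,4,2,3]))))) (.node (.node (.node (.node (.node (.word [5,0,4,2,4,5,1,3,2,0,3,4,3,5,4,5,1,4,5,0,3]) (.word [5,0,5,2,3,4,1,3,2,1,2,4,2,5,2,0,5,4,2])) (.word [1,5,4,2,1,4,1,3,1,2,4,1,5])) WTree.none) (.node (.word [2,4,0,5,4,2,1,2,0,3,2,0,2,0,1,4,3,2,0,1]) (.word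 [5,3,2,3,4,0,5,3,2,0,1,5,2,0]))) (.node (.node WTree.none (.word [3,4,2,3,2,4,5,2,3,4,2,3,2,5])) (.node (.node (.word [1,5,2,0,3,0,5,0,3,0,3,5,0,3,0,2,0,4,0]) (.word [4,2,4,0,5,1,3,0,2,0,3,4,0,2,0,3,4])) (.word [2,4,0,4,1,4,5,1,3,2,5,0,5,1,2,4,1,3,5,0])))))) (.node (.node (.node (.node (.node (.node (.node (.word [5,1,3,2,3,4,1,4,2,1,5]) (.word [3,4,3,2,4,0,3,2,1,5,0,1,2,0,5,2])) WTree.none) (.word [5,1,0,2,5,4,5,2,0,1,5,3,1,3])) WTree.none) (.node (.node (.node (.node WTree.none (.word [2,1,2,4,5,2,3,5,3,5,2,3,2,5])) WTree.none) WTree.none) (.node WTree.none (.node WTree.none (.word [5,3,5,2,1,3,1,2,5,4,2,5,4]))))) (.node (.node (.node WTree.none (.word [3,5,1,3,5,1,4,1,4,5,2,4,5,2,3])) (.node (.node WTree.none (.word [1,5,1,2,0,4,5,0,3,2,0,2,3,0,2,5,2])) (.node WTree.none (.word [1,3,5,3,4,5,3,1])))) (.node (.node (.node (.node WTree.none (.word [5,3,4,3,1,2,5,3,5,2,5])) (.word [5,2,4,3,1,2,3,2,5,4,5,3,2,5]))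 WTree.none) (.node (.word [1,4,5,2,0,4,1,3,5,3,2,1,4,0,5]) (.node WTree.none (.word [2,5,3,2,4,2,4,3,2,5,2])))))) (.node (.node (.node (.node (.node (.node (.word [4,1,5,1,0,4,0,2,4,3,2,5,4,5,0,3,2,4]) (.word [4,5,0,3,2,3,0,5,2,5,4,5,4,2,4,2,1])) (.word [4,5,4,3,0,4,0,2,3,5,4,1,3,0])) (.word [3,2,4,3,2,1,4,2,0,3,0,2,0,4,2,5,0,2])) (.node (.word [3,1,2,4,5,2,0,4,1,4,0,1,3,5,3]) (.node WTree.none (.word [2,5,2,5,4,3,5,1,5,4,2])))) (.node (.node (.word [1,4,5,2,1,5,3,4,1,5,3,5,4,3]) (.node (.word [5,4,0,2,5,2,0,5,3,5,3,4,3,2,4,5,4,5]) (.word [2,1,5,4,3,0,2,0,2,0,4,5,2]))) (.word [2,1,4,3,4,0,3,1,4,0,1,3,2,3,0,4,0]))) (.node (.node (.node (.word [5,0,3,5,3,5,4,1,4,2,3,0,5]) (.node (.word [1,5,4,1,3,5,2,3,1,0,2,4,1,3,0,3,5,2,4,3]) (.word [2,5,2,5,1,2,3,4,3,2,5,3,5,4,3]))) (.node (.node (.word [1,2,5,2,1,5,2,1,5,3,4,3,2,3,4,5,3,4]) (.word [5,4,0,2,5,2,0,2,1,0,2,1,2,0,2,3,5,2,5])) (.node WTree.none (.word [2,5,0,2,5,1,2,3,0,3,4]))))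 (.word [5,1,4,1,4,5,2,4,0,5,4,5,0,4,2]))))))

/-- Points. -/
def levY2pts0 : List ℕ := [3,4,7,9,10,12,14,21,22,24,29,32,37,38,39,40,42,43,46,47,48,49,53,55,59,63,67,69,72,73,75,77,88,93,94,95,96,101,104,107,108,116,118,119,121,125,127,134,137,139,141,142,143,145,146,149,150,154,158,163,164,166,167,173,175,179,185,186,188,190,192,195,196,197,203,205,206,210,211,213,216,222,223,225,226,227,228,230,233,235,236,237,240,246,253,255,256,258,260,261,263,267,268,271,273,274,277,278,281,284,291,297,301,303,308,311,316,318,320,324,327,332,335,339,350,353,356,363,366,369,377,381,382,383,392,397,400,405,406,409,410,411,413,414,415,418,421,422,424,425,427,428,429,430,437,438,442,450,453,454,455,462,463,465,469,472,473,483,486,487,491,493,495,496,500,502,504,505,508,511,513,516,517,519,520,521,522,527,528,537,540,541,542,543,544,546,547,548,551,555]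

/-- Points. -/
def levY2pts1 : List ℕ := [559,560,561,565,568,574,577,582,587,588,589,590,591,597,600,601,603,604,606,608,610,611,613,624,625,626,629,633,634,636,639,640,641,647,648,651,659,665,670,672,673,678,683,684,686,688,689,690,691,695,701,704,707,708,709,710,711,712,713,715,717,718,719,720,721,723,725,726,727,732,734,735,738,749,753,754,756,757,760,767,775,777,778,781,785,787,788,791,795,796,797,798,802,803,805,810,816,818,819,823,824,827,829,836,839,841,842,845,846,848,851,854,857,864,865,872,874,875,878,879,882,885,887,889,891,893,895,898,899,900,905,907,911,921,933,953,956,959,961,962,969,970,971,972,975,978,980,983,991,993,999,1000,1001,1002,1003,1006,1008,1010,1013,1016,1018,1026,1027,1038,1044,1051,1058,1059,1063,1065,1066,1087,1097,1104,1105,1107,1111,1113,1115,1118,1119,1121,1128,1129,1133,1136,1137,1139,1143,1147,1149,1150,1151,1154,1156,1161,1164,1167,1169,1171]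

/-- Points. -/
def levY2pts2 : List ℕ := [1177,1182,1183,1192,1194,1195,1197,1206,1209,1210,1211,1212,1214,1215,1221,1222,1224,1225,1228,1230,1232,1233,1238,1240,1243,1245,1248,1249,1250,1254,1255,1257,1261,1262,1263,1265,1268,1271,1274,1275,1278,1279,1281,1283,1284,1285,1286,1296,1299,1301,1302,1307,1309,1310,1311,1312,1314,1319,1320,1321,1323,1324,1325,1332,1335,1341,1342,1344,1346,1348,1359,1361,1364,1365,1367,1369,1371,1375,1379,1380,1395,1400,1403,1404,1407,1415,1417,1421,1425,1427,1428,1434,1436,1437,1440,1443,1446,1447,1448,1449,1450,1451,1452,1455,1457,1460,1461,1462,1464,1465,1466,1467,1469,1476,1477,1479,1486,1488,1490,1494,1497,1498,1502,1503,1504,1505,1514,1518,1520,1521,1524,1525,1530,1532,1534,1536,1537,1538,1540,1541,1550,1551,1552,1553,1561,1564,1568,1569,1573,1574,1576,1577,1578,1583,1586,1587,1588,1590,1592,1595,1601,1606,1613,1616,1617,1618,1622,1627,1629,1632,1640,1643,1646,1647,1649,1655,1659,1668,1669,1675,1678,1680,1682,1685,1687,1693,1695,1696,1699,1704,1706,1712,1725,1726,1728,1737,1738,1746,1752,1756]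

/-- Points. -/
def levY2pts3 : List ℕ := [1759,1761,1762,1764,1768,1782,1785,1793,1805,1806,1811,1817,1819,1820,1822,1823,1825,1826,1827,1828,1829,1832,1833,1834,1835,1837,1839,1841,1842,1843,1845,1846,1848,1850,1853,1854,1856,1857,1859,1860,1861,1867,1868,1870,1878,1879,1883,1885,1887,1892,1894,1902,1905,1906,1907,1908,1910,1912,1914,1921,1922,1923,1925,1926,1928,1933,1934,1937,1941,1943,1946,1948,1949,1950,1952,1953,1954,1955,1958,1960,1962,1964,1967,1970,1973,1979,1981,1989,1993,1995,1997,2001,2003,2004,2006,2008,2009,2011,2013,2014,2015,2019,2020,2021,2022,2031,2034,2036,2044,2045,2052,2056,2063,2064,2065,2068,2072,2081,2083,2086,2088,2091,2092,2099,2102,2105,2109,2114,2115,2116,2119,2121,2125,2128,2129,2132,2133,2134,2135,2137,2139,2142,2148,2151,2152,2155,2156,2159,2160,2162,2163,2164,2167,2168,2171,2172,2175,2177,2181,2183,2185,2186,2191,2192,2194,2195,2197,2198,2199,2200,2202,2203,2204,2206,2207,2209,2210,2213,2214,2216,2217,2218,2223,2224,2225,2228,2229,2233,2235,2237,2238,2240,2241,2242,2244,2245,2246,2248,2251,2252]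

/-- Points. -/
def levY2pts4 : List ℕ := [2253,2254,2255,2256,2257,2261,2262,2263,2265,2266,2268,2270,2271,2272,2274,2276,2281,2282,2283,2287,2288,2289,2291,2300,2307,2311,2313,2315,2316,2321,2322,2323,2324,2327,2328,2331,2332,2333,2336,2337,2338,2339,2343,2345,2346,2347,2349,2351,2353,2355,2356,2361,2363,2364,2366,2371,2376,2379,2382,2384,2385,2390,2402,2403,2404,2408,2413,2415,2416,2419,2425,2426,2428,2429,2430,2434,2438,2439,2445,2446,2447,2448,2450,2451,2454,2455,2457,2458,2461,2463,2467,2472,2475,2476,2481,2482,2489,2493,2495,2497,2498,2499,2500,2503,2506,2514,2517,2519,2520,2521,2523,2526,2531,2532,2533,2534,2536,2538,2539,2540,2546,2547,2549,2551,2552,2553,2555,2556,2558,2563,2568,2569,2571,2573,2574,2575,2576,2577,2578,2579,2584,2585,2587,2588,2590,2594,2595,2599,2600,2605,2606,2610,2611,2612,2614,2615,2616,2617,2625,2627,2628,2630,2632,2634,2635,2636,2637,2638,2639,2641,2643,2645,2648,2652,2657,2658,2659,2665,2667,2668,2672,2673,2676,2680,2689,2690,2694,2695,2698,2705,2706,2708,2710,2712,2713,2714,2715,2716,2717,2718]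

/-- Points. -/
def levY2pts5 : List ℕ := [2719,2720,2723,2724,2727,2728,2729,2730,2731,2732,2736,2737,2739,2743,2746,2748,2749,2751,2755,2757,2758,2760,2772,2774,2775,2777,2778,2784,2792,2794,2798,2801,2805,2806,2807,2809,2811,2815,2818,2819,2821,2823,2825,2828,2830,2832,2834,2835,2843,2844,2847,2852,2853,2854,2865,2867,2870,2871,2874,2875,2876,2884,2885,2887,2888,2889,2891,2892,2894,2898,2899,2903,2906,2907,2912,2918,2919,2925,2928,2929,2933,2942,2944,2946,2947,2949,2950,2951,2952,2953,2954,2955,2957,2967,2968,2969,2971,2976,2979,2983,2984,2985,2995,2996,2997,3000,3003,3009,3010,3011,3012,3013,3017,3026,3027,3028,3029,3032,3034,3039,3042,3055,3057,3064,3065,3069,3072,3073,3074,3075,3078,3080,3082,3085,3092,3096,3103,3106,3107,3112,3113,3114,3115,3117,3118,3123,3128,3130,3131,3134,3137,3140,3141,3149,3150,3153,3160,3162,3164,3169,3172,3178,3179,3180,3181,3185,3187,3188,3190,3191,3193,3196,3197,3198,3206,3211,3213,3216,3217,3223,3226,3229,3230,3233,3238,3242,3244,3246,3247,3252,3253,3262,3264,3270,3277,3290,3292,3302,3303,3307]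

/-- Points. -/
def levY2pts6 : List ℕ := [3311,3312,3314,3318,3319,3323,3324,3326,3327,3328,3329,3330,3333,3338,3341,3342,3346,3349,3350,3351,3355,3366,3369,3379,3386,3393,3399,3401,3402,3404,3405,3413,3414,3417,3420,3421,3422,3426,3430,3433,3435,3436,3437,3438,3440,3441,3454,3455,3460,3463,3464,3466,3467,3469,3471,3472,3475,3478,3479,3490,3493,3495,3496,3502,3508,3510,3515,3520,3526,3533,3534,3539,3540,3543,3545,3546,3547,3550,3552,3554,3556,3557,3560,3561,3562,3563,3564,3569,3570,3571,3572,3576,3577,3582,3588,3589,3592,3595,3596,3597,3598,3599,3608,3609,3613,3614,3623,3629,3633,3635,3636,3637,3639,3640,3642,3645,3650,3657,3658,3662,3664,3669,3670,3671,3672,3675,3682,3684,3686,3690,3693,3694,3696,3698,3700,3701,3702,3703,3705,3708,3709,3710,3711,3715,3718,3722,3725,3726,3727,3728,3729,3731,3734,3743,3745,3746,3748,3749,3753,3754,3755,3756,3757,3758,3759,3761,3765,3768,3769,3772,3775,3776,3779,3782,3790,3796,3805,3811,3814,3817,3819,3821,3825,3826,3827,3837,3838,3839,3840,3842,3845,3846,3850,3853,3855,3856,3857,3864,3867,3872]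

/-- Points. -/
def levY2pts7 : List ℕ := [3881,3883,3893,3894,3895,3896,3897,3900,3902,3903,3907,3910,3911,3913,3916,3921,3923,3926,3927,3929,3932,3933,3935,3941,3942,3943,3945,3947,3949,3951,3952,3954,3955,3956,3961,3962,3963,3973,3974,3977,3979,3980,3981,3982,3986,3989,3990,3991,3992,3995,3997,4000,4001,4002,4003,4005,4007,4008,4009,4011,4017,4020,4024,4025,4026,4028,4031,4034,4041,4042,4043,4052,4053,4055,4061,4068,4069,4072,4073,4074,4075,4076,4077,4078,4081,4084,4085,4088,4090,4091,4092,4093,4094,4096,4103,4108,4111,4112,4116,4117,4118,4119,4128,4129,4134,4138,4140,4141,4142,4143,4144,4146,4147,4149,4151,4159,4160,4164,4168,4169,4173,4175,4177,4178,4179,4180,4181,4186,4187,4190,4192,4193,4195,4196,4198,4200,4201,4205,4206,4209,4211,4212,4215,4217,4218,4219,4222,4223,4225,4227,4228,4230,4231,4235,4236,4237,4246,4247,4252,4253,4254,4261,4269,4272,4273,4277,4281,4286,4288,4289,4290,4292,4301,4302,4310,4313,4316,4317,4319,4320,4321,4328,4333,4335,4339,4341,4345,4350,4352,4355,4359,4364,4369,4373,4376,4377,4378,4386,4388,4390]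

/-- Points. -/
def levY2pts8 : List ℕ := [4392,4393,4394,4395,4398,4403,4415,4417,4421,4423,4427,4432,4433,4442,4443,4444,4449,4450,4453,4454,4456,4458,4459,4460,4462,4463,4464,4465,4466,4467,4468,4470,4471,4478,4481,4486,4489,4495,4496,4499,4501,4508,4510,4511,4513,4514,4516,4517,4522,4526,4527,4529,4530,4531,4533,4535,4541,4542,4543,4544,4548,4550,4554,4555,4560,4562,4566,4567,4570,4571,4577,4580,4581,4585,4587,4588,4592,4594,4596,4598]

/-- A level. -/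
def levY2 : Level :=
  ⟨1828, (.node (.node (.node (.node wt67 wt68) (.node wt69 wt70)) (.node (.node wt71 wt72) (.node wt73 wt74))) (.node (.node (.node wt75 wt76) (.node wt77 wt78)) (.node (.node wt79 wt80) (.node wt81 wt82)))), levY2pts0 ++ levY2pts1 ++ levY2pts2 ++ levY2pts3 ++ levY2pts4 ++ levY2pts5 ++ levY2pts6 ++ levY2pts7 ++ levY2pts8⟩

/-- A subtree. -/
def wt83 : WTree :=
  (.node (.node (.node (.node (.node (.node (.node (.node (.node WTree.none (.word [5,1,5,4,5,1,4,2,4,2,3,4,5,1,4,1,2])) WTree.none) (.node WTree.none (.word [5,2,1,0,2,1,0,2,5,2,4,0,4,1,4,2,5,1,0,4,0,2,0,4,5,4,3,2,0,1]))) (.node WTree.none (.word [1,2,4,5,0,2,3,4,2,4,2,5,4,0,4,2,4,3,5,4,5,0,3]))) (.node (.node (.node (.node (.word [2,4,1,5,0,4,1,4,0,1,2,4,2,3,2,0,2,5,3,1,3,2,4,5,0,3,5,1,4,2]) (.word [3,1,5,3,4,5,1,2,4,1,5,2,5,3,5,0,4,1,4,1,2,4,0,3,1,3,1,4,0,2])) WTree.none) WTree.none) (.node WTree.none (.node WTree.none (.word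 [3,2,1,4,1,5,3,4,1,2,4,1,2,5,3,0,4,3,5,3,0,5,4,0,3,4,5,4,0]))))) (.node (.node WTree.none (.word [2,5,4,1,0,2,0,2,0,1,4,5,2,5,1,4,2,3,5,4,5,3,2,4,1,5])) WTree.none)) (.node (.node (.node (.node (.node (.node WTree.none (.word [4,3,5,4,5,3,4,5,1,2,1,0,2,5,3,0,3,5,3,0,2,0,4,2,4,0])) WTree.none) WTree.none) WTree.none) (.node (.node WTree.none (.word [5,3,5,0,2,0,2,0,5,3,5,0,4,2,0,3,0,3,0,2,4,0])) WTree.none)) (.node (.node WTree.none (.node (.word [0,5,2,5,0,5,2,5,0,2,4,3,1,5,0,3,2,3,4,2,3,1,0,3,4,2,0,1,3,4,3]) (.node (.word [0,5,2,0,2,3,2,0,2,5,0,2,4,0,2,1,2,1,5,0,3,1,0,3,0,5,0,2,4,2]) (.word [0,2,0,2,4,0,2,0,3,5,3,4,2,3,2,3,5,2,4,3,5,2,4,3,2,5])))) (.node (.node (.node (.node WTree.none (.word [5,0,3,2,4,2,0,2,4,3,2,5,0,5,3,5,1,5,3,0,3,2,0,4,0,5,0,1,4,0,2,3])) WTree.none) (.node WTree.none (.word [2,4,5,2,3,1,5,4,2,4,2,4,3,4,2,1,2,5,1,0,4,1,4,2,0,2,1,5]))) WTree.none)))) (.node (.node (.node (.node (.node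 (.node (.node (.word [4,0,5,1,0,2,1,2,0,5,3,4,2,5,0,4,2,4,2,3,2,1,4,2]) (.word [1,3,5,4,3,5,3,1,3,4,3,2,4,3,1,2,5,0,2,0,1,5,1,2,1])) WTree.none) WTree.none) WTree.none) (.node (.node (.node WTree.none (.word [1,2,3,0,2,5,3,0,3,5,2,0,4,3,4,3,1,5,3,5,3,0,5,0,2,5,4,2,5,1])) (.word [3,1,4,2,4,1,5,3,5,3,4,0,5,0,2,1,5,4,5,2,4,5,3,5,3,0,1,5,1])) (.node WTree.none (.node WTree.none (.word [2,5,4,5,1,2,3,4,3,5,1,3,4,5,2,4,5,0,5,4,0,2,4,1,2,5,4,0,3,5,4,0]))))) (.node (.node WTree.none (.node WTree.none (.word [3,1,0,5,3,0,2,0,3,5,0,5,1,5,1,2,1,5,3,4,5,3,5,2,5,1,3,2,4,2]))) (.node (.node WTree.none (.word [4,5,1,2,0,2,0,5,1,5,4,5,3,4,3,0,5,3,2,3,4,5,2,4,1,5,0])) (.node WTree.none (.node WTree.none (.word [2,4,1,4,2,5,2,0,3,2,3,5,2,5,2,5,2,3,0,5,1,5,3,1,2,3,0,3])))))) (.node (.node (.node (.node (.node (.node (.word [0,3,5,3,5,3,0,3,4,1,2,3,0,3,4,1,2,0,2,0,2,1,0,2,3,2,4,0,3,5,0]) (.word [5,2,4,5,3,5,4,2,3,2,5,3,1,5,3,5,2,3,2,0,4,1,4,3,0,2,1,3,2]))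 WTree.none) WTree.none) (.node WTree.none (.word [4,5,0,2,0,5,4,1,5,1,0,3,0,5,1,2,0,4,3,1,3,0,4,5]))) (.node WTree.none (.word [2,1,4,3,2,4,1,5,4,5,2,3,2,5,1,3,4,5,0,3,4,0,5,0,4,3,2,0,5,3,0]))) (.node (.node (.node WTree.none (.word [3,1,5,1,4,1,5,3,4,5,2,1,2,0,5,4,3,5,0,2,1,0,4,5,0,5,3,4,0,1])) WTree.none) (.node (.node WTree.none (.node (.word [5,2,1,0,2,0,5,4,1,4,5,0,5,1,5,4,2,3,0,2,3,2,1,0,2,4,2,0,4,0,2]) (.word [5,3,2,3,0,3,2,3,0,3,2,3,0,3,1,3,5,0,2,0,3,5,3,5,3,0,2,5,0]))) WTree.none))))) (.node (.node (.node (.node (.node WTree.none (.node (.node WTree.none (.word [5,0,3,2,4,2,0,2,4,3,2,5,2,5,2,5,2,0,3,1,4,5,3,0,4,0,3,4,5])) (.word [5,2,5,4,5,2,3,0,5,2,4,0,3,5,0,2,3,4,0,5,0,2,0,4,2,0,3,5]))) (.node (.node WTree.none (.word [3,5,1,3,4,5,3,2,4,3,0,2,1,2,5,1,5,3,5,2,3,0,5,0,1,4,1])) (.node (.node WTree.none (.word [5,2,5,4,3,5,3,2,3,4,3,2,5,2,4,1,4,0,3,5,0,4,0,5,4,5,3,0,4,5])) WTree.none))) (.node (.node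 (.node (.node WTree.none (.word [3,1,5,4,1,3,1,5,3,2,4,1,3,0,5,2,4,2,0,4,5,4,0,5,1,2])) WTree.none) (.node WTree.none (.word [2,5,2,0,2,0,2,0,5,4,0,2,1,5,1,4,5,3,4,2,5,4,5,3,2,3,5,1,2,4]))) (.node (.node (.node (.node (.word [5,3,2,5,2,1,2,1,3,5,2,3,0,4,5,2,0,1,5,0,1,3,0,4,3,1,3,0,4,1,5,0,1]) (.word [2,4,3,1,3,1,4,2,5,3,4,0,2,0,4,3,5])) (.word [5,2,1,0,5,3,1,3,4,5,0,5,2,4,5,3,5,0,5,1,0,3,4,2,0,1,5,0,2,3])) (.node WTree.none (.word [2,0,4,3,2,5,3,5,2,3,4,0,4,5,2,4,2,3,2,3,4,2,5,4,2]))) WTree.none))) (.node (.node (.node (.node WTree.none (.word [5,2,0,3,1,2,1,3,2,0,5,4,5,3,5,2,4,3,5,4,5,1])) (.node WTree.none (.node (.word [4,5,1,2,3,4,2,5,3,4,2,0,2,4,3,1,0,2,3,1,2,5,0,4,0,3,0,4,0,1,5,2]) (.word [2,5,3,2,4,5,2,5,3,1,2,5,4,0,5,4,1,0,3,4,1,0,4,5,4,2,0,3,0,1])))) (.node (.node (.node (.node WTree.none (.word [5,2,3,4,2,0,2,4,2,3,0,5,2,1,3,0,3,2,3,0,3,0,2,3,1,4,5,2,0,3,4])) (.word [1,3,1,5,2,4,5,2,5,3,1,2,3,0,2,0,4,3,5,3,2,1,4,2,0,1,4,0,3,5,2]))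 WTree.none) (.word [2,3,2,5,1,4,1,5,2,3,2,5,1,3,0,5,2,4,0,4,5,3,1,4,1,2,3]))) (.node (.node (.node (.node WTree.none (.word [0,4,1,0,2,0,3,0,2,4,5,0,3,0,3,0,4,0,2,5,0,4,5,2,5,2,3,0,3,2,0])) WTree.none) (.word [4,5,1,2,0,2,0,4,1,2,3,5,1,3,2,5,3,1,2,4,1,5,2,4,2])) (.node (.node WTree.none (.word [4,0,3,1,3,0,4,0,4,5,0,4,3,4,1,5,2,5,1,4,0,3,0,3,4,2,1,4,0,5,0,2])) WTree.none)))) (.node (.node (.node (.node (.node (.node (.node (.word [4,5,1,0,3,1,2,1,3,0,2,1,3,5,2,5,4,5,2,5,3,5,4]) (.word [5,3,4,1,3,2,5,3,5,0,2,4,1,3,1,5,2,0,5,2,0,4,1,5,4,1,2,0,2,1])) WTree.none) WTree.none) WTree.none) (.node WTree.none (.word [1,3,5,2,4,2,1,2,5,2,3,2,1,2,3,5,1,3,1,5,0,5,1,3,4,2,0,1,2,4,0,3]))) (.node (.node WTree.none (.node (.node (.word [4,0,5,1,0,2,1,2,0,5,0,4,1,5,2,1,2,0,4,1,2,1,5,0,4,2]) (.word [5,2,1,0,2,0,5,0,5,0,4,2,1,5,0,5,4,2,0,4,3,5,0,3,5,2])) WTree.none)) WTree.none)) (.node (.node (.node (.node (.node WTree.none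 (.word [1,3,2,3,2,5,2,4,1,5,4,3,5,3,4,1,5,0,2,1,0,2,1,3,4,0,2,0])) (.word [5,2,0,3,2,3,2,0,2,0,5,2,4,0,5,1,3,0,5,1,2,5,0,4,5,4,0,3])) (.word [5,4,1,2,4,2,1,2,3,2,4,5,3,0,3,0,2,3,2,0,3,5,2,4,1,5,4,0,1,4])) (.node (.node (.node (.node WTree.none (.word [1,3,5,3,4,3,5,3,1,4,2,4,3,0,2,5,1,2,5,3,0,2,4,0,2,1,3,2,0])) WTree.none) WTree.none) (.node WTree.none (.node WTree.none (.word [5,0,5,3,1,3,5,0,2,1,5,1,5,4,3,5,2,3,0,5,1,0,2,3,5,4,5]))))) (.node WTree.none (.node (.node WTree.none (.word [4,0,3,4,5,1,5,2,0,5,1,2,1,5,3,5,0,3,0,2,0,2,3,2,0,5,1,3])) (.word [3,2,5,4,2,1,3,2,1,4,5,2,3,4,5,4,1,4,5,2,0,3,5,3,5,0,5,4,2,5])))))))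

/-- A subtree. -/
def wt84 : WTree :=
  (.node (.node (.node (.node (.node (.node (.node (.node WTree.none (.word [5,3,5,2,3,1,2,5,1,4,2,5,4,1,4,1,0,2,4,1,3,0,5,0,4,1,4])) WTree.none) (.word [4,0,5,3,5,3,5,3,5,0,4,2,1,5,2,5,4,0,5,1,2,0,3,5,0,2,0,3,5,0,4])) WTree.none) (.node WTree.none (.node (.node WTree.none (.node WTree.none (.word []))) (.node WTree.none (.word [3,2,3,4,1,2,4,3,2,5,4,5,1,3,4,0,5,0,3,2,5,3,4,0,4,5,3,5,0,2,1]))))) (.node (.node (.node (.node (.node (.node (.word [1,3,5,3,4,3,5,3,1,5,4,5,0,4,2,0,3,0,1,3,1,3,4,0,2,4,0]) (.word [0,3,5,3,5,3,2,5,3,4,1,2,1,4,3,5,2,0])) WTree.none) WTree.none) (.node (.node WTree.none (.word [0,2,1,2,0,5,3,4,5,2,1,2,5,2,4,1,4,5,0,3,2,5,4,2,1,3,0,2,1])) WTree.none)) (.node WTree.none (.node (.node WTree.none (.word [0,4,3,2,0,3,0,3,0,2,3,0,3,0,4,3,4,0,3,0,4,0,4])) WTree.none))) WTree.none)) (.node (.node (.node (.node (.node (.node (.word [2,5,0,2,1,3,5,3,2,0,5,2,3,2,0,5,3,4,3,0,2,3,4,5,0,1,3])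 (.word [5,4,5,2,4,2,5,4,5,4,0,5,0,2,4,1,4,2,0,5,0,4])) WTree.none) (.node WTree.none (.word [5,3,2,4,0,2,1,0,4,3,5,1,4,1,4,5,4,2,5,4,2,3,2,1,2,3,5,4,3,5,3,1,2]))) WTree.none) (.node (.node (.node (.node WTree.none (.word [5,0,2,0,2,1,5,3,2,5,0,5,4,0,4,0,5,0,5,4,3])) WTree.none) (.node (.node WTree.none (.word [3,4,5,3,2,4,2,1,3,4,5,1,5,4,5,2,4,0,5,0,1,5,1,2,0,3,0,2,5,1])) WTree.none)) (.node (.node (.node (.word [2,4,3,2,5,4,3,5,4,1,4,2,4,5,2,4,0,3,0,4,2,5,4,2]) (.word [4,2,1,2,5,0,2,5,1,5,0,3,5,2,3,2,5,3,2,3,0,4,3,2,3,4,2,3,4,0,3])) (.node (.word [5,3,5,3,5,3,0,2,0,4,1,2,4,5,3,1,3,5,1,3,2,3,5,2,3,4]) (.word [4,3,2,4,5,2,1,3,5,4,2,4,1,4,2,4,0,2,3,5,2,4,1,5,4,0,4,1]))) (.node WTree.none (.node (.word [2,3,1,2,5,3,4,5,1,3,4,1,4,1,3,0,5,1,2,4,2,4,0,5,3,5,1,3,0,2]) (.word [3,2,1,4,5,2,5,3,4,5,1,2,0,5,0,3,0,5,4,2,5,3,5,2,0,1,5,2,3,0,3,4])))))) (.node (.node (.node (.node (.node (.node WTree.none (.word [3,5,1,3,4,5,3,2,4,3,4,2,5,1,2,5,0,5,1,0,3,1,4,5,1,4,5]))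 (.word [2,3,4,0,5,2,4,3,0,2,3,4,5,2,5,2,1,0,5,0,1,4,2,1,2,5,2,5,3,4])) (.word [5,3,5,1,4,2,4,5,3,5,1,4,1,5,2,0,5,4,2,4,5,3,0,5,1,4,1,2])) (.node WTree.none (.word [3,0,2,1,2,0,4,3,2,5,0,3,0,3,0,3,5,1,0,2,4,2,0,3,1,4,5,4,0,3]))) WTree.none) (.node (.node (.node (.node (.node WTree.none (.word [5,1,4,1,5,3,5,3,1,5,2,3,4,5,3,4,2,0,5,0,5,2,3,4,5,1,5,4,3,2])) WTree.none) WTree.none) (.node WTree.none (.word [4,5,2,3,2,3,4,1,4,5,4,5,4,0,5,1,5,4,0,3,5,0,3,5,1,5,0,3,5]))) (.node (.node WTree.none (.node WTree.none (.word [2,5,4,5,4,2,4,2,1,2,5,2,5,4,1,5,1,0,5,4,2,0,2,3,0,5,0,5,2,5,4,0,2]))) (.node (.word [4,5,0,2,1,0,2,5,3,2,4,5,2,4,5,2,4,0,3,4,2,1,3,0,3,4]) (.node WTree.none (.word [2,4,0,2,3,2,1,3,5,0,4,5,4,5,1,4,2,3,5,3,0,1])))))))) (.node (.node (.node (.node (.node (.node (.node (.word [5,2,1,0,5,3,1,3,4,5,0,5,2,3,5,3,2,0,2,4,5,1,5,1,4,2,0,2]) (.word [5,4,2,1,0,3,0,1,3,2,4,2,5,3,2,3,5,2,4,3,2,4,5,2])) WTree.none)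 (.node (.node WTree.none (.word [4,2,1,3,2,4,2,3,2,3,4,5,0,3,2,3,0,5,3,1,5,4,5,1,3,4])) (.node WTree.none (.word [4,3,5,0,5,3,5,0,5,3,4,2,1,4,2,1,3,4,2,5,0,3,1,2,0,1,5,4,0,2,3,2])))) (.node (.node (.node WTree.none (.word [5,4,5,1,3,1,5,4,5,2,4,0,2,0,5,1,5,4,2,3,4,5,1,0,2,1,2,0,5,0,1,5,0])) WTree.none) (.node WTree.none (.node WTree.none (.word [5,2,1,0,2,0,5,4,1,4,3,5,3,1,5,3,1,0,4,2,3,5,1,3,1,2,4,5,0,4]))))) (.node (.node (.node (.node WTree.none (.word [1,2,5,2,4,3,4,1,2,5,2,1,3,1,3,1,5,0,4,2,1,3,0,3,2,1,4,3,0,3,4,1])) WTree.none) (.node (.node WTree.none (.word [4,1,2,5,1,2,5,2,1,3,5,1,4,5,3,4,5,2,0,3,2,3,5,1,0,5,4,3,1,5,2,0,3])) WTree.none)) (.node WTree.none (.node (.node WTree.none (.word [4,5,1,4,5,0,3,0,5,4,2,5,2,4,5,0,2,4,3,4,2,1,5,1,5,2,4,0,5])) (.node WTree.none (.word [4,5,4,2,1,5,4,2,5,3,2,4,5,4,3,1,5,3,5,3,0,5,0,2,5,4,2,5,1])))))) (.node (.node (.node WTree.none (.node (.word [4,2,3,4,1,5,3,5,4,1,2,3,2,1,4,3,2,1,2,3,5,0,3,2,3,0,5])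 (.node WTree.none (.word [5,1,0,2,0,5,3,1,3,1,5,1,0,3,4,2,0,4,0,5,1,2,0,5,0,1,5,3,0])))) WTree.none) (.node (.node (.node WTree.none (.word [1,3,5,3,5,3,1,0,5,2,4,3,5,0,5,4,1,4,1,5,2,1,2])) (.node WTree.none (.word [5,1,3,4,2,3,2,4,3,2,4,2,3,5,3,1,2,0,2,5,1,3,1,5,3,5,4,3,0]))) (.node WTree.none (.node (.node WTree.none (.word [1,5,4,3,2,3,2,4,5,4,2,4,1,3,1,3,2,4,3,0,2,0,1,3,4,1,2])) WTree.none))))) (.node (.node (.node (.node (.node WTree.none (.node WTree.none (.word [4,5,0,2,0,2,0,5,4,5,0,5,3,4,3,2,4,0,4,0,3,4,5,1,4,5,2,5,0]))) (.node (.node (.word [4,0,5,1,0,2,1,2,0,5,0,4,3,4,1,3,1,2,4,5,2,5,3,1,2,4,2]) (.word [0,3,5,4,2,0,3,0,2,4,5,3,0,5,3,1,2,1,3,5,2,5,3,2,1,3,5,1,2])) (.word [5,0,3,4,2,3,2,4,3,0,3,4,2,1,0,3,0,1,2,4,3,5]))) WTree.none) (.node WTree.none (.node WTree.none (.node (.node WTree.none (.word [3,2,4,2,1,5,4,1,5,4,3,2,4,1,0,5,4,1,0,4,2,4,5,0,4,3,2,1])) WTree.none)))) (.node (.node WTree.none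 (.node WTree.none (.node WTree.none (.word [3,1,4,3,5,4,2,5,2,0,3,2,3,0,3,2,0,2,5,1,3,4,2,3,5,4,3,0])))) (.node WTree.none (.node (.node (.node WTree.none (.word [5,3,2,4,2,0,2,4,0,3,0,3,0,5,2,1,2,3,4,2,0,4,5,3,0,4,0,4,3,5])) (.node WTree.none (.word [1,2,4,2,1,5,4,2,4,2,5,4,2,4,5,2,0,2,1,0,5,3,4,5,2,1,5,1,4,1,3]))) (.node (.node (.word [5,1,4,1,5,3,5,3,1,5,2,3,4,2,4,0,5,1,4,0,5,3,2,1,3,1,5,3,2,0]) (.word [5,2,1,0,2,0,5,4,3,5,1,3,5,2,3,2,5,4,5,3,2,1])) (.node WTree.none (.word [3,4,2,5,1,3,1,5,2,4,3,2,1,0,2,5,2,1,0,4,5,0,4,3,2,3,1,5,0,5,1,3,2])))))))))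

/-- A subtree. -/
def wt85 : WTree :=
  (.node (.node (.node (.node (.node (.node WTree.none (.word [5,3,1,5,3,4,3,5,3,5,1,2,5,4,3,1,5,2,3,5,3,0,4,3,0,5,4,5,4,0,4,3])) (.word [4,2,3,2,0,3,0,2,3,2,4,2,5,3,5,4,2,4,3,2,1,4,2,4])) (.node WTree.none (.node WTree.none (.word [3,2,4,2,3,2,4,2,3,4,2,4,0,5,1,4,2,0,4,3,5,1,0,4,5,1,2,0,2,0])))) (.node (.node (.node (.node (.node (.node WTree.none (.word [1,0,4,5,0,5,4,3,2,0,1,2,0,5,0,3,4,2,0,2,0,5,4,3,4,5,2,0,3,0,3])) (.word [4,5,4,1,2,3,4,2,4,5,1,4,5,1,2,0,4,3,2,5,3,4,0,5,4,2])) (.node WTree.none (.word [0,2,1,2,5,0,3,0,5,2,1,2,0,1,5,2,5,4,1,2,5,4,5,2,4,2,3,4,2,1]))) (.node (.node WTree.none (.word [2,0,2,1,5,2,4,0,2,5,4,2,1,2,4,2,0,4,2])) WTree.none)) (.node (.word [0,2,5,2,0,2,0,2,5,2,0,4,1,4,1,0,2,5,1,3,4,2,3,1,5,2,0]) (.node WTree.none (.word [3,4,2,1,4,2,1,2,5,3,4,1,5,0,3,2,1,5,2,0,5,2,4])))) (.node (.node (.node (.node (.node WTree.none (.word [1,3,1,4,5,2,1,2,4,2,3,4,2,0,4,2,5,3,5,1,3,5,3,0,1,5]))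 (.word [3,5,3,2,5,3,5,4,1,3,5,4,2,1,2,5,3,4,3,2,1,5,4,1,0,5,0,1,2,1,3])) WTree.none) WTree.none) (.node (.node (.node WTree.none (.word [2,1,4,1,2,5,1,4,3,5,4,1,2,4,5,0,5,4,1,2,0,2,4,5,3,5,3,0,2,1,3])) WTree.none) (.node (.node WTree.none (.word [2,3,4,5,1,3,4,5,3,2,1,3,5,3,4,1,5,2,0,4,0,4,5,0,4,0,3])) WTree.none))))) (.node (.node (.node (.node WTree.none (.word [5,1,2,3,5,3,5,3,2,1,3,4,2,3,0,5,0,5,4,1,0,2,4,3,0,2,3,5,1,5])) (.node (.node (.node (.node WTree.none (.word [3,2,1,2,1,5,3,5,3,1,5,2,5,4,5,1,0,5,2,1,2,4,1,2,4,0,4,2,1,4])) WTree.none) WTree.none) (.node (.node WTree.none (.word [4,5,2,1,2,0,5,4,5,0,1,2,0,2,5,1,0,3,1,2,4,5,2,4,2,4,0])) WTree.none))) (.node (.node (.word [4,5,1,2,5,4,2,4,3,5,0,3,5,4,2,0,2,1,0,4,0,3,0,4,1,4]) (.node (.node WTree.none (.word [4,2,4,1,2,5,4,3,5,1,4,5,0,5,2,1,3,5,2,3,4,0,5,3,4,2])) WTree.none)) (.node (.node (.node (.node WTree.none (.word [0,4,5,4,5,3,5,3,0,1,3,2,0,2,4,2,3,4,2,4,5,2,3,5,1,4,3,1]))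 WTree.none) WTree.none) WTree.none))) (.node (.node (.node (.node (.node (.node WTree.none (.word [3,2,3,2,4,2,3,1,4,0,5,1,3,2,4,0,5,2,3,5,2,3,0,4,5])) (.word [4,2,1,3,2,4,2,3,2,5,1,5,3,0,2,0,3,0,2,0,1,4,1])) WTree.none) (.node WTree.none (.node WTree.none (.word [4,5,4,2,4,3,2,1,4,0,3,2,3,0,5,0,3,5,0,2,5,0,5,0,4,5,0,2,1])))) (.node (.word [4,2,4,3,4,1,2,4,2,4,3,1,3,1,4,2,0,2,3,1,0,3,2,5,3,1,5,0,4,0]) (.node WTree.none (.word [5,4,2,1,0,3,0,1,3,2,4,3,4,1,5,2,4,2,1,5,4,2,1,2,4,2,5,1,4])))) (.node (.node (.node (.node (.word [4,0,5,0,2,1,3,1,2,0,5,0,4,2,4,3,1,4,2,5,3,4,0,3,4,2,5,0,5,3,4]) (.word [5,2,1,0,2,1,0,3,5,0,3,1,3,2,0,4,3,0,1,4,2,0,1,3,5,0,4,0])) WTree.none) (.node WTree.none (.word [4,1,3,2,3,5,2,5,2,5,4,1,2,0,5,3,0,2,4,3,5,3,5,2,0,3,5,2,0,2,4,1,2]))) (.node (.node (.node (.node WTree.none (.word [5,1,0,3,2,3,0,1,5,4,2,4,3,0,5,1,3,2,4,2,4,5,2,3,4,0,5])) (.word [4,5,2,0,5,3,5,3,5,3,2,4,5,3,0,5,3,1,3,0,3,2,1,3,5]))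 WTree.none) (.node WTree.none (.word [1,3,2,4,3,5,4,3,0,5,0,4,2,5,4,1,5,3,2,5,0,4,1]))))))) (.node (.node (.node (.node (.node (.node WTree.none (.node (.word [4,2,5,2,4,3,4,5,2,5,2,4,1,4,0,5,2,3,5,4,2,4,0,1,5]) (.word [4,3,5,0,5,3,5,0,5,3,4,2,1,2,4,3,4,5,1,4,3,5,4,3,2,3]))) WTree.none) (.node (.node (.node WTree.none (.word [5,3,4,2,5,3,5,1,2,0,2,0,4,0,5,1,0,4,5,4,0,5,3,0])) WTree.none) (.word [5,2,1,5,2,3,5,2,5,2,5,4,2,4,5]))) (.node (.node WTree.none (.node (.node WTree.none (.word [5,0,5,4,5,0,2,5,4,0,3,4,1,5,0,5,1,5,3,0,3,0,5,1,4,3,0])) WTree.none)) WTree.none)) (.node (.node (.node (.node (.node WTree.none (.word [4,3,5,4,5,3,4,5,1,0,2,5,2,1,2,3,0,4,2,0,3,2,0,5,4,3,1])) WTree.none) WTree.none) (.node (.node WTree.none (.word [2,1,4,0,2,0,3,0,2,0,4,1,4,1,5,3,2,4,5,4,3,5,3,1,5,2,1])) WTree.none)) (.node WTree.none (.node (.node WTree.none (.node WTree.none (.word [4,3,5,1,5,3,4,0,4,2,0,4,2,1,2,4,0,2,4,0])))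 (.node WTree.none (.node (.word [4,2,3,4,1,3,1,2,5,2,5,2,4,1,5,3,1,3,0,5,1,0,4,5,2,0,5,0]) (.word [2,4,2,4,2,1,2,5,4,2,5,2,5,1,5,1,4,1,0,5,0,5,1,5,4,0,4,1,4,0]))))))) (.node (.node (.node (.node WTree.none (.node WTree.none (.node (.word [5,2,0,3,2,3,2,0,2,5,1,5,4,3,5,2,1,2,1,4,5,3,5,3,4,2,3]) (.word [5,1,2,0,2,0,2,1,2,1,0,4,3,1,5,2,0,5,4,3,5,4,1,5,2,4,0,3])))) WTree.none) (.node WTree.none (.node (.node WTree.none (.node WTree.none (.word [1,2,4,1,0,3,0,4,2,1,2,4,2,0,3,1,3,2,0,4,5,2]))) (.node WTree.none (.node WTree.none (.word [4,2,4,0,4,2,1,2,0,4,0,1,4,0,1,4,0,3,2,1,4,2,0,4,3,2,3,4])))))) (.node (.node (.node (.node (.node (.node (.word [3,1,5,4,1,3,1,5,3,4,5,3,4,2,0,5,0,5,2,3,1,5,3,2,4,5,1]) (.word [4,5,0,2,0,5,4,1,3,4,0,5,2,1,2,0,2,5,0,3,4,5,3,0,4,5,3,5,0])) WTree.none) (.node WTree.none (.word [3,2,5,2,5,3,2,4,1,2,3,4,1,5,3,1,4,2,5,4,2]))) (.node (.node WTree.none (.word [5,2,1,0,2,0,5,4,1,5,0,2,3,4,2,3,0,2,5,1,4,1,3,4,5,2,5,0,1]))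 (.node WTree.none (.word [5,2,3,4,2,3,5,1,0,4,3,5,2,3,2,0,5,4,3,2,5,0,4,3,4,1,5,4,2,0])))) (.node WTree.none (.node WTree.none (.node (.word [4,5,1,2,5,0,3,1,2,1,2,4,2,0,2,5,2,5,2,5,0,5,4,5,0,1,2,5,1,4,1]) (.word [1,3,4,2,0,4,1,4,0,2,3,2,0,5,0,5,2,0,2,5,0,5,0,2]))))) (.node WTree.none (.node (.node (.word [5,0,2,1,3,2,3,0,3,5,2,5,2,5,2,5,3,1,5]) (.word [4,2,1,3,2,4,2,3,2,3,2,1,4,0,5,0,2,1,5,1,2,5,4,2,3,4,0])) (.node WTree.none (.node WTree.none (.word [4,5,2,1,0,2,1,5,4,5,0,2,1,5,0,2,5,1,5,4,3,0,4])))))))))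

/-- A subtree. -/
def wt86 : WTree :=
  (.node (.node wt83 wt84) (.node wt85 (.node (.node (.node (.node (.node (.node (.word [3,4,5,1,3,5,1,4,3,5,3,4,3,2,3,5,1,3,5,1,2,0,5,3,0,3,2,3,0,4,3,2]) (.node WTree.none (.node WTree.none (.word [5,3,2,1,5,3,5,3,5,4,1,4,5,2,0,2,1,0,3,5,2,4,1,5,4,1,5])))) (.node (.node (.node WTree.none (.word [4,5,1,5,4,5,2,5,0,3,4,2,5,3,4,2,0,1,3,0,5,3,1,3,5,0,5,2,5,3])) WTree.none) WTree.none)) (.node WTree.none (.node WTree.none (.node WTree.none (.node WTree.none (.word [5,2,4,1,2,4,3,4,5,1,3,2,1,2,0,5,3,5,0,5,3,5,0,2,1])))))) (.node (.node (.node WTree.none (.node (.node (.word [2,3,2,0,5,0,2,0,5,0,3,4,1,4,2,1,4,3,0,2,5,2,4,5,0,3,4,2,4,2]) (.word [5,1,0,3,2,3,0,1,5,4,1,5,0,3,1,4,0,5,2,3,0,3,2,3,0,4,0,1])) WTree.none)) (.node (.node (.word [1,3,1,5,0,4,0,5,3,2,0,3,1,3,1,4,0,2,1]) (.node WTree.none (.word [4,2,5,2,5,2,4,5,4,2,1,4,1,2,5,1,3,5,2,4,5]))) (.node (.node WTree.none (.word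 [1,4,3,2,0,2,4,3,0,4,3,4,3,2,5,3,4,5,0,3,0,4,0,3,0,5,0,5])) (.node (.word [3,0,3,0,4,2,0,3,0,1,5,1,3,2,1,5,3,2,4,0,5,2,3,5,0,1,2,4,2,0,2,1]) (.word [5,3,4,2,5,3,1,5,3,0,5,4,2,3,4,0,4,3,5,1,2,0,3,1]))))) (.node WTree.none (.node WTree.none (.word [3,4,5,3,2,4,2,1,3,4,5,3,2,5,3,4,0,3,4,5,4,0,5,4,5,2,0,5,1,2]))))) (.node (.node (.node (.node (.node (.node WTree.none (.word [1,4,5,3,2,3,5,4,1,3,2,4,5,2,5,3,2,5,0,4,1,3,0,5,0,3,1,5,0])) WTree.none) WTree.none) (.node (.node WTree.none (.word [3,4,0,2,5,0,2,4,5,4,0,2,3,0,2,3,5,2,0,4,2,5,4,0,2,3])) WTree.none)) (.node (.node WTree.none (.node (.node WTree.none (.word [0,3,2,5,3,2,5,0,3,1,2,5,0,4,1,0,5,3,4,2,0,5,1,5,3,4,5,4,0,5])) WTree.none)) (.node (.node (.node (.word [5,3,2,4,2,0,2,4,0,3,0,3,0,3,4,3,2,5,2,1,4,3,5,2,5,3,4,2]) (.word [4,1,4,5,2,0,4,1,2,5,0,5,1,4,3,2,1,2,3,5,4,2,4,3,2,4,5])) WTree.none) WTree.none))) (.node (.node (.node (.node (.node (.word [5,1,2,0,2,0,1,2,5,4,1,4,5,0,2,5,4,0,4,2,0,2,0,3,0,4,3])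 (.word [2,1,3,4,2,4,2,3,5,1,3,4,2,5,2,1,4,1,3,1,0,4,0,3,4,5,4,2,3,0])) WTree.none) (.node (.node WTree.none (.word [1,4,5,1,3,2,3,5,1,3,5,4,5,1,3,0,3,4,2,5,3,1,5,4,0,5,3,2,0,2])) WTree.none)) (.node (.node (.node (.node WTree.none (.word [2,3,2,1,5,3,2,3,4,5,4,3,5,2,5,3,1,3,5,0,1,2,0,1,5])) WTree.none) WTree.none) WTree.none)) (.node WTree.none (.node (.node WTree.none (.node WTree.none (.word [0,2,0,2,4,0,2,0,3,5,3,4,2,5,0,3,2,4,0,4,0,2,3,0,2,3,4,3]))) (.node WTree.none (.node WTree.none (.word [3,1,2,0,2,4,1,3,0,1,5,2,1,3,2,4,3,4,2,1,2,4,5,1,5,2,5,4,3,5])))))))) (.node (.node (.node (.node (.node WTree.none (.node (.node WTree.none (.word [1,5,1,3,4,2,5,4,2,1,2,0,2,3,5,1,0,2,0,3,4,3,4,3,2,1,0,2,3,2,0,4,3])) (.word [2,5,4,5,4,0,2,0,1,2,0,4,2,5,0,4,3,1,3,4,5,0,5,0,1,5,1]))) (.node (.word [1,3,5,3,5,3,1,2,1,2,0,4,1,2,4,3,2,4,2,5,4,5,2,0]) (.node (.node (.word [1,3,2,3,2,5,2,4,1,0,3,4,3,5,4,2,4,0,3,1,2,5,2,4,2,0,1])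 (.word [3,1,4,1,3,5,1,3,5,3,4,0,4,0,2,0,4,0,3,2,5,3,5,1,4,5,3,5,2,4])) WTree.none))) (.node (.node (.node (.node (.node WTree.none (.word [2,5,2,0,2,0,2,0,5,4,0,2,1,5,1,3,5,4,5,3,1,2,4,2,1,5,2,1,5,4,2])) (.word [5,0,2,0,3,4,2,5,3,4,2,1,4,5,1,0,4,2,3,0,2,4,5,1,4,0,1,2,3,0,1])) WTree.none) WTree.none) WTree.none)) (.node (.node (.node (.node WTree.none (.node WTree.none (.word [5,0,3,2,4,2,0,2,4,3,2,1,2,5,2,5,0,2,4,0,4,1,2,0,5,2]))) (.node (.node WTree.none (.word [5,2,3,4,2,3,2,4,3,1,5,3,5,2,3,4,3,0,3,5,2,0,5,2,3,0,1,3])) WTree.none)) (.node WTree.none (.node WTree.none (.node WTree.none (.word [4,3,5,1,3,1,4,5,1,3,2,3,4,3,2,5,0,4,5,0,5,3,5,3,0,1,2]))))) (.node (.node (.node (.node (.node WTree.none (.word [1,2,1,4,3,4,2,1,2,1,4,0,3,2,1,3,5,0,5,4,3,5,2,3,5,0,1,5,2,1])) WTree.none) (.node WTree.none (.word [2,0,3,2,0,3,2,3,0,1,2,1,0,2,0,2,3,2,0,3]))) (.node (.word [4,2,4,2,1,5,4,1,3,4,1,4,2,5,0,5,0,3,2,5,3,5,2,4,0,3,4,5,2,4,2])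 (.word [5,2,1,0,2,1,0,2,4,1,2,3,5,3,2,3,2,3,2,1,5,4,5,4,3,2]))) WTree.none))) (.node (.node (.node WTree.none (.node WTree.none (.node (.node WTree.none (.word [5,1,0,2,1,0,5,3,1,3,5,2,5,1,3,5,2,5,4,1,5,2,1,4,5,2,4,3])) (.node WTree.none (.word [5,1,5,4,5,1,5,0,5,3,5,0,2,0,4,2,4,3,0,3,4,0,5,1,4,0,2,3]))))) (.node (.node WTree.none (.node (.node WTree.none (.word [3,5,0,2,3,2,3,0,5,2,4,3,2,4,0,3,0,5,4,0,2,5,1,3,5,0,2])) WTree.none)) (.node WTree.none (.word [1,2,1,4,3,4,2,1,0,3,1,3,2,4,2,1,2,3,0,5,0,1,4])))) (.node (.node (.node (.node WTree.none (.node WTree.none (.word [2,4,1,5,0,4,1,4,0,1,2,4,2,3,2,0,3,1,3,5,1,3,5,2,3,4,3,0,2,1,5]))) (.node WTree.none (.node WTree.none (.word [5,2,4,5,0,3,0,5,4,2,4,2,3,5,3,1,5,3,5,2,1,5,3,5,1,2])))) (.node (.node (.node WTree.none (.word [5,3,2,1,5,3,5,3,5,4,1,5,0,5,3,2,5,1,3,4,3,0,2,3,2,3,4,5,2,0])) (.word [5,4,1,5,3,5,4,3,1,2,1,3,2,0,2,0,5,2,5,0,1,3,5,3,0,5,2])) WTree.none))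 (.node (.node (.node (.node WTree.none (.word [5,2,4,5,0,3,0,5,4,2,5,4,3,5,3,5,3,5,4,5,1,3,4,2,5,3,5])) (.node WTree.none (.word [1,4,2,4,5,1,2,4,1,3,5,3,5,2,5,4,2,3,2,0,3,1,0,2,3,0,5,0,3,0,1]))) WTree.none) (.node (.node (.word [5,1,0,3,2,3,0,1,2,4,0,2,5,2,0,2,3,2,5,2,3,2,4,5,0,4,2,1]) (.word [2,5,1,2,5,2,4,5,2,5,4,2,4,0,3,1,2,3,4,3,0,2,0,5,4,0,3,1,5,0])) WTree.none))))))))

/-- A subtree. -/
def wt87 : WTree :=
  (.node (.node (.node (.node (.node (.node (.node WTree.none (.node (.word [3,1,3,2,4,0,2,0,4,2,3,1,3]) (.word [5,2,1,0,5,3,1,3,4,5,0,5,4,2,1,2,4,1,2,4,2,5,4,2,3,2,5]))) (.node WTree.none (.word [1,4,5,1,2,0,4,2,1,4,1,5,0,1,5,4,2,4,1,5,3,5,4,2,5,3,4,2,1,3,5,1,4,2]))) (.node (.word [1,5,1,4,2,1,4,5,3,1,2,5,2,5,0,4,0,5,4,2,1,5,0,1,2,4,5,0]) (.node WTree.none (.node WTree.none (.word [1,2,5,4,5,4,1,2,1,4,2,4,5,1,2,1,5,4,3,2,3,0,2,1,5,2,0,4,5]))))) (.node (.node (.node WTree.none (.word [4,3,1,3,5,0,2,0,1,0,4,2,3,4,2,4,5,2,0,2,1,4,2,0,3,0,4,2,0,2]))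 (.node (.node WTree.none (.word [2,4,1,0,3,1,2,4,2,5,0,1,0,3,2,1,2,4,3,5,0,5,2,4,0,5,1,3,2,1])) WTree.none)) (.node (.node (.node WTree.none (.word [0,2,5,2,0,2,0,5,1,2,5,2,3,1,5,2,3,2,5,3,5,0])) WTree.none) WTree.none))) (.node (.node (.node WTree.none (.node WTree.none (.node WTree.none (.word [3,4,5,3,5,1,4,3,5,1,2,1,5,1,2,0,5,3,4,5,1,5,2,4,5,0,2,1])))) (.node (.node WTree.none (.word [5,0,2,0,5,3,2,5,3,4,1,5,1,3,2,4,3,2,3,4,1,2])) WTree.none)) (.node WTree.none (.node (.node (.node (.word [1,4,3,2,0,2,4,3,0,4,3,1,2,4,3,0,5,1,0,3,2,1,0,2,1,3,5,0]) (.word [5,0,5,4,5,0,2,5,4,0,2,4,2,1,2,1,5,2,3,2,5,3,0,4])) WTree.none) (.word [5,2,4,5,3,5,4,2,5,0,3,1,3,2,4,3,2,5,2,4,1,5,2,1,4,2,3,0]))))) (.node (.node (.node (.node (.node WTree.none (.word [4,0,3,1,3,5,0,2,5,2,3,2,5,4,2,1,2,0,3,5,2,0,4,0,3,2,0])) (.node (.node (.word [2,5,4,0,2,0,2,0,3,4,5,1,2,5,4,5,4,3,0,1,3,5,1,5,3,0,4]) (.word [2,5,2,5,0,4,1,4,0,2,3,2,1,2,3,4,1,5,1,0,5,2,5,4,2,0,2,5,3,0,1,3]))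 WTree.none)) (.node (.node (.node WTree.none (.word [2,4,0,3,1,3,5,1,5,0,4,3,5,3,0,5,1,0,3,0,5,2,0,1,0,3,4,2,0,3])) WTree.none) (.node WTree.none (.word [3,4,5,3,5,2,5,3,5,4,3,1,5,3,2,3,0,3,4,2,1,5,4,5,3,4,3,0,5,0])))) (.node (.node WTree.none (.node WTree.none (.node WTree.none (.word [3,4,2,5,1,3,1,5,2,4,3,4,5,4,1,4,5,2,0,3,5,3,5,0,5,4,1,5,4])))) (.node WTree.none (.node WTree.none (.node (.word [0,5,3,2,1,0,3,0,1,3,2,0,4,0,2,1,0,4,1,2,0,5,0,5,3,2,4,1,5,2,1]) (.word [4,2,1,3,1,5,3,5,4,1,2,3,2,5,4,1,4,0,5,1,2,0,2,3,4,1,2,4,2,0,4])))))) (.node (.node (.node WTree.none (.word [0,3,5,3,5,3,0,2,4,0,5,4,0,2,5,3,0,2,0,4,0,1,4,3])) (.node (.node (.node (.node WTree.none (.word [5,2,4,1,2,4,3,4,5,1,3,2,5,3,2,3,0,2,5,3,5,3,5,3,5,2,0,5])) WTree.none) WTree.none) WTree.none)) (.node (.node (.node (.node (.word [2,0,4,5,1,0,3,0,1,5,4,0,2,1,4,1,5,0,5,3,5,0,3,1,2,5,2,4,2,4,0,4]) (.word [5,3,5,2,3,1,2,5,1,4,2,5,2,4,2,0,5,1,3,5,0,3,1,0,3,5,3,4,0,5,3]))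 (.word [0,5,0,3,2,4,2,4,2,3,0,5,0,1,4,5,2,1,5,1,5,4,3,2,4,2,1,5,4,1,3])) WTree.none) WTree.none)))) (.node (.node (.node (.node (.node WTree.none (.node (.node WTree.none (.word [5,4,2,3,1,4,1,2,4,2,1,5,4,5,2,0,2,1,0,5,2,0,2,3,1,2,1,3,0,2])) WTree.none)) (.node (.node (.node WTree.none (.word [5,0,2,1,3,2,3,0,1,5,3,2,1,5,3,4,5,3,2,1,4,1,3,1,5,4,3,5])) WTree.none) (.node (.node WTree.none (.word [4,2,0,5,1,2,1,0,2,1,5,0,4,5,1,2,4,3,5,2,5,3,0,4,2,5,2,0,3,5,2])) WTree.none))) (.node (.node (.word [5,2,1,2,4,3,1,5,4,5,3,4,3,5,1,4,5,1,5,1,0,3,0,2,0,4,2,5,0,1,2]) (.node WTree.none (.word [4,1,4,0,3,4,1,2,1,0,2,5,4,1,5,3,1,3,5,3,0,5,3,1,5,3,0,5,3,4]))) (.node (.node (.node WTree.none (.word [2,4,5,0,3,0,5,4,5,4,3,4,5,4,3,4,2,3,2,1,5,1,3,4,5,1,4])) WTree.none) WTree.none))) (.node (.node (.node (.node (.node (.node WTree.none (.word [0,2,5,2,0,2,0,2,5,2,0,5,1,0,5,0,3,1,2,5,1,4,1,2,3,4,0,2])) WTree.none) WTree.none)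 (.node WTree.none (.word [5,2,4,5,0,3,0,5,4,0,3,4,3,2,5,3,1,0,2,0,4,2,5,2,5,0,3,0]))) WTree.none) (.node WTree.none (.node (.node (.node WTree.none (.word [2,4,3,5,2,4,3,5,2,0,5,0,2,0,5,0,3,5,1,2,0,3,5,0,2,4,5,2])) WTree.none) (.node (.node (.word [5,2,4,5,3,2,3,4,5,1,4,1,2,0,5,3,2,5,1,3,1,4,0,5,4]) (.word [2,4,5,0,3,0,5,4,5,4,3,4,5,1,2,4,3,2,0,2,1,2,0,2,4,5,1,2,5,2,4,2])) WTree.none))))) (.node (.node (.node (.node (.node (.node (.node WTree.none (.word [2,4,0,5,3,1,3,5,0,1,5,3,5,1,0,5,2,4,5,2,4,1,3,0,5,4])) WTree.none) WTree.none) (.node (.node WTree.none (.word [1,4,5,4,2,4,3,5,2,3,2,3,2,4,0,3,2,3,0,4,2,4])) (.word [1,4,5,2,0,5,2,4,3,5,4,5,0,2,1,3,4,3,2,1,5,4,5,1,4,2,4,2,5,3,4]))) (.node WTree.none (.node WTree.none (.word [5,4,2,4,5,3,2,1,3,5,2,0,4,0,4,3,5,4,3,0,1])))) (.node (.node WTree.none (.word [5,1,5,4,5,1,5,0,2,3,2,0,3,0,3,5,2,4,1,2,5,4,1,3,0])) (.node (.node (.node (.node WTree.none (.word [2,3,1,2,0,3,0,2,3,2,3,5,1,5,3,5,1,5,3,5,2,3,4,1,2,3,5,4,2]))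 (.word [5,2,1,5,4,5,1,0,5,3,0,2,1,2,3,2,3,0,3,4])) WTree.none) (.node WTree.none (.word [5,2,0,3,2,3,2,5,2,3,5,2,3,4,0,5,4,2]))))) (.node (.node WTree.none (.node WTree.none (.node (.word [5,3,5,3,5,3,0,2,0,1,2,5,1,2,4,5,4,1,5,4,3,5,3,5]) (.word [2,4,0,2,0,5,3,5,0,2,0,4,1,2,5,2,1,0,5,1,0,2,5,0,4,5,0,3,2,5,2])))) (.node (.node WTree.none (.node (.word [3,2,0,4,5,3,0,3,5,4,0,2,0,3,2,3,1,0,5,0,5,3,2,4,0,2,4,0,3]) (.node WTree.none (.word [1,2,4,1,5,2,4,3,5,1,4,1,4,1,5,1,0,4,0,2,4,3,0,3,2,3,5,0,2,0])))) (.node (.node (.node (.node WTree.none (.word [5,3,5,0,5,4,2,4,5,0,5,3,4,1,4,0,5,2,3,5,4,2,1,4,0,5,4])) WTree.none) WTree.none) (.node (.word [4,5,0,2,0,5,4,3,1,3,2,1,4,0,5,1,2,4,2,0,3,1,2,4,3,5,4,0]) (.word [3,4,5,2,3,5,4,3,5,3,4,3,2,5,3,5,2,5,2,0,4,3,0,5,0,4,3,0,2,1,5,4,5]))))))))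

/-- A subtree. -/
def wt88 : WTree :=
  (.node (.node (.node (.node (.node WTree.none (.node (.node WTree.none (.word [5,4,1,4,3,2,3,5,2,4,3,4,2,3,2,5,1,3,4,5,0,5,1,0,2,5,4,1,5,4])) (.node WTree.none (.node WTree.none (.word [3,2,5,1,4,3,2,4,3,5,2,3,2,3,5,1,5,3,2,0,2,4,5,3,0,4,2,0,5,2]))))) (.node (.node (.node (.word [4,2,5,4,2,4,5,3,2,4,0,4,0,2,5,0,4,0,3]) (.node WTree.none (.word [5,4,2,1,0,3,0,1,3,2,4,5,2,1,4,1,4,2,0,3,1,4,1,2,0,2,5,3,4,3]))) (.node (.node WTree.none (.word [5,2,4,5,0,3,0,5,4,2,1,2,1,5,0,4,0,3,2,0,1,2,3,0,4,0])) (.node WTree.none (.word [4,0,5,0,5,2,1,5,3,2,3,1,0,2,3,0,5,3,4,0,5,3,2])))) (.node (.node (.node (.node WTree.none (.word [2,1,5,0,2,0,2,0,5,1,4,0,2,0,5,2,4,1,4,5,2,0,2,0,4,2])) (.word [2,5,1,4,3,4,5,4,5,4,1,4,0,5,4,2,1,0,3,2,4,3,2,1,4,0,2])) WTree.none) (.node WTree.none (.node (.word [3,5,4,3,1,5,1,4,2,4,1,5,4,1,5,3,5,4,0,2,1,4,3,5,1,2,4,0]) (.word [5,0,5,4,5,0,2,5,4,3,4,1,3,0,5,2,1,5,2,3,2,3,2,5,1,4,3,0]))))))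 (.node (.node (.node WTree.none (.node (.node WTree.none (.word [4,0,5,1,0,2,1,2,0,5,0,5,4,2,4,5,3,2,3,2,5,2,4,5,2,3,2,4,3])) WTree.none)) (.node WTree.none (.node WTree.none (.node WTree.none (.word [5,3,4,2,5,3,4,0,2,1,5,3,1,3,2,0,4,5,3,2,4,0,5,3,4,2,1,3,2,0]))))) (.node (.node (.node (.node WTree.none (.word [3,5,0,2,5,2,4,0,5,2,4,1,4,2,1,2,4,3,2,4,2,1,5,4,2,3,5,1,3,2,1])) (.node (.word [1,2,4,2,3,4,3,2,5,2,4,5,2,4,1,0,5,0,3,5,0,3,0,5,0,2,4,2,3]) (.word [0,2,0,2,4,0,2,0,3,5,1,5,2,5,2,1,3,4,3,2,5,4]))) (.node (.node (.word [2,0,5,1,2,1,0,2,1,5,0,2,1,4,1,5,0,3,2,0,5,2,4,0,2,3,0,5]) (.word [2,4,0,5,3,1,3,5,0,1,4,1,4,0,5,1,4,0,5,1,0,4,0,1,5,0,4])) (.node WTree.none (.word [1,4,3,2,0,2,4,3,0,4,3,1,3,4,2,4,3,2,1,5,0,5,2,4,5,0,1,5,2])))) (.word [2,4,2,3,5,3,4,3,5,4,5,0,5,2,5,3,0,4,0,5,4,2,5,4,3])))) (.node (.node (.node (.node (.node (.node (.word [5,2,5,4,5,2,5,1,5,1,2,0,5,0,5,4,0,5,4,0,3,2,5,0,3,4,5,0,3]) (.word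 [5,1,2,1,0,2,0,5,4,5,2,1,5,3,5,3,2,5,4,2,0,5,4,2,1,4,0,2,4,3])) WTree.none) (.node WTree.none (.word [1,5,0,2,1,5,2,1,2,5,2,3,5,1,5,4,2,3,4,5,1,0,5,0,3,1,4,5,4]))) (.node WTree.none (.node (.node WTree.none (.word [5,3,4,0,2,0,2,5,1,2,3,1,4,2,3,1,4,1,5,3,0,4,1,4,0,5,3,2,3,1])) WTree.none))) (.node (.node (.node (.word [4,2,3,5,2,4,2,5,3,5,2,5,1,2,4,5,2,0,2,0,3,5,2,4,3,5,4,5,4,1]) (.node WTree.none (.word [5,0,5,3,1,3,5,0,2,1,5,0,2,4,3,5,2,4,3,0,3,2,5,3,5,3,2,0,5,0]))) (.word [3,2,4,1,5,2,5,4,2,4,3,5,4,5,2,0,1,5,0,2,4,2,3,4,2,3,1,4,1])) (.node (.node WTree.none (.word [5,4,5,2,4,2,5,4,5,3,4,1,0,5,2,1,2,0,3,2,4,1,3,2,0,1,5,1])) WTree.none))) (.node (.node (.node (.node (.node (.node WTree.none (.word [3,2,1,0,5,2,1,2,5,0,3,4,1,5,1,5,4,5,0,2,3,0,2,3,0,5,3])) WTree.none) WTree.none) (.node WTree.none (.node WTree.none (.word [5,1,2,0,2,0,1,2,5,4,1,5,0,5,3,2,4,3,5,1,5,0,3,0,3,1,3,5])))) (.node (.node (.node (.node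 WTree.none (.word [5,1,2,3,2,3,5,1,4,1,2,1,2,3,5,4,1,4,5,0,4,5,0,2,3,0,3,2,3,4,5])) WTree.none) (.node WTree.none (.word [5,2,0,3,2,3,2,0,2,0,5,2,4,3,4,5,0,5,2,5,0,2,5,1,2]))) (.node (.node WTree.none (.word [3,1,4,3,2,3,4,5,3,5,3,5,1,5,3,1,3,0,5,0,2,5,3,5,2,3])) (.node (.word [1,5,1,0,3,5,0,5,3,0,1,0,5,3,0,5,4,3,5,3,2,4,0,2,5,4]) (.word [1,5,1,0,2,4,2,4,2,0,1,5,3,2,1,2,3,1,3,5,2,5,1,4,1,2,3]))))) (.node (.node (.node (.word [1,3,1,4,5,2,1,2,4,2,5,2,3,5,2,0,4,3,1,5,2,5,0,4,0,1,5,3,2,5,2,1]) (.node (.word [5,2,0,3,2,3,2,0,2,5,2,4,5,1,3,0,5,4,0,2,3,4,2,4,1,2,0]) (.word [5,1,5,4,5,1,5,3,4,0,4,3,0,2,5,4,0,4,0,2,4,3,1,5,0,5,4,3]))) WTree.none) (.node (.word [5,3,2,3,0,3,2,3,0,3,2,3,5,2,4,2,5,4,2,4,3,1,5,4,1,2,3]) (.node WTree.none (.word [3,2,4,2,3,2,4,2,3,1,0,5,2,5,0,5,1,2,0,2,4,5,1,3,5,4,1,2,4]))))))) (.node (.node (.node (.node (.word [2,5,0,2,5,1,2,3,0,3,4,1,5,0,3,1,4,2,1,0,2,4,1,2,0,4,3,2,0,5,3]) (.word [4,2,4,0,3,2,3,0,4,2,4]))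 (.node (.node (.node (.node (.node WTree.none (.word [5,1,5,4,5,1,5,4,5,2,0,3,5,1,5,3,5,3,5,0,4,0,5,1,3,2,5,2,1])) WTree.none) WTree.none) (.node (.node WTree.none (.word [4,5,0,5,3,1,3,4,5,0,5,4,3,1,3,0,3,0,2,5,2,0,1,3,0,2,5,3,2])) (.node WTree.none (.word [4,5,1,0,3,1,2,1,3,0,2,4,1,4,1,2,5,2,4,2,4,5,3,4,2,5,2,1])))) (.node WTree.none (.node WTree.none (.node WTree.none (.word [4,3,1,3,5,0,2,0,1,5,1,4,3,2,5,3,4,5,0,4,2,0,3,4,2,3,5,0,2,3,0])))))) (.node (.node (.node WTree.none (.node WTree.none (.node WTree.none (.word [4,2,5,2,4,3,4,5,2,4,3,1,4,2,3,0,2,0,5,1,2,5,2,0,5,0,3])))) (.node (.node (.node WTree.none (.word [4,5,0,3,5,4,1,4,3,5,3,0,4,1,4,0,3,2,1,3,0,3,4,2])) (.node WTree.none (.word [3,2,5,3,1,4,2,5,1,5,3,1,2,3,4,3,5,2,3]))) (.word [5,1,2,4,1,2,3,4,2,4,0,5,2,4,0,5,3,5,4,3,5,2,1,2,3]))) (.node (.node (.node (.node (.node WTree.none (.word [1,5,0,2,1,5,2,1,2,5,2,0,3,1,3,1,0,5,0,2,3,5,1,2,4,0,3,2,0,1,3]))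 (.word [5,1,2,0,2,1,5,4,5,0,5,4,5,2,0,2,0,5,3,0,2,1,5,0,1,5,1,2,0,3])) WTree.none) (.node (.node (.word [4,5,1,0,3,2,3,2,0,2,5,1,4,2,4,3,1,5,4,1,2,3,2,5,2,3]) (.word [5,4,2,1,0,3,0,1,3,2,4,5,3,4,2,4,3,5,2,5,3,4,2,4,3])) WTree.none)) (.node (.node WTree.none (.word [1,4,5,2,0,5,3,5,0,2,5,4,1,5,1,5,0,5,3,2,4,2,3,0,1,5,3,5,2])) (.node WTree.none (.word [4,0,4,3,1,2,3,5,0,2,4,5,2,1,2,5,2,0,2,0,5,2,4,3,5,2,1,4,3,5])))))) (.node (.node (.node (.node (.node (.node WTree.none (.word [2,5,2,0,2,0,2,0,5,4,0,2,1,5,1,4,3,5,2,5,4,5,2,3,5,4,3,2,3,1])) WTree.none) (.node (.node WTree.none (.word [5,0,3,4,2,3,2,4,3,0,5,1,4,5,4,1,3,5,0,4,2,1,0,2,0,4,5,0,4,3])) (.word [1,3,5,3,4,5,3,1,5,2,0,5,4,5,1,5,0,2,1,4,2,4,3,2,0,2,4]))) (.node WTree.none (.node (.node WTree.none (.word [1,5,3,5,3,5,1,3,5,0,3,5,4,5,2,3,5,3,5,4,0])) (.node WTree.none (.word [3,4,5,3,2,4,2,1,3,4,0,5,2,3,4,1,5,3,2,4,0,2,1,5]))))) (.node (.node (.node WTree.none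 (.word [5,2,1,0,2,0,5,3,5,2,5,4,5,2,1,4,2,3,5,4,3,5,1,0,3,2,3,0,1,5])) WTree.none) WTree.none)) (.node (.node (.node (.node WTree.none (.node WTree.none (.word [4,1,4,1,2,5,4,2,5,3,4,5,2,4,5,2]))) (.node WTree.none (.node WTree.none (.word [0,2,5,2,0,2,0,2,5,2,0,5,3,1,4,5,3,4,2,4,1,5,3,5,1,4,3])))) (.node (.node (.node (.node WTree.none (.word [5,3,0,3,0,2,0,3,0,3,1,2,5,2,1,3,0,4,3,2,3,4,2,4,0,3,4])) WTree.none) WTree.none) (.node WTree.none (.word [4,1,4,5,2,0,4,1,2,5,0,1,2,5,4,1,3,5,2,1,4,5,2,1,3])))) (.node (.node (.node (.word [5,0,2,0,5,2,4,0,3,5,3,5,1,3,5,0,4,2,4,2,4,3,0,2,4,1,4]) (.node WTree.none (.word [4,0,4,0,2,0,3,2,0,2,5,1,4,1,3,2,1,0,4,2,5,2,3,0,3,0,2,3,0,1]))) (.node (.node WTree.none (.word [2,5,1,4,3,4,5,2,5,4,0,2,5,2,0,5,2,5,1,3,4,3,2])) (.word [5,3,2,3,0,2,0,3,2,4,2,5,4,2,4,2,4,1,5,3,2,0,5,2,4,3,0,2,4,5,3]))) WTree.none)))))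

/-- A subtree. -/
def wt89 : WTree :=
  (.node (.node (.node (.node (.node (.node (.node (.word [1,3,5,4,5,3,1,5,2,0,3,4,2,3,2,4,3,0,2,5]) (.word [5,1,2,3,2,3,5,1,4,1,2,4,0,2,0,4,2,3,4,0,2,5,2,1,2,5,2,1,5,0])) (.node (.node WTree.none (.word [1,3,5,3,5,3,1,0,4,5,1,2,5,4,2,1,5,0,3,2,3,5,2,0,4])) (.node WTree.none (.word [4,3,5,4,5,3,1,3,2,0,3,1,3,5,2,4,0,2,0,1,5,3,0,4,5])))) (.node (.node WTree.none (.node WTree.none (.word [1,5,3,4,5,2,1,4,2,4,1,5,2,0,4,2,5,4,2,1,0,3,0,1,5,3,2]))) (.node (.node WTree.none (.word [0,3,2,0,3,2,1,2,3,4,0,4,2,1,3,1,0,2,4,3,0,2,0,3,1,3,4,0,4,2,5])) WTree.none))) (.node (.node (.word [1,0,5,3,2,4,0,4,2,3,5,0,1,0,2,3,0,2,0,3,2,0,5,3,2,5,3,5,3,1,5]) (.node WTree.none (.node WTree.none (.word [0,4,3,1,3,2,0,4,3,5,2,5,0,2,1,5,3,0,5,1,4,3])))) (.node (.node (.node WTree.none (.word [5,0,5,3,1,3,5,0,1,0,4,1,4,5,0,4,2,4,2,1,3,5,3,2,0,2])) WTree.none) (.node WTree.none (.node WTree.none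 (.word [4,2,1,4,1,0,3,1,2,3,0,1,2,5,4,3,2,5,1,3,4,5,0,5,1,0,2,5,4,2,5])))))) (.node (.node (.node (.node WTree.none (.node WTree.none (.word [4,2,5,1,2,4,3,4,5,3,1,4,3,1,3,1,3,2,3,0,4,0,5,0,1,4,0,3]))) (.node WTree.none (.node WTree.none (.word [5,2,0,3,2,3,2,0,2,5,2,4,3,1,4,3,5,1,2,4,5,2,3,2,1])))) (.node (.node (.node WTree.none (.word [2,1,4,5,1,3,5,2,3,4,2,3,1,0,5,2,1,4,3,5,4,5,4,5,3,5,0,3,0,2,5,0])) WTree.none) (.word [2,1,4,5,1,0,3,0,1,5,0,5,1,4,5,0,4,1,4,3,0,4,2,5,0,2,3,5,4]))) (.node (.node (.node (.node WTree.none (.word [5,3,5,1,5,3,0,5,0,5,0,4,0,5,0,2,4,1,2,3,1,4,2,3,5,3,4,1,3,2,1,4,5,3])) WTree.none) WTree.none) (.node (.node (.word [2,3,5,3,2,4,0,2,0,4,1,4,5,1,5,1,4,3,5,2,3,5,3,0,4,3,2,1,3,0,2,4,0]) (.node WTree.none (.word [3,5,1,3,1,4,5,3,5,2,1,5,1,5,0,5,1,0,5,4,0,2,3,1,0,5,4,2,0,3,1]))) WTree.none)))) (.node (.node (.node (.node (.node (.node (.node (.word [2,4,1,5,1,4,3,2,1,4,2,1,4,5,4,1])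 (.word [5,0,2,0,5,1,4,2,3,4,1,3,2,1,2,3,4,5,3,2,4,2,5])) WTree.none) (.node WTree.none (.word [2,5,1,4,3,4,5,4,5,1,0,5,4,3,2,0,2,0,4,0,2,0,2,3,2]))) (.node (.node WTree.none (.word [4,5,4,2,3,5,3,4,2,3,4,2,3,2,4,1,4,2,4,3,5,0,4,2,5,2,0,5,3])) WTree.none)) (.node (.node (.node (.node WTree.none (.word [5,2,1,0,5,3,1,3,4,5,0,5,3,5,1,5,3,0,4,3,5,2,1,2,5,3,4,0])) WTree.none) WTree.none) WTree.none)) (.node (.node WTree.none (.node WTree.none (.node WTree.none (.word [3,1,4,5,3,2,3,5,4,5,1,4,5,3,2,1,4,1,3,0,5,2,4,2,0,5,3,0,3,4,1])))) (.node (.node (.node (.node (.word [0,3,5,3,5,3,0,5,4,1,4,3,0,2,5,1,4,0,2,4,0,5,2]) (.word [5,1,2,0,2,0,5,2,5,2,5,2,3,5,4,5,1,2,3,5,2,4,2,5,3,2,3])) WTree.none) (.node WTree.none (.word [5,2,1,4,2,3,5,3,4,2,3,4,2,1,5,0,2,5,2,4,5,0,5,0,5,4,0,5,4,3]))) WTree.none))) (.node (.node (.node (.node (.node (.node WTree.none (.word [5,2,3,2,0,3,0,2,3,2,5,2,1,5,4,0,2,0,2,0,4,5,1,2])) WTree.none)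 WTree.none) (.node WTree.none (.word [1,5,4,1,5,4,1,2,5,2,3,5,2,4,0,5,0,4,3,5,2,1,5,4,2,1,4,0]))) (.node WTree.none (.word [1,3,5,3,4,3,5,3,1,2,4,2,5,4,3,5,2,5,0,2,0,5,2,4,1]))) (.node (.node WTree.none (.node (.node WTree.none (.word [5,3,1,5,1,0,2,0,4,5,1,5,3,5,4,5,2,4,3,5,0,1,5,4,2])) WTree.none)) (.node (.node WTree.none (.word [5,1,2,0,2,0,5,2,1,4,0,5,1,3,0,5,0,5,4,1,3,5,3,4,1,3,0,3,0])) (.word [4,2,5,4,5,1,4,2,4,0,3,0,5,3,5,2,0,2,0,2,1])))))) (.node (.node (.node (.node (.node WTree.none (.node (.word [2,3,1,0,5,2,4,3,0,2,5,3,2,3,1,0,4,5,3,5,4,5,3,0,3,1,2,1,4,3,0,3]) (.node WTree.none (.word [5,2,0,3,1,2,1,3,0,2,0,3,2,5,4,2,4,5,3,0,2,5])))) (.node (.node WTree.none (.word [3,2,3,4,5,3,2,3,4,5,4,2,4,1,0,5,1,3,4,0,5,4,0,4,1,5,0,2,3])) WTree.none)) (.node (.node (.node (.node WTree.none (.word [4,5,2,1,0,2,1,5,4,5,0,1,5,3,2,0,5,2,1,2,5,0,1,3,1,3])) (.word [0,2,5,2,0,2,0,2,5,2,0,5,3,2,3,1,0,2,5,3,2,4,2,3,5,2,3,4,0,5]))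 (.word [1,2,1,4,3,0,4,2,1,2,3,5,0,4,0,1,4,2,3,4,3,0,5,3,5])) (.node (.node (.node (.node (.word [4,5,0,2,0,5,4,5,4,5,3,1,2,0,5,0,3,5,1,2,5,4,2,1,3]) (.word [4,5,0,2,0,5,2,4,0,2,5,1,0,3,5,2,5,3,4,0,3,2,0])) WTree.none) WTree.none) (.node WTree.none (.word [3,0,3,2,1,5,2,0,5,2,3,1,5,1,3,5,3,1,4,5,2,0,4,0,3,5,3,5,3,0,5,4,0,5]))))) (.node (.node (.node (.node (.node (.word [5,2,4,5,0,3,0,5,4,2,3,2,4,2,3,5,4,2,5,3,0,5,1,5,3,0,5,1,3,2]) (.word [4,5,0,2,0,2,0,5,4,5,0,5,3,5,3,4,5,3,0,5,1,2,5,1,3,0,1,4,0,3])) WTree.none) WTree.none) (.word [5,1,0,2,1,0,5,3,1,3,5,2,0,3,1,3,5,1,2,0,3,4,3,0,2,0,2,5,1,3,0])) (.node (.node (.node (.node (.word [5,3,2,1,5,3,5,3,5,4,1,4,0,4,1,5,0,3,0,5,1,4,0,4]) (.word [2,0,5,1,5,1,4,3,1,3,1,4,0,3,5,4,2,1,4,3,0,2,4,0,4,3,0,1,3,0])) WTree.none) (.word [4,5,0,2,0,5,2,1,2,3,0,3,2,1,5,0,2,0,5,2])) (.node (.node (.node WTree.none (.word [1,3,5,4,5,3,5,1,0,3,0,2,5,1,2,0,2,4,5,1,5,1,4,5,2,0,2]))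 (.word [5,0,2,0,2,5,4,5,2,5,0,5,2,5,0,5,2,5,0,2,4,3])) (.node WTree.none (.word [5,2,3,2,0,3,0,2,3,2,5,4,5,0,3,2,0,3,5,1,3,5,3,0,4,2,0,2,1,5,4])))))) (.node (.node (.node (.node (.node WTree.none (.node WTree.none (.word [2,3,1,2,3,1,5,4,5,3,2,4,2,4,0,2,1,5,1,2,0,2,3,1,2,1,3,0,2,4]))) WTree.none) (.node (.word [5,0,2,0,5,2,4,2,3,1,4,2,5,3,5,3,2,1,2]) (.node WTree.none (.node WTree.none (.word [0,2,5,2,0,2,0,2,5,2,0,3,5,1,3,1,5,3,0,4,1,5,3,1,3,1,5,4,0]))))) (.node (.node (.node WTree.none (.node WTree.none (.word [0,2,4,3,0,4,3,2,5,1,0,5,4,2,5,4,3,0,4,0,4,5,4,3,5,2,0]))) (.node WTree.none (.word [5,0,2,0,5,4,2,4,2,0,5,1,3,2,1,5,2,3,5,0,2,3,5]))) (.node (.node (.node (.node WTree.none (.word [3,2,3,4,5,3,2,3,4,5,3,5,2,5,1,4,2,3,0,3,2,5,4,0,4,5,2,3,0,4])) WTree.none) WTree.none) WTree.none))) (.node (.node (.node (.node WTree.none (.node (.word [1,2,4,1,5,2,4,3,5,1,5,0,3,1,3,1,5,1,2,0,3,2,5,3,2,4,0,2,4,0]) (.word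 [4,0,5,0,2,1,3,1,2,0,5,0,4,2,1,3,1,3,5,3,5,1,2,5,3,1,5,2]))) (.node WTree.none (.node WTree.none (.word [5,1,2,4,1,2,3,4,2,4,1,0,2,5,2,1,2,3,5,0,5,1,3,5,0,4,2,5,4])))) (.node (.node (.node (.node WTree.none (.word [5,3,1,5,3,4,3,5,3,5,1,0,4,0,2,1,5,2,0,4,2,0,2,0,5,4,3,5,4])) (.word [1,4,3,1,5,3,5,3,1,5,2,1,0,5,1,4,2,3,2,4,5,2,4,0,5])) (.node WTree.none (.word [3,2,3,2,4,2,3,1,2,4,1,3,4,0,5,0,2,3,1,2,4,5,0,5,0,2,5,1,4]))) (.node (.node WTree.none (.word [3,4,5,3,5,3,4,3,2,1,5,2,5,2,4,3,5,1,4,5,3,0,5,2,5,2,0,2,5,0,4,3,5,0])) WTree.none))) (.node (.node (.node (.node (.node WTree.none (.word [1,4,2,4,5,1,2,4,1,3,5,2,1,2,5,2,0,5,2,4,2,5,4,1,3,0,5])) WTree.none) (.node (.word [4,1,4,5,2,0,4,1,2,5,0,2,4,3,5,1,2,3,2,5,4,2,4,3,5,3,2,3]) (.word [5,2,1,0,2,0,5,4,5,1,2,4,3,5,1,3,0,1,2,1,2,0,2,4]))) (.node WTree.none (.node WTree.none (.word [0,2,4,0,5,4,5,0,4,2,5,1,0,2,5,1,0,2,5,2,0,4,0,5,1])))) (.node (.node (.node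 WTree.none (.word [2,5,2,5,3,4,1,3,2,5,2,5,4,2,0,5,0,2,0,5,0,2,5,3,1,3,0,3,1,4,2,4])) WTree.none) (.node WTree.none (.node WTree.none (.word [1,4,5,3,2,3,5,4,5,2,0,4,2,4,3,0,5,0,5,3,4,5,0,5,3,0,1])))))))))

/-- A subtree. -/
def wt90 : WTree :=
  (.node (.node (.node (.node (.node (.node (.node WTree.none (.node WTree.none (.word [4,2,0,5,1,2,1,0,2,1,5,0,2,4,2,1,5,4,3,4,5,0,3,0,5,4,1,3,0,5,3,4,0]))) WTree.none) (.node (.node WTree.none (.word [5,1,2,3,2,3,5,1,4,1,2,1,2,3,0,3,2,3,1,0,3,2,5,3,4,2,3,0,5,4,2])) (.node WTree.none (.word [5,3,5,1,4,2,4,5,3,5,1,4,1,5,1,0,2,1,5,0,3,4,3,2,4,3,2,5,3,2,0,2])))) (.node (.node (.node (.node (.node WTree.none (.word [3,2,1,0,5,2,1,2,5,0,3,1,3,2,4,0,2,0,4,2,3,5,0,4,0,3,1,4,3,5,3,5])) WTree.none) WTree.none) (.node (.node WTree.none (.word [2,3,5,4,3,5,4,3,1,2,5,2,1,3,4,5,1,2,1,4,2,5,0,4,2,5,0,5])) WTree.none)) (.node (.node (.node (.node WTree.none (.word [2,5,2,4,5,2,5,4,5,1,5,2,5,2,4,0,2,0,3,0,2,5,4,5,1,0,3,0,2,0,2,3]))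 WTree.none) WTree.none) WTree.none))) (.node (.node (.node (.node WTree.none (.node WTree.none (.word [3,1,0,2,0,4,2,4,0,2,0,1,4,0,2,4,5,3,5,4,2,0,4,3]))) WTree.none) (.node (.node (.node (.node WTree.none (.word [4,3,5,3,1,5,1,3,2,4,1,3,1,4,2,4,1,5,0,4,1,2,0,5,0,3,4,5,4,2,5,1])) WTree.none) (.node WTree.none (.word [2,5,4,5,4,0,2,0,1,2,0,4,2,4,1,5,1,0,2,5,3,5,3,5,3,5,0,1,5]))) WTree.none)) (.node (.node (.node (.node (.node WTree.none (.word [3,2,3,2,4,5,2,4,2,4,5,3,1,5,1,3,5,3,2,4,0,2,0,3,4,1,2])) (.word [4,5,2,1,2,0,5,4,5,0,1,5,1,4,2,1,4,2,1,5,4,2,3,5,4])) WTree.none) WTree.none) (.node WTree.none (.node (.node (.word [1,5,2,0,3,2,3,1,4,0,3,4,2,0,3,0,3,2,3,0,3,2,5,4,5,3,5,1,4,0,5]) (.word [5,3,4,5,2,5,4,5,4,1,5,3,5])) WTree.none))))) (.node (.node (.node (.node (.node (.node (.node WTree.none (.word [3,1,4,3,5,4,2,5,2,3,4,5,4,1,2,3,5,2,0,5,0,2,0,5,0,3,1])) (.word [0,4,3,2,0,3,0,3,0,2,3,4,0,3,2,5,3,4,5,2,3,2,3,1,4,2,3,2]))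 WTree.none) (.node WTree.none (.word [3,0,3,0,2,4,2,0,3,0,3,5,2,0,5,4,3,5,3,1,5,3,1,4,1,5,0,2,5]))) (.node (.node (.node WTree.none (.word [3,1,2,3,4,5,3,2,3,4,5,3,1,3,2,1,3,0,3,2,3,0,5,1,5,1,4,2,4,3])) WTree.none) (.node WTree.none (.word [3,4,2,1,4,3,1,5,2,4,1,4,5,4,0,5,0,3,4,1,4,0,1,2,0,5,3,5,1])))) (.node (.node (.node WTree.none (.node WTree.none (.word [5,2,3,4,2,3,5,1,3,4,2,0,4,5,2,1,5,1,2,3,5,3,5,0,5,0,3,0]))) (.word [5,1,2,0,2,0,1,2,0,5,4,1,4,0,2,4,5,2,5,2,1,5,1,3,0])) (.node WTree.none (.node WTree.none (.node WTree.none (.word [5,1,2,1,0,2,0,5,4,5,2,1,2,5,2,1,5,3,5,1,5,1,4,3,5,2])))))) (.node (.node (.node (.node (.node (.node WTree.none (.word [5,3,4,2,5,3,5,1,0,3,0,5,4,2,3,0,3,1,3,2,4,3,2,0,3,4])) WTree.none) (.node (.word [5,1,2,3,4,3,2,5,3,4,2,1,2,4,5,0,3,2,3,0,5,2,3,2,4,2,1,3,2,3,4]) (.word [2,5,4,1,0,2,0,2,0,1,4,2,5,1,2,3,4,2,3,5,3,5,4,3]))) WTree.none) (.node (.node (.node (.node WTree.none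 (.word [5,0,3,2,4,1,4,5,3,5,3,0,5,1,3,5,2,4,5,2,3,1,2,5,0,2,0,1,5,2,4,1])) WTree.none) WTree.none) (.word [5,3,5,2,3,4,3,2,5,3,5,4,0,4,0,5,3,0,3,4,0,2,4,5,0]))) (.node (.node (.node WTree.none (.word [5,2,4,5,3,5,4,0,4,1,4,5,1,3,5,2,5,3,5,4,3,0,5])) (.node WTree.none (.word [1,4,5,3,4,2,5,2,5,4,3,5,1,4,1]))) (.node (.node (.node (.node WTree.none (.word [5,2,5,4,5,2,5,0,5,0,4,3,2,3,5,3,0,4,5,3,0,3,0,5,4,5])) WTree.none) WTree.none) (.word [1,4,2,4,5,1,2,4,1,5,3,5,2,3,4,2,1,0,3,0,1,5,1,3,2])))))) (.node (.node (.node (.node (.node WTree.none (.node (.node WTree.none (.word [5,2,4,1,2,4,3,4,5,1,3,1,4,3,1,0,5,1,0,4,2,1,5,3,4,1,5,2,0,2])) (.word [5,1,2,0,2,0,2,1,2,1,5,4,1,5,0,4,1,0,3,2,5,4,1,2,4,2,3,0]))) (.node (.word [1,4,0,3,2,1,2,3,5,0,5,0,4,1,2,4,5,0,2,1,4,1,4,1,2,5,4]) (.word [3,2,3,2,4,2,3,1,2,4,3,5,0,4,0,5,4,5,0,4,0,5,3]))) (.node (.node (.node WTree.none (.word [1,3,5,4,5,3,5,2,0,2,1,3,4,2,3,0,4,5,4,5,0,3,5,2,1,5,3,5,0,4,0]))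 (.node (.node WTree.none (.word [2,1,4,5,3,5,3,2,3,1,5,2,5,3,1,5,0,4,0,2,3,1,0,3,0,1,2,3,5,0])) WTree.none)) (.node (.node WTree.none (.word [5,2,5,3,5,1,5,4,2,3,4,3,4,1,4,1,5,1,0,5,0,4,2,4,3,1,4,0,4,5,0,3])) (.node WTree.none (.word [5,1,5,4,5,1,5,4,1,0,4,1,4,5,3,2,3,4,5,2,1,4,0]))))) (.node (.node (.node (.node (.node (.node WTree.none (.word [5,3,2,1,5,3,5,3,5,4,5,1,2,0,4,1,2,0,3,1,3,5,0,2,3,4])) (.word [1,3,5,4,5,3,1,0,2,0,5,2,0,2,5,0,2,5,3,2,4,2,5,2,4,3,2,0])) (.node WTree.none (.word [2,1,5,0,2,0,2,0,5,1,2,3,0,3,2,5,0,2,5,3,4,2,3,5,3,2,5,0,5]))) WTree.none) (.node (.node (.node (.node WTree.none (.word [5,2,4,2,3,5,1,3,2,4,5,1,2,1,2,0,4,1,4,5,0,3,2,5,2,4,1,2,0,4,1])) (.word [4,1,3,5,1,2,5,4,5,3,4,1,0,4,1,4,5,0,4,3,5,0,4,5,3,0,2,0,1,2])) (.word [4,2,4,3,5,2,1,4,1,3,5,1,5,0,5,4,3,5,3,0,4,5,4,1,4,1,5,0,2])) (.node WTree.none (.node WTree.none (.word [5,2,5,4,5,2,4,5,1,2,0,5,0,2,4,5,4,1,4,5,0,5,1,4])))))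 (.node (.node (.node (.node WTree.none (.word [4,5,0,3,1,2,1,5,1,5,3,0,2,5,2,4,3,0,2,1,5,1,5,0,3,1,3,5,1,4])) (.word [2,1,5,2,4,1,4,5,2,1,5,0,4,2,5,0,5,1,4,2,1,2,1,5,3,5,2,5,0,3,5,0,2,5,2])) WTree.none) (.node WTree.none (.node WTree.none (.word [5,3,1,4,2,1,5,4,2,4,1,0,4,0,3,4,5,3,0,1,0,3,4,3,5,0,4,5,0,3,0])))))) (.node (.node (.node (.node WTree.none (.node (.word [1,2,4,0,2,5,2,5,3,0,1,3,2,1,3,5,0,5,1,0,2,4,3,2,5,4,5]) (.node WTree.none (.word [4,2,4,2,1,5,1,4,1,3,2,1,2,1,5,1,0,5,0,2,0,5,2,0,1,2,0,2])))) (.node WTree.none (.node (.node WTree.none (.word [5,1,4,2,5,2,3,2,3,1,2,1,2,5,1,2,0,5,1,2,0,5,1,5,1,4,0,2,1])) (.word [5,1,0,2,5,3,1,3,5,2,0,2,3,0,3,0,3,5,1,2,5,0,4,0,5,1,2,4,2,0,2])))) (.node (.node WTree.none (.node WTree.none (.node WTree.none (.word [0,2,0,2,4,0,2,0,3,5,3,4,2,5,3,4,5,3,5,4,1,2,3,5,2,5,2,5,4,5])))) (.node (.node (.node (.node WTree.none (.word [2,5,4,2,4,5,3,2,4,2,4,3,4,2,0,3,2,3,1,2,0,2,3,5,2,3,2,5,0,5,1,4]))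 WTree.none) (.word [5,2,1,0,2,1,5,1,4,1,5,3,4,0,3,2,1,3,1,5,4,0])) (.node WTree.none (.node WTree.none (.word [1,2,1,3,4,2,3,5,2,4,1,5,3,5,4,1,5,3,4,2,0,4,2,5,1,2,0,2,4])))))) (.node (.node (.node (.node WTree.none (.word [3,2,0,5,2,0,4,0,2,5,0,2,5,3,4,5,3,2,4,5,4,5,4,5,1,3,1,5])) (.node WTree.none (.word [5,1,0,5,3,1,3,4,5,0,1,3,2,5,3,4,2,4,5,3,2,5,4]))) (.node (.node (.word [5,2,3,2,0,3,0,2,3,2,5,0,5,1,2,4,3,5,0,2,1,4,3,5,4,1,3]) (.node WTree.none (.word [5,0,2,5,4,5,0,2,5,2,4,5,0,5,4,2,0,2,5,4,3,4,5,2,0,4]))) (.node (.node WTree.none (.word [5,2,1,2,0,5,4,5,0,2,0,2,0,5,4,3,2,3,2,4,2,3,1,2])) (.word [4,5,0,2,1,0,2,5,4,5,4,3,5,1,2,3,0,4,5,1,3,0,3,1,5,4,0])))) (.node (.node (.node (.node WTree.none (.word [5,3,5,1,5,3,0,5,0,5,0,4,0,5,0,3,4,5,3,5,4,2,4,5,1,3,4,3,2,5])) WTree.none) (.node (.node (.word [2,4,5,0,5,3,5,0,5,4,2,5,1,2,0,5,4,5,2,0,5,3,1,3]) (.word [1,3,5,4,5,3,1,0,3,4,5,1,5,2,0,2,5,0,2,0,2,0,1,5,2,4]))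 (.node WTree.none (.word [5,1,0,3,2,3,0,1,5,4,3,5,3,4,1,0,3,5,1,3,5,3,0,3,5])))) (.node (.node WTree.none (.word [4,3,0,3,5,2,1,0,2,4,5,2,0,2,3,0,5,4,1,4,0,4,5,0,2])) WTree.none))))))

/-- A subtree. -/
def wt91 : WTree :=
  (.node (.node (.node (.node (.node (.node WTree.none (.node (.node WTree.none (.word [5,2,4,5,0,3,0,5,4,2,5,3,5,1,4,3,1,5,3,1,3,1,5,2,4,5,2,3])) WTree.none)) (.node (.node (.node WTree.none (.word [1,3,5,4,5,3,1,5,2,5,0,3,4,5,1,5,2,0,3,5,0,4,0,1,3,4,5,3,2,5])) WTree.none) WTree.none)) (.node (.node (.node (.node (.word [4,5,2,1,0,2,1,5,4,5,0,1,4,2,4,5,3,1,5,3,4,1,2,4,3,5,2]) (.word [1,4,3,2,0,2,4,3,0,4,3,1,2,4,1,4,2,0,4,0,5,2,3,0,4,5,3,0,3])) (.word [1,5,3,5,1,4,5,4,5,3,4,2,3,1,2,5,1,0,3,1,4,2,0,2,1,3])) WTree.none) (.node (.node (.node (.node WTree.none (.word [5,2,5,4,5,2,1,2,5,2,4,0,5,1,0,5,0,5,1,5,4,2,5,4,5,4])) WTree.none) (.word [5,0,3,4,2,3,2,4,3,0,5,4,1,2,0,2,5,2,4,0,3,1,2,3]))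 (.node (.word [1,3,5,2,3,4,1,3,5,2,1,2,4,5,1,2,0,4,1,4,5,2,3,5,1,3,1,2,4,0,5]) (.node WTree.none (.word [1,5,1,3,4,2,5,4,2,1,4,3,5,1,2,3,0,3,5,4,5,2,5,0,2])))))) (.node (.node (.node (.node (.word [2,5,4,2,3,4,1,5,0,5,0,3,5,0,2,1,3,1,4,2,1,3,0,1]) (.word [5,2,0,3,2,3,2,0,3,4,3,2,5,3,5,3,1,4,5,1,2,1,4,2,4])) WTree.none) (.node (.node WTree.none (.node WTree.none (.word [5,2,1,5,4,2,4,1,0,4,1,3,5,2,4,1,0,5,2,1,2,0,4,5,0,5,2,1,2]))) (.node (.node WTree.none (.word [1,3,5,4,3,5,3,1,4,3,2,4,5,2,0,3,2,5,4,3,0,3,2,3])) WTree.none))) (.node WTree.none (.node WTree.none (.node (.node (.word [4,3,2,3,0,3,2,0,3,0,2,4,2,0,2,5,3,1,2,3,5,2,5,3,5,3,1,5,1,3,5,1]) (.word [5,0,2,0,2,5,4,3,1,3,1,3,0,5,3,0,5,1,2,0,4,3,0])) (.node (.word [5,2,0,3,1,2,1,3,0,2,5,0,5,2,4,3,0,2,5,1,4,5,1,4]) (.word [1,4,5,4,2,5,2,3,2,3,4,2,4,1,5,3,5,4,2,1,0,3,1,0,3,2,1,4,0,2,0]))))))) (.node (.node (.node (.node WTree.none (.node WTree.none (.word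 [4,0,2,4,1,3,0,5,0,1,2,1,2,4,1,4,1,3,0,5,3,1,4,0,4,3,1,5,0,3]))) (.node (.node (.word [5,1,2,5,1,4,1,3,5,3,5,3,4,2,4,1,3,5,0,2,4,3,4,3,2,3,2,4,0,5,4,2]) (.node (.word [0,2,4,0,5,4,5,0,4,2,0,1,3,1,4,1,2,4,2,3,5,3,5,1,3,2,3,4]) (.word [1,3,5,4,5,3,1,5,4,5,2,0,1,5,0,5,4,2,5,4,2,3,2,1]))) (.node WTree.none (.word [1,3,5,4,2,3,4,1,3,5,2,1,4,5,0,5,4,2,0,5,4,0,3,4,5,2,5,2,3,0])))) (.node WTree.none (.node (.word [1,3,5,4,3,5,3,1,5,3,2,4,2,5,0,5,1,3,0,5,3,5,2,5,0,5,0,1,2,0]) (.node WTree.none (.node WTree.none (.word [3,4,5,3,2,4,2,1,3,4,5,4,5,2,1,4,1,4,5,2,3,0,5,3,1,0,3,0,1,5,0,3,2])))))) (.node (.node (.node (.node WTree.none (.word [2,1,5,0,2,0,2,0,5,1,5,2,5,3,5,0,2,1,2,3,0,5,3,2,1])) (.node (.node WTree.none (.word [3,4,3,5,1,4,2,3,1,4,1,2,5,1,4,5,2,1,0,1,4,1,2,5,0,5])) WTree.none)) (.node (.node WTree.none (.node WTree.none (.word [4,5,2,1,2,0,5,4,5,0,1,5,3,1,3,5,1,2,0,5,0,3,1,4,1,2,0,2,3,5,4,3]))) (.node WTree.none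 (.node WTree.none (.word [2,5,3,2,4,3,1,4,2,1,2,4,5,2,3,4,3,2,4,2,3,2,0,3,0,2,3,2,4]))))) (.node (.node (.node (.word [4,1,2,4,3,2,5,4,2,3,0,5,4,5,1,2,0,1,2,5,4]) (.word [2,5,0,2,5,1,2,3,0,3,4,3,5,1,0,2,0,4,5,4,0,3,0,3,0])) WTree.none) (.node WTree.none (.word [5,0,5,4,5,0,2,5,1,4,2,1,2,1,0,2,4,2,1,2,1,3,0,4])))))) (.node (.node (.node (.node (.node WTree.none (.node (.node (.word [5,1,2,0,2,0,2,1,2,4,1,4,5,2,5,4,2,4,1,5,3,1,2,3]) (.word [5,4,2,1,4,1,2,5,2,3,5,2,5,2])) (.node (.word [1,4,3,0,5,2,0,2,5,0,3,4,1,4,5,0,4,5,3,5,2,1,2,4,0,3,4,1,2]) (.word [3,2,0,5,2,0,4,0,2,5,0,2,4,3,2,4,2,3,2,5,1,2,4,2,5,4])))) (.node (.node (.node (.node (.word [4,2,5,2,5,2,4,5,3,0,3,0,3,1,5,0,5,0,3,4,2,0,5,0]) (.word [5,3,2,4,1,2,5,4,1,3,5,3,2,4,0,5,2,4,0,5,1,3,4,5,2,3,2,5,4,3])) WTree.none) WTree.none) WTree.none)) (.node (.node WTree.none (.word [4,2,1,3,2,4,2,3,2,5,4,5,3,4,0,4,2,0,3,0,3,0,2,4,0,4])) (.node WTree.none (.node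 (.node (.word [5,0,2,0,2,1,5,4,5,0,3,4,3,2,1,5,3,0,5,4,0,2,5,3,2,5,0,5,3,1]) (.word [1,3,5,4,5,3,1,3,2,5,2,4,2,5,4,0,5,1,4,0,2,4,5,0,1])) WTree.none)))) (.node (.node (.node (.node WTree.none (.word [4,5,0,2,1,0,2,5,1,2,0,4,3,1,3,2,4,2,3,4,5,0,2,4,5])) WTree.none) (.node (.node WTree.none (.node (.word [2,1,4,1,2,5,1,4,3,5,4,1,5,2,0,2,0,4,0,2,1,2,0,4,2,4,3,5]) (.word [0,3,5,4,2,1,0,2,1,2,0,2,4,5,3,0]))) (.node (.word [5,0,2,0,5,3,5,3,2,4,1,5,2,3,0,5,0,5,2,1,5,3,2,1,3]) (.node WTree.none (.word [0,3,5,3,5,3,0,5,0,5,2,4,1,4,2,0,5,4,3,2,1,5,3,0,2]))))) (.node (.node WTree.none (.node (.node WTree.none (.word [5,3,5,4,2,3,2,3,4,5,3,1,2,0,5,1,2,0,5,1,5,4,0,2,4,1,4])) WTree.none)) (.node (.node (.node (.word [4,5,4,5,3,4,2,5,1,3,2,5,3,2,0,3,5,3,5,4,2,3,2,5,2,0,4,0,2,5,2,3,0]) (.word [2,3,1,2,3,0,3,0,2,3,2,5,1,5,3,5,1,5,3,2,4,2,0,5,1,3,0,1,3,4])) (.node (.word [4,0,4,0,2,0,3,2,0,2,5,1,3,4,2,1,3,4,3,2,5,2,4,1,2,5,1])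 (.word [5,2,5,3,5,3,2,3,4,3,2,5,2,5,4,1,3,1,4,5,2,0,4,1,0,2,0,2,0,1,4,0]))) WTree.none)))) (.node (.node (.node (.node WTree.none (.node (.node WTree.none (.word [4,2,5,2,5,2,1,3,2,0,5,0,1,4,3,0,3,0,5,4,3,0,4,5,3,2,4,0])) WTree.none)) WTree.none) (.node (.node (.node (.node WTree.none (.word [4,1,5,2,0,4,2,1,3,0,5,4,1,0,4,1,2,0,4,5,1])) (.word [5,1,2,0,2,1,5,4,5,0,4,0,2,5,2,0,5,4,2,1,2,4,2,5,2])) WTree.none) (.node (.node (.node WTree.none (.word [5,2,5,4,5,2,5,4,2,4,1,0,2,5,1,5,3,5,2,4,5,4,0,4,2,4])) WTree.none) (.node (.word [5,0,2,0,5,3,1,5,3,5,4,2,4,3,5,3,4,3,2,1,4,1,5,3]) (.node WTree.none (.word [5,0,2,5,3,1,3,5,0,2,1,5,3,5,3,5,2,5,4,2,3,1,5,3,1])))))) (.node (.node (.node (.node (.node (.node (.word [3,1,5,3,0,4,1,4,0,3,5,1,3,5,2,3,2,1,3,0,4,0,3,1,0,3,0,1,2,3,0,3]) (.word [5,2,1,5,2,4,0,2,5,1,0,2,0,4,1,4,0,1,2,4,5,1,2,0])) WTree.none) WTree.none) (.word [5,2,0,2,1,0,2,0,1,2,0,2,5,4,3,5,4,5,3,2,0,5,0,2,0,5,0,2,4]))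 (.node (.node (.node (.word [1,3,2,1,4,5,2,3,5,1,3,4,5,1,0,3,5,4,0,4,5,4,0,4,3,2,5]) (.word [1,5,3,0,2,4,0,5,0,3,0,3,1,2,3,0,4,5,3,1,5,1,3,5,4,0,3])) WTree.none) (.node (.word [1,5,4,2,3,5,3,2,3,4,2,4,3,1,2,4,0,2,5,1,0,4,2,1,0,2,4,5,0,1]) (.node WTree.none (.word [1,3,5,3,4,3,5,3,1,5,2,0,5,4,2,1,3,5,0,2,3,2,4,0,5,1,2,0]))))) (.node (.node (.node (.node (.node WTree.none (.word [1,3,2,1,4,5,2,3,5,1,3,2,1,2,5,2,5,2,0,5,3,5,4,5,3,5,0,2])) WTree.none) WTree.none) (.node (.node WTree.none (.word [4,1,4,5,2,0,4,1,2,5,0,5,3,5,2,3,0,2,4,3,5,0,2,4,1,5,0])) WTree.none)) (.word [5,3,4,5,1,4,5,4,2,0,4,0,2,0,2,0,4,0,5,3,0,5,3,1,2,0,4,0,2,5,0]))))))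

/-- A subtree. -/
def wt92 : WTree :=
  (.node (.node (.node (.node (.node (.node WTree.none (.node (.word [5,1,4,5,3,5,4,5,1,5,2,1,4,1,4,0,4,5,0,5,4,5,0,5,2]) (.word [2,3,5,1,4,2,1,4,5,1,5,0,2,0,2,1,5,3,1,3,0,5,0,3,4,5,4,5,1,4]))) (.node (.node (.word [2,4,1,5,0,4,1,4,0,1,2,4,2,1,3,5,4,1,5,3,0,3,0,5,1,5,3,5]) (.node (.word [0,3,5,3,5,3,0,4,2,4,5,0,3,5,4,2,5,3,1,3,0,2,3,4,2,3]) (.word [5,4,2,1,0,3,0,1,3,2,4,5,4,5,4,1,5,4,1,3,4,2,5,4,5]))) (.node WTree.none (.node WTree.none (.word [4,5,1,0,3,2,3,2,0,2,4,0,3,5,2,5,2,0,3,5,3,5,1,3,1,5,3,5,4]))))) (.node (.node WTree.none (.node WTree.none (.word [1,5,4,5,3,2,4,0,3,4,2,5,0,2,1,3,4,1,3,2,0,5,0,4,3,2,5,2,3,5]))) (.node WTree.none (.node WTree.none (.word [0,2,4,0,5,4,5,0,4,2,0,5,4,2,3,5,3,2,5,3,2,5,3,1,5,3,5]))))) (.node (.node (.node (.node WTree.none (.node WTree.none (.word [3,1,2,0,2,4,1,3,0,1,5,2,1,2,4,5,2,5,2,4,5,1,2,3,5,3,4]))) WTree.none) (.node WTree.none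 (.node (.node WTree.none (.word [2,3,4,5,3,2,4,5,2,0,2,3,2,3,0,1,3,2,3,4,0,4,5,2,1,5,4,0])) WTree.none))) (.node (.node (.node (.node (.word [1,3,4,1,5,2,5,4,3,5,1,2,0,4,1,4,3,5,1,3,5,3,2,0,5]) (.word [1,4,5,3,5,3,5,1,2,5,4,2,4,5,3,5,0,5,2,0,2,1,4,1,2,0,2,5,0])) WTree.none) (.word [2,4,3,5,2,4,3,1,2,5,4,0,2,3,5,2,0,2,5,0,5,0,2,1])) (.word [2,1,5,0,3,2,0,2,3,0,5,1,4,5,3,1,5,2,1,3,5,3,4,3,5])))) (.node (.node (.node (.node (.word [1,2,4,5,4,2,4,3,2,1,3,4,1,3,4,2,0,3,5,4,2,0,4,2,5,2,5,2,1,4,0,1,4]) (.node WTree.none (.word [4,2,4,1,3,5,0,5,3,5,0,5,4,1,5,2,1,5,2,0,5,2,1,2,5,0,2,3,1]))) (.node WTree.none (.node (.node (.word [5,0,4,1,4,2,1,5,1,0,4,0,2,0,3,4,5,0,4,2,3,2]) (.word [5,4,3,0,3,1,2,5,2,3,4,2,1,2,4,0,1,3,4,5])) WTree.none))) (.node (.node (.node (.node WTree.none (.word [5,3,4,2,5,3,4,2,3,5,3,5,3,4,2,5,4,0,3,0,2,5,0,1,3,0])) WTree.none) (.node WTree.none (.node WTree.none (.word [5,2,0,3,1,2,1,3,0,4,5,0,3,0,3,5,4,2,5]))))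 (.node (.node (.word [4,0,5,1,0,2,1,2,0,5,0,5,4,1,4,5,3,5,2,3,2,3,5,3,4,2]) (.node WTree.none (.word [2,4,1,3,5,3,1,5,2,5,4,1,2,0,4,2,5,0,3,5,0,2,1,4,3,5,0,2,3,1,4]))) (.word [4,0,5,0,2,1,3,1,2,0,5,0,4,5,2,3,2,3,5,1,2,4,2,5,2,5,1,3,4,2])))) (.node (.node (.word [4,0,2,4,1,3,0,5,0,1,2,5,2,5,4,0,5,0,5,0,1,5,0,1,5,0,5]) (.node (.node (.node (.node WTree.none (.word [2,5,3,5,2,4,1,5,2,4,3,5,4,1,0,5,1,3,2,5,0,2,5,1,5,4,1,3,0,1])) WTree.none) WTree.none) WTree.none)) (.node WTree.none (.node (.node WTree.none (.node WTree.none (.word [2,5,4,3,5,1,4,2,0,2,5,1,3,2,5,3,4,0,1,4,2,4]))) (.node WTree.none (.word [2,1,0,4,1,4,0,2,3,5,4,5,3,1,5,0,3,0,5,1,2,5,4,3,4,5,4,0,5,1]))))))) (.node (.node (.node (.node (.node (.node (.node (.node WTree.none (.word [5,3,4,2,5,3,4,2,5,0,4,5,2,4,2,5,4,5,1,0,2,5,1,3,5,0,4,0,4,3])) WTree.none) WTree.none) WTree.none) (.node (.node WTree.none (.node WTree.none (.word [0,2,0,2,4,0,2,0,3,5,3,4,2,5,1,3,1,5,3,5,3,1,3,2,3,2,0,4,1,4,0,2,3,2])))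 WTree.none)) (.node (.node (.node (.node WTree.none (.word [5,1,2,0,2,0,1,2,5,4,1,0,5,0,3,1,4,2,0,3,0,3,2,1,4,5,0,3,4,5,2])) WTree.none) (.node WTree.none (.word [2,4,2,3,5,3,4,3,2,3,4,2,5,0,5,1,2,5,3,5,0,4,0,1,5,3,5,2]))) (.node WTree.none (.node WTree.none (.node WTree.none (.word [5,1,2,4,2,1,4,1,3,2,4,0,3,0,3,0,4,2,0,2,4,2,3,5])))))) (.node (.node (.node (.node (.node (.node WTree.none (.word [5,2,0,3,1,2,1,3,0,2,5,1,5,1,0,5,3,5,4,0,4,0,5,2,0,4,1,5,0,2,1])) WTree.none) WTree.none) (.node WTree.none (.node WTree.none (.word [5,3,2,1,5,3,5,3,2,1,2,5,2,5,0,2,0,5,2,4,1,4])))) (.node (.node WTree.none (.node WTree.none (.word [5,3,4,2,5,3,4,2,3,5,1,5,3,5,2,5,2,3,0,4,3,4,5,4,2,4,0,1]))) WTree.none)) (.node (.node WTree.none (.word [1,5,3,4,5,2,1,4,2,4,5,0,5,4,1,4,1,5,4,5,0,2,4,2,0,3,5,4,5])) (.node (.node (.node WTree.none (.word [4,3,1,3,5,0,2,0,1,0,5,2,4,0,5,1,3,0,3,0,2,0,3,0,3,4])) WTree.none) WTree.none))))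 (.node (.node (.node (.node (.node (.node (.node WTree.none (.word [2,4,5,0,5,3,5,0,5,4,2,1,5,2,5,4,2,4,2,3,5,2,4,5,3,1])) WTree.none) WTree.none) (.word [4,3,5,4,1,3,1,4,5,1,3,1,5,2,0,5,3,0,5,4,0,5,4,5,0,1,2,0,5,4,0,4])) (.node WTree.none (.node WTree.none (.node (.word [4,5,0,3,5,4,1,4,3,5,3,0,5,4,5,3,2,3,0,2,3,0,3,0,3,2,0,2,5]) (.word [2,5,1,4,3,4,5,2,1,2,4,0,3,4,2,3,0,5,2,3,0,5,3,5,4,0]))))) (.node (.node (.node (.node (.node WTree.none (.word [2,1,4,1,5,0,5,4,2,5,0,2,5,0,4,2,0,4,2,0,2,4,0,2,4,0])) (.word [4,5,2,1,2,0,5,4,5,0,1,5,2,4,5,2,3,2,5,4,0,4,0,2,0,1,4,0,3])) WTree.none) WTree.none) (.node (.node (.word [0,2,5,2,0,2,0,2,5,2,5,2,4,3,5,3,5,4,5,2,3,1,5,3,5,4,0]) (.word [1,4,5,3,2,3,5,4,5,0,5,2,3,2,5,3,1,2,0,4,2,3,5,3,4,3,0,2])) WTree.none))) (.node (.node (.node WTree.none (.node WTree.none (.node WTree.none (.word [5,1,2,4,1,4,3,2,3,1,4,0,5,1,3,5,4,0,2,0,2,4,5,1,5,3,0,2,4,3])))) (.node WTree.none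 (.node (.node WTree.none (.word [4,5,1,5,4,5,2,5,4,0,2,4,3,0,2,0,5,3,1,4,3,2,3,5,2,3,0])) WTree.none))) (.node (.node (.node (.node (.node WTree.none (.word [5,2,1,0,2,1,0,2,5,4,3,5,1,4,5,3,2,3,1,4,5,4,2,4,5])) WTree.none) WTree.none) (.node (.node (.word [2,5,1,4,2,4,5,3,5,1,3,1,4,1,0,5,4,2,1,2,5,3,0,2,4,2,3,0,5,1,3,2]) (.word [2,4,0,3,1,3,5,1,5,0,4,2,1,2,0,3,1,0,2,0,1,3,0,2,1])) WTree.none)) (.node WTree.none (.word [3,1,4,2,4,1,5,3,5,3,5,1,0,5,1,4,2,0,5,1,5,0,1,4,0,2,1])))))))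

/-- A subtree. -/
def wt93 : WTree :=
  (.node (.node (.node (.node (.node (.node WTree.none (.node (.node WTree.none (.word [5,4,3,1,5,2,1,4,5,2,3,5,4,1,2,1,5,3,4,3,4,0,2,0,1,4,2,3,5])) (.node WTree.none (.word [5,0,3,4,2,5,4,2,0,4,3,2,1,3,2,0,4,1,0,5,0,4,0,2,3,0,2,3,2])))) (.node (.node WTree.none (.node WTree.none (.word [4,5,2,3,2,3,4,1,4,5,4,3,5,3,0,5,3,5,0,5,3,2,5,0,2,0,5,1,3,0,3,2]))) (.node (.word [1,4,5,0,2,1,2,0,5,4,1,0,5,3,4,2,5,4,3,2,5,2,0,4,5,4,0,3,1]) (.word [5,0,3,5,4,2,4,5,3,0,5,2,4,0,2,5,3,1,3,1,0,2,1,5,0,3,2,3,5,2,0])))) (.node (.node (.node (.word [5,1,2,0,2,0,1,2,5,4,2,4,3,0,3,1,3,5,3,2,5,3,1,4,0,3,4,2]) (.node WTree.none (.word [5,0,2,3,5,4,2,4,5,3,0,5,2,1,4,0,2,3,1,3,4,5,0,3,0,5,1,4,5]))) (.node WTree.none (.node WTree.none (.word [2,4,3,5,0,2,1,4,3,0,2,5,4,2,4,3,1,4,3,2,0,2,1,2,0,5,3,5,3,2])))) (.node (.node (.word [2,5,4,0,2,0,2,0,3,4,5,1,2,3,5,4,5,4,2,4,3,5,3,4,2,3,1,5,4,2]) (.node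 (.word [4,2,1,3,2,4,2,3,5,3,4,1,0,4,3,2,5,2,5,1,5,4,1,2,4,0,4,2]) (.word [2,5,4,0,2,0,2,0,3,4,5,1,2,5,3,4,1,5,2,4,2,1,2,3,2,1,4,5,3,5,3,2]))) (.node (.node WTree.none (.word [2,4,3,5,0,2,1,4,3,0,2,1,4,5,2,5,1,5,0,5,0,5,4,0,2,5,2,0,4,1,4,2])) (.word [5,3,5,3,5,3,0,2,0,4,1,4,5,3,5,2,4,1,5,3,2,5,4,1,5,3,2]))))) (.node (.node (.node (.node (.node (.node (.word [5,3,1,5,3,4,3,5,3,5,1,2,5,1,0,4,1,4,5,1,2,4,0,5,1,5,4,2,1]) (.word [5,4,1,5,2,0,1,5,0,1,5,1,5,4,1,3,5,1,4,2,0,4,1,4,0,2,3,4,1,5])) WTree.none) (.node WTree.none (.word [5,3,4,3,1,2,5,3,5,2,5,2,5,2,4,1,4,0,5,3,0,1,5,2,5,3,5]))) (.node (.word [4,5,3,4,3,2,4,5,3,1,5,1,5,4,5,2,0,5,1,2,0,3,1,5,3,0,5,1,2,1]) (.word [3,2,4,2,1,5,4,1,5,4,3,1,5,1,0,4,0,3,1,0,5,2,5,2,0,2,0,3]))) (.node WTree.none (.word [5,2,3,4,2,0,2,4,2,3,0,2,0,2,5,0,4,2,4,1,2,3,1,5,4,2,3,0]))) (.node (.node (.node (.node (.node (.word [5,1,0,3,2,3,0,1,5,3,5,1,5,3,2,5,4,2,3,5,3,4,5,4,5]) (.word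 [4,3,5,4,5,3,4,5,2,0,2,5,3,0,5,4,5,3,1,4,2,0,5,3])) (.word [5,0,2,3,2,4,2,0,2,4,3,2,1,0,5,0,3,2,4,1,3,5,2,0,3,5,3,1])) (.node WTree.none (.word [2,3,0,3,1,5,2,0,5,2,3,2,5,3,4,0,1,5,2,3,2,4,5,1,3]))) WTree.none) (.node WTree.none (.node WTree.none (.word [2,5,2,5,4,3,4,5,2,5,2,5,0,4,5,3,5,4,5,3,2,1,0,5,0,4,1,3,1])))))) (.node (.node (.node (.node (.node WTree.none (.node WTree.none (.word [5,0,2,1,3,2,3,0,5,2,3,2,1,3,4,3,5,2,4,5]))) (.node (.node WTree.none (.word [5,4,5,1,3,1,5,4,5,1,4,5,2,5,2,1,2,1,0,5,2,5,4,3,5,4,0,5,2,5,0])) (.node WTree.none (.word [5,4,2,3,1,5,3,2,4,1,2,1,2,4,5,2,1,4,3,1,5,0,4,1,4,2,4,3,0,1,4])))) (.node (.node (.node (.word [4,5,1,4,5,3,5,4,2,3,4,2,1,5,0,5,1,0,2,3,2,4,2,1,0,3,0,5,0,2]) (.word [5,1,5,4,5,1,5,1,2,4,5,0,4,3,2,0,5,1,3,1,2,0,2,4,0,2,0])) (.word [0,4,3,2,0,3,0,3,0,2,3,4,0,5,1,2,5,4,0,5,3,5,3,5,3,5,0])) WTree.none)) (.node (.node (.node (.node (.node WTree.none (.word [1,2,4,2,3,4,3,2,5,2,4,3,2,3,1,2,0,5,0,5,2,3,0,4,2,1,5,3,0]))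 WTree.none) (.word [5,0,2,1,3,2,3,0,1,3,2,3,5,2,5,4,2,5,4,3,5,2,4,5,2])) WTree.none) (.word [4,5,3,4,5,4,5,4,3,2,3,1,5,2,1,4,2,4,0,4,2,1,0,5,4,3,5,0,3,2,0,1,5,0,3]))) (.node (.node (.node (.node (.node (.node WTree.none (.word [3,5,1,0,2,5,2,4,0,5,4,2,4,1,3,2,4,3,1,2,5,3,4,5,2,3,4])) WTree.none) (.word [3,4,2,1,4,3,1,5,2,4,1,4,0,4,1,4,5,2,3,5,1,3,1,2,4,0,2,5])) (.node WTree.none (.node WTree.none (.word [5,1,5,4,5,1,2,4,0,4,5,1,5,0,2,0,2,0,4,5,1,3,2,4,5,0,2,0])))) (.node (.node WTree.none (.node WTree.none (.word [5,3,5,1,4,2,4,5,3,5,1,4,1,0,5,3,5,3,1,5,4,2,5,3,4,2,0,4]))) (.node (.node WTree.none (.word [1,4,2,4,5,1,2,4,1,3,1,2,0,5,4,2,5,2,5,2,5,0,1,5])) (.node WTree.none (.word [4,0,4,3,1,2,3,5,0,2,4,5,2,1,2,5,2,4,3,5,1,4,2,4,5,2,3,4,5,4]))))) (.node (.node (.node (.node (.node (.word [2,3,4,5,1,3,4,5,3,2,1,2,1,2,5,1,0,2,5,2,0,3,2,0,2,0,3,1,2,0,2]) (.word [1,2,1,0,4,1,4,0,2,1,2,3,4,3,1,2,4,0,4,2,0,3,0,3,0,2,4,0]))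 WTree.none) (.word [2,3,2,5,2,4,3,5,3,2,4,3,5,4,5,2,1,0,5,0,4,3,2,4,0,2,5,4,3,0,5])) WTree.none) (.word [5,0,2,0,2,1,5,2,4,3,1,4,5,3,5,1,5,4,1,3,5,2]))))) (.node (.node (.node (.node (.node (.word [0,3,5,3,5,3,0,1,3,4,2,1,4,3,5,4,0,5,4,0,2,1,4,5,0,1,2]) (.word [3,1,4,3,5,4,2,5,2,3,4,5,2,3,4,3,2,5,0,5,4,0,2,3,1,2,0,3,4,5])) (.node WTree.none (.word [5,2,1,0,2,0,5,0,4,2,1,3,0,3,1,2,4,2,5,1,2,1,2,0,5,1,2,0,4]))) (.node (.node (.node (.node (.node WTree.none (.word [2,5,3,2,4,2,4,3,2,5,2,5,4,1,4,2,0,5,0,4,2,4,1,2,4,3,4,0,4,5,1])) WTree.none) (.node WTree.none (.word [2,5,1,4,3,4,5,4,3,4,0,5,2,5,0,2,5,0,4,5]))) WTree.none) (.node (.node (.node (.word [5,3,2,4,0,2,1,0,4,3,5,1,4,1,5,4,1,4,5,0,4,3,1,3,0,1,4,5,0,2,1,3]) (.word [5,1,2,1,0,2,1,0,5,4,5,2,5,4,1,5,3,2,3,0,3,2,4,3,0,5,4,2,1])) (.word [1,5,4,2,5,2,3,2,3,5,2,0,5,2,1,2,5,4,5,1,3,1,5,4,0,2,5])) (.node WTree.none (.word [5,0,5,3,1,3,5,0,2,1,2,0,5,2,5,4,5,3,2,0,3,5,4,5,2])))))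 (.node (.node (.node WTree.none (.node WTree.none (.word [2,5,4,1,0,2,0,2,0,1,4,5,4,1,3,1,4,2,0,3,4,2,5,0,5,3,4,5,1]))) (.node (.node WTree.none (.node WTree.none (.word [2,0,4,2,5,3,2,3,0,5,4,5,1,4,1,2,0,5,1]))) (.node WTree.none (.node WTree.none (.word [3,5,2,5,2,1,2,4,2,1,5,4,5,3,4,3,0,3,5,0,5,3,0,3,5,4,2,5,1,4,2,3,2,4]))))) (.node (.node (.node WTree.none (.word [5,0,5,4,3,5,1,5,3,0,5,1,0,5,4,1,5,0,5,0])) (.node WTree.none (.node WTree.none (.word [0,2,0,2,4,0,2,0,3,5,3,4,5,0,5,1,2,4,1,2,4,5,2,5,0,3])))) (.node WTree.none (.node WTree.none (.node (.word [5,3,4,3,1,2,5,3,5,0,5,2,5,2,5,2,3,5,0,2,4,1,3,5,4,5,0,1,3]) (.word [0,5,0,3,2,4,2,4,2,3,0,5,0,3,4,5,2,5,2,4,3,2,4,5,3,5,2,1,2,4,2]))))))) (.node (.node (.node (.node (.node (.node WTree.none (.word [1,4,3,2,0,5,3,4,2,5,0,2,4,1,0,2,3,4,2,0,2,1,2,3])) WTree.none) (.node WTree.none (.node WTree.none (.word [4,5,2,0,5,4,5,0,5,4,5,3,4,2,1,5,3,1,4,1,2]))))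 (.node (.node WTree.none (.word [5,1,2,4,1,2,3,4,2,4,5,4,3,5,2,1,2,0,5,0,2,0,4,0,5,0,5,0,2])) WTree.none)) (.node (.node WTree.none (.node (.node WTree.none (.word [2,4,2,1,5,4,1,3,5,3,1,3,2,4,3,1,0,5,1,2,3,2,0,3,0,4,2,3,1,2])) (.word [5,2,5,2,1,4,3,1,3,1,4,2,0,2,5,1,2,1,2,0,5,1,2,0]))) (.node (.node WTree.none (.word [1,3,2,1,4,3,2,4,2,4,2,1,5,3,1,3,5,2,1,3,0,3,0,3,0,2,0,2,0,2,1])) (.node WTree.none (.word [5,0,5,4,5,0,2,5,4,2,3,4,5,3,2,4,3,0,4,2,5,3,0,3,0,5]))))) (.node (.node (.node (.node (.word [5,4,5,2,4,2,5,4,5,3,4,1,2,4,3,1,0,3,1,2,4,3,2,0,2,1]) (.word [3,1,4,2,4,1,5,3,1,0,5,3,5,0,5,3,0,2,5,1,0,2,1,5,0,5,3,4])) (.node WTree.none (.node WTree.none (.word [5,1,0,3,2,3,0,1,5,4,2,0,2,5,2,1,5,4,0,1,4,1,5,4,0,2])))) (.node (.node (.node (.word [4,5,1,5,4,5,2,0,3,4,1,3,1,2,5,0,4,0,3,1,5,2,0,3,4,3]) (.word [4,5,0,2,0,5,4,3,1,0,3,5,1,2,0,2,4,5,0,3,1,4,5,3,5,2,0,2,4])) WTree.none) WTree.none)) (.node (.node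 (.word [5,0,5,3,4,2,4,3,5,3,2,3,0,2,1,5,4,5,2,5,2,1,2,3,0,3,2,4,1,5,0,4,3,0,5]) (.node WTree.none (.node WTree.none (.word [4,5,1,5,4,5,2,5,2,4,5,2,3,2,0,2,4,5,0,3,0,4,1,4,2,0])))) (.node WTree.none (.node (.node WTree.none (.word [2,3,4,5,2,1,2,3,4,5,4,3,2,5,0,5,0,2,1,4,2,3,5,1,3,2,0])) (.node (.word [4,5,2,1,0,2,3,0,3,0,3,5,0,3,2,1,5,1,0,2,1,4,2,0,1]) (.word [3,0,4,5,1,2,3,0,4,5,0,1,4,5,3,5,3,4,1,5,3,5,0,2,4,3,5,0,5,0,4,3,1])))))))))

/-- A subtree. -/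
def wt94 : WTree :=
  (.node (.node (.node (.node (.node (.node (.node (.word [1,5,3,5,3,1,2,4,5,3,5,2,3,4,1,4,5,0,3,2,3,5,1,2,4,5,3,0,4,3,2,3,4]) (.node (.word [5,3,2,3,0,3,2,3,0,3,2,3,5,4,3,5,2,3,4,1,5,3,2,4,3,5,4,5]) (.word [1,5,1,3,4,2,5,4,0,5,3,1,5,0,4,1,3,0,5,1,4,0,5,1,0,2,5,4,5]))) (.node (.node WTree.none (.word [5,2,1,0,4,5,2,0,1,5,0,2,4,0,1,2,5,4,1,0,3,2,1,4,0,3,0,2,4,2,0,1])) WTree.none)) (.node (.node (.node (.node WTree.none (.word [3,2,0,4,5,3,0,3,5,4,0,2,5,1,2,3,2,0,1,2,1,4,3,0,5])) WTree.none) (.word [2,5,1,4,3,4,5,2,3,2,4,1,3,2,1,4,2,0,5,0,2,5,4,0,4,1,2])) (.node (.node WTree.none (.word [5,1,4,3,5,1,2,5,1,5,3,5,0,5,1,3,5,2,5,4,5,3,4,0,5])) WTree.none))) (.node (.node (.node (.node (.node WTree.none (.word [0,5,3,4,2,5,4,3,2,5,2,0,4,5,4,0,3,1,5,1,4,2,5,2,3,2,3,1])) WTree.none) WTree.none) (.node WTree.none (.node WTree.none (.word [0,3,4,5,3,2,1,3,5,1,4,3,0])))) (.node WTree.none (.node (.node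 (.word [5,1,0,2,0,5,3,1,3,4,5,1,0,5,4,5,0,1,2,1,5]) (.word [2,3,4,1,2,5,2,5,3,4,2,3,5,1,2,0,2,1,3,1,2,1,3,0,5,3])) WTree.none)))) (.node (.node (.word [4,5,1,4,2,3,5,3,5,1,2,5,4,1,4,2,1,3,0,2,3,0,4,2,0,3,4,1]) (.node WTree.none (.node WTree.none (.word [3,1,2,0,2,4,1,3,0,1,5,2,1,2,4,5,1,3,4,3,5,1,0,4,5,3,2,4,2,5,4,0,2])))) (.node (.node (.word [4,2,4,2,1,5,1,4,1,3,2,3,4,3,5,4,2,3,0,3,2,3,1,5,3,4,3,0,4,1]) (.node (.node WTree.none (.word [4,2,5,4,2,4,5,3,2,1,3,5,1,0,5,2,4,5,0,3,5,3,4,2])) (.node WTree.none (.word [4,3,5,1,3,1,4,5,1,3,5,1,2,0,5,4,3,1,3,5,0,2,5,4])))) (.node (.node (.node WTree.none (.word [4,5,2,1,2,0,5,4,5,0,2,1,0,2,4,0,5,4,0,4,3,5,0,4,5])) WTree.none) WTree.none)))) (.node (.node (.node (.node (.node WTree.none (.node WTree.none (.word [4,2,5,4,3,4,5,2,4,0,4,5,2,1,5,4,0,1,5,2,1,2,0,4,2]))) (.node (.node WTree.none (.word [4,1,4,0,3,4,1,2,1,0,2,5,4,5,4,5,3,5,3,5,3,4,2,3,5,4,1,3,2])) WTree.none))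 (.node (.node (.node (.word [2,5,4,0,3,4,2,5,0,4,5,4,1,5,2,4,3,5,0,3,0,4,2,4,2,1]) (.word [5,3,4,1,0,2,0,4,2,3,2,4,0,2,5,2,0,4,5,3,1,5,3,4,1,2])) WTree.none) (.word [4,2,4,3,2,1,3,4,2,3,5,2,5,0,2,1,4,3,0,1,4,0,2,5,2,5,3,0,4,2,1,5]))) (.node (.node (.word [2,5,1,2,5,2,4,5,2,5,4,2,4,1,3,1,4,2,0,2,1,3,0,4,0,3,1,2,0]) (.node (.node WTree.none (.word [5,4,1,5,3,1,4,2,5,2,3,0,3,2,5,3,5,3,5,1,2,3,5,4,1,2,4,0,5])) (.word [4,2,5,2,5,2,4,1,5,4,5,2,4,0,2,3,1,3,5,0,5,1,2,0]))) (.node (.node WTree.none (.word [5,0,5,4,5,1,0,5,2,5,2,5,2,1,5,2,0,3,1,4,2,0,2,4,3,0,4,3,2,4,2])) (.node WTree.none (.node WTree.none (.word [5,0,5,4,5,0,2,5,2,5,2,3,4,3,5,2,4])))))) (.node (.node (.node (.node (.node (.node WTree.none (.word [5,0,2,1,3,2,3,0,1,5,4,3,5,3,5,1,3,1,2,4,5,2,4,1,3,5])) WTree.none) WTree.none) (.node (.node (.word [5,0,2,1,2,0,2,5,4,5,2,1,3,2,0,3,0,3,5,0,2,1,4,1,3,0,5,1,5,0]) (.word [1,2,3,2,5,4,3,4,5,1,3,4,2,1,2,4,0,5,1,3,2,3,4,0,5,4,1,2,1]))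 WTree.none)) (.node (.node WTree.none (.word [5,2,1,2,1,0,2,0,2,0,5,1,4,1,0,5,2,1,2,3,4,1,2,0,4])) WTree.none)) (.node (.word [5,0,2,5,4,5,0,2,5,2,4,1,5,4,2,1,3,2,5,2,3,4]) (.node (.node (.node WTree.none (.word [5,2,4,3,2,1,2,3,4,3,2,3,2,0,3,2,3,1,3,5,1,5,3,2,0,5])) WTree.none) WTree.none))))) (.node (.node (.node (.node (.node WTree.none (.node (.node WTree.none (.word [2,5,2,3,4,2,4,2,3,5,2,1,4,5,0,4,1,2,3,4,0,3,0,5,4,0,4,5,2,0])) WTree.none)) (.node (.node WTree.none (.word [5,0,5,4,5,0,2,5,4,1,4,5,1,5,1,3,5,2,3,4,3,5,4])) (.node (.node WTree.none (.word [5,2,3,4,3,2,3,5,3,5,0,2,0,5,2,5,0,2,3,5,3,2,0,1,5,2])) (.word [4,2,1,3,2,4,2,3,2,3,2,1,4,0,2,3,1,3,5,0,5,4,3,0,3,2,4,5,4,5,3,0])))) (.node (.node (.node WTree.none (.word [1,0,5,3,2,3,4,5,2,4,3,2,3,4,1,2,1,4,3,2,3,0])) (.node (.word [5,4,5,2,4,2,5,4,3,2,3,5,4,5,3,2,3,5]) (.node WTree.none (.word [5,0,5,4,5,0,2,5,2,3,2,5,2,1,3,1,2,4,5,4])))) (.node (.node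 (.node (.node WTree.none (.word [5,0,2,0,1,3,4,2,0,5,4,2,5,3,2,3,1,5,1,0,3,0,4,0,1,2,0])) (.word [4,2,4,1,5,2,4,3,5,1,4,1,2,4,0,5,2,4,5,0,4,3,1,2,3,1])) (.node (.word [3,4,1,5,1,4,2,5,2,4,2,5,3,5,4,1,3,0,3,4,2,3,1,3,0,5,2,5]) (.word [5,4,2,3,1,4,1,2,4,2,1,2,0,4,1,4,5,1,3,5,2,3,4,1,3,2,0,5]))) WTree.none))) (.node (.node (.node (.node (.node (.node WTree.none (.word [1,5,1,3,4,2,5,4,2,1,3,2,5,1,3,4,0,5,3,5,2,0,3,5,2,0,2,4,2])) WTree.none) (.word [0,3,2,0,3,2,1,2,3,4,0,4,2,3,0,5,3,1,2,3,0,4,2,1,5,2,0,3,1,4,2])) (.node (.node WTree.none (.word [0,2,1,2,5,3,4,1,2,5,4,2,0,5,0,2,3,2,5,0,1,5,0,1,5,0,5,4,2])) WTree.none)) (.node (.word [1,4,5,0,2,1,2,0,5,4,5,1,2,5,1,3,0,3,1,5,0,2,0,5,1]) (.node (.word [5,2,4,5,0,3,0,5,4,2,5,0,2,4,1,3,0,5,0,3,5,2,4,5,2,1,3]) (.node WTree.none (.word [1,4,1,5,0,2,0,3,2,3,1,5,3,2,4,5,1,3,4,1,5,2,1,4,5,4,5,4]))))) (.node (.node (.word [0,5,2,0,2,3,2,0,1,3,5,1,3,2,3,0,5,4,2,0,5,0,4,0,5,0,3,5])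 (.word [5,0,2,1,0,5,4,5,1,5,3,1,5,4,5,3,1,5,3,2,3,1,5,4,1])) (.node (.node WTree.none (.node WTree.none (.word [3,0,2,1,2,0,4,3,2,1,5,2,1,5,4,1,5,3,4,0,2,0,4,2,3,5]))) (.node WTree.none (.word [3,2,5,4,2,4,5,3,1,2,4,1,5,3,5,1,0,5,1,2,4,5,3,1,3,0,5,4,2])))))) (.node (.node (.node (.node (.node (.node (.node WTree.none (.word [1,4,5,4,2,5,2,3,2,3,4,2,4,0,2,5,4,1,0,5,1,0,2,4,2,5,1,3,5])) (.word [5,2,5,2,4,0,2,5,0,5,0,1,5,0,5,3,1,3,0,5,1,3,5,2,3,4,3,0,3,4,2])) (.node WTree.none (.word [2,1,4,1,5,3,0,2,4,3,0,2,5,3,2,5,1,3,4,5,3,5,3,1,5,3,5,2,5]))) (.node (.node WTree.none (.word [5,2,0,3,1,2,1,3,0,2,5,2,4,0,4,1,4,5,1,0,3,5,4,3,0,1,3,4,5,3,0])) (.node (.word [5,3,5,2,4,1,5,4,5,3,5,3,5,3,4,2,4,1,0,5,4,1,0,4,2,4,5,0,3,1,2,1]) (.word [5,0,2,1,2,0,5,3,1,3,4,2,4,0,2,5,1,0,4,2,0,4,1,5,4,1,4,0,3,1])))) (.node (.node (.node (.node WTree.none (.word [5,1,3,2,3,0,2,0,5,1,4,1,3,1,2,4,5,2,0,4,1,4,0,3,4,5,3])) (.word [1,4,5,3,4,2,5,2,5,4,3,5,1,4,1,4,2,4,0,3,2,3,0,4,2,4]))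 WTree.none) WTree.none)) (.node (.node WTree.none (.node (.node (.word [3,0,4,0,5,2,0,4,0,4,1,3,5,1,0,5,2,4,5,0,3,5,3,4,2]) (.word [5,4,2,1,0,3,0,1,3,2,4,5,4,3,5,3,5,1,3,0,2,1,2,5,0,1,2,4,3])) WTree.none)) WTree.none)) (.node (.node (.node (.node (.node (.node WTree.none (.word [2,1,4,3,5,3,1,5,3,1,4,2,5,1,0,5,2,4,5,0,3,2,4,3,5])) WTree.none) (.node WTree.none (.word [3,5,2,4,3,2,4,5,3,1,2,4,5,3,1,3,5,4,1,3,4,1,0,5,0,2,1,3,4,1]))) WTree.none) (.node (.node (.node WTree.none (.word [5,1,2,3,5,3,5,3,2,1,5,4,5,3,2,3,0,2,5,0,5,0,3,2,1,5,3,5,4])) (.word [2,4,3,5,0,2,1,4,3,0,4,1,4,5,0,3,1,5,3,5,1,3,0])) (.node WTree.none (.node WTree.none (.word [1,3,4,1,5,3,2,5,4,2,4,3,2,1,0,5,1,3,5,0,4,0,5,1,2,3,5,2,1]))))) (.node (.node (.node (.node (.node WTree.none (.word [5,3,5,4,1,3,5,3,5,1,2,4,1,2,1,2,1,0,4,0,2,3,5,4,0,5,3,2,3])) WTree.none) WTree.none) (.node WTree.none (.node WTree.none (.word [0,2,3,1,4,5,2,0,2,0,5,3,1,3,4,5,2,1,5,4,0,3,0,3,1,5,0,2,4,2]))))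 (.node (.node (.node WTree.none (.word [0,5,2,0,2,3,2,0,2,5,3,4,2,5,3,4,2,0,3,2,4,2,5,2,1,5,2,3,4])) WTree.none) WTree.none))))))

/-- A subtree. -/
def wt95 : WTree :=
  (.node (.node (.node (.node (.node (.node WTree.none (.node (.node WTree.none (.word [4,2,4,3,4,1,2,4,5,0,4,1,3,5,1,2,3,1,2,4,2,1,5,4,2,3,0,5])) (.node WTree.none (.word [2,1,5,4,2,5,4,5,2,4,5,1,2])))) (.word [4,5,0,4,1,3,1,5,2,3,5,0,2,5,4,3,2,5,3,4,5,3,5,1,3,5,1,3,1,4])) (.node (.node (.node (.node (.node WTree.none (.word [5,3,2,4,0,2,1,0,4,3,5,1,4,1,4,1,5,2,1,5,4,0,5,0,4,1,4,5,1,5,0,4])) WTree.none) (.node WTree.none (.word [2,3,2,4,2,1,3,2,5,2,3,4,3,2,5,2,4,0,5,2,4,1,2,0,1,2,0,5,4,3,5]))) (.node WTree.none (.word [5,2,0,3,5,3,5,3,4,1,5,2,3,4,5,0,5,2,3,0,5,4,1,5,3,0]))) (.node (.node WTree.none (.node WTree.none (.word [5,0,2,5,4,5,0,2,5,4,5,1,0,5,0,5,0,5,1,4,5,2,5,4,0,5]))) (.node (.node (.word [1,4,5,4,2,4,3,5,2,3,2,3,4]) (.word [4,5,0,2,1,0,2,0,5,1,4,5,0,4,2,3,5,0,3,2,3,2,0,1,5,1,3]))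 WTree.none)))) (.node (.node (.node (.word [1,3,5,2,1,5,4,1,3,0,2,1,2,0,1,4,0,5,2,0,2,0,5,1,5,2,0,3,0,1]) (.word [5,0,5,3,5,3,1,5,3,5,0,4,2,4,5,3,2,0,5,0,3,2,1,3,5,3,5])) (.node (.node (.node (.node WTree.none (.word [3,2,4,5,1,2,5,3,0,2,4,5,1,0,5,2,0,3,5,4,2,0,3,0])) WTree.none) WTree.none) (.node WTree.none (.word [1,3,2,4,0,2,1,5,1,0,4,0,3,4,5,0,3,1,2,0,5,2,3,0,2,5,3,4,0])))) (.node (.node (.node (.node WTree.none (.word [3,4,5,3,5,2,5,3,5,4,3,5,3,5,2,3,0,5,0,2,5,0,4,1,4,0,4,2,5,2,1])) WTree.none) WTree.none) (.node WTree.none (.node (.word [5,3,2,4,2,0,2,4,0,3,0,3,0,5,4,1,5,2,5,0,5,3,1,3,5,0,2,4,3,1]) (.node WTree.none (.word [1,3,2,4,3,5,4,3,5,4,2,1,3,0,2,1,2,0,3,1,0,5,0,1,5,0,5,2,5,1]))))))) (.node (.node (.node (.node (.node WTree.none (.node WTree.none (.word [1,5,1,2,4,1,4,5,1,3,1,3,0,5,1,5,2,1,5,0,5,2,5,0]))) WTree.none) (.node (.node (.node WTree.none (.word [4,0,5,1,0,2,1,2,0,5,0,5,2,1,4,1,4,5,0,3,2,0,3,1,3,1,2,1,3,0]))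 WTree.none) (.node WTree.none (.node WTree.none (.word [5,2,5,3,5,2,1,3,4,3,5,2,1,2,4,5,2,5,2,0,5,0,5,1,4,0,5,0,1,3,5]))))) (.node (.node (.node WTree.none (.word [2,5,3,2,5,4,1,5,3,4,3,4,2,5,2,5,2,4,1,4,0,3,4,2,5,4,2,5,0,5])) (.word [4,3,1,3,5,2,0,2,0,1,2,4,2,3,5,3,2,3,2,1,5,3,4,2,5,4])) (.node WTree.none (.node WTree.none (.node WTree.none (.word [4,0,3,1,0,2,0,5,3,1,5,0,4,3,5,1,2,1,5,1,3,2,5,2,4,2,5,2,4,3])))))) (.node (.node (.node (.node WTree.none (.node WTree.none (.word [4,5,1,4,5,0,3,0,5,4,2,1,5,1,4,1,5,3,1,4,5,2,3,1,4,1,2]))) (.node (.node WTree.none (.word [4,2,4,5,2,1,4,3,5,3,5,1,4,3,1,5,3,1,2,0,3,2,0,5,4,0,3,5])) (.word [5,0,2,1,3,2,3,0,1,5,3,5,4,5,3,0,5,1,2,5,3,0,4,2,1,2,0]))) (.node (.node (.word [3,1,5,4,1,3,1,5,3,4,2,5,3,5,2,5,3,5,3,2,1,0,2,4,1,2,3,0,3,5]) (.node WTree.none (.word [4,5,2,3,2,4,3,2,5,3,5,3,2,3,5,3,1,4,2,3,0,4,3,1,2,3,5,0,3,5,1]))) (.word [1,4,2,3,5,1,3,2,4,2,5,4,5,2,0,5,4,2,0,5,3,1,2,4,1,5,3,0,5,2])))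 (.node (.node (.node (.node (.word [1,3,4,1,5,3,2,5,4,2,4,3,2,0,2,5,0,2,5,4,5,4,5,4,1,3,0,1]) (.word [0,2,4,0,5,4,5,0,4,2,0,2,3,5,4,2,4,0,5,0,5,0,5,1,5,2,5,4,0,5,4])) (.node WTree.none (.word [5,4,2,4,3,5,2,3,2,3,4,0,3,0,4,0,1,2,0,3,5,2,5,3,5,4,1,3,5]))) WTree.none) (.node (.node (.node (.word [5,0,2,0,2,1,5,4,2,3,4,0,2,1,2,0,3,4,5,2,1,0,2,0,2,1,5]) (.word [5,4,3,1,5,2,1,4,5,2,3,5,4,0,2,1,4,2,3,2,0,3,5,4,2,1,2,4,0,1,4,1,2])) (.node WTree.none (.word [5,0,3,4,2,3,2,4,3,0,5,4,5,4,1,3,1,5,2,3,5,3,4,0,2,0,4,3,1,5]))) WTree.none))))) (.node (.node (.node (.node WTree.none (.node (.node WTree.none (.word [4,5,0,2,1,0,2,0,3,0,5,2,4,0,3,5,2,4,5,0,1,2,4,3,2,5])) (.node (.node WTree.none (.word [4,5,1,5,4,5,2,5,1,5,3,5,3,2,4,5,4,5,0,5,1,2,0,3,2,0,3,0,2])) (.node (.word [4,5,1,2,0,2,0,5,2,1,2,3,5,4,5,3,2,3,2,1,5,2,4,1,4,5,3,2]) (.word [1,3,1,5,2,4,5,2,5,3,1,5,3,0,2,4,5,2,0,3,4,2,3,2,1,0,3,2,0,3,4,0,1]))))) (.node WTree.none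 (.node WTree.none (.node WTree.none (.node WTree.none (.word [5,3,5,3,5,3,0,2,3,2,3,5,1,0,3,0,2,0,4,5,2,0,3,5,0])))))) (.node (.node (.node (.node (.node WTree.none (.word [1,5,2,0,3,2,3,1,4,0,3,4,2,0,1,5,2,1,5,4,1,2,3,5,2,3,4,5,4,2])) (.word [3,0,3,5,0,5,3,0,2,5,2,4,5,3,2,3,2,4,3,2,0,5,1,3,5,0,2,4,1,4])) (.node (.word [5,0,2,5,3,1,3,5,0,2,1,3,5,4,1,3,0,4,0,5,3,0,5,2,3,0,4,1,3,2,5,3,0]) (.node (.word [5,3,1,5,3,4,3,5,3,5,4,3,0,3,2,1,3,4,0,2,4,3,2,4,5,3,4,3,0]) (.word [2,0,5,1,5,0,3,1,3,0,2,3,5,3,5,4,2,1,4,3,1,0,5,1,2,0,3,2,0,3,0,2])))) (.node (.node (.node (.node WTree.none (.word [2,5,4,2,4,5,3,2,4,2,0,3,5,2,0,1,3,0,2,4,2,0,3,2,5,0,3])) WTree.none) WTree.none) (.node (.node WTree.none (.word [1,2,3,5,4,3,1,5,3,4,3,4,2,1,5,0,3,2,1,2,4,2,0,5,1,0,2,3,5,1,4,5])) (.word [3,4,0,4,5,0,3,2,5,0,2,4,0,4,1,0,3,1,3,5,0,5,4,2,1,2,4,0,3,5,4,3])))) (.node (.node (.node WTree.none (.word [5,1,4,2,4,5,3,1,5,2,5,3,1,2,4,2,3,2,4,0,4,5,1,3,0,4,0,3,5]))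 WTree.none) (.node (.node WTree.none (.node WTree.none (.word [5,4,2,3,5,1,3,2,5,3,4,2,5,1,4,2,1,5,4,0,2,1,5,2,0,3,1,2,3]))) WTree.none)))) (.node (.node (.node (.node WTree.none (.node WTree.none (.word [5,2,1,2,1,0,2,0,2,1,5,2,1,4,3,4,2,5,4,0,3,4,2,0,2,4,3,5,0,3,0]))) (.node (.node (.node WTree.none (.word [1,5,0,5,1,0,3,0,1,5,4,1,2,4,2,4,3,1,4,2,1,2,4,2,5,4,3,1,2,5,4])) WTree.none) (.word [1,4,3,1,5,3,5,3,1,5,2,3,5,4,3,0,4,0,5,4,5,0,4,5,1,2,5,4,0,5,2,3]))) (.node WTree.none (.node (.node WTree.none (.node WTree.none (.word [2,4,3,5,0,2,1,4,3,0,2,3,5,1,2,3,0,5,3,0,2,3,0,4,5,0,5,0,5,3]))) (.node (.node WTree.none (.word [2,4,5,2,1,3,1,2,4,1,5,1,3,1,4,5,0,3,4,1,2,1,5,4,1,5,2,0,5,0])) (.word [4,5,0,2,0,5,4,5,1,3,2,4,0,2,0,4,2,3,1,5]))))) (.node (.node (.node (.node (.node (.node WTree.none (.word [5,0,2,5,3,1,3,5,0,2,1,5,4,1,5,4,5,2,3,2,5,2,3,5,4])) (.word [1,4,5,3,2,3,5,4,1,0,3,1,3,5,0,2,3,2,0,5,3,4,1,4,1,5,0,2,4,1]))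 WTree.none) (.node WTree.none (.word [5,4,5,1,2,3,2,5,3,2,4,1,4,0,3,1,3,5,2,0,4,5,1,3,1,5,0,2]))) (.node WTree.none (.word [3,0,3,2,3,0,4,0,3,2,3,0,4,0,5,3,1,3,2,5,4,3,4,5,2,5,0,4,3]))) (.node (.node (.node WTree.none (.word [4,5,1,2,3,4,2,3,0,2,4,3,5,2,3,5,2,1,2,3,2,4,0,3,5,3,5,3,5,4])) (.node (.node WTree.none (.word [5,2,0,3,1,2,1,3,0,2,3,2,3,2,1,5,3,5,0,3,5,4,1,4,1,2,5,2,0,3])) WTree.none)) (.node WTree.none (.node WTree.none (.node WTree.none (.word [3,4,5,3,2,4,1,2,5,4,5,2,5,3,2,4,5,3,1,0,5,2,0,5,1,4,3,0,3,4])))))))))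

/-- A subtree. -/
def wt96 : WTree :=
  (.node (.node (.node (.node (.node (.node (.node (.node (.node (.word [1,2,1,4,3,4,2,4,1,2,1,4,0,5,1,0,4,0,5,2,0,5,0,1,3,5,0,4]) (.word [5,3,2,3,0,3,2,3,0,3,2,3,5,2,4,2,3,4,2,3,2,3,5,3,2,4,5,3,1,3])) WTree.none) WTree.none) WTree.none) (.node (.node (.node (.node (.word [2,1,2,5,0,5,4,5,1,3,2,3,0,5,2,1,2,4,2,5,4,5,4,3,5,4,5,2,3]) (.word [0,2,5,2,0,2,0,2,5,2,0,2,1,4,3,0,2,1,5,1,2,0,3,1,2,3,2,4,0,4,5])) (.word [2,1,4,0,2,0,3,0,2,0,1,0,2,3,1,3,5,1,0,5,3,5,0,5,1,5,2,0,2,0])) WTree.none) WTree.none)) (.node WTree.none (.node (.node WTree.none (.node WTree.none (.word [0,5,0,5,2,5,3,1,2,3,2,4,3,4,5,2,5,2,0,5,3,5,3,1,5,3,0,4]))) (.node (.node WTree.none (.word [5,2,5,4,5,2,5,0,5,2,4,3,5,0,5,2,1,5,4,2,0,2,5,2,0,4,5])) WTree.none)))) (.node (.node WTree.none (.node (.node (.node (.node (.word [5,1,0,3,2,3,0,1,5,3,5,3,4,3,5,3,2,0,5,1,2,0,2,4,1,4,5,0,2]) (.word [2,5,2,0,2,5,1,2,3,0,1,3,5,2,0,5,2,1,0,2,4,5,1,2,0,2,0,5,4,2,0,2]))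 WTree.none) (.node WTree.none (.word [4,5,0,2,0,2,0,5,4,5,0,5,4,5,3,2,3,2,0,2,0,1,2,1,2,5,2,4,5,3,5,4,2]))) (.node (.node WTree.none (.word [5,1,0,5,3,1,3,4,5,0,1,2,5,1,3,5,2,3,4,3,5,4,1])) WTree.none))) (.node WTree.none (.node (.node (.node WTree.none (.word [2,4,5,1,5,3,4,5,2,5,4,1,3,1,4,0,5,2,0,2,4,5,3,0,2,4])) (.word [1,3,5,3,4,5,3,1,2,4,1,0,5,1,3,5,0,4,0,1,3,4,3,5,3,5])) WTree.none)))) (.node (.node (.node (.node (.node WTree.none (.word [1,4,5,2,0,3,4,2,5,0,1,3,2,3,0,4,1,4,2,0,5,0,4,5,1,0,2,0,2,5,4,0,4])) (.node (.node (.word [1,2,1,4,3,4,2,1,5,3,4,2,0,2,1,4,3,0,2,5]) (.word [1,4,3,2,0,2,4,3,0,4,3,2,5,3,0,4,0,3,5,2,1,3,5,0,5,4,1,4,5,4,0,2,4])) (.node WTree.none (.word [5,3,4,1,0,2,0,4,2,3,2,5,3,1,4,2,4,3,0,4,1,0,2,3,0,2,4,5,4,0])))) (.node (.node (.node WTree.none (.word [1,3,5,3,4,5,3,1,3,5,2,3,2,0,5,4,5,0,4,5,4,0,2,0,4,2,1])) WTree.none) WTree.none)) (.node WTree.none (.node (.node WTree.none (.node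 (.word [4,5,2,0,5,4,5,0,3,4,2,1,0,3,0,1,5,3,4,2]) (.word [4,2,5,2,4,3,4,5,2,4,5,3,2,1,3,0,4,2,0,5,3,2,0,3,5,3,2,0,3]))) WTree.none))) (.node (.node WTree.none (.node WTree.none (.node WTree.none (.node WTree.none (.word [5,0,4,1,4,0,2,4,5,3,5,4,5,4,5,0,5,1,5,3,1,2,3,0,5,4]))))) (.node (.node (.node WTree.none (.node (.word [4,2,5,2,4,3,4,5,2,4,1,4,2,4,0,4,1,2,1,3,0,4,5,0,1,5,2,3,0]) (.word [3,1,3,5,1,0,5,4,5,2,0,1,5,2,4,5,0,5,1,4,2,5,3,5,3,5,3,2,0,2,5]))) WTree.none) (.node (.word [5,4,2,3,1,4,1,2,4,2,1,5,2,4,1,0,5,4,1,0,5,0,2,1,5,4,0,2,0,2,5,4]) (.word [1,3,2,4,3,1,2,5,2,4,1,3,1,0,5,1,4,1,3,5,0,4,0,5,3,1,5,2,1,4])))))) (.node (.node (.node (.node (.node (.node (.node (.node WTree.none (.word [1,2,1,4,3,4,2,1,2,1,2,5,2,0,2,5,1,2,4,3,0,1,4,2,4,1])) WTree.none) WTree.none) WTree.none) (.node (.node (.node WTree.none (.word [4,3,5,4,5,3,4,1,2,4,3,0,3,0,3,0,4,1,2,1])) WTree.none) (.word [4,5,0,2,0,2,0,5,4,5,0,5,1,0,2,1,3,5,4,2,4,5,3,2,0])))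 (.node (.node (.node (.node (.node WTree.none (.word [2,1,4,1,2,5,1,4,3,5,4,5,4,1,4,0,3,0,4,1,4,5,1])) WTree.none) WTree.none) (.node WTree.none (.word [3,2,5,2,4,5,4,1,5,1,3,5,3,5,1,5,1,4,1,0,5,0,1,2,5,1,4,5]))) (.node (.node WTree.none (.node WTree.none (.word [2,4,3,5,4,2,3,2,3,4,2,1,2,5,0,3,2,5,2,1,3,0,3,4,5]))) (.node WTree.none (.node (.word [5,2,4,5,3,5,4,2,5,4,5,0,2,0,1,5,2,1,3,5,3,5,4,1,2,3,2]) (.word [5,2,5,3,5,3,2,3,4,3,2,5,4,5,0,5,3,4,2,4,3,5,0,5,4])))))) (.node (.node (.node (.node (.node WTree.none (.word [2,4,3,2,5,4,3,5,4,1,4,5,2,0,2,0,5,3,4,1,2,1,3,2,4,3])) WTree.none) (.node WTree.none (.node WTree.none (.word [3,2,4,2,3,2,4,2,3,1,0,5,0,3,1,4,3,4,0,3,4,0,5,0,1])))) (.node WTree.none (.node WTree.none (.word [1,0,2,5,0,2,0,5,2,0,1,2,5,2,1,5,2,0,5,4,5,3,2,0,2,4,0,3,0])))) (.node (.node WTree.none (.node (.node (.word [5,2,1,2,0,5,4,5,0,4,0,2,5,2,0,4,2,5,4,3,1,5,1]) (.word [5,0,2,0,5,3,2,4,5,2,5,1,3,2,4,5,3,2,4,3,2,1,5]))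 WTree.none)) (.node (.node (.node (.node WTree.none (.word [1,2,1,4,3,4,2,1,3,5,4,0,2,5,2,0,4,5,4,3,5,2,1])) WTree.none) (.node WTree.none (.word [4,5,1,0,3,2,3,2,0,2,5,3,4,1,2,4,3,1,5,4,3,2,4,5,3,1,2,4,3]))) (.node (.word [2,4,3,5,3,1,0,5,4,2,5,2,5,3,2,1,4,3,5,4,2,3,0,5]) (.node WTree.none (.word [3,1,4,3,2,3,4,5,3,5,3,5,0,5,1,4,2,1,2,1,5,3,0,5,3,1,5,3,0,3,5,3]))))))) (.node (.node (.node (.node (.node (.node (.node (.word [5,2,5,4,5,2,3,2,3,5,2,4,5,4,2,4,3,2,3,4,5]) (.word [4,5,1,0,3,1,2,1,3,0,2,5,3,5,3,4,3,5,2,1,4,2,5,1,2,5,2,1,3])) WTree.none) WTree.none) (.node (.node WTree.none (.word [2,5,2,4,2,3,2,5,3,2,3,5,1,5,1,5,2,1,5,0,3,1,3,0,5,0,2,1,3])) WTree.none)) (.node (.node WTree.none (.word [2,5,1,4,3,4,5,2,4,5,1,2,0,2,0,5,2,3,5,3,2,3,2,5,1,2,1,4,2,3])) (.node (.node WTree.none (.word [5,4,3,1,2,1,2,5,4,5,2,5,3,5,0,5,2,5,3,0,4,0,2,4,1,2,3])) WTree.none))) (.node (.node WTree.none (.node (.node WTree.none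 (.word [5,2,1,5,4,0,3,4,2,0,3,1,3,0,1,0,2,5,3,0,1,3,1,5,4,3,0])) WTree.none)) (.node (.node (.node (.node WTree.none (.word [4,5,2,1,0,2,0,2,1,5,4,2,3,5,4,2,4,5,1,2,3,5,3,1,4,5,3,2])) WTree.none) WTree.none) WTree.none))) (.node (.node (.node (.node (.node (.node WTree.none (.word [4,5,4,2,4,2,1,5,2,3,2,4,1,4,5,0,3,0,3,1,5,4,2,3,0,4,0,5,3])) (.word [5,2,1,5,1,5,0,5,0,5,4,5,2,5,4,0,5,1,4])) (.node WTree.none (.word [5,2,3,2,0,3,0,2,3,2,3,2,3,2,1,4,0,1,2,5,2,0,2,4,5,2,0,1,5]))) (.node WTree.none (.node (.word [5,3,5,3,5,3,4,2,3,5,3,2,5,3,2,1,3,2,0,4,2,5,4,5,4,0,2,0,5,1,3,5]) (.word [3,1,5,2,5,2,5,2,3,4,0,2,5,3,5,3,5,3,5,0,5])))) (.node (.node (.node (.node WTree.none (.word [5,1,2,3,5,3,5,3,2,1,5,2,1,4,0,2,5,4,1,3,2,4,0,5,4,2,4,0,4,3,1])) WTree.none) WTree.none) (.word [5,4,5,2,3,1,4,5,1,4,5,1,5,0,4,1,0,3,5,3,5,0,5,4,1,5]))) (.node (.node (.node WTree.none (.node (.word [4,5,1,2,3,4,2,5,3,4,2,4,5,2,5,3,5,0,4,3,0,2,5,3,5,0,2,5,0])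 (.word [4,5,4,5,0,3,0,5,4,5,3,5,0,4,2,5,2,0,4,5,3,0,5,0,4,0,5,0,4]))) WTree.none) WTree.none)))))

/-- A subtree. -/
def wt97 : WTree :=
  (.node (.node (.node (.node (.node (.node (.node (.node WTree.none (.word [4,5,1,0,3,1,2,1,3,0,2,5,2,4,1,2,3,1,4,2,3,5,4,3,4,2,3,5,1,3])) WTree.none) (.node WTree.none (.node (.word [4,1,5,2,0,5,3,5,0,5,4,5,2,5,1,5,2,0,2,0,5,2,4,5,4,3,4,5,2,4,3,2]) (.word [2,4,0,5,4,5,0,4,2,5,4,1,4,1,5,3,2,5,4,2,5,3,0,3,0,5,3,5,0,3,0,1,4])))) (.node (.word [5,0,2,4,1,2,3,5,3,1,4,0,2,0,5,0,5,4,3,0,4,2,5,1,3,2,3,1,2,0]) (.node WTree.none (.node WTree.none (.word [2,1,4,3,1,0,2,0,3,4,2,3,1,3,1,4,1,2,5,2,5,2,3,4,3,4,5,4,5,3]))))) (.node (.node (.node WTree.none (.word [5,0,2,0,5,1,4,3,1,3,1,2,3,5,0,5,2,4,0,5,4,3,2,1])) WTree.none) (.node (.node (.node (.node WTree.none (.word [2,3,1,2,0,3,1,0,5,4,5,3,2,4,5,4,5,3,5,4,5,2,5,3,1,4,3,5,2])) (.word [4,3,5,4,5,3,4,1,5,2,0,3,1,0,5,1,5,4,0,2,1,0,5,3,0,4,2,0]))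 WTree.none) WTree.none))) (.node (.node (.node (.node (.node (.node WTree.none (.word [5,4,3,2,5,1,2,4,2,3,1,5,2,5,4,1,5,1,2,1,4,5,1,0,5,1,2,4,0,2,4,5])) WTree.none) WTree.none) WTree.none) (.node (.node WTree.none (.word [0,3,5,3,5,3,0,1,3,0,5,3,5,3,4,2,4,5,2,3,5,4,5,0,2,3,2,0,4])) WTree.none)) (.node (.node WTree.none (.word [1,2,4,2,5,2,3,2,5,2,4,2,3,4,2,1,4,3,2,0,5,0,3,1,5,0,1,4,3,0,4])) (.word [2,3,1,5,2,4,2,5,3,4,3,0,2,1,5,1,3,5,4,5,3,5,0,5,4])))) (.node (.node (.node (.node (.node (.node (.node WTree.none (.word [5,2,3,4,2,3,5,1,3,1,5,0,3,0,5,4,0,5,1,4,5,4,5,1,3,5,4,0])) WTree.none) WTree.none) (.word [5,3,2,4,2,0,2,4,0,3,0,3,0,5,3,4,3,2,5,1,0,2,1,2,0,5,2,5,4,5])) (.node (.node (.node (.word [4,3,5,1,3,1,4,5,2,0,3,4,2,0,1,5,0,1,3,4,2,4]) (.word [4,2,3,5,2,4,2,5,3,5,2,5,1,2,4,5,1,0,5,0,3,2,4,1,3,5,2,0,5,3,1])) WTree.none) (.node WTree.none (.word [0,2,5,2,0,2,0,2,5,2,0,2,4,0,2,5,1,3,2,1,0,4,3,5,2,0,3]))))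 (.node (.node (.node (.node WTree.none (.word [2,4,5,1,0,2,1,4,3,2,0,1,5,4,5,2,3,5,4,2,4,3,5,2,3,5])) (.node WTree.none (.word [0,2,1,0,4,3,1,0,3,4,0,1,2,0,5,0,3,1,3,0,4,2,0,5,1,0,4,2,3,5,4,5]))) WTree.none) (.node (.node (.node (.node WTree.none (.word [4,5,1,0,3,1,2,1,3,0,2,5,4,5,3,2,3,1,5,2,4,5,2,3,2,3,5,3,4])) WTree.none) (.word [4,3,5,4,0,5,3,5,0,5,3,4,5,1,0,4,1,4,5,1,3,5,2,4,1,3,4,0,1,5])) WTree.none))) (.node (.node (.node WTree.none (.node WTree.none (.word [3,4,5,2,1,4,2,3,4,5,2,1,2,4,3,2,4,5,2,5,3,0,5,1,2,0,3,2,0,3,0,1,2]))) (.node (.node (.node (.node WTree.none (.word [5,1,2,1,0,3,2,3,0,5,2,1,2,0,4,3,0,4,0,3,4,2,3,1,2,0,5,2,5,0,1,4,0])) (.word [4,2,4,0,3,2,3,0,4,2,4,1,4,5,4,2,4,3,5,2,3,2,3,4])) WTree.none) (.node WTree.none (.node WTree.none (.word [4,5,1,0,3,2,3,2,0,2,5,3,4,2,1,2,3,1,4,3,0,2,3,0,4,2,5,3,0,2,4,3]))))) (.node (.node (.node (.node (.node WTree.none (.word [3,5,3,5,1,4,2,4,1,4,3,1,0,5,2,1,4,5,0,4,1,5,1,5,0,5,0,3]))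 (.word [4,5,1,4,5,3,5,4,0,4,1,3,1,5,2,0,5,2,1,5,2,3,0,5,3])) (.word [2,4,3,5,1,3,2,1,4,3,5,4,5,3,1,3,1,0,4,2,0,5,4,2,3,5,3,2,1,4,0,2,3])) WTree.none) (.node (.word [5,4,1,5,3,1,4,2,5,2,3,1,0,5,4,3,1,3,5,1,2,0,5]) (.node (.node WTree.none (.word [3,5,3,5,1,4,2,4,1,3,2,4,5,0,5,1,4,2,0,4,1,2,5,4,3,2,3,0])) (.word [5,0,2,0,5,1,5,3,2,3,0,4,2,5,3,4,1,2,3,5,0,5,1]))))))) (.node (.node (.node (.node (.node (.node WTree.none (.node WTree.none (.word [5,3,5,1,4,2,4,5,3,5,1,4,1,3,2,5,3,4,0,3,4,2,0,5,1,0,2,5,4,0,2,5]))) (.word [1,3,5,4,5,3,1,5,3,1,2,1,3,5,2,0,4,0,3,4,3,5,4,2,3,0])) (.node (.node WTree.none (.word [1,4,5,2,5,1,4,3,5,1,3,5,3,4,1,3,0,2,3,0,1,4,5,0,4,3,2,0])) (.node (.node WTree.none (.word [4,0,2,4,1,3,0,5,0,1,2,1,2,1,2,4,3,0,3,1,4,2,3,5,2,3,4,3,2,0,4,2])) WTree.none))) (.node (.node WTree.none (.node (.node WTree.none (.word [3,5,3,5,1,4,2,4,1,3,2,4,5,3,0,5,4,2,0,4,2,1,2,0,3,5,2,0,1,4,3])) (.node (.word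 [1,2,5,4,2,5,3,5,2,4,5,2,1]) (.word [3,4,5,3,2,4,2,1,3,4,2,0,2,5,0,2,5,1,3,5,2,4,3,5,2,0])))) (.node (.node (.node WTree.none (.word [4,0,5,1,0,2,1,2,0,5,0,3,5,3,5,1,3,1,5,1,2,1,2,5,4,1])) WTree.none) WTree.none))) (.node (.node (.node (.node (.word [2,4,5,2,3,1,2,5,4,1,0,2,4,3,0,4,1,4]) (.word [1,3,2,3,2,5,2,4,1,5,0,2,5,3,2,5,3,1,5,4,5,4,5,2,4,1,2,3,0,4,0])) WTree.none) (.node (.node WTree.none (.word [5,0,2,1,3,2,3,0,3,2,5,0,4,1,4,0,4,5,3,5,1])) (.node WTree.none (.node (.word [4,2,5,4,3,4,5,2,4,1,5,3,1,3,0,5,0,3,2,4,5,2,4,1,2,4,0,4,1]) (.word [5,3,4,5,1,4,5,4,2,5,2,1,5,2,0,4,2,5,4,5,1,2,0,5,0,3,1,3]))))) (.node (.node (.node (.node (.node WTree.none (.word [5,1,0,2,5,3,1,3,5,0,3,5,2,4,1,5,4,1,2,5])) WTree.none) WTree.none) (.node WTree.none (.word [5,4,5,1,3,1,5,4,0,5,1,4,5,0,4,2,0,5,4,1,4,0,1,3,1,3]))) (.node WTree.none (.node (.node WTree.none (.word [1,0,2,5,0,2,0,5,2,0,1,2,1,2,3,2,4,3,2,1,4,5,3,5,4,5,4,3,5,2]))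 (.word [5,1,2,0,2,0,2,1,2,1,5,2,4,3,1,4,2,3,0,4,5,3,1,2,1,3,5,4,0,3])))))) (.node (.node (.node (.node (.node (.node (.node WTree.none (.word [4,0,4,0,2,0,3,2,0,2,5,1,3,1,2,5,2,0,5,2,1,2,0,5,0,2,4,3,0,5,0])) WTree.none) (.word [2,5,1,2,5,2,4,5,2,5,4,5,1,0,4,0,3,2,1,0,5,2,5,0,3,1])) WTree.none) WTree.none) (.node (.node (.node WTree.none (.word [5,0,5,4,5,1,2,0,2,1,5,3,4,3,2,4,3,0,4,3,0,5,3,1,2,0,3,5,4])) (.node (.node WTree.none (.word [5,0,2,0,5,4,3,5,1,5,3,4,2,0,5,2,5,1,2,5,0,4,5])) (.node WTree.none (.word [5,0,2,0,3,2,4,2,3,5,4,3,4,1,5,3,2,4,5])))) (.node (.node (.node (.node WTree.none (.word [5,2,1,0,2,1,0,2,5,4,1,4,1,5,2,0,5,2,0,2,0,3,2,0,4,2,5,0,3])) (.word [4,5,1,2,5,4,3,5,2,1,2,5,3,0,3,4,2,0,1,2,4,3,0])) WTree.none) (.word [5,2,1,5,3,2,4,5,2,1,3,5,4,2,4,3])))) (.node (.node (.node (.node (.node WTree.none (.word [5,0,4,1,4,0,2,4,5,3,5,4,5,1,5,0,4,3,1,3,4,2,4,2,4,1,2,0,5,1])) WTree.none) (.node (.word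 [4,1,2,4,0,3,1,4,2,5,2,0,3,5,0,2,4,3,4,0,4,0,5,1,5,0,2,4]) (.node WTree.none (.word [2,4,5,1,0,2,1,4,3,2,0,1,5,3,4,2,4,2,3,5,4,2,3,4,1,5,2])))) (.node (.node WTree.none (.node (.word [4,3,1,3,1,5,0,4,2,1,5,0,4,2,1,3,1,4,2,3,1,5,1,2,1,5,3,4,3]) (.word [4,2,4,3,4,1,2,4,5,3,2,3,1,2,0,5,0,2,4,0,3,0,3,5,0,5,0,4,0]))) (.word [2,4,5,2,1,2,0,5,4,2,1,2,0,3,1,3,0,4,0,2,1]))) (.node (.node (.node WTree.none (.word [0,2,3,1,0,3,5,3,5,4,5,4,0,1,4,1,5,0,5,4,1,4,5,2,0,4,2,4])) (.node (.word [5,4,1,2,4,5,3,2,5,4,3,5,1,2,3,0,5,0,4,1,3,4,5,0,5,3,1,5,0,5,3]) (.node WTree.none (.word [4,1,5,0,4,3,1,3,0,5,1,5,4,0,4,5,4])))) (.word [5,2,4,5,2,3,4,5,1,4,2,0,5,4,5,2,0,2,5,3,1,3]))))))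

/-- A subtree. -/
def wt98 : WTree :=
  (.node (.node wt86 (.node (.node wt87 (.node (.node (.node (.node (.node (.node (.node WTree.none (.node WTree.none (.word [2,4,5,1,5,3,4,5,2,5,2,5,0,3,2,0,3,0,2,3,2,0,5]))) WTree.none) (.node WTree.none (.node WTree.none (.node WTree.none (.word [1,3,2,3,2,5,2,4,1,5,0,5,2,4,3,5,0,2,0,5,4,3,5,2,1,3,4,3,0]))))) (.node (.node (.node (.node WTree.none (.word [5,2,3,2,4,2,5,4,2,3,4,2,4,3,1,5,0,4,2,4,2,4,5,2,1,2,5,0,5,1])) WTree.none) (.node (.node WTree.none (.word [4,5,2,3,2,4,3,2,5,3,5,3,2,3,2,5,0,5,0,4,5,3,2,4,5,2,1,4])) (.node WTree.none (.word [5,1,0,5,3,1,3,4,5,0,1,3,2,1,5,2,3,2,5,4,5,4])))) (.node (.node WTree.none (.node WTree.none (.word [5,4,3,5,1,2,1,3,2,0,2,5,2,0,5,1,5,3,5,2,4,5,1,2,4,2,3,4,5]))) (.node (.node WTree.none (.word [4,2,4,3,4,1,2,4,2,3,5,4,2,4,5,1,0,2,5,4,5,0,4,3,2,0,3,0])) WTree.none)))) (.node (.node (.node WTree.none (.node (.node WTree.none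 (.word [1,3,5,3,5,3,1,5,1,0,5,2,4,1,4,2,0,4,1,5,3,2,3,0,4,3,5,4])) (.node WTree.none (.word [5,3,5,2,3,4,3,2,5,3,0,3,1,3,5,4,1,5,3,1,4,5,2,0,2,5,4,1])))) (.node (.node WTree.none (.node WTree.none (.word [3,1,2,0,2,4,1,3,0,1,5,2,1,4,3,2,4,3,5,4,5,4,2,1,5,3,5,1]))) WTree.none)) (.node (.node WTree.none (.node WTree.none (.word [0,2,4,0,5,4,5,0,4,2,0,4,5,0,5,2,1,3,5,3,2,4,2,0,5,4]))) (.node (.node (.node WTree.none (.word [4,2,4,0,3,4,5,2,4,1,2,4,0,3,0,2,0,2,3,5,4,5,0,2,4,0,1,5,1])) WTree.none) (.node WTree.none (.node WTree.none (.word [5,0,2,1,4,3,1,5,2,3,4,2,5,3,0,4,0,3,2,4,1,2,3]))))))) (.node (.node (.node (.node (.node (.node (.node WTree.none (.word [5,3,4,1,5,3,4,1,2,3,1,4,1,2,3,0,3,2,3,0,2,3,2,1,5,2,4,2,1,5])) WTree.none) (.node WTree.none (.word [5,2,1,5,4,3,5,1,3,5,1,3,0,5,4,5,3,0,4,0,3,5,1]))) (.node WTree.none (.word [5,0,3,2,4,2,0,2,4,3,2,3,2,3,0,5,4,2,4,5,2,4,2,3,0,5]))) (.node (.node (.node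 (.node WTree.none (.word [5,0,2,1,3,2,3,0,1,5,1,3,2,3,5,2,5,2,5,4,2,1,5,1])) WTree.none) WTree.none) (.node WTree.none (.word [5,0,2,0,2,1,5,4,0,2,1,4,1,3,5,1,5,0,3,5,0,4,0,5,1,3,5,2,1])))) (.node (.node (.node (.node WTree.none (.word [5,0,2,0,2,0,2,0,5,3,4,5,3,5,4,3,5,2,5])) WTree.none) (.node (.node WTree.none (.word [2,3,1,2,4,5,2,4,3,4,5,2,4,5,2,0,2,3,0,3,0,3,2,0,5,2])) (.node (.word [4,1,5,3,5,4,5,4,5,1,3,4,2,4,2,4,3,0,5,4,1,5,4,5,3,5,4,2,0,1,5]) (.word [3,0,3,2,3,0,4,0,3,2,3,0,3,1,3,5,0,4,5,4,0,1,5,2,0,5,4,3])))) (.node (.node (.node (.node WTree.none (.word [5,2,0,3,2,3,2,0,2,5,3,5,1,3,5,1,2,4,5,1,2,4,5,1,3])) WTree.none) (.word [5,1,4,3,5,1,2,5,1,5,1,5,1,3,4,5,0,4,0,5,0,1,4,0,1,3])) WTree.none))) (.node (.node WTree.none (.node WTree.none (.word [0,3,4,2,5,3,4,2,0,2,5,3,5,3,2,4,5,2,1,3,5]))) (.node (.node (.node (.node WTree.none (.word [2,3,1,2,0,3,0,2,3,2,3,5,1,5,2,5,1,3,2,3,5,3,5,2,4,5,2,4,3,2,4]))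 WTree.none) WTree.none) (.node (.node (.node WTree.none (.word [4,2,5,4,5,4,2,4,2,1,5,2,5,1,5,0,3,2,3,4,0,4,1,2,4,5,0,4,2,3,4])) (.node WTree.none (.word [2,4,0,3,1,3,5,1,5,0,4,1,4,0,2,1,2,5,0,4,5,2,5,4,0,1,4]))) (.word [2,4,3,5,2,4,3,1,3,5,3,1,5,3,5,0,2,1,4,3,0,2,4,1,3,1])))))) (.node (.node (.node (.node WTree.none (.node (.node (.node (.node WTree.none (.word [4,5,3,5,2,4,1,5,4,2,0,3,2,3,0,5,1,3,5,2,3,4,1,2,3,2,5])) WTree.none) WTree.none) WTree.none)) (.node (.node (.node WTree.none (.node WTree.none (.word [5,4,2,1,0,3,0,1,3,2,4,1,0,2,5,4,0,2,5,3,5,2,0,5,0,5,0,5,0,3]))) WTree.none) (.node (.node (.node (.word [5,2,1,0,3,5,4,2,4,5,3,5,2,5,0,2,3,1,3,0,5,3,0,5]) (.word [5,2,3,4,2,3,2,4,2,3,0,5,2,1,2,5,1,2,0,5])) (.word [5,0,5,4,5,0,2,5,4,3,5,3,5,3,4,0,5,0,4,2,3,2,0,5,0])) WTree.none))) (.node (.node (.node (.node (.node (.node WTree.none (.word [5,1,2,3,2,3,5,1,4,0,4,1,4,5,0,1,3,5,0,3,4,5,4,0,2,3,0])) WTree.none)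 WTree.none) WTree.none) WTree.none) (.node (.node (.node (.node WTree.none (.word [4,5,2,1,0,2,0,2,1,5,3,4,5,3,5,4,3,2,5,2,5,3,4,3,2])) (.node WTree.none (.word [4,3,2,1,5,1,3,4,1,2,1,5,4,1,4,5,2,4,0,2,1,5,2,1,4,0,4,5]))) (.node (.node WTree.none (.word [3,1,4,5,3,2,3,5,4,5,1,4,3,0,5,3,5,0,5,0,3,1,3,5,2,3,4,3,0,2])) WTree.none)) (.node (.node WTree.none (.node WTree.none (.word [4,1,4,0,3,4,1,2,1,0,2,5,4,2,0,5,2,1,2,5,3,1,2,3,2,0,3,4,2]))) (.node (.node WTree.none (.word [5,1,4,1,5,2,1,2,4,2,5,3,2,5,3,1,3,5,2,0,1,2,0,1,5])) WTree.none))))) (.node (.node (.node (.node (.node WTree.none (.node WTree.none (.word [5,2,4,3,2,3,2,4,5,0,2,1,2,5,1,3,0,4,5,0,2,4,3,0,2,4,0,3]))) WTree.none) (.node WTree.none (.node WTree.none (.word [3,2,4,2,3,2,4,2,3,1,5,2,5,1,0,4,1,2,4,2,0,2,4,2,1,4,0])))) (.node (.node (.word [5,0,4,1,4,0,2,4,5,3,5,1,2,3,5,0,5,0,4,2,0,5,1,3,5,0]) (.node (.node WTree.none (.word [4,0,3,4,5,1,5,2,0,5,1,2,1,5,3,5,2,3,4,3,4,2,4,5,4,3,2,4]))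 WTree.none)) (.word [1,3,5,3,4,5,3,1,0,4,0,2,5,0,5,2,0,4,0,5,3,5,2,5,3,4,5,3,0,5,0]))) (.node (.node (.node WTree.none (.word [3,2,3,4,5,3,2,3,4,5,2,4,0,5,3,1,3,1,2,4,5,0,5,0,2,0,4,2])) WTree.none) (.node (.node (.node WTree.none (.word [2,1,4,2,5,3,2,5,3,1,5,1,0,2,5,0,3,2,3,4,5,2,1,4,0,4])) WTree.none) WTree.none)))))) (.node wt88 wt89))) (.node (.node (.node wt90 wt91) (.node wt92 wt93)) (.node (.node wt94 wt95) (.node wt96 wt97))))

/-- Points. -/
def levY3pts0 : List ℕ := [3,7,12,14,22,24,29,32,37,38,40,46,48,55,67,72,73,75,77,94,95,96,101,108,116,121,125,134,137,141,142,146,163,164,166,186,195,197,205,211,222,226,227,228,230,233,235,237,246,253,256,258,260,261,263,267,271,273,278,281,284,291,297,301,303,318,324,327,332,339,350,356,363,369,377,381,397,400,410,413,414,421,424,425,428,429,430,437,442,450,453,454,462,463,473,486,487,491,493,495,500,505,508,511,516,517,520,537,541,542,543,546,548,551,559,561,565,568,587,588,589,600,603,610,611,624,633,634,639,640,659,665,670,673,678,683,688,690,691,704,709,710,719,720,723,725,726,727,732,734,753,754,757,767,781,785,788,791,796,797,803,805,816,827,845,846,848,851,854,857,864,865,874,875,878,882,887,889,891,895,899,900,905,907,921,933,953,956,959,961,962,969,971,972,978,983,993,999,1000,1001]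

/-- Points. -/
def levY3pts1 : List ℕ := [1002,1006,1008,1010,1013,1016,1026,1027,1038,1044,1058,1063,1087,1097,1104,1107,1113,1115,1119,1121,1128,1129,1133,1136,1137,1149,1150,1154,1161,1167,1169,1171,1182,1195,1197,1206,1209,1215,1222,1233,1240,1243,1245,1248,1249,1250,1254,1255,1257,1261,1263,1271,1274,1275,1278,1279,1281,1283,1285,1286,1296,1299,1307,1310,1311,1312,1321,1324,1325,1335,1341,1344,1346,1359,1361,1364,1369,1375,1379,1395,1404,1407,1417,1421,1425,1427,1434,1437,1440,1443,1446,1447,1448,1450,1455,1457,1461,1469,1479,1488,1494,1497,1502,1504,1518,1520,1521,1524,1532,1536,1538,1541,1551,1552,1553,1561,1564,1569,1573,1574,1576,1577,1578,1586,1587,1588,1590,1592,1595,1613,1616,1618,1627,1629,1632,1640,1643,1646,1647,1649,1655,1659,1669,1675,1680,1682,1685,1687,1695,1696,1699,1706,1725,1726,1728,1738,1752,1756,1759,1761,1764,1768,1782,1793,1805,1811,1819,1825,1826,1833,1834,1839,1841,1842,1845,1850,1859,1860,1867,1868,1879,1883,1887,1892,1894,1905,1906,1908,1910,1912,1925,1926,1928,1933,1937,1943,1949,1950,1954,1960]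

/-- Points. -/
def levY3pts2 : List ℕ := [1970,1979,1981,1993,1997,2001,2003,2004,2006,2013,2014,2015,2020,2021,2022,2031,2034,2045,2056,2063,2072,2081,2086,2088,2092,2099,2102,2109,2116,2129,2132,2135,2139,2142,2148,2152,2156,2160,2167,2171,2175,2185,2186,2192,2197,2200,2204,2206,2213,2216,2218,2223,2229,2233,2241,2244,2245,2246,2251,2253,2254,2256,2257,2262,2266,2270,2274,2276,2282,2283,2287,2289,2300,2311,2313,2316,2322,2324,2327,2328,2336,2337,2338,2339,2343,2347,2349,2351,2355,2363,2382,2384,2385,2390,2415,2419,2425,2428,2429,2430,2434,2438,2446,2447,2448,2450,2451,2458,2461,2463,2472,2476,2482,2489,2495,2498,2499,2500,2503,2506,2514,2517,2521,2526,2531,2532,2538,2539,2547,2552,2558,2563,2569,2571,2573,2574,2576,2577,2578,2579,2584,2585,2588,2594,2595,2599,2605,2606,2610,2611,2614,2615,2616,2617,2628,2630,2632,2634,2636,2643,2652,2659,2665,2667,2668,2676,2689,2690,2694,2698,2705,2708,2710,2712,2719,2723,2724,2728,2730,2732,2736,2739,2743,2746,2748,2749,2751,2755,2758,2774,2775,2777,2778,2798,2801,2805,2806,2809,2811,2819]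

/-- Points. -/
def levY3pts3 : List ℕ := [2830,2832,2834,2835,2843,2844,2847,2852,2853,2854,2865,2870,2871,2876,2885,2887,2888,2889,2892,2907,2918,2925,2929,2933,2942,2947,2951,2954,2955,2957,2968,2969,3000,3003,3009,3012,3017,3026,3032,3034,3039,3055,3064,3069,3072,3073,3074,3075,3082,3092,3103,3107,3114,3115,3117,3118,3123,3128,3130,3134,3137,3140,3141,3149,3150,3153,3164,3169,3179,3187,3188,3190,3191,3196,3198,3206,3211,3213,3226,3229,3233,3238,3247,3262,3270,3277,3290,3292,3302,3303,3307,3318,3319,3324,3326,3333,3341,3342,3349,3369,3393,3399,3401,3402,3404,3413,3414,3417,3421,3430,3433,3435,3437,3441,3454,3455,3463,3464,3466,3467,3469,3472,3475,3479,3493,3495,3496,3502,3508,3515,3520,3534,3539,3540,3543,3545,3546,3547,3552,3557,3560,3562,3563,3564,3576,3595,3596,3597,3598,3599,3608,3609,3614,3623,3629,3633,3635,3636,3645,3650,3658,3662,3664,3669,3670,3671,3672,3675,3684,3686,3693,3700,3701,3702,3703,3708,3709,3710,3711,3715,3718,3722,3725,3726,3731,3734,3743,3746,3749,3754,3758,3761,3775,3776,3779,3782,3805,3825,3826,3827]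

/-- Points. -/
def levY3pts4 : List ℕ := [3837,3838,3839,3840,3842,3845,3846,3850,3855,3864,3867,3872,3883,3893,3894,3900,3902,3910,3916,3921,3923,3929,3932,3933,3935,3942,3943,3945,3949,3951,3952,3955,3956,3961,3974,3977,3980,3982,3989,3990,3991,3992,3995,4000,4001,4002,4003,4008,4009,4011,4017,4020,4025,4041,4042,4043,4052,4055,4061,4072,4076,4084,4088,4091,4093,4094,4096,4103,4117,4119,4128,4129,4138,4142,4143,4144,4146,4147,4149,4151,4159,4160,4164,4168,4173,4175,4177,4178,4179,4181,4186,4192,4193,4195,4196,4198,4200,4205,4206,4211,4212,4215,4217,4219,4225,4227,4235,4246,4247,4252,4253,4269,4277,4289,4292,4301,4310,4316,4319,4328,4333,4335,4339,4341,4345,4350,4352,4355,4359,4377,4378,4388,4394,4398,4403,4417,4423,4427,4432,4433,4443,4449,4450,4453,4454,4460,4463,4464,4470,4471,4478,4481,4486,4489,4495,4496,4499,4510,4516,4522,4526,4527,4529,4530,4535,4542,4543,4544,4567,4577,4580,4594]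

/-- A level. -/
def levY3 : Level :=
  ⟨3464, wt98, levY3pts0 ++ levY3pts1 ++ levY3pts2 ++ levY3pts3 ++ levY3pts4⟩

/-- Points. -/
def levY4pts0 : List ℕ := [737,3904]

/-- A level. -/
def levY4 : Level :=
  ⟨737, (.node (.node (.node (.node (.node (.node (.node WTree.none (.node (.node WTree.none (.node WTree.none (.node WTree.none (.node WTree.none (.word [5,2,0,3,1,2,1,3,0,2,5,2,1,3,4,1,5,2,3,4,3,5,4,1,2]))))) WTree.none)) WTree.none) WTree.none) WTree.none) WTree.none) WTree.none) (.node (.node (.node (.node (.node WTree.none (.node WTree.none (.node WTree.none (.node (.node WTree.none (.word [])) WTree.none)))) WTree.none) WTree.none) WTree.none) WTree.none)), levY4pts0⟩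

/-- The levels. -/
def levY : List Level := [levY0,levY1,levY2,levY3,levY4]

/-- Words in the three elements for the generators. -/
def genWords : List (List ℕ) := [[1,1,1,1,1,1,1,1,1,2,0,1,1,1,1,1,1,1,1,1,2,2,2,0,0,0,0,0,0,0,0,0,0,2,0,0,0,0,0,0,0,0,0,0,0,0,0,0,0,0,0,0,0,0,0,0,0,0,0,0,0,0,0,0,2,2,2,1,1,1,1,1,1,1,1,1,1,1,1,1,1,1,1,1,1,0,2,0,1,1,0,2,0,2,0,1,1,1,1,1,1,1,1,1,2,0,0,0,0,0,0,0,0,0,0,2,0,0,0,0,0,0,0,0,0,0,1,1,1,1,1,1,1,1,1,2,2,2,1,0,0,0,0,0,0,0,0,0,0,2,2,2,0,0,0,0,0,0,0,0,0,0,0,0,0,0,0,0,0,0,0,0,1,1,1,1,1,1,1,1,1,2,0,0,0,0,0,0,0,0,0,0,1,1,1,1,1,1,1,1,1,1,1,1,1,1,1,1,1,1,0,0,0,0,0,0,0,0,0,0,1,1,1,1,1,1,1,1,1,2,1,1,1,1,1,1,1,1,1,1,1,1,1,1,1,1,1,1,0,0,0,0,0,0,0,0,0,0,1,0,1,2,0,2,0,2,0,2,0,2,0,0,0,0,1,1,1,1,1,1,1,1,1,0,1,2,0,0,0,0,0,0,0,0,0,0,2,2,2,0,0,0,0,0,0,0,0,0,0,0,0,0,0,0,0,0,0,0,0,2,2,2,0,0,0,2,0,2,0,2,2,2,0,0,2,0,0,0,2,0,1,1,0,2,2,2,0,1,1,0,2,0,0,0,2,2,2,0,2,2,2,1,0,0,2,2,2,0,0,0,0,0,0,0,0,0,0,2,0,0,0,0,0,0,0,0,0,0,2,2,2,1,0,0,0,0,0,0,0,0,0,0,2,0,1,1,1,1,1,1,1,1,1,0,0,2,0,1,2,2,2,0,0,0,0,0,0,0,0,0,0,0,0,0,0,0,0,0,0,0,0,0,0,0,0,0,0,0,0,0,0,2,0,0,0,0,0,0,0,0,0,0,2,2,2,0,2,0,0,0,0,0,0,0,0,0,0,1,2,2],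
  [1,1,0,0,0,0,0,0,0,0,0,0,0,0,0,0,0,0,0,0,0,0,2,2,2,0,0,0,0,0,0,0,0,0,0,1,1,1,1,1,1,1,1,1,2,0,1,1,1,1,1,1,1,1,1,2,0,0,0,0,0,0,0,0,0,0,1,0,2,2,2,0,2,2,2,1,1,1,1,1,1,1,1,1,0,1,1,1,1,1,1,1,1,1,2,0,0,0,0,0,0,0,0,0,0,1,0,0,0,0,0,0,0,0,0,0,2,0,0,0,0,0,0,0,0,0,0,0,0,0,0,0,0,0,0,0,0,0,0,0,0,0,0,0,0,0,0,2,2,2,0,0,0,0,0,0,0,0,0,0,2,2,2,0,0,0,0,0,0,0,0,0,0,1,0,0,0,0,0,0,0,0,0,0,1,2,0,0,0,0,0,0,0,0,0,0,2,0,0,0,0,0,0,0,0,0,0,2,1,1,1,1,1,1,1,1,1,0,0,0,0,0,0,0,0,0,0,0,0,0,0,0,0,0,0,0,0,0,0,0,0,0,0,0,0,0,0,2,1,1,1,1,1,1,1,1,1,0,1,1,1,1,1,1,1,1,1,2,2,2,0,0,0,0,0,0,0,0,0,0,2,2,2,0,1,1,2,0,0,0,0,0,0,0,0,0,0,1,1,1,1,1,1,1,1,1,2,0,0,2,2,2,1,1,1,1,1,1,1,1,1,0,1,1,1,1,1,1,1,1,1,2,0,0,0,0,0,0,0,0,0,0,2,1,0,0,0,0,0,0,0,0,0,0,2,2,2,0,0,0,0,0,0,0,0,0,0,2,2,2,0,0,0,0,0,0,0,0,0,0,2,2,2,1,0,0,2,2,2,0,0,0,0,0,0,0,0,0,0,0,0,0,0,0,0,0,0,0,0,2,0,2,2,2,0,0,0,0,0,0,0,0,0,0,0,0,0,0,0,0,0,0,0,0,1,1,1,1,1,1,1,1,1,1,1,1,1,1,1,1,1,1,0,0,0,0,0,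0,0,0,0,0,2,0,2,2,2,0,0,0,0,0,0,0,0,0,0,2,2,2,0,1,1,1,1,1,1,1,1,1,1,1,1,1,1,1,1,1,1,0,0,0,0,0,0,0,0,0,0,1,2,0,2,2,2,0,0,0,0,0,0,0,0,0,0,2,1,1,1,1,1,1,1,1,1,0,2,2,2,0,2,2,2,0,2,2,2,1,1,0,0,0,0,0,0,0,0,0,0,2,0,0,1,1,1,1,1,1,1,1,1,0,0,0,0,0,0,0,0,0,0,2,2,2,1,1,1,1,1,1,1,1,1,0,0,0,0,0,0,0,0,0,0,0,0,0,0,0,0,0,0,0,0,2,0,0,0,0,0,0,0,0,0,0,2,0,0,0,0,0,0,0,0,0,0,2,2,2,0,2,2,2,0,1,1,2,0,0,1,1,1,1,1,1,1,1,1,0,2,0,0,0,0,0,0,0,0,0,0,0,0,0,0,0,0,0,0,0,0,0,0,0,0,0,0,0,0,0,0,0,0,0,0,0,0,0,0,0,0,1,0,0,0,0,0,0,0,0,0,0,2,2,2,0,2,2,2,0,1,1,0,0,2,0,0,0,0,0,0,0,0,0,0,2,1,1,2,0,1,1,1,1,1,1,1,1,1,0,1,2,0,2,2,0,0,0,0,0,0,0,0,0,0,0,0,0,0,0,0,0,0,0,0,1,2,0,0,0,0,0,0,0,0,0,0,2,0,0,0,0,0,0,0,0,0,0,2,2,2,1,1,1,1,1,1,1,1,1,0,1,1,1,1,1,1,1,1,1,0,2,2,2,0,0,0,0,0,0,0,0,0,0,0,0,0,0,0,0,0,0,0,0,0,0,0,0,0,0,0,0,0,0,2,2,2,0,2,2,2,0,0,2,0,1,2,0,0,0,0,0,0,0,0,0,0,0,0,0,0,0,0,0,0,0,0,2,2,2,0,2,2,2,1,1,1,1,1,1,1,1,1,1,1,1,1,1,1,1,1,1,0,0,0,0,0,0,0,0,0,0,2,2,2,0,0,0,0,0,0,0,0,0,0,2,2,2,0,1,1,2,0,2,0,0,0,0,0,0,0,0,0,0,1,1,1,1,1,1,1,1,1,1,1,1,1,1,1,1,1,1,2,0,0,0,0,0,0,0,0,0,0,1,1,1,1,1,1,1,1,1,2,2,2,0,1,2,2],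
  [0,1,0,2,0,0,0,0,2,2,2,2,2,2,2,2,2,0,0,1,1,1,1,1,1,1,1,1,0,0,0,0,0,0,0,0,0,0,2,1,0,2,0,0,0,0,0,0,0,0,0,0,1,1,1,1,1,1,1,1,1,2,0,0,0,0,0,0,0,0,0,0,2,2,2,0,0,0,0,0,0,0,0,0,0,1,1,1,1,2,0,0,0,0,0,0,0,0,0,0,0,0,0,0,0,0,0,0,0,0,0,0,0,0,0,0,0,0,0,0,1,0,0,0,0,0,0,0,0,0,0,0,0,0,0,0,0,0,0,0,0,2,2,2,0,2,1,1,1,1,1,1,1,1,1,1,1,1,1,1,1,1,1,1,0,0,0,0,0,0,0,0,0,0,2,2,2,0,2,0,1,2,1,1,1,0,0,0,0,0,0,0,0,0,0,0,0,0,0,0,0,0,0,0,0,2,0,0,2,2,2,0,0,1,1,1,1,1,1,1,1,1,2,0,0,0,0,0,0,0,0,0,0,1,1,1,1,1,1,1,1,1,2,2,2,0,0,0,0,0,0,0,0,0,0,1,1,1,0,2,2,2,0,2,2,2,0,2,2,2,0,1,1,1,1,1,1,1,1,1,1,1,1,1,1,1,1,1,1,0,2,0,1,1,1,1,1,1,1,1,1,0,1,1,0,2,2,1,1,1,1,1,1,1,1,1,1,1,1,1,1,1,1,1,1,0,0,0,0,0,0,0,0,0,0,2,2,2,0,1,2,2,2,0,0,2,2,2,0,0,0,0,0,0,0,0,0,0,1,0,0,0,0,0,0,0,0,0,0,1,0,2,0,0,0,0,0,0,0,0,0,0,2,2,2,0,0,2,2,2,0,0,0,0,0,0,0,0,0,0,1,2,0,0,0,0,0,0,0,0,0,0,2,2,2,0,0,1,1,1,1,1,1,1,1,1,1,1,1,1,1,1,1,1,1,1,1,1,1,1,1,1,1,1,0,2,2,2,0,0,0,0,0,0,0,0,0,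0,2,2,2,0,1,1,1,1,1,1,1,1,1,2,0,0,0,0,0,0,0,0,0,0,1,2,0,0,0,0,0,0,0,0,0,0,1,1,1,1,1,1,1,1,1,1,1,1,1,1,1,1,1,1,0,2,2,2,0,0,0,0,0,0,0,0,0,0,1,1,0,2,2,2,0,0,2,0,2,0,1,1,1,1,1,1,1,1,1,2,2,2,0,1,1,1,1,1,1,1,1,1,0,0,0,0,0,0,0,0,0,0,0,0,0,0,0,0,0,0,0,0,0,0,0,0,0,0,0,0,0,0,2,0,0,0,0,0,0,0,0,0,0,1,1,1,1,1,1,1,1,1,2,2,2,0,0,0,0,0,0,0,0,0,0,0,0,0,0,0,0,0,0,0,0,0,0,0,0,0,0,0,0,0,0,2,2,2,0,0,0,0,0,0,0,0,0,0,2,0,1,2,0,0,0,2,2,2,0,0,0,0,0,0,0,0,0,0,0,0,0,0,0,0,0,0,0,0,0,0,0,0,0,0,0,0,0,0,2,0,2,2,2,1,1,1,1,1,1,1,1,1,0,0,0,0,0,0,0,0,0,0,2,0,1,2,2,2,0,0,0,0,0,0,0,0,0,0,1,1,2,2,2,2,2,2,0,0,0,0,0,0,0,0,0,0,2,2,2,0,0,0,0,0,0,0,0,0,0,0,0,0,0,0,0,0,0,0,0,0,0,0,0,0,0,0,0,0,0,2,2,2,1,0,0,0,0,0,0,0,0,0,0,2,2,2,0,2,2,2,0,2,2,2,0,0,0,0,0,0,0,0,0,0,1,1,1,1,1,1,1,1,1,1,1,1,1,1,1,1,1,1,2,2,2,0,1,0,0,2,1,0,2,2,2,0,0,0,0,0,0,0,0,0,0,0,0,0,0,0,0,0,0,0,0,0,0,0,0,0,0,0,0,0,0,2,2,2,1,1,1,1,1,1,1,1,1,0,0,0,0,0,0,0,0,0,0,1,1,0,0,0,0,0,0,0,0,0,0,0,0,0,0,0,0,0,0,0,0,1,1,1,1,1,1,1,1,1,0,1,1,1,1,1,1,1,1,1,2,0,1,1,1,1,1,1,1,1,1,2,0,2,2,2,1,1,1,1,1,1,1,1,1,1,1,1,1,1,1,1,1,1,0,2,0,0],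
  [0,0,0,0,0,0,0,0,0,0,0,0,0,0,0,0,0,0,0,0,2,0,2,2,2,0,0,0,0,0,0,0,0,0,0,1,0,0,0,0,0,0,0,0,0,0,1,2,0,0,2,1,1,0,2,0,1,1,2,0,0,0,0,0,0,0,0,0,0,2,0,2,2,2,0,2,2,2,0,0,0,0,0,0,0,0,0,0,1,1,1,0,2,0,1,0,0,0,0,0,0,0,0,0,0,1,1,1,1,1,1,1,1,1,0,0,0,0,0,0,0,0,0,0,2,2,2,0,1,1,0,2,2,2,0,0,1,1,1,1,1,1,1,1,1,0,2,0,0,2,0,0,0,0,0,0,0,0,0,0,1,1,1,1,1,1,1,1,1,2,0,2,0,1,1,1,1,1,1,1,1,1,0,0,0,0,0,0,0,0,0,0,1,2,2,2,0,1,0,1,1,1,1,1,1,1,1,1,0,2,0,1,0,0,0,0,0,0,0,0,0,0,2,2,2,0,0,0,0,0,0,0,0,0,0,2,2,2,1,1,1,1,1,1,1,1,1,0,0,2,1,1,1,1,1,1,1,1,1,0,2,0,0,2,0,0,0,0,0,0,0,0,0,0,2,2,2,1,0,0,0,0,0,0,0,0,0,0,2,0,0,0,0,0,0,0,0,0,0,2,0,0,0,0,0,0,0,0,0,0,1,1,1,1,1,1,1,1,1,0,0,0,0,0,0,0,0,0,0,2,2,2,0,0,0,0,0,0,0,0,0,0,1,2,0,0,0,0,0,0,0,0,0,0,0,0,0,0,0,0,0,0,0,0,2,2,2,0,2,0,0,0,0,0,0,0,0,0,0,1,1,1,1,1,1,1,1,1,2,2,2,0,0,0,0,0,0,0,0,0,0,2,2,2,0,0,0,0,0,0,0,0,0,0,0,0,0,0,0,0,0,0,0,0,1,1,1,1,1,1,1,1,1,1,1,1,1,1,1,1,1,1,2,0,1,2,2,2,0,2,0,0,0,0,0,0,0,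0,0,0,1,0,1,1,1,1,1,1,1,1,1,0,2,0,0,0,0,0,0,0,0,0,0,1,1,1,1,1,1,1,1,1,0,2,0,0,0,0,0,0,0,0,0,0,2,2,2,0,0,0,0,0,0,0,0,0,0,1,1,0,2,2,2,0,0,0,0,0,0,0,0,0,0,2,2,2,1,1,1,1,1,1,1,1,1,0,2,2,2,0,0,0,2,2,2,0,0,0,0,0,0,0,0,0,0,1,1,1,1,1,1,1,1,1,0,0,0,0,0,0,0,0,0,0,2,2,2,0,0,0,0,0,0,0,0,0,0,1,1,1,1,1,1,1,1,1,0,0,0,0,0,0,0,0,0,0,2,2,2,0,0,0,0,0,0,0,0,0,0,2,2,2,1,0,2,1,1,0,0,0,0,0,0,0,0,0,0,2,2,2,1,0,1,2,2,2,0,0,0,0,0,0,0,0,0,0,1,0,0,0,0,0,0,0,0,0,0,2,1,0,0,0,0,0,0,0,0,0,0,2,2,2,0,0,2,2,2,1,1,1,1,1,1,1,1,1,1,1,1,1,1,1,1,1,1,0,0,0,0,0,0,0,0,0,0,1,2,0,1,0,2,0,0,0,0,0,0,0,0,0,0,2,0,2,0,0,0,0,0,0,0,0,0,0,1,1,0,0,2,2,2,0,0,1,1,1,1,1,1,1,1,1,2,0,0,0,0,0,0,0,0,0,0,1,2,1,1,1,1,1,1,1,1,1,0,2,2,2,0,0,0,0,0,0,0,0,0,0,2,0,2,0,2,2,2,1,0,2,2,2,0,2,2,2,1,0,0,0,0,0,0,0,0,0,0,2,2,2,0,1,1,1,1,1,1,1,1,1,0,0,0,0,0,0,0,0,0,0,2,2,2,0,0,1,1,1,1,1,1,1,1,1,0,0,0,0,0,0,0,0,0,0,2,2,2,0,1,2,0],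
  [2,2,2,1,0,0,0,0,0,0,0,0,0,0,0,0,0,0,0,0,0,0,0,0,2,2,2,0,0,0,0,0,0,0,0,0,0,2,2,2,0,1,1,1,1,1,1,1,1,1,2,0,2,0,0,0,2,0,2,2,0,0,0,0,0,0,0,0,0,0,1,2,2,2,0,2,2,2,0,0,0,0,0,0,0,0,0,0,1,2,0,2,2,2,0,2,2,2,1,1,1,1,1,1,1,1,1,0,0,2,2,2,2,2,2,0,0,0,0,0,0,0,0,0,0,2,2,2,1,1,1,1,1,1,1,1,1,0,0,0,0,0,0,0,0,0,0,1,0,0,0,0,0,0,0,0,0,0,2,2,2,1,1,1,1,1,1,1,1,1,1,1,1,1,1,1,1,1,1,2,2,2,0,2,2,2,0,0,0,0,0,0,0,0,0,0,0,0,0,0,0,0,0,0,0,0,1,1,1,1,1,1,1,1,1,1,1,1,1,1,1,1,1,1,0,0,0,0,0,0,0,0,0,0,2,0,0,0,0,0,0,0,0,0,0,2,0,1,1,1,1,1,1,1,1,1,0,0,2,0,0,0,0,0,0,0,0,0,0,1,0,0,0,0,0,0,0,0,0,0,2,1,1,1,1,1,1,1,1,1,0,0,0,0,0,0,0,0,0,0,2,2,2,0,0,0,0,0,0,0,0,0,0,0,0,0,0,0,0,0,0,0,0,2,2,2,0,0,0,0,0,0,0,0,0,0,2,2,2,1,0,0,0,0,0,0,0,0,0,0,1,2,0,1,0,0,0,0,0,0,0,0,0,0,2,2,2,1,0,0,0,0,0,0,0,0,0,0,2,2,2,1,1,1,1,1,1,1,1,1,0,0,0,0,0,0,0,0,0,0,1,1,1,1,1,1,1,1,1,2,2,2,0,2,0,0,0,0,0,0,0,0,0,0,2,0,2,2,2,0,2,2,2,1,1,1,1,1,1,1,1,1,0,0,0,0,0,0,0,0,0,0,2,2,2,0,0,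0,0,0,0,0,0,0,0,2,2,2,1,1,1,1,1,1,1,1,1,1,1,1,1,1,1,1,1,1,0,1,1,1,1,1,1,1,1,1,0,2,0,0,0,0,0,0,0,0,0,0,0,0,0,0,0,0,0,0,0,0,1,1,1,1,1,1,1,1,1,0,2,2,2,0,2,2,2,0,2,2,2,0,0,0,0,0,0,0,0,0,0,2,0,0,0,0,0,0,0,0,0,0,1,2,0,0,0,0,0,0,0,0,0,0,0,0,0,0,0,0,0,0,0,0,2,2,2,0,1,0,0,0,0,0,0,0,0,0,0,0,0,0,0,0,0,0,0,0,0,2,0,2,2,2,0,1,1,1,1,1,1,1,1,1,0,0,2,2,2,0,0,0,0,0,0,0,0,0,0,0,0,0,0,0,0,0,0,0,0,0,0,0,0,0,0,0,0,0,0,1,0,0,0,0,0,0,0,0,0,0,0,0,0,0,0,0,0,0,0,0,2,0,0,0,0,0,0,0,0,0,0,2,2,2,0,0,0,0,0,0,0,0,0,0,2,0,0,0,0,0,0,0,0,0,0,2,0,2,1,2,0,0,0,0,0,0,0,0,0,0,2,2,2,0,1,1,1,1,1,1,1,1,1,0,0,0,0,0,0,0,0,0,0,2,0,0,0,0,0,0,0,0,0,0,1,1,2,2,2,1,0,0,0,0,0,0,0,0,0,0,2,2,2,0,2,0,0,0,0,0,0,0,0,0,0,0,0,0,0,0,0,0,0,0,0,2,0,2,2,2,0,0,0,0,2,2,2,0,1,0,0,0,0,0,0,0,0,0,0,2,2,2,0,0,1,0,2,2,2,0,1,1,1,2,0,0,0,0,0,0,0,0,0,0,2,1,0,0,0,0,0,0,0,0,0,0,0,0,0,0,0,0,0,0,0,0,2,0,2,2,2,1,1,1,1,1,1,1,1,1,0,0,0,0,0,0,0,0,0,0,1,1,1,1,1,1,1,1,1,2,2,2,0,2,0,0,0,0,0,0,0,0,0,0,0,0,0,0,0,0,0,0,0,0,1,1,1,0,1,2,0,1,1,1,1,1,1,1,1,1,2,0,1,1,1,1,1,1,1,1,1,2,0,0,0,0,0,0,0,0,0,0,2,0,0,0,0,0,0,0,0,0,0,2,2,2,0,1,1,1,1,1,1,1,1,1,2,2,1,1,1,1,1,1,1,1,1,0,0,0,0,0,0,0,0,0,0,1,1,1,1,1,1,1,1,1,1,1,1,1,1,1,1,1,1,1,1,1,1,1,1,1,1,1,0,0,0,0,0,0,0,0,0,0,0,0,0,0,0,0,0,0,0,0,2,0,0,0,0,0,0,0,0,0,0,2,0,2,2,2,0,0,1,1,1,1,1,1,1,1,1],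
  [0,2,0,2,2,2,0,0,0,0,0,0,0,0,0,0,0,0,0,0,0,0,0,0,0,0,1,1,1,1,1,1,1,1,1,1,1,1,1,1,1,1,1,1,0,0,0,0,0,0,0,0,0,0,2,2,2,0,0,1,1,1,1,1,1,1,1,1,0,0,0,0,0,0,0,0,0,0,2,0,0,0,0,0,0,0,0,0,0,1,2,0,2,2,2,0,0,2,2,2,0,0,1,1,1,1,1,1,1,1,1,0,2,0,0,0,0,0,0,0,0,0,0,2,2,2,1,0,0,0,0,0,0,0,0,0,0,0,0,0,0,0,0,0,0,0,0,2,0,0,0,0,0,0,0,0,0,0,2,2,2,0,0,0,0,0,0,0,0,0,0,2,0,0,0,0,0,0,0,0,0,0,2,0,2,1,1,1,1,1,1,1,1,1,0,2,0,0,0,0,0,0,0,0,0,0,1,0,1,1,1,1,1,1,1,1,1,1,1,1,1,1,1,1,1,1,0,0,0,1,1,1,1,1,1,1,1,1,2,2,2,0,0,0,0,0,0,0,0,0,0,2,0,0,1,1,1,1,1,1,1,1,1,2,2,2,0,1,2,0,0,0,0,0,0,0,0,0,0,1,2,0,0,0,0,0,0,0,0,0,0,2,2,2,0,0,0,0,0,0,0,0,0,0,0,0,0,0,0,0,0,0,0,0,2,2,2,0,0,0,2,0,0,0,0,0,0,0,0,0,0,1,0,0,0,0,0,0,0,0,0,0,2,2,2,0,0,0,0,0,0,0,0,0,0,0,0,0,0,0,0,0,0,0,0,2,1,1,1,1,1,1,1,1,1,1,1,1,1,1,1,1,1,1,0,0,0,0,0,0,0,0,0,0,2,2,2,1,1,0,2,2,2,0,0,0,0,0,0,0,0,0,0,1,0,2,0,0,0,0,0,0,0,0,0,0,0,0,0,0,0,0,0,0,0,0,2,0,1,1,2,2,2,0,0,0,0,0,0,0,0,0,0,2,1,1,1,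1,1,1,1,1,1,0,2,2,2,0,2,2,2,0,0,0,0,0,0,0,0,0,0,0,0,0,0,0,0,0,0,0,0,2,2,2,1,0,0,0,0,0,0,0,0,0,0,0,0,0,0,0,0,0,0,0,0,1,1,1,1,1,1,1,1,1,0,0,0,0,0,0,0,0,0,0,1,0,2,2,2,1,0,0,0,0,0,0,0,0,0,0,0,0,0,0,0,0,0,0,0,0,2,0,0,0,0,0,0,0,0,0,0,0,0,0,0,0,0,0,0,0,0,2,2,2,1,1,1,1,1,1,1,1,1,0,0,0,0,0,0,0,0,0,0,2,0,1,1,0,1,0,2,2,0,0,0,0,0,0,0,0,0,0,1,2,0,0,0,0,0,0,0,0,0,0,1,2,2,2,0,0,0,0,0,0,0,0,0,0,2,2,2,1,0,0,0,0,0,0,0,0,0,0,1,1,0,2,2,2,0,2,2,2,0,0,0,0,0,0,0,0,0,0,0,0,0,0,0,0,0,0,0,0,0,0,0,0,0,0,0,0,0,0,1,0,2,2,2,0,2,2,2,1,0,0,2,0,0,0,0,0,0,0,0,0,0,1,0,0,0,0,0,0,0,0,0,0,2,0,0,0,0,0,0,0,0,0,0,0,0,0,0,0,0,0,0,0,0,2,0,0,0,0,0,0,0,0,0,0,2,0,0,0,0,0,0,0,0,0,0,2,2,2,0,0,0,2,0,0,0,0,0,0,0,0,0,0,0,0,0,0,0,0,0,0,0,0,0,0,0,0,0,0,0,0,0,0,2,1,1,1,1,1,1,1,1,1,0,2,2,2,1,1,1,1,1,1,1,1,1,0,0,0,0,0,0,0,0,0,0,2,1,0,0,0,0,0,0,0,0,0,0,2,2,2,1,0,1,2,0,2,0,0,0,0,0,0,0,0,0,0,2,2,2,0,0,0,0,0,0,0,0,0,0,1,0,2,1,1,1,1,1,1,1,1,1,0,2,2,2,0,0,0,0,0,0,0,0,0,0,2,0,1,1,1,1,1,1,1,1,1,0,0,1,1,1,1,1,1,1,1,1,2,0,0,0,0,0,0,0,0,0,0,1,0,0,0,0,0,0,0,0,0,0,2,0,0,0,0,0,0,0,0,0,0,2,2,2,0,0,2,2,2,0,0,0,0,0,0,0,0,0,0,2,1,0,0,1,2,0,0,0,0,0,0,0,0,0,0,0,0,0,0,0,0,0,0,0,0,1,1,1,1,1,1,1,1,1,0,0,0,0,0,0,0,0,0,0,2,0,0,0,0,0,0,0,0,0,0,2,0,2,2,2,0,0,0,0,0,0,0,0,0,0]]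

/-- The certificate. -/
def cert : AutCert.Cert where
  levX := levX
  levY := levY
  xWord := [5,0,4]
  hWord := [1,4,5,0,2,0,3,2,4,5,1,5,0,5,4,5,3,2,4,5,1,2,4,2,4,0,2,3,1,4,5,2,4,1,2,5,4,3,1,2,4,0]
  sWord := [5,2,0,2,0,1,5,2,5,1,4,1,4,3,1,2,3,5,4,2,3,4,5,2,4,2,1,5,0,2,0,2,0,5,1,4,0,2,0,5,2,4,1,4,5,2,0,2,0,4,2]
  xPow := [[],[5,0,4],[5,0,4,5,0,4],[5,0,4,5,0,4,5,0,4],[5,0,4,5,0,4,5,0,4,5,0,4],[5,0,4,5,0,4,5,0,4,5,0,4,5,0,4],[5,0,4,5,0,4,5,0,4,5,0,4,5,0,4,5,0,4],[5,0,4,5,0,4,5,0,4,5,0,4,5,0,4,5,0,4,5,0,4],[5,0,4,5,0,4,5,0,4,5,0,4,5,0,4,5,0,4,5,0,4,5,0,4],[5,0,4,5,0,4,5,0,4,5,0,4,5,0,4,5,0,4,5,0,4,5,0,4,5,0,4],[5,0,4,5,0,4,5,0,4,5,0,4,5,0,4,5,0,4,5,0,4,5,0,4,5,0,4,5,0,4]]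
  yPow := [[],[1,4,5,0,2,0,3,2,4,5,1,5,0,5,4,5,3,2,4,5,1,2,4,2,4,0,2,3,1,4,5,2,4,1,2,5,4,3,1,2,4,0],[1,4,5,0,2,0,3,2,4,5,1,5,0,5,4,5,3,2,4,5,1,2,4,2,4,0,2,3,1,4,5,2,4,1,2,5,4,3,1,2,4,0,1,4,5,0,2,0,3,2,4,5,1,5,0,5,4,5,3,2,4,5,1,2,4,2,4,0,2,3,1,4,5,2,4,1,2,5,4,3,1,2,4,0],[1,4,5,0,2,0,3,2,4,5,1,5,0,5,4,5,3,2,4,5,1,2,4,2,4,0,2,3,1,4,5,2,4,1,2,5,4,3,1,2,4,0,1,4,5,0,2,0,3,2,4,5,1,5,0,5,4,5,3,2,4,5,1,2,4,2,4,0,2,3,1,4,5,2,4,1,2,5,4,3,1,2,4,0,1,4,5,0,2,0,3,2,4,5,1,5,0,5,4,5,3,2,4,5,1,2,4,2,4,0,2,3,1,4,5,2,4,1,2,5,4,3,1,2,4,0],[1,4,5,0,2,0,3,2,4,5,1,5,0,5,4,5,3,2,4,5,1,2,4,2,4,0,2,3,1,4,5,2,4,1,2,5,4,3,1,2,4,0,1,4,5,0,2,0,3,2,4,5,1,5,0,5,4,5,3,2,4,5,1,2,4,2,4,0,2,3,1,4,5,2,4,1,2,5,4,3,1,2,4,0,1,4,5,0,2,0,3,2,4,5,1,5,0,5,4,5,3,2,4,5,1,2,4,2,4,0,2,3,1,4,5,2,4,1,2,5,4,3,1,2,4,0,1,4,5,0,2,0,3,2,4,5,1,5,0,5,4,5,3,2,4,5,1,2,4,2,4,0,2,3,1,4,5,2,4,1,2,5,4,3,1,2,4,0],[1,4,5,0,2,0,3,2,4,5,1,5,0,5,4,5,3,2,4,5,1,2,4,2,4,0,2,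3,1,4,5,2,4,1,2,5,4,3,1,2,4,0,1,4,5,0,2,0,3,2,4,5,1,5,0,5,4,5,3,2,4,5,1,2,4,2,4,0,2,3,1,4,5,2,4,1,2,5,4,3,1,2,4,0,1,4,5,0,2,0,3,2,4,5,1,5,0,5,4,5,3,2,4,5,1,2,4,2,4,0,2,3,1,4,5,2,4,1,2,5,4,3,1,2,4,0,1,4,5,0,2,0,3,2,4,5,1,5,0,5,4,5,3,2,4,5,1,2,4,2,4,0,2,3,1,4,5,2,4,1,2,5,4,3,1,2,4,0,1,4,5,0,2,0,3,2,4,5,1,5,0,5,4,5,3,2,4,5,1,2,4,2,4,0,2,3,1,4,5,2,4,1,2,5,4,3,1,2,4,0],[1,4,5,0,2,0,3,2,4,5,1,5,0,5,4,5,3,2,4,5,1,2,4,2,4,0,2,3,1,4,5,2,4,1,2,5,4,3,1,2,4,0,1,4,5,0,2,0,3,2,4,5,1,5,0,5,4,5,3,2,4,5,1,2,4,2,4,0,2,3,1,4,5,2,4,1,2,5,4,3,1,2,4,0,1,4,5,0,2,0,3,2,4,5,1,5,0,5,4,5,3,2,4,5,1,2,4,2,4,0,2,3,1,4,5,2,4,1,2,5,4,3,1,2,4,0,1,4,5,0,2,0,3,2,4,5,1,5,0,5,4,5,3,2,4,5,1,2,4,2,4,0,2,3,1,4,5,2,4,1,2,5,4,3,1,2,4,0,1,4,5,0,2,0,3,2,4,5,1,5,0,5,4,5,3,2,4,5,1,2,4,2,4,0,2,3,1,4,5,2,4,1,2,5,4,3,1,2,4,0,1,4,5,0,2,0,3,2,4,5,1,5,0,5,4,5,3,2,4,5,1,2,4,2,4,0,2,3,1,4,5,2,4,1,2,5,4,3,1,2,4,0],[1,4,5,0,2,0,3,2,4,5,1,5,0,5,4,5,3,2,4,5,1,2,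4,2,4,0,2,3,1,4,5,2,4,1,2,5,4,3,1,2,4,0,1,4,5,0,2,0,3,2,4,5,1,5,0,5,4,5,3,2,4,5,1,2,4,2,4,0,2,3,1,4,5,2,4,1,2,5,4,3,1,2,4,0,1,4,5,0,2,0,3,2,4,5,1,5,0,5,4,5,3,2,4,5,1,2,4,2,4,0,2,3,1,4,5,2,4,1,2,5,4,3,1,2,4,0,1,4,5,0,2,0,3,2,4,5,1,5,0,5,4,5,3,2,4,5,1,2,4,2,4,0,2,3,1,4,5,2,4,1,2,5,4,3,1,2,4,0,1,4,5,0,2,0,3,2,4,5,1,5,0,5,4,5,3,2,4,5,1,2,4,2,4,0,2,3,1,4,5,2,4,1,2,5,4,3,1,2,4,0,1,4,5,0,2,0,3,2,4,5,1,5,0,5,4,5,3,2,4,5,1,2,4,2,4,0,2,3,1,4,5,2,4,1,2,5,4,3,1,2,4,0,1,4,5,0,2,0,3,2,4,5,1,5,0,5,4,5,3,2,4,5,1,2,4,2,4,0,2,3,1,4,5,2,4,1,2,5,4,3,1,2,4,0],[1,4,5,0,2,0,3,2,4,5,1,5,0,5,4,5,3,2,4,5,1,2,4,2,4,0,2,3,1,4,5,2,4,1,2,5,4,3,1,2,4,0,1,4,5,0,2,0,3,2,4,5,1,5,0,5,4,5,3,2,4,5,1,2,4,2,4,0,2,3,1,4,5,2,4,1,2,5,4,3,1,2,4,0,1,4,5,0,2,0,3,2,4,5,1,5,0,5,4,5,3,2,4,5,1,2,4,2,4,0,2,3,1,4,5,2,4,1,2,5,4,3,1,2,4,0,1,4,5,0,2,0,3,2,4,5,1,5,0,5,4,5,3,2,4,5,1,2,4,2,4,0,2,3,1,4,5,2,4,1,2,5,4,3,1,2,4,0,1,4,5,0,2,0,3,2,4,5,1,5,0,5,4,5,3,2,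4,5,1,2,4,2,4,0,2,3,1,4,5,2,4,1,2,5,4,3,1,2,4,0,1,4,5,0,2,0,3,2,4,5,1,5,0,5,4,5,3,2,4,5,1,2,4,2,4,0,2,3,1,4,5,2,4,1,2,5,4,3,1,2,4,0,1,4,5,0,2,0,3,2,4,5,1,5,0,5,4,5,3,2,4,5,1,2,4,2,4,0,2,3,1,4,5,2,4,1,2,5,4,3,1,2,4,0,1,4,5,0,2,0,3,2,4,5,1,5,0,5,4,5,3,2,4,5,1,2,4,2,4,0,2,3,1,4,5,2,4,1,2,5,4,3,1,2,4,0],[1,4,5,0,2,0,3,2,4,5,1,5,0,5,4,5,3,2,4,5,1,2,4,2,4,0,2,3,1,4,5,2,4,1,2,5,4,3,1,2,4,0,1,4,5,0,2,0,3,2,4,5,1,5,0,5,4,5,3,2,4,5,1,2,4,2,4,0,2,3,1,4,5,2,4,1,2,5,4,3,1,2,4,0,1,4,5,0,2,0,3,2,4,5,1,5,0,5,4,5,3,2,4,5,1,2,4,2,4,0,2,3,1,4,5,2,4,1,2,5,4,3,1,2,4,0,1,4,5,0,2,0,3,2,4,5,1,5,0,5,4,5,3,2,4,5,1,2,4,2,4,0,2,3,1,4,5,2,4,1,2,5,4,3,1,2,4,0,1,4,5,0,2,0,3,2,4,5,1,5,0,5,4,5,3,2,4,5,1,2,4,2,4,0,2,3,1,4,5,2,4,1,2,5,4,3,1,2,4,0,1,4,5,0,2,0,3,2,4,5,1,5,0,5,4,5,3,2,4,5,1,2,4,2,4,0,2,3,1,4,5,2,4,1,2,5,4,3,1,2,4,0,1,4,5,0,2,0,3,2,4,5,1,5,0,5,4,5,3,2,4,5,1,2,4,2,4,0,2,3,1,4,5,2,4,1,2,5,4,3,1,2,4,0,1,4,5,0,2,0,3,2,4,5,1,5,0,5,4,5,3,2,4,5,1,2,4,2,4,0,2,3,1,4,5,2,4,1,2,5,4,3,1,2,4,0,1,4,5,0,2,0,3,2,4,5,1,5,0,5,4,5,3,2,4,5,1,2,4,2,4,0,2,3,1,4,5,2,4,1,2,5,4,3,1,2,4,0]]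
  ksX := [0,1,2,3,4]
  ksY := [0,1,2,3,4]
  xb := 0
  yb := 0
  genWords := genWords
  tauWords := []
  killers := [(23,[0,2]),(2,[0,2,2]),(23,[0,1,2])]
  p := 11
  e := 2
  f := 1
  c := 2
  k := 1

end Cfsg.Agent.Lib.SporOutCo2
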