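import Cfsg.Agent.Lib.SporOutCo2.Tables
import Cfsg.Agent.Lib.AutCert.Engine

/-! The transversals are right. -/

set_option autoImplicit false
set_option maxRecDepth 100000

namespace Cfsg.Agent.Lib.SporOutCo2

open Cfsg.Agent.Lib.Coset
open Cfsg.Agent.Lib.SporOutHe (levelOK entryOK valid_of_parts shapeOK total Valid)

theorem levX0part0 : levelOK tab [] levX0 0 460 = true := by decide +kernel

theorem levX0part1 : levelOK tab [] levX0 460 460 = true := by decide +kernel

theorem levX0part2 : levelOK tab [] levX0 920 460 = true := by decide +kernel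

theorem levX0part3 : levelOK tab [] levX0 1380 460 = true := by decide +kernel

theorem levX0part4 : levelOK tab [] levX0 1840 460 = true := by decide +kernel

theorem levX0part5 : levelOK tab [] levX0 2300 460 = true := by decide +kernel

theorem levX0part6 : levelOK tab [] levX0 2760 460 = true := by decide +kernel

theorem levX0part7 : levelOK tab [] levX0 3220 460 = true := by decide +kernel

theorem levX0part8 : levelOK tab [] levX0 3680 460 = true := by decide +kernel

theorem levX0part9 : levelOK tab [] levX0 4140 460 = true := by decide +kernel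

theorem levX0entries : ∀ d ∈ levX0.pts, entryOK tab [] levX0 d = true :=
  valid_of_parts [((0, 460) : ℕ × ℕ), ((460, 460) : ℕ × ℕ), ((920, 460) : ℕ × ℕ), ((1380, 460) : ℕ × ℕ), ((1840, 460) : ℕ × ℕ), ((2300, 460) : ℕ × ℕ), ((2760, 460) : ℕ × ℕ), ((3220, 460) : ℕ × ℕ), ((3680, 460) : ℕ × ℕ), ((4140, 460) : ℕ × ℕ)]
    (by simp only [List.forall_mem_cons, List.not_mem_nil, IsEmpty.forall_iff, implies_true, and_true]
        exact ⟨levX0part0, levX0part1, levX0part2, levX0part3, levX0part4, levX0part5, levX0part6, levX0part7, levX0part8, levX0part9⟩)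
    (fun k hk => by
      have hk : k < 4600 := lt_of_lt_of_eq hk (by decide +kernel)
      rcases (show (0 ≤ k ∧ k < 460) ∨ (460 ≤ k ∧ k < 920) ∨ (920 ≤ k ∧ k < 1380) ∨ (1380 ≤ k ∧ k < 1840) ∨ (1840 ≤ k ∧ k < 2300) ∨ (2300 ≤ k ∧ k < 2760) ∨ (2760 ≤ k ∧ k < 3220) ∨ (3220 ≤ k ∧ k < 3680) ∨ (3680 ≤ k ∧ k < 4140) ∨ (4140 ≤ k ∧ k < 4600) by omega) with h | h | h | h | h | h | h | h | h | h
      · exact ⟨((0, 460) : ℕ × ℕ), by simp, h⟩
      · exact ⟨((460, 460) : ℕ × ℕ), by simp, h⟩
      · exact ⟨((920, 460) : ℕ × ℕ), by simp, h⟩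
      · exact ⟨((1380, 460) : ℕ × ℕ), by simp, h⟩
      · exact ⟨((1840, 460) : ℕ × ℕ), by simp, h⟩
      · exact ⟨((2300, 460) : ℕ × ℕ), by simp, h⟩
      · exact ⟨((2760, 460) : ℕ × ℕ), by simp, h⟩
      · exact ⟨((3220, 460) : ℕ × ℕ), by simp, h⟩
      · exact ⟨((3680, 460) : ℕ × ℕ), by simp, h⟩
      · exact ⟨((4140, 460) : ℕ × ℕ), by simp, h⟩)

theorem levX1part0 : levelOK tab [levX0.b] levX1 0 460 = true := by decide +kernel

theorem levX1part1 : levelOK tab [levX0.b] levX1 460 431 = true := by decide +kernel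

theorem levX1entries : ∀ d ∈ levX1.pts, entryOK tab [levX0.b] levX1 d = true :=
  valid_of_parts [((0, 460) : ℕ × ℕ), ((460, 431) : ℕ × ℕ)]
    (by simp only [List.forall_mem_cons, List.not_mem_nil, IsEmpty.forall_iff, implies_true, and_true]
        exact ⟨levX1part0, levX1part1⟩)
    (fun k hk => by
      have hk : k < 891 := lt_of_lt_of_eq hk (by decide +kernel)
      rcases (show (0 ≤ k ∧ k < 460) ∨ (460 ≤ k ∧ k < 891) by omega) with h | h
      · exact ⟨((0, 460) : ℕ × ℕ), by simp, h⟩
      · exact ⟨((460, 431) : ℕ × ℕ), by simp, h⟩)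

theorem levX2part0 : levelOK tab [levX0.b,levX1.b] levX2 0 460 = true := by decide +kernel

theorem levX2part1 : levelOK tab [levX0.b,levX1.b] levX2 460 52 = true := by decide +kernel

theorem levX2entries : ∀ d ∈ levX2.pts, entryOK tab [levX0.b,levX1.b] levX2 d = true :=
  valid_of_parts [((0, 460) : ℕ × ℕ), ((460, 52) : ℕ × ℕ)]
    (by simp only [List.forall_mem_cons, List.not_mem_nil, IsEmpty.forall_iff, implies_true, and_true]
        exact ⟨levX2part0, levX2part1⟩)
    (fun k hk => by
      have hk : k < 512 := lt_of_lt_of_eq hk (by decide +kernel)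
      rcases (show (0 ≤ k ∧ k < 460) ∨ (460 ≤ k ∧ k < 512) by omega) with h | h
      · exact ⟨((0, 460) : ℕ × ℕ), by simp, h⟩
      · exact ⟨((460, 52) : ℕ × ℕ), by simp, h⟩)

theorem levX3part0 : levelOK tab [levX0.b,levX1.b,levX2.b] levX3 0 336 = true := by decide +kernel

theorem levX3entries : ∀ d ∈ levX3.pts, entryOK tab [levX0.b,levX1.b,levX2.b] levX3 d = true :=
  valid_of_parts [((0, 336) : ℕ × ℕ)]
    (by simp only [List.forall_mem_cons, List.not_mem_nil, IsEmpty.forall_iff, implies_true, and_true]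
        exact levX3part0)
    (fun k hk => by
      have hk : k < 336 := lt_of_lt_of_eq hk (by decide +kernel)
      exact ⟨((0, 336) : ℕ × ℕ), by simp, by omega, by omega⟩)

theorem levX4part0 : levelOK tab [levX0.b,levX1.b,levX2.b,levX3.b] levX4 0 60 = true := by decide +kernel

theorem levX4entries : ∀ d ∈ levX4.pts, entryOK tab [levX0.b,levX1.b,levX2.b,levX3.b] levX4 d = true :=
  valid_of_parts [((0, 60) : ℕ × ℕ)]
    (by simp only [List.forall_mem_cons, List.not_mem_nil, IsEmpty.forall_iff, implies_true, and_true]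
        exact levX4part0)
    (fun k hk => by
      have hk : k < 60 := lt_of_lt_of_eq hk (by decide +kernel)
      exact ⟨((0, 60) : ℕ × ℕ), by simp, by omega, by omega⟩)

theorem levXshapes : (levX.all (shapeOK tab)) = true ∧ total levX = 42305421312000 := by decide +kernel

theorem levXvalid : Valid tab levX [] :=
  ⟨(List.all_eq_true.1 levXshapes.1) levX0 (by simp [levX]), levX0entries, ⟨(List.all_eq_true.1 levXshapes.1) levX1 (by simp [levX]), levX1entries, ⟨(List.all_eq_true.1 levXshapes.1) levX2 (by simp [levX]), levX2entries, ⟨(List.all_eq_true.1 levXshapes.1) levX3 (by simp [levX]), levX3entries, ⟨(List.all_eq_true.1 levXshapes.1) levX4 (by simp [levX]), levX4entries, trivial⟩⟩⟩⟩⟩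

end Cfsg.Agent.Lib.SporOutCo2
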