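import Cfsg.Agent.Lib.SporOutCo2.Tables
import Cfsg.Agent.Lib.AutCert.Engine

/-! The transversals are right. -/

set_option autoImplicit false
set_option maxRecDepth 100000

namespace Cfsg.Agent.Lib.SporOutCo2

open Cfsg.Agent.Lib.Coset
open Cfsg.Agent.Lib.SporOutHe (levelOK entryOK valid_of_parts shapeOK total Valid)

theorem levY0part0 : levelOK tab [] levY0 0 460 = true := by decide +kernel

theorem levY0part1 : levelOK tab [] levY0 460 460 = true := by decide +kernel

theorem levY0part2 : levelOK tab [] levY0 920 460 = true := by decide +kernel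

theorem levY0part3 : levelOK tab [] levY0 1380 460 = true := by decide +kernel

theorem levY0part4 : levelOK tab [] levY0 1840 460 = true := by decide +kernel

theorem levY0part5 : levelOK tab [] levY0 2300 460 = true := by decide +kernel

theorem levY0part6 : levelOK tab [] levY0 2760 460 = true := by decide +kernel

theorem levY0part7 : levelOK tab [] levY0 3220 460 = true := by decide +kernel

theorem levY0part8 : levelOK tab [] levY0 3680 460 = true := by decide +kernel

theorem levY0part9 : levelOK tab [] levY0 4140 460 = true := by decide +kernel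

theorem levY0entries : ∀ d ∈ levY0.pts, entryOK tab [] levY0 d = true :=
  valid_of_parts [((0, 460) : ℕ × ℕ), ((460, 460) : ℕ × ℕ), ((920, 460) : ℕ × ℕ), ((1380, 460) : ℕ × ℕ), ((1840, 460) : ℕ × ℕ), ((2300, 460) : ℕ × ℕ), ((2760, 460) : ℕ × ℕ), ((3220, 460) : ℕ × ℕ), ((3680, 460) : ℕ × ℕ), ((4140, 460) : ℕ × ℕ)]
    (by simp only [List.forall_mem_cons, List.not_mem_nil, IsEmpty.forall_iff, implies_true, and_true]
        exact ⟨levY0part0, levY0part1, levY0part2, levY0part3, levY0part4, levY0part5, levY0part6, levY0part7, levY0part8, levY0part9⟩)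
    (fun k hk => by
      have hk : k < 4600 := lt_of_lt_of_eq hk (by decide +kernel)
      rcases (show (0 ≤ k ∧ k < 460) ∨ (460 ≤ k ∧ k < 920) ∨ (920 ≤ k ∧ k < 1380) ∨ (1380 ≤ k ∧ k < 1840) ∨ (1840 ≤ k ∧ k < 2300) ∨ (2300 ≤ k ∧ k < 2760) ∨ (2760 ≤ k ∧ k < 3220) ∨ (3220 ≤ k ∧ k < 3680) ∨ (3680 ≤ k ∧ k < 4140) ∨ (4140 ≤ k ∧ k < 4600) by omega) with h | h | h | h | h | h | h | h | h | h
      · exact ⟨((0, 460) : ℕ × ℕ), by simp, h⟩
      · exact ⟨((460, 460) : ℕ × ℕ), by simp, h⟩
      · exact ⟨((920, 460) : ℕ × ℕ), by simp, h⟩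
      · exact ⟨((1380, 460) : ℕ × ℕ), by simp, h⟩
      · exact ⟨((1840, 460) : ℕ × ℕ), by simp, h⟩
      · exact ⟨((2300, 460) : ℕ × ℕ), by simp, h⟩
      · exact ⟨((2760, 460) : ℕ × ℕ), by simp, h⟩
      · exact ⟨((3220, 460) : ℕ × ℕ), by simp, h⟩
      · exact ⟨((3680, 460) : ℕ × ℕ), by simp, h⟩
      · exact ⟨((4140, 460) : ℕ × ℕ), by simp, h⟩)

theorem levY1part0 : levelOK tab [levY0.b] levY1 0 460 = true := by decide +kernel

theorem levY1part1 : levelOK tab [levY0.b] levY1 460 460 = true := by decide +kernel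

theorem levY1part2 : levelOK tab [levY0.b] levY1 920 460 = true := by decide +kernel

theorem levY1part3 : levelOK tab [levY0.b] levY1 1380 460 = true := by decide +kernel

theorem levY1part4 : levelOK tab [levY0.b] levY1 1840 460 = true := by decide +kernel

theorem levY1part5 : levelOK tab [levY0.b] levY1 2300 460 = true := by decide +kernel

theorem levY1part6 : levelOK tab [levY0.b] levY1 2760 56 = true := by decide +kernel

theorem levY1entries : ∀ d ∈ levY1.pts, entryOK tab [levY0.b] levY1 d = true :=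
  valid_of_parts [((0, 460) : ℕ × ℕ), ((460, 460) : ℕ × ℕ), ((920, 460) : ℕ × ℕ), ((1380, 460) : ℕ × ℕ), ((1840, 460) : ℕ × ℕ), ((2300, 460) : ℕ × ℕ), ((2760, 56) : ℕ × ℕ)]
    (by simp only [List.forall_mem_cons, List.not_mem_nil, IsEmpty.forall_iff, implies_true, and_true]
        exact ⟨levY1part0, levY1part1, levY1part2, levY1part3, levY1part4, levY1part5, levY1part6⟩)
    (fun k hk => by
      have hk : k < 2816 := lt_of_lt_of_eq hk (by decide +kernel)
      rcases (show (0 ≤ k ∧ k < 460) ∨ (460 ≤ k ∧ k < 920) ∨ (920 ≤ k ∧ k < 1380) ∨ (1380 ≤ k ∧ k < 1840) ∨ (1840 ≤ k ∧ k < 2300) ∨ (2300 ≤ k ∧ k < 2760) ∨ (2760 ≤ k ∧ k < 2816) by omega) with h | h | h | h | h | h | h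
      · exact ⟨((0, 460) : ℕ × ℕ), by simp, h⟩
      · exact ⟨((460, 460) : ℕ × ℕ), by simp, h⟩
      · exact ⟨((920, 460) : ℕ × ℕ), by simp, h⟩
      · exact ⟨((1380, 460) : ℕ × ℕ), by simp, h⟩
      · exact ⟨((1840, 460) : ℕ × ℕ), by simp, h⟩
      · exact ⟨((2300, 460) : ℕ × ℕ), by simp, h⟩
      · exact ⟨((2760, 56) : ℕ × ℕ), by simp, h⟩)

theorem levY2part0 : levelOK tab [levY0.b,levY1.b] levY2 0 460 = true := by decide +kernel

theorem levY2part1 : levelOK tab [levY0.b,levY1.b] levY2 460 460 = true := by decide +kernel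

theorem levY2part2 : levelOK tab [levY0.b,levY1.b] levY2 920 460 = true := by decide +kernel

theorem levY2part3 : levelOK tab [levY0.b,levY1.b] levY2 1380 300 = true := by decide +kernel

theorem levY2entries : ∀ d ∈ levY2.pts, entryOK tab [levY0.b,levY1.b] levY2 d = true :=
  valid_of_parts [((0, 460) : ℕ × ℕ), ((460, 460) : ℕ × ℕ), ((920, 460) : ℕ × ℕ), ((1380, 300) : ℕ × ℕ)]
    (by simp only [List.forall_mem_cons, List.not_mem_nil, IsEmpty.forall_iff, implies_true, and_true]
        exact ⟨levY2part0, levY2part1, levY2part2, levY2part3⟩)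
    (fun k hk => by
      have hk : k < 1680 := lt_of_lt_of_eq hk (by decide +kernel)
      rcases (show (0 ≤ k ∧ k < 460) ∨ (460 ≤ k ∧ k < 920) ∨ (920 ≤ k ∧ k < 1380) ∨ (1380 ≤ k ∧ k < 1680) by omega) with h | h | h | h
      · exact ⟨((0, 460) : ℕ × ℕ), by simp, h⟩
      · exact ⟨((460, 460) : ℕ × ℕ), by simp, h⟩
      · exact ⟨((920, 460) : ℕ × ℕ), by simp, h⟩
      · exact ⟨((1380, 300) : ℕ × ℕ), by simp, h⟩)

theorem levY3part0 : levelOK tab [levY0.b,levY1.b,levY2.b] levY3 0 460 = true := by decide +kernel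

theorem levY3part1 : levelOK tab [levY0.b,levY1.b,levY2.b] levY3 460 460 = true := by decide +kernel

theorem levY3part2 : levelOK tab [levY0.b,levY1.b,levY2.b] levY3 920 52 = true := by decide +kernel

theorem levY3entries : ∀ d ∈ levY3.pts, entryOK tab [levY0.b,levY1.b,levY2.b] levY3 d = true :=
  valid_of_parts [((0, 460) : ℕ × ℕ), ((460, 460) : ℕ × ℕ), ((920, 52) : ℕ × ℕ)]
    (by simp only [List.forall_mem_cons, List.not_mem_nil, IsEmpty.forall_iff, implies_true, and_true]
        exact ⟨levY3part0, levY3part1, levY3part2⟩)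
    (fun k hk => by
      have hk : k < 972 := lt_of_lt_of_eq hk (by decide +kernel)
      rcases (show (0 ≤ k ∧ k < 460) ∨ (460 ≤ k ∧ k < 920) ∨ (920 ≤ k ∧ k < 972) by omega) with h | h | h
      · exact ⟨((0, 460) : ℕ × ℕ), by simp, h⟩
      · exact ⟨((460, 460) : ℕ × ℕ), by simp, h⟩
      · exact ⟨((920, 52) : ℕ × ℕ), by simp, h⟩)

theorem levY4part0 : levelOK tab [levY0.b,levY1.b,levY2.b,levY3.b] levY4 0 2 = true := by decide +kernel

theorem levY4entries : ∀ d ∈ levY4.pts, entryOK tab [levY0.b,levY1.b,levY2.b,levY3.b] levY4 d = true :=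
  valid_of_parts [((0, 2) : ℕ × ℕ)]
    (by simp only [List.forall_mem_cons, List.not_mem_nil, IsEmpty.forall_iff, implies_true, and_true]
        exact levY4part0)
    (fun k hk => by
      have hk : k < 2 := lt_of_lt_of_eq hk (by decide +kernel)
      exact ⟨((0, 2) : ℕ × ℕ), by simp, by omega, by omega⟩)

theorem levYshapes : (levY.all (shapeOK tab)) = true ∧ total levY = 42305421312000 := by decide +kernel

theorem levYvalid : Valid tab levY [] :=
  ⟨(List.all_eq_true.1 levYshapes.1) levY0 (by simp [levY]), levY0entries, ⟨(List.all_eq_true.1 levYshapes.1) levY1 (by simp [levY]), levY1entries, ⟨(List.all_eq_true.1 levYshapes.1) levY2 (by simp [levY]), levY2entries, ⟨(List.all_eq_true.1 levYshapes.1) levY3 (by simp [levY]), levY3entries, ⟨(List.all_eq_true.1 levYshapes.1) levY4 (by simp [levY]), levY4entries, trivial⟩⟩⟩⟩⟩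

end Cfsg.Agent.Lib.SporOutCo2
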