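import Cfsg.Agent.Lib.SporOutCo2.Data
import Cfsg.Agent.Lib.SporOutCo2.Census
import Cfsg.Agent.Lib.SporOutHe.Sift
import Cfsg.Agent.Lib.Leech.PtsPerm
import Cfsg.Agent.Lib.Leech.SporIso
import Cfsg.Agent.Lib.Leech.ConwayStab

/-! The representation of the stabilizer of a minimal vector on 4600 points. -/

set_option autoImplicit false

namespace Cfsg.Agent.Lib.SporOutCo2

open Cfsg Cfsg.Agent.Lib.Coset Cfsg.Agent.Lib.Leech Golay
open scoped Pointwise

/-- A faithful representation on a certified orbit, given by a table, from simplicity. -/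
theorem exists_tab_rep {gs : List (List Op)} {T : List (ℕ × ℕ)} {start : ℕ} (P : Tab) (hP : P.Good)
    (v : ℕ → ℕ) (h : orbitOK gs T start P.size = true) (hlenG : P.gens = gs.length)
    (hV : ∀ i < P.size, (orbitVecs gs T start).getD i 0 = v i)
    (hperm : ∀ j < P.gens, ∀ i < P.size, key (wRun (gs.getD j []) (v i)) = key (v (P.act j i)))
    (hne : ∃ j < P.gens, ∃ i < P.size, P.act j i ≠ i)
    (K : Subgroup ↥Co0) [IsSimpleGroup K] (hK : ∀ g ∈ gs, wCo g ∈ K) {x : ↥leechLattice}
    (hx : (x : GolayPt → ℤ) = toVec start) (hx64 : sqNorm (x : GolayPt → ℤ) ≤ 64)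
    (S : Set ↥leechLattice) (hn : S.ncard = P.size) (hxS : x ∈ S) (hS : ∀ k ∈ K, ∀ y ∈ S, k • y ∈ S) :
    ∃ φ : ↥K →* Equiv.Perm (Fin P.size), Function.Injective φ ∧ ∀ j < P.gens, P.perm hP j ∈ φ.range := by
  simp only [orbitOK, Bool.and_eq_true, List.all_eq_true, Nat.blt_eq, beq_iff_eq] at h
  obtain ⟨⟨⟨hok, hT⟩, hlen⟩, hd⟩ := h
  obtain ⟨hnd, -⟩ := distinctFrom_spec hd
  set V := orbitVecs gs T start with hVdef
  have hall : ∀ a ∈ V, ∃ k ∈ K, ((k • x : ↥leechLattice) : GolayPt → ℤ) = toVec a := by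
    intro a ha
    rcases List.mem_cons.1 ha with rfl | ha
    · exact ⟨1, Subgroup.one_mem K, by rw [one_smul]; exact hx⟩
    · exact walk_reach K hok hK x hx64 T [start] hT
        (fun c hc => by rw [List.mem_singleton.1 hc]; exact ⟨1, Subgroup.one_mem K, by rw [one_smul]; exact hx⟩) a ha
  choose f hf1 hf2 using hall
  have hmem : ∀ i : Fin P.size, V.getD i 0 ∈ V := fun i => by
    rw [List.getD_eq_getElem _ _ (show (i : ℕ) < V.length by rw [hlen]; exact i.2)]; exact List.getElem_mem _
  let w : Fin P.size → S := fun i => ⟨f _ (hmem i) • x, hS _ (hf1 _ _) x hxS⟩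
  have hw : ∀ i, ((w i : ↥leechLattice) : GolayPt → ℤ) = toVec (V.getD i 0) := fun i => hf2 _ _
  have hkey : ∀ {i j : Fin P.size}, key (V.getD i 0) = key (V.getD j 0) → i = j := fun {i j} e => by
    rw [List.getD_eq_getElem _ _ (show (i : ℕ) < V.length by rw [hlen]; exact i.2), List.getD_eq_getElem _ _ (show (j : ℕ) < V.length by rw [hlen]; exact j.2)] at e
    have hi : (i : ℕ) < (V.map key).length := by rw [List.length_map, hlen]; exact i.2
    have hj : (j : ℕ) < (V.map key).length := by rw [List.length_map, hlen]; exact j.2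
    exact Fin.ext ((hnd.getElem_inj_iff (hi := hi) (hj := hj)).1 (by simpa using e))
  have hinj : Function.Injective w := fun i j e => hkey (key_congr (by rw [← hw, ← hw, e]))
  have hnpos : 0 < P.size := by rw [← hlen, hVdef, orbitVecs, List.length_cons]; omega
  haveI : Finite S := (Set.finite_of_ncard_pos (hn ▸ hnpos)).to_subtype
  have hbij := hinj.bijective_of_nat_card_le (by rw [Nat.card_fin, Nat.card_coe_set_eq, hn])
  let e := Equiv.ofBijective w hbij
  let act : ↥K → Fin P.size → Fin P.size := fun g i =>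
    e.symm ⟨(g : ↥Co0) • (e i : ↥leechLattice), hS _ g.2 _ (e i).2⟩
  have hact : ∀ g i, ((e (act g i) : S) : ↥leechLattice) = (g : ↥Co0) • (e i : ↥leechLattice) := fun g i => by
    simp [act]
  have hmul : ∀ g g' i, act (g * g') i = act g (act g' i) := fun g g' i =>
    e.injective (Subtype.ext (by rw [hact, hact, hact, Subgroup.coe_mul, mul_smul]))
  have hone : ∀ i, act 1 i = i := fun i => e.injective (Subtype.ext (by rw [hact, Subgroup.coe_one, one_smul]))
  let φ : ↥K →* Equiv.Perm (Fin P.size) :=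
    { toFun := fun g => ⟨act g, act g⁻¹, fun i => by rw [← hmul, inv_mul_cancel, hone],
        fun i => by rw [← hmul, mul_inv_cancel, hone]⟩
      map_one' := Equiv.ext hone
      map_mul' := fun g g' => Equiv.ext (hmul g g') }
  have himg : ∀ j < P.gens, ∃ g, φ g = P.perm hP j := by
    intro j hj
    have hjg : j < gs.length := hlenG ▸ hj
    have hwm : gs.getD j [] ∈ gs := by rw [List.getD_eq_getElem _ _ hjg]; exact List.getElem_mem hjg
    refine ⟨⟨wCo (gs.getD j []), hK _ hwm⟩, Equiv.ext fun i => hkey ?_⟩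
    have hval : ((P.perm hP j i : Fin P.size) : ℕ) = P.act j i := by
      rw [Tab.perm, dif_pos hj]; rfl
    rw [hV ((P.perm hP j i : Fin P.size) : ℕ) (P.perm hP j i).2, hval, ← hperm j hj i i.2]
    refine key_congr ?_
    rw [← hw]
    show (((e (act _ i) : S) : ↥leechLattice) : GolayPt → ℤ) = _
    rw [hact]
    exact wRun_spec (hok _ hwm) ((hw i).trans (congrArg toVec (hV i i.2))) (by
      show sqNorm ((f _ (hmem i) • x : ↥leechLattice) : GolayPt → ℤ) ≤ 64
      exact (Same.sqNorm_eq (x := x) ⟨f _ (hmem i), rfl⟩).le.trans hx64)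
  refine ⟨φ, ?_, fun j hj => himg j hj⟩
  rw [← MonoidHom.ker_eq_bot_iff]
  refine (IsSimpleGroup.eq_bot_or_eq_top_of_normal φ.ker inferInstance).resolve_right fun htop => ?_
  obtain ⟨j, hj, i, hi, hji⟩ := hne
  obtain ⟨g, hg⟩ := himg j hj
  have h1 : φ g = 1 := by
    have : g ∈ φ.ker := htop ▸ Subgroup.mem_top g
    exact this
  rw [hg] at h1
  have h2 := congrArg (fun q : Equiv.Perm (Fin P.size) => ((q ⟨i, hi⟩ : Fin P.size) : ℕ)) h1
  simp only [Tab.perm, dif_pos hj, Equiv.Perm.one_apply] at h2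
  exact hji h2

/-- A model on a subgroup generated by the columns of a table. -/
noncomputable def closureModel (P : Tab) (hP : P.Good) :
    AutCert.Model ↥(Subgroup.closure (P.perm hP '' Set.Iio P.gens)) where
  tab := P
  good := hP
  φ := fun k => if h : k < P.gens then ⟨P.perm hP k, Subgroup.subset_closure ⟨k, h, rfl⟩⟩ else 1
  act := (Subgroup.closure (P.perm hP '' Set.Iio P.gens)).subtype
  act_φ := fun g hg => by rw [dif_pos hg]; rfl
  inj := Subtype.val_injective
  gen := by
    refine Subgroup.map_injective Subtype.val_injective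
      (?_ : Subgroup.map (Subgroup.closure (P.perm hP '' Set.Iio P.gens)).subtype _ = Subgroup.map _ _)
    rw [← MonoidHom.range_eq_map, Subgroup.range_subtype, MonoidHom.map_closure, Set.image_image]
    refine congrArg _ (Set.image_congr fun k hk => ?_)
    rw [dif_pos (Set.mem_Iio.1 hk)]
    rfl

theorem inside_closure {P : Tab} (hP : P.Good) {Ls : List SporOutHe.Level} {before : List ℕ}
    (hv : SporOutHe.Valid P Ls before) :
    SporOutHe.Inside hP (Subgroup.closure (P.perm hP '' Set.Iio P.gens)) Ls := by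
  intro L hL d hd w hw
  have hl := AutCert.Model.valid_letters hv L hL d hd w hw
  refine Subgroup.list_prod_mem _ fun q hq => ?_
  obtain ⟨a, ha, rfl⟩ := List.mem_map.1 hq
  exact Subgroup.subset_closure ⟨a, hl a ha, rfl⟩

end Cfsg.Agent.Lib.SporOutCo2
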