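import Cfsg.Agent.Lib.SporOutCo2.SearchX1
import Cfsg.Agent.Lib.SporOutCo2.SearchX2

/-! The search over all points. -/

set_option autoImplicit false
set_option maxRecDepth 100000

namespace Cfsg.Agent.Lib.SporOutCo2

open Cfsg.Agent.Lib.Coset
open Cfsg.Agent.Lib.AutCert (searchOK)

/-- The ranges of the search. -/
def partsX : List (ℕ × ℕ) := (List.range 40).map fun i => (115 * i, 115)

theorem coverX : ∀ k < tab.size, ∃ q ∈ partsX, q.1 ≤ k ∧ k < q.1 + q.2 := by
  intro k hk
  have hk' : k < 4600 := hk
  exact ⟨(115 * (k / 115), 115), List.mem_map.2 ⟨k / 115, List.mem_range.2 (by omega), rfl⟩, by simp only; omega, by simp only; omega⟩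

theorem searchX : ∀ q ∈ partsX, searchOK tab cert.bases cert.levX cert.xPow cert.ksX cert.xWord cert.xWord (cert.goodX tab) q.1 q.2 = true := by
  intro q hq
  obtain ⟨i, hi, rfl⟩ := List.mem_map.1 hq
  have hi' : i < 40 := List.mem_range.1 hi
  interval_cases i
  · exact searchX0
  · exact searchX1
  · exact searchX2
  · exact searchX3
  · exact searchX4
  · exact searchX5
  · exact searchX6
  · exact searchX7
  · exact searchX8
  · exact searchX9
  · exact searchX10
  · exact searchX11
  · exact searchX12
  · exact searchX13
  · exact searchX14
  · exact searchX15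
  · exact searchX16
  · exact searchX17
  · exact searchX18
  · exact searchX19
  · exact searchX20
  · exact searchX21
  · exact searchX22
  · exact searchX23
  · exact searchX24
  · exact searchX25
  · exact searchX26
  · exact searchX27
  · exact searchX28
  · exact searchX29
  · exact searchX30
  · exact searchX31
  · exact searchX32
  · exact searchX33
  · exact searchX34
  · exact searchX35
  · exact searchX36
  · exact searchX37
  · exact searchX38
  · exact searchX39

end Cfsg.Agent.Lib.SporOutCo2
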