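import Cfsg.Agent.Lib.SporOutCo2.Tables
import Cfsg.Agent.Lib.AutCert.Main

/-! A search. -/

set_option autoImplicit false
set_option maxRecDepth 100000

namespace Cfsg.Agent.Lib.SporOutCo2

open Cfsg.Agent.Lib.Coset
open Cfsg.Agent.Lib.AutCert (searchOK)

theorem searchY20 : searchOK tab cert.bases cert.levY cert.yPow cert.ksY cert.yWord cert.yWord (cert.goodY tab) 2300 115 = true := by decide +kernel

theorem searchY21 : searchOK tab cert.bases cert.levY cert.yPow cert.ksY cert.yWord cert.yWord (cert.goodY tab) 2415 115 = true := by decide +kernel

theorem searchY22 : searchOK tab cert.bases cert.levY cert.yPow cert.ksY cert.yWord cert.yWord (cert.goodY tab) 2530 115 = true := by decide +kernel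

theorem searchY23 : searchOK tab cert.bases cert.levY cert.yPow cert.ksY cert.yWord cert.yWord (cert.goodY tab) 2645 115 = true := by decide +kernel

theorem searchY24 : searchOK tab cert.bases cert.levY cert.yPow cert.ksY cert.yWord cert.yWord (cert.goodY tab) 2760 115 = true := by decide +kernel

theorem searchY25 : searchOK tab cert.bases cert.levY cert.yPow cert.ksY cert.yWord cert.yWord (cert.goodY tab) 2875 115 = true := by decide +kernel

theorem searchY26 : searchOK tab cert.bases cert.levY cert.yPow cert.ksY cert.yWord cert.yWord (cert.goodY tab) 2990 115 = true := by decide +kernel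

theorem searchY27 : searchOK tab cert.bases cert.levY cert.yPow cert.ksY cert.yWord cert.yWord (cert.goodY tab) 3105 115 = true := by decide +kernel

theorem searchY28 : searchOK tab cert.bases cert.levY cert.yPow cert.ksY cert.yWord cert.yWord (cert.goodY tab) 3220 115 = true := by decide +kernel

theorem searchY29 : searchOK tab cert.bases cert.levY cert.yPow cert.ksY cert.yWord cert.yWord (cert.goodY tab) 3335 115 = true := by decide +kernel

theorem searchY30 : searchOK tab cert.bases cert.levY cert.yPow cert.ksY cert.yWord cert.yWord (cert.goodY tab) 3450 115 = true := by decide +kernel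

theorem searchY31 : searchOK tab cert.bases cert.levY cert.yPow cert.ksY cert.yWord cert.yWord (cert.goodY tab) 3565 115 = true := by decide +kernel

theorem searchY32 : searchOK tab cert.bases cert.levY cert.yPow cert.ksY cert.yWord cert.yWord (cert.goodY tab) 3680 115 = true := by decide +kernel

theorem searchY33 : searchOK tab cert.bases cert.levY cert.yPow cert.ksY cert.yWord cert.yWord (cert.goodY tab) 3795 115 = true := by decide +kernel

theorem searchY34 : searchOK tab cert.bases cert.levY cert.yPow cert.ksY cert.yWord cert.yWord (cert.goodY tab) 3910 115 = true := by decide +kernel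

theorem searchY35 : searchOK tab cert.bases cert.levY cert.yPow cert.ksY cert.yWord cert.yWord (cert.goodY tab) 4025 115 = true := by decide +kernel

theorem searchY36 : searchOK tab cert.bases cert.levY cert.yPow cert.ksY cert.yWord cert.yWord (cert.goodY tab) 4140 115 = true := by decide +kernel

theorem searchY37 : searchOK tab cert.bases cert.levY cert.yPow cert.ksY cert.yWord cert.yWord (cert.goodY tab) 4255 115 = true := by decide +kernel

theorem searchY38 : searchOK tab cert.bases cert.levY cert.yPow cert.ksY cert.yWord cert.yWord (cert.goodY tab) 4370 115 = true := by decide +kernel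

theorem searchY39 : searchOK tab cert.bases cert.levY cert.yPow cert.ksY cert.yWord cert.yWord (cert.goodY tab) 4485 115 = true := by decide +kernel

end Cfsg.Agent.Lib.SporOutCo2
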