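import Cfsg.Agent.Lib.SporOutCo2.SearchY1
import Cfsg.Agent.Lib.SporOutCo2.SearchY2

/-! The search over all points. -/

set_option autoImplicit false
set_option maxRecDepth 100000

namespace Cfsg.Agent.Lib.SporOutCo2

open Cfsg.Agent.Lib.Coset
open Cfsg.Agent.Lib.AutCert (searchOK)

/-- The ranges of the search. -/
def partsY : List (ℕ × ℕ) := (List.range 40).map fun i => (115 * i, 115)

theorem coverY : ∀ k < tab.size, ∃ q ∈ partsY, q.1 ≤ k ∧ k < q.1 + q.2 := by
  intro k hk
  have hk' : k < 4600 := hk
  exact ⟨(115 * (k / 115), 115), List.mem_map.2 ⟨k / 115, List.mem_range.2 (by omega), rfl⟩, by simp only; omega, by simp only; omega⟩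

theorem searchY : ∀ q ∈ partsY, searchOK tab cert.bases cert.levY cert.yPow cert.ksY cert.yWord cert.yWord (cert.goodY tab) q.1 q.2 = true := by
  intro q hq
  obtain ⟨i, hi, rfl⟩ := List.mem_map.1 hq
  have hi' : i < 40 := List.mem_range.1 hi
  interval_cases i
  · exact searchY0
  · exact searchY1
  · exact searchY2
  · exact searchY3
  · exact searchY4
  · exact searchY5
  · exact searchY6
  · exact searchY7
  · exact searchY8
  · exact searchY9
  · exact searchY10
  · exact searchY11
  · exact searchY12
  · exact searchY13
  · exact searchY14
  · exact searchY15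
  · exact searchY16
  · exact searchY17
  · exact searchY18
  · exact searchY19
  · exact searchY20
  · exact searchY21
  · exact searchY22
  · exact searchY23
  · exact searchY24
  · exact searchY25
  · exact searchY26
  · exact searchY27
  · exact searchY28
  · exact searchY29
  · exact searchY30
  · exact searchY31
  · exact searchY32
  · exact searchY33
  · exact searchY34
  · exact searchY35
  · exact searchY36
  · exact searchY37
  · exact searchY38
  · exact searchY39

end Cfsg.Agent.Lib.SporOutCo2
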