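import Cfsg.Agent.Lib.SporOutCo2.Data
import Cfsg.Agent.Lib.Coset.Action

/-! The table is the action on the vectors. -/

set_option autoImplicit false
set_option maxRecDepth 100000

namespace Cfsg.Agent.Lib.SporOutCo2

open Cfsg.Agent.Lib.Coset
open Cfsg.Agent.Lib.Leech

theorem good : tab.Good :=
  Tab.good_of_invOK (B := 1150) (fun k hk => by
    have hk' : k < 4 := by have : k * 1150 < 4600 := hk; omega
    interval_cases k <;> decide +kernel) (by norm_num)

theorem orbit_ok : orbitOK gens tree start 4600 = true := by decide +kernel

theorem vecs_eq : (orbitVecs gens tree start == (List.range 4600).map vecs.get) = true := by decide +kernel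

/-- The table agrees with a generator on a range of points. -/
noncomputable def permPart (j lo len : ℕ) : Bool :=
  (List.range len).all fun i =>
    Nat.beq (key (wRun (gens.getD j []) (vecs.get (lo + i)))) (key (vecs.get (tab.act j (lo + i))))

theorem perm0_0 : permPart 0 0 1150 = true := by decide +kernel

theorem perm0_1 : permPart 0 1150 1150 = true := by decide +kernel

theorem perm0_2 : permPart 0 2300 1150 = true := by decide +kernel

theorem perm0_3 : permPart 0 3450 1150 = true := by decide +kernel

theorem perm1_0 : permPart 1 0 1150 = true := by decide +kernel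

theorem perm1_1 : permPart 1 1150 1150 = true := by decide +kernel

theorem perm1_2 : permPart 1 2300 1150 = true := by decide +kernel

theorem perm1_3 : permPart 1 3450 1150 = true := by decide +kernel

theorem perm2_0 : permPart 2 0 1150 = true := by decide +kernel

theorem perm2_1 : permPart 2 1150 1150 = true := by decide +kernel

theorem perm2_2 : permPart 2 2300 1150 = true := by decide +kernel

theorem perm2_3 : permPart 2 3450 1150 = true := by decide +kernel

theorem perm3_0 : permPart 3 0 1150 = true := by decide +kernel

theorem perm3_1 : permPart 3 1150 1150 = true := by decide +kernel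

theorem perm3_2 : permPart 3 2300 1150 = true := by decide +kernel

theorem perm3_3 : permPart 3 3450 1150 = true := by decide +kernel

theorem perm4_0 : permPart 4 0 1150 = true := by decide +kernel

theorem perm4_1 : permPart 4 1150 1150 = true := by decide +kernel

theorem perm4_2 : permPart 4 2300 1150 = true := by decide +kernel

theorem perm4_3 : permPart 4 3450 1150 = true := by decide +kernel

theorem perm5_0 : permPart 5 0 1150 = true := by decide +kernel

theorem perm5_1 : permPart 5 1150 1150 = true := by decide +kernel

theorem perm5_2 : permPart 5 2300 1150 = true := by decide +kernel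

theorem perm5_3 : permPart 5 3450 1150 = true := by decide +kernel

theorem vecs_getD : ∀ i < tab.size, (orbitVecs gens tree start).getD i 0 = vecs.get i := by
  intro i hi
  rw [eq_of_beq vecs_eq, List.getD_eq_getElem _ _ (by rw [List.length_map, List.length_range]; exact hi)]
  simp

theorem perm_part {j lo : ℕ} (h : permPart j lo 1150 = true) (i : ℕ) (h1 : lo ≤ i) (h2 : i < lo + 1150) :
    key (wRun (gens.getD j []) (vecs.get i)) = key (vecs.get (tab.act j i)) := by
  simp only [permPart, List.all_eq_true, List.mem_range, Nat.beq_eq] at h
  have h3 := h (i - lo) (by omega)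
  rwa [show lo + (i - lo) = i by omega] at h3

theorem perm_all : ∀ j < tab.gens, ∀ i < tab.size,
    key (wRun (gens.getD j []) (vecs.get i)) = key (vecs.get (tab.act j i)) := by
  intro j hj i hi
  have hj' : j < 6 := hj
  have hi' : i < 4600 := hi
  interval_cases j
  · rcases (show (i < 1150) ∨ (1150 ≤ i ∧ i < 2300) ∨ (2300 ≤ i ∧ i < 3450) ∨ (3450 ≤ i ∧ i < 4600) by omega) with h | h | h | h
    · exact perm_part perm0_0 i (by omega) (by omega)
    · exact perm_part perm0_1 i (by omega) (by omega)
    · exact perm_part perm0_2 i (by omega) (by omega)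
    · exact perm_part perm0_3 i (by omega) (by omega)
  · rcases (show (i < 1150) ∨ (1150 ≤ i ∧ i < 2300) ∨ (2300 ≤ i ∧ i < 3450) ∨ (3450 ≤ i ∧ i < 4600) by omega) with h | h | h | h
    · exact perm_part perm1_0 i (by omega) (by omega)
    · exact perm_part perm1_1 i (by omega) (by omega)
    · exact perm_part perm1_2 i (by omega) (by omega)
    · exact perm_part perm1_3 i (by omega) (by omega)
  · rcases (show (i < 1150) ∨ (1150 ≤ i ∧ i < 2300) ∨ (2300 ≤ i ∧ i < 3450) ∨ (3450 ≤ i ∧ i < 4600) by omega) with h | h | h | h
    · exact perm_part perm2_0 i (by omega) (by omega)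
    · exact perm_part perm2_1 i (by omega) (by omega)
    · exact perm_part perm2_2 i (by omega) (by omega)
    · exact perm_part perm2_3 i (by omega) (by omega)
  · rcases (show (i < 1150) ∨ (1150 ≤ i ∧ i < 2300) ∨ (2300 ≤ i ∧ i < 3450) ∨ (3450 ≤ i ∧ i < 4600) by omega) with h | h | h | h
    · exact perm_part perm3_0 i (by omega) (by omega)
    · exact perm_part perm3_1 i (by omega) (by omega)
    · exact perm_part perm3_2 i (by omega) (by omega)
    · exact perm_part perm3_3 i (by omega) (by omega)
  · rcases (show (i < 1150) ∨ (1150 ≤ i ∧ i < 2300) ∨ (2300 ≤ i ∧ i < 3450) ∨ (3450 ≤ i ∧ i < 4600) by omega) with h | h | h | h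
    · exact perm_part perm4_0 i (by omega) (by omega)
    · exact perm_part perm4_1 i (by omega) (by omega)
    · exact perm_part perm4_2 i (by omega) (by omega)
    · exact perm_part perm4_3 i (by omega) (by omega)
  · rcases (show (i < 1150) ∨ (1150 ≤ i ∧ i < 2300) ∨ (2300 ≤ i ∧ i < 3450) ∨ (3450 ≤ i ∧ i < 4600) by omega) with h | h | h | h
    · exact perm_part perm5_0 i (by omega) (by omega)
    · exact perm_part perm5_1 i (by omega) (by omega)
    · exact perm_part perm5_2 i (by omega) (by omega)
    · exact perm_part perm5_3 i (by omega) (by omega)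

theorem moved : ∃ j < tab.gens, ∃ i < tab.size, tab.act j i ≠ i :=
  ⟨0, by decide, 0, by decide, by decide +kernel⟩

end Cfsg.Agent.Lib.SporOutCo2
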