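import Cfsg.Agent.Lib.SporOutCo2.One
import Cfsg.Agent.Lib.SporOutCo2.Rep
import Cfsg.Agent.Lib.SporOutCo2.Tables
import Cfsg.Agent.Lib.SporOutCo2.LevelsX
import Cfsg.Agent.Lib.SporOutCo2.LevelsY
import Cfsg.Agent.Lib.SporOutCo2.SearchX
import Cfsg.Agent.Lib.SporOutCo2.SearchY

/-! The outer automorphism group of the second Conway group is trivial. -/

set_option autoImplicit false
set_option maxRecDepth 100000

namespace Cfsg.Agent.Lib.SporOutCo2

open Cfsg Cfsg.Agent.Lib.Coset Cfsg.Agent.Lib.Leech Golay
open Cfsg.Agent.Lib.AutCert (baseOK powsOK)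
open scoped Pointwise

theorem start_facts : sqNorm (toVec start) = 32 ∧ dotInt (uVec : GolayPt → ℤ) (toVec start) = 16 ∧
    (gens.all fun w => wOk w && (wRun w 11327362639225416906085425019224029984327712 == 11327362639225416906085425019224029984327712)) = true := by
  refine ⟨?_, ?_, ?_⟩ <;> decide +kernel

theorem u_pack : ∀ p : GolayPt, (uVec : GolayPt → ℤ) p = toVec 11327362639225416906085425019224029984327712 p := by
  decide +kernel

theorem start_mem : toVec start ∈ leechLattice := mem_of_check (by decide +kernel)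

theorem gens_fix : ∀ w ∈ gens, wCo w • uVec = uVec := by
  intro w hw
  have h := List.all_eq_true.1 start_facts.2.2 w hw
  rw [Bool.and_eq_true] at h
  exact wCo_fix h.1 (funext u_pack) (by rw [uVec_facts.1]; norm_num) h.2

theorem stabU_simple : IsSimpleGroup (MulAction.stabilizer ↥Co0 uVec) := by
  obtain ⟨e⟩ := stab_equiv (trans_min (v := uVec) (w := vThree) uVec_facts.1 norm_vThree)
  haveI := co2_simple.1
  haveI : Nontrivial (MulAction.stabilizer ↥Co0 uVec) := e.toEquiv.nontrivial
  exact IsSimpleGroup.isSimpleGroup_of_surjective e.symm.toMonoidHom e.symm.surjective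

/-- The group generated by the columns. -/
abbrev grp : Subgroup (Equiv.Perm (Fin tab.size)) :=
  Subgroup.closure (tab.perm good '' Set.Iio tab.gens)

theorem grp_iso : Nonempty (↥(MulAction.stabilizer ↥Co0 uVec) ≃* ↥grp) ∧
    Nat.card grp = 42305421312000 := by
  haveI := stabU_simple
  obtain ⟨φ, hφ, hmem⟩ := exists_tab_rep tab good vecs.get orbit_ok (by decide +kernel) vecs_getD perm_all moved
    (MulAction.stabilizer ↥Co0 uVec) (fun g hg => gens_fix g hg) (x := ⟨toVec start, start_mem⟩) rfl
    (by rw [start_facts.1]; norm_num) (dotSet uVec 16) ncard_pts ⟨start_facts.1, start_facts.2.1⟩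
    (fun k hk y hy => smul_dotSet k hk hy)
  have hle : grp ≤ φ.range := (Subgroup.closure_le _).2 (by
    rintro _ ⟨j, hj, rfl⟩
    exact hmem j hj)
  have hcard : Nat.card φ.range = 42305421312000 :=
    (Nat.card_congr (MonoidHom.ofInjective hφ).toEquiv).symm.trans card_stab_uVec
  have hlow : 42305421312000 ≤ Nat.card grp :=
    levXshapes.2 ▸ SporOutHe.total_le levXvalid (inside_closure good levXvalid)
  have heq : grp = φ.range := Subgroup.eq_of_le_of_card_ge hle (hcard.le.trans hlow)
  exact ⟨⟨(MonoidHom.ofInjective hφ).trans (MulEquiv.subgroupCongr heq.symm)⟩, heq ▸ hcard⟩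

/-- The group with its table. -/
@[reducible] noncomputable def model : AutCert.Model ↥grp := closureModel tab good

theorem filled_X : model.Filled cert.levX :=
  ⟨levXvalid, (grp_iso.2.trans levXshapes.2.symm).le⟩

theorem filled_Y : model.Filled cert.levY :=
  ⟨levYvalid, (grp_iso.2.trans levYshapes.2.symm).le⟩

theorem words_ok : cert.wordsOK tab = true := by decide +kernel

theorem eqs_ok : eqsOne cert tab = true := by decide +kernel

theorem residues_ok : residuesOne cert = true := by decide +kernel

theorem baseX : baseOK tab cert.levX cert.xPow cert.xb cert.ksX = true := by decide +kernel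

theorem baseY : baseOK tab cert.levY cert.yPow cert.yb cert.ksY = true := by decide +kernel

theorem powsX : powsOK tab cert.bases cert.xPow cert.ksX cert.ksX cert.xWord = true := by decide +kernel

theorem powsAll : powsOK tab cert.bases cert.xPow (List.range cert.p) (List.range cert.p) cert.xWord = true := by
  decide +kernel

theorem powsY : powsOK tab cert.bases cert.yPow cert.ksY cert.ksY cert.yWord = true := by decide +kernel

theorem checks : ChecksOne model cert :=
  ⟨filled_X, filled_Y, words_ok, eqs_ok, residues_ok, baseX, baseY, powsX, powsAll, powsY,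
    ⟨_, coverX, searchX⟩, ⟨_, coverY, searchY⟩⟩

theorem out_grp : Nat.card (Cfsg.Out ↥grp) = 1 := by
  have : Fact (Nat.Prime cert.p) := ⟨by show Nat.Prime 11; norm_num⟩
  refine checks.out_one ?_
  show (Nat.card ↥grp).factorization 11 = 1
  exact SchurMult.Mathieu.factorization_of (r := 3845947392000) (by norm_num) (by rw [grp_iso.2]; norm_num) (by decide)

theorem Co2_eq : Spor.Co2 = (MulAction.stabilizer ↥Co0 fourFour).map Co0.subtype := by
  ext g
  constructor
  · rintro ⟨hg, h1⟩
    rw [leechU_eq] at h1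
    exact ⟨⟨g, hg⟩, h1, rfl⟩
  · rintro ⟨⟨g', hg⟩, h1, rfl⟩
    refine ⟨hg, ?_⟩
    rw [leechU_eq]
    exact h1

theorem fourFour_norm : sqNorm (fourFour : GolayPt → ℤ) = 32 := by decide +kernel

theorem out_co2 : Nat.card (Cfsg.Out ↥Spor.Co2) = 1 := by
  obtain ⟨e1⟩ := stab_equiv (trans_min (v := fourFour) (w := uVec) fourFour_norm uVec_facts.1)
  obtain ⟨e2⟩ := grp_iso.1
  let e : ↥Spor.Co2 ≃* ↥grp :=
    (((MulEquiv.subgroupCongr Co2_eq).trans
      ((MulAction.stabilizer ↥Co0 fourFour).equivMapOfInjective _ Co0.subtype_injective).symm).trans e1).trans e2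
  refine Eq.trans (Nat.card_congr (QuotientGroup.congr _ _ (MulAut.congr e) ?_).toEquiv) out_grp
  ext α
  constructor
  · rintro ⟨_, ⟨y, rfl⟩, rfl⟩
    exact ⟨e y, by ext x; simp⟩
  · rintro ⟨y, rfl⟩
    exact ⟨MulAut.conj (e.symm y), ⟨_, rfl⟩, by ext x; simp⟩

end Cfsg.Agent.Lib.SporOutCo2
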