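import Cfsg.Agent.Lib.AutCert.Main

/-!
The outer automorphism group is trivial: the criterion for a certified group.
-/

set_option autoImplicit false

namespace Cfsg.Agent.Lib.SporOutCo2

open Cfsg Cfsg.Agent.Lib.Coset Cfsg.Agent.Lib.AutCert
open Cfsg.Agent.Lib.SporOutHe (Level)

/-- The equations of the three elements. -/
noncomputable def eqsOne (C : AutCert.Cert) (P : Tab) : Bool :=
  same P C.bases (C.hWord ++ C.xWord) (Coset.rep C.e C.xWord ++ C.hWord) &&
    same P C.bases (Coset.rep C.p C.xWord) [] && !same P C.bases C.xWord [] &&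
    same P C.bases (C.yWord ++ C.sWord) (C.sWord ++ C.yWord) &&
    (C.killers.all fun r =>
      same P C.bases (Coset.rep r.1 (subst [C.xWord, C.hWord, C.sWord] r.2)) []) &&
    ((List.range P.gens).all fun k =>
      same P C.bases [k] (subst [C.xWord, C.hWord, C.sWord] (C.genWords.getD k [])))

/-- The facts about residues: every residue is a power of `e`. -/
def residuesOne (C : AutCert.Cert) : Bool :=
  Nat.beq ((C.c + C.e) % C.p) (C.e * C.c % C.p) &&
    (List.range C.p).all fun r => Nat.beq r 0 || (List.range C.p).any fun i => Nat.beq r (C.e ^ i % C.p)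

variable {G : Type} [Group G] {M : Model G} {C : AutCert.Cert}

/-- All checks of a certificate for a group without outer automorphisms. -/
structure ChecksOne (M : Model G) (C : AutCert.Cert) : Prop where
  levX : M.Filled C.levX
  levY : M.Filled C.levY
  words : C.wordsOK M.tab = true
  eqs : eqsOne C M.tab = true
  residues : residuesOne C = true
  baseX : baseOK M.tab C.levX C.xPow C.xb C.ksX = true
  baseY : baseOK M.tab C.levY C.yPow C.yb C.ksY = true
  powsX : powsOK M.tab C.bases C.xPow C.ksX C.ksX C.xWord = true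
  powsAll : powsOK M.tab C.bases C.xPow (List.range C.p) (List.range C.p) C.xWord = true
  powsY : powsOK M.tab C.bases C.yPow C.ksY C.ksY C.yWord = true
  searchX : ∃ parts : List (ℕ × ℕ), (∀ k < M.tab.size, ∃ q ∈ parts, q.1 ≤ k ∧ k < q.1 + q.2) ∧
    ∀ q ∈ parts, searchOK M.tab C.bases C.levX C.xPow C.ksX C.xWord C.xWord (C.goodX M.tab) q.1 q.2 = true
  searchY : ∃ parts : List (ℕ × ℕ), (∀ k < M.tab.size, ∃ q ∈ parts, q.1 ≤ k ∧ k < q.1 + q.2) ∧
    ∀ q ∈ parts, searchOK M.tab C.bases C.levY C.yPow C.ksY C.yWord C.yWord (C.goodY M.tab) q.1 q.2 = true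

namespace ChecksOne

open AutCert.Model
open AutCert.Checks (ev3 elt_subst3 map_ev3)

/-- The element of prime order. -/
local notation "X" => Model.elt M (AutCert.Cert.xWord C)

/-- The element normalising it. -/
local notation "H" => Model.elt M (AutCert.Cert.hWord C)

/-- The third generator. -/
local notation "S" => Model.elt M (AutCert.Cert.sWord C)

theorem letters (h : ChecksOne M C) : (∀ a ∈ C.xWord, a < M.tab.gens) ∧ (∀ a ∈ C.hWord, a < M.tab.gens) ∧
    (∀ a ∈ C.sWord, a < M.tab.gens) ∧ lettersOK M.tab C.tauWords = true := by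
  have h' := h.words
  simp only [Cert.wordsOK, lettersOK, List.all_cons, List.all_nil, Bool.and_true, Bool.and_eq_true] at h'
  simp only [List.all_eq_true, decide_eq_true_eq] at h'
  refine ⟨h'.1.1.1, h'.1.1.2, h'.1.2, ?_⟩
  simp only [lettersOK, List.all_eq_true, decide_eq_true_eq]
  exact h'.2

theorem xhs_ok (h : ChecksOne M C) {u : List ℕ} (hu : ∀ a ∈ u, a < M.tab.gens) :
    lettersOK M.tab [C.xWord, C.hWord, u] = true := by
  obtain ⟨hx, hh, -, -⟩ := h.letters
  simp only [lettersOK, List.all_cons, List.all_nil, Bool.and_eq_true, List.all_eq_true, decide_eq_true_eq]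
  exact ⟨hx, hh, hu, trivial⟩

theorem hx_eq (h : ChecksOne M C) : H * X = X ^ C.e * H := by
  obtain ⟨hx, hh, -, -⟩ := h.letters
  have h' := h.eqs
  simp only [eqsOne, Bool.and_eq_true] at h'
  have := h.levX.same_spec (List.forall_mem_append.2 ⟨hh, hx⟩)
    (List.forall_mem_append.2 ⟨rep_lt hx _, hh⟩) h'.1.1.1.1.1
  rwa [elt_append, elt_append, elt_rep] at this

theorem X_pow (h : ChecksOne M C) : X ^ C.p = 1 ∧ X ≠ 1 := by
  obtain ⟨hx, -, -, -⟩ := h.letters
  have h' := h.eqs
  simp only [eqsOne, Bool.and_eq_true, Bool.not_eq_true'] at h'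
  refine ⟨?_, fun e => ?_⟩
  · have := h.levX.same_spec (rep_lt hx _) (w := []) (by simp) h'.1.1.1.1.2
    rwa [elt_rep, elt_nil] at this
  · have h2 := h'.1.1.1.2
    rw [Bool.eq_false_iff] at h2
    exact h2 (same_of_eq h.levX.bases_lt hx (by simp) (e.trans (elt_nil M).symm))

theorem orderOf_X [Fact C.p.Prime] (h : ChecksOne M C) : orderOf X = C.p :=
  orderOf_eq_prime h.X_pow.1 h.X_pow.2

theorem pow_mod [Fact C.p.Prime] (h : ChecksOne M C) (a : ℕ) : X ^ a = X ^ (a % C.p) := by
  rw [← h.orderOf_X, pow_mod_orderOf]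

theorem xPow_eq (h : ChecksOne M C) {i : ℕ} (hi : i < C.p) : M.elt (C.xPow.getD i []) = X ^ i := by
  obtain ⟨-, -, -, h'⟩ := pows_spec h.levX h.powsAll
  have := h' i (by rw [List.length_range]; exact hi)
  simpa [List.getD_eq_getElem?_getD, List.getElem?_range, hi] using this

theorem cent_X (h : ChecksOne M C) {g : G} (hg : g * X = X * g) : ∃ i < C.p, g = X ^ i := by
  obtain ⟨parts, hc, hs⟩ := h.searchX
  obtain ⟨w, hw, rfl, hgood⟩ := find h.levX h.levX h.baseX h.powsX h.powsX hs hc hg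
  simp only [Cert.goodX, List.any_eq_true, List.mem_range] at hgood
  obtain ⟨i, hi, hs'⟩ := hgood
  exact ⟨i, hi, (h.levX.same_spec hw (letters_getD (pows_spec h.levX h.powsX).2.2.1 i) hs').trans
    (h.xPow_eq hi)⟩

theorem gen_eq (h : ChecksOne M C) {k : ℕ} (hk : k < M.tab.gens) :
    M.φ k = ev3 X H S (C.genWords.getD k []) := by
  obtain ⟨-, -, hs, -⟩ := h.letters
  have h' := h.eqs
  simp only [eqsOne, Bool.and_eq_true] at h'
  have := h.levX.same_spec (v := [k]) (by intro a ha; rw [List.mem_singleton.1 ha]; exact hk)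
    (subst_lt (h.xhs_ok hs) _) (List.all_eq_true.1 h'.2 k (List.mem_range.2 hk))
  rw [elt_subst3] at this
  rw [← show M.elt [k] = M.φ k by simp [Model.elt, ev_cons, ev_nil]]
  exact this

theorem aut_eq_one (h : ChecksOne M C) {β : MulAut G} (hx : β X = X) (hh : β H = H) (hs : β S = S) : β = 1 := by
  have htop : MonoidHom.eqLocus β.toMonoidHom (MonoidHom.id _) = ⊤ := by
    rw [eq_top_iff, ← M.gen]
    refine (Subgroup.closure_le _).2 ?_
    rintro _ ⟨k, hk, rfl⟩
    show β.toMonoidHom (M.φ k) = M.φ k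
    rw [h.gen_eq (Set.mem_Iio.1 hk), map_ev3]
    show ev3 (β X) (β H) (β S) _ = _
    rw [hx, hh, hs]
  exact MulEquiv.ext fun g => (htop ▸ Subgroup.mem_top g : g ∈ MonoidHom.eqLocus β.toMonoidHom (MonoidHom.id _))

theorem fix_both (h : ChecksOne M C) {β : MulAut G} (hx : β X = X) (hh : β H = H) : β = 1 := by
  obtain ⟨-, hhl, hsl, -⟩ := h.letters
  have hy : M.elt C.yWord = H ^ C.k := elt_rep M _ _
  have hyl : ∀ a ∈ C.yWord, a < M.tab.gens := rep_lt hhl _
  have h' := h.eqs
  simp only [eqsOne, Bool.and_eq_true] at h'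
  have hc := h.levX.same_spec (List.forall_mem_append.2 ⟨hyl, hsl⟩) (List.forall_mem_append.2 ⟨hsl, hyl⟩)
    h'.1.1.2
  rw [elt_append, elt_append, hy] at hc
  have hc' : β S * M.elt C.yWord = M.elt C.yWord * β S := by
    have := congrArg β hc
    simp only [map_mul, map_pow, hh] at this
    rw [hy]
    exact this.symm
  obtain ⟨parts, hcov, hs⟩ := h.searchY
  obtain ⟨w, hw, hbw, hgood⟩ := find h.levX h.levY h.baseY h.powsY h.powsY hs hcov hc'
  simp only [Cert.goodY, Bool.or_eq_true, List.any_eq_true, Bool.not_eq_true'] at hgood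
  rcases hgood with hgood | ⟨r, hr, hne⟩
  · exact h.aut_eq_one hx hh (hbw.trans (h.levX.same_spec hw hsl hgood))
  · exfalso
    have e1 := h.levX.same_spec (rep_lt (subst_lt (h.xhs_ok hsl) r.2) r.1) (w := []) (by simp)
      (List.all_eq_true.1 h'.1.2 r hr)
    rw [elt_rep, elt_nil, elt_subst3] at e1
    rw [Bool.eq_false_iff] at hne
    refine hne (same_of_eq h.levX.bases_lt (rep_lt (subst_lt (h.xhs_ok hw) r.2) r.1) (by simp) ?_)
    rw [elt_rep, elt_nil, elt_subst3, ← hbw]
    have := congrArg β.toMonoidHom e1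
    rw [map_pow, map_ev3, map_one] at this
    simpa [hx, hh] using this

theorem conj_pow_X (h : ChecksOne M C) : ∀ i : ℕ, MulAut.conj (H ^ i) X = X ^ (C.e ^ i)
  | 0 => by simp
  | i + 1 => by
    have h1 : MulAut.conj H X = X ^ C.e := by rw [MulAut.conj_apply, h.hx_eq, mul_inv_cancel_right]
    rw [pow_succ, map_mul, MulAut.mul_apply, h1, map_pow, conj_pow_X h i, ← pow_mul, ← pow_succ]

theorem fix_X [Fact C.p.Prime] (h : ChecksOne M C) {β : MulAut G} (hx : β X = X) : β ∈ Cfsg.Inn G := by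
  have hz : H⁻¹ * β H * X = X * (H⁻¹ * β H) := by
    have e := congrArg β h.hx_eq
    rw [map_mul, map_mul, map_pow, hx] at e
    rw [mul_assoc, e, ← mul_assoc, ← mul_assoc]
    congr 1
    rw [inv_mul_eq_iff_eq_mul, ← mul_assoc, h.hx_eq, mul_inv_cancel_right]
  obtain ⟨i, -, hi⟩ := h.cent_X hz
  rw [inv_mul_eq_iff_eq_mul] at hi
  have hres := h.residues
  simp only [residuesOne, Bool.and_eq_true, Nat.beq_eq] at hres
  have e : MulAut.conj (X ^ (C.c * i)) * β = 1 := by
    refine h.fix_both ?_ ?_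
    · rw [MulAut.mul_apply, hx, MulAut.conj_apply, ← pow_succ, pow_succ', mul_inv_cancel_right]
    · have hH : ∀ a : ℕ, H * X ^ a = X ^ (C.e * a) * H := fun a => by
        have hs : SemiconjBy H X (X ^ C.e) := h.hx_eq
        rw [pow_mul]
        exact (hs.pow_right a).eq
      have hexp : X ^ (C.c * i + C.e * i) = X ^ (C.e * (C.c * i)) := by
        rw [h.pow_mod, h.pow_mod (C.e * (C.c * i)), ← add_mul, ← mul_assoc, Nat.mul_mod, hres.1,
          ← Nat.mul_mod]
      rw [MulAut.mul_apply, hi, MulAut.conj_apply, hH i, ← mul_assoc, ← pow_add, hexp, ← hH,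
        mul_inv_cancel_right]
  rw [eq_inv_of_mul_eq_one_right e, ← map_inv]
  exact ⟨_, rfl⟩

theorem out_one [Finite G] [Fact C.p.Prime] (h : ChecksOne M C)
    (hfac : (Nat.card G).factorization C.p = 1) : Nat.card (Cfsg.Out G) = 1 := by
  let q : MulAut G →* Cfsg.Out G := QuotientGroup.mk' _
  have hinn : ∀ a ∈ Cfsg.Inn G, q a = 1 := fun a ha => (QuotientGroup.eq_one_iff a).2 ha
  have hconj : ∀ g, q (MulAut.conj g) = 1 := fun g => hinn _ ⟨g, rfl⟩
  have hall : ∀ α, q α = 1 := by
    intro α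
    have hP : Nat.card (Subgroup.zpowers X) = C.p ^ (Nat.card G).factorization C.p := by
      rw [Nat.card_zpowers, h.orderOf_X, hfac, pow_one]
    have hQ : Nat.card (Subgroup.zpowers (α X)) = C.p ^ (Nat.card G).factorization C.p := by
      rw [← hP, Nat.card_zpowers, Nat.card_zpowers, MulEquiv.orderOf_eq]
    obtain ⟨g, hg⟩ := MulAction.exists_smul_eq G (Sylow.ofCard _ hQ) (Sylow.ofCard _ hP)
    have hmem : MulAut.conj g (α X) ∈ Subgroup.zpowers X := by
      have h1 : g * α X * g⁻¹ ∈ (g • Sylow.ofCard _ hQ : Sylow C.p G).toSubgroup := by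
        rw [Sylow.coe_subgroup_smul]
        exact ⟨α X, Subgroup.mem_zpowers _, rfl⟩
      rw [hg] at h1
      exact h1
    obtain ⟨r, hr⟩ : ∃ r : ℕ, X ^ r = MulAut.conj g (α X) := (Submonoid.mem_powers_iff _ _).1
      ((mem_powers_iff_mem_zpowers (G := G)).2 hmem)
    rw [h.pow_mod] at hr
    have hr0 : r % C.p ≠ 0 := fun e => by
      rw [e, pow_zero, eq_comm, EmbeddingLike.map_eq_one_iff, EmbeddingLike.map_eq_one_iff] at hr
      exact h.X_pow.2 hr
    have hres := h.residues
    simp only [residuesOne, Bool.and_eq_true] at hres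
    have hres' := List.all_eq_true.1 hres.2 (r % C.p)
      (List.mem_range.2 (Nat.mod_lt _ (Fact.out : C.p.Prime).pos))
    simp only [Bool.or_eq_true, Nat.beq_eq, List.any_eq_true] at hres'
    obtain ⟨i, -, hi⟩ := hres'.resolve_left hr0
    have hfx : ((MulAut.conj (H ^ i))⁻¹ * (MulAut.conj g * α)) X = X := by
      rw [MulAut.mul_apply, MulAut.mul_apply, ← hr, hi, ← h.pow_mod, MulAut.inv_apply,
        MulEquiv.symm_apply_eq, h.conj_pow_X]
    have := hinn _ (h.fix_X hfx)
    simpa [map_mul, map_inv, hconj] using this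
  rw [Nat.card_eq_one_iff_unique]
  refine ⟨⟨fun a b => ?_⟩, ⟨1⟩⟩
  obtain ⟨α, rfl⟩ := QuotientGroup.mk_surjective a
  obtain ⟨β, rfl⟩ := QuotientGroup.mk_surjective b
  exact (hall α).trans (hall β).symm

end ChecksOne

end Cfsg.Agent.Lib.SporOutCo2
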