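import Cfsg.Agent.Lib.SporOutCo2.Tables
import Cfsg.Agent.Lib.AutCert.Main

/-! A search. -/

set_option autoImplicit false
set_option maxRecDepth 100000

namespace Cfsg.Agent.Lib.SporOutCo2

open Cfsg.Agent.Lib.Coset
open Cfsg.Agent.Lib.AutCert (searchOK)

theorem searchX0 : searchOK tab cert.bases cert.levX cert.xPow cert.ksX cert.xWord cert.xWord (cert.goodX tab) 0 115 = true := by decide +kernel

theorem searchX1 : searchOK tab cert.bases cert.levX cert.xPow cert.ksX cert.xWord cert.xWord (cert.goodX tab) 115 115 = true := by decide +kernel

theorem searchX2 : searchOK tab cert.bases cert.levX cert.xPow cert.ksX cert.xWord cert.xWord (cert.goodX tab) 230 115 = true := by decide +kernel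

theorem searchX3 : searchOK tab cert.bases cert.levX cert.xPow cert.ksX cert.xWord cert.xWord (cert.goodX tab) 345 115 = true := by decide +kernel

theorem searchX4 : searchOK tab cert.bases cert.levX cert.xPow cert.ksX cert.xWord cert.xWord (cert.goodX tab) 460 115 = true := by decide +kernel

theorem searchX5 : searchOK tab cert.bases cert.levX cert.xPow cert.ksX cert.xWord cert.xWord (cert.goodX tab) 575 115 = true := by decide +kernel

theorem searchX6 : searchOK tab cert.bases cert.levX cert.xPow cert.ksX cert.xWord cert.xWord (cert.goodX tab) 690 115 = true := by decide +kernel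

theorem searchX7 : searchOK tab cert.bases cert.levX cert.xPow cert.ksX cert.xWord cert.xWord (cert.goodX tab) 805 115 = true := by decide +kernel

theorem searchX8 : searchOK tab cert.bases cert.levX cert.xPow cert.ksX cert.xWord cert.xWord (cert.goodX tab) 920 115 = true := by decide +kernel

theorem searchX9 : searchOK tab cert.bases cert.levX cert.xPow cert.ksX cert.xWord cert.xWord (cert.goodX tab) 1035 115 = true := by decide +kernel

theorem searchX10 : searchOK tab cert.bases cert.levX cert.xPow cert.ksX cert.xWord cert.xWord (cert.goodX tab) 1150 115 = true := by decide +kernel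

theorem searchX11 : searchOK tab cert.bases cert.levX cert.xPow cert.ksX cert.xWord cert.xWord (cert.goodX tab) 1265 115 = true := by decide +kernel

theorem searchX12 : searchOK tab cert.bases cert.levX cert.xPow cert.ksX cert.xWord cert.xWord (cert.goodX tab) 1380 115 = true := by decide +kernel

theorem searchX13 : searchOK tab cert.bases cert.levX cert.xPow cert.ksX cert.xWord cert.xWord (cert.goodX tab) 1495 115 = true := by decide +kernel

theorem searchX14 : searchOK tab cert.bases cert.levX cert.xPow cert.ksX cert.xWord cert.xWord (cert.goodX tab) 1610 115 = true := by decide +kernel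

theorem searchX15 : searchOK tab cert.bases cert.levX cert.xPow cert.ksX cert.xWord cert.xWord (cert.goodX tab) 1725 115 = true := by decide +kernel

theorem searchX16 : searchOK tab cert.bases cert.levX cert.xPow cert.ksX cert.xWord cert.xWord (cert.goodX tab) 1840 115 = true := by decide +kernel

theorem searchX17 : searchOK tab cert.bases cert.levX cert.xPow cert.ksX cert.xWord cert.xWord (cert.goodX tab) 1955 115 = true := by decide +kernel

theorem searchX18 : searchOK tab cert.bases cert.levX cert.xPow cert.ksX cert.xWord cert.xWord (cert.goodX tab) 2070 115 = true := by decide +kernel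

theorem searchX19 : searchOK tab cert.bases cert.levX cert.xPow cert.ksX cert.xWord cert.xWord (cert.goodX tab) 2185 115 = true := by decide +kernel

end Cfsg.Agent.Lib.SporOutCo2
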